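import Cfsg.Agent.Omega.NOne.AG.FiveDl
import Mathlib.GroupTheory.QuotientGroup.Basic
import Mathlib.Algebra.Group.Subgroup.Map

/-!
# THEOREM D0ag (#15001), section (5): the situation, `T₀ / Δ` as a module for `S₅`

`Five P T0 y Qs` : `T0 ⊴ P`, `Δ = ⟨y_ab⟩ ≤ Z(T0)`, `Qs (y_ab y_cd)` = `Q*_{ab|cd}`.
`Five.ms` : the module data of `FiveMod` for `T0 / Δ`.  `Five.pair` : (5.3).
-/

set_option autoImplicit false
set_option linter.unusedSectionVars false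

namespace Cfsg.Agent.Omega.NOne.AG.FiveGrp

open Equiv Subgroup
open Cfsg.Agent.Omega.NOne.AG.FiveMod Cfsg.Agent.Omega.NOne.AG.FiveDl

variable {G : Type*} [Group G]

/-- The situation of section (5). -/
structure Five (P T0 : Subgroup G) (y : Fin 5 → Fin 5 → G) (Qs : G → Subgroup G) : Prop where
  ys : Ys y
  Dl_le : Dl y ≤ T0
  T0_le : T0 ≤ P
  T0_nor : ∀ x ∈ P, ∀ t ∈ T0, x * t * x⁻¹ ∈ T0
  T0_cent : ∀ t ∈ T0, ∀ a b, a ≠ b → t * y a b = y a b * t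
  QP : ∀ a b c d, D4 a b c d → Qs (y a b * y c d) ≤ P
  cjQ : ∀ x ∈ P, ∀ a b c d, D4 a b c d → ∀ q ∈ Qs (y a b * y c d),
    x * q * x⁻¹ ∈ Qs (x * (y a b * y c d) * x⁻¹)
  over : ∀ a b c d, D4 a b c d → ∀ q ∈ Qs (y a b * y c d),
    Ov y q 1 ∨ Ov y q (swap a b) ∨ Ov y q (swap c d) ∨ Ov y q (swap a b * swap c d)
  ex : ∀ a b c d, D4 a b c d → ∃ q ∈ Qs (y a b * y c d), Ov y q (swap a b)
  ker : ∀ a b c d, D4 a b c d → ∀ q ∈ Qs (y a b * y c d), Ov y q 1 → q ∈ T0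
  comm : ∀ a b c d, D4 a b c d → ∀ q ∈ Qs (y a b * y c d), ∀ q' ∈ Qs (y a b * y c d),
    q * q' * q⁻¹ * q'⁻¹ = 1 ∨ q * q' * q⁻¹ * q'⁻¹ = y a b * y c d
  sq : ∀ a b c d, D4 a b c d → ∀ q ∈ Qs (y a b * y c d), q * q = 1 ∨ q * q = y a b * y c d
  gen : ∀ a b c d e, D5 a b c d e → ∀ t ∈ T0, ∃ u ∈ Qs (y a b * y c d), ∃ v ∈ Qs (y b c * y d e),
    ∃ δ ∈ Dl y, u ∈ T0 ∧ v ∈ T0 ∧ t = u * v * δ
  dis : ∀ a b c d e, D5 a b c d e → ∀ u ∈ Qs (y a b * y c d), u ∈ T0 → ∀ v ∈ Qs (y b c * y d e), v ∈ T0 →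
    u⁻¹ * v ∈ Dl y → u ∈ Dl y
  nd : ∀ a b c d, D4 a b c d → ∀ u ∈ Qs (y a b * y c d), u ∈ T0 →
    (∀ u' ∈ Qs (y a b * y c d), u' ∈ T0 → u * u' = u' * u) → u ∈ Dl y

namespace Five

variable {P T0 : Subgroup G} {y : Fin 5 → Fin 5 → G} {Qs : G → Subgroup G} (h : Five P T0 y Qs)
include h

theorem ov_T0 {t : G} (ht : t ∈ T0) : Ov y t 1 := fun a b hab => by
  rw [h.T0_cent t ht a b hab, mul_inv_cancel_right]
  rfl

theorem comm_Dl {t δ : G} (ht : t ∈ T0) (hδ : δ ∈ Dl y) : t * δ = δ * t := by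
  obtain ⟨w, -, rfl⟩ := h.ys.mem_iff.1 hδ
  have h1 := h.ys.conj (h.ov_T0 ht) w
  have h2 : ph y (ac 1 w) = ph y w := by
    have := h.ys.conj (Ov.one y) w
    simpa using this.symm
  rw [h2] at h1
  calc t * ph y w = t * ph y w * t⁻¹ * t := by group
    _ = ph y w * t := by rw [h1]

theorem zmem {a b c d : Fin 5} (hd : D4 a b c d) : y a b * y c d ∈ Dl y :=
  mul_mem (y_mem hd.1) (y_mem hd.2.2.2.2.2)

theorem zcomm {a b c d : Fin 5} (hd : D4 a b c d) : y c d * y a b = y a b * y c d :=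
  h.ys.comm _ _ _ _ hd.2.2.2.2.2 hd.1

omit h in
theorem zconj {x : G} {σ : Perm (Fin 5)} (hx : Ov y x σ) {a b c d : Fin 5} (hd : D4 a b c d) :
    x * (y a b * y c d) * x⁻¹ = y (σ a) (σ b) * y (σ c) (σ d) := by
  rw [← hx a b hd.1, ← hx c d hd.2.2.2.2.2]
  group

/-- conjugation moves `Q*_k` -/
theorem cj {x : G} (hx : x ∈ P) {σ : Perm (Fin 5)} (hσ : Ov y x σ) {a b c d : Fin 5} (hd : D4 a b c d)
    {q : G} (hq : q ∈ Qs (y a b * y c d)) : x * q * x⁻¹ ∈ Qs (y (σ a) (σ b) * y (σ c) (σ d)) := by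
  rw [← zconj hσ hd]
  exact h.cjQ x hx a b c d hd q hq

/-- `T₀` (more generally: everything in `P` over `1`) normalises `Q*_k` -/
theorem cj_one {x : G} (hx : x ∈ P) (hσ : Ov y x 1) {a b c d : Fin 5} (hd : D4 a b c d)
    {q : G} (hq : q ∈ Qs (y a b * y c d)) : x * q * x⁻¹ ∈ Qs (y a b * y c d) := h.cj hx hσ hd hq

theorem cj_T0 {t : G} (ht : t ∈ T0) {a b c d : Fin 5} (hd : D4 a b c d)
    {q : G} (hq : q ∈ Qs (y a b * y c d)) : t * q * t⁻¹ ∈ Qs (y a b * y c d) :=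
  h.cj_one (h.T0_le ht) (h.ov_T0 ht) hd hq

/-- `[T₀, Q*_k] ≤ Q*_k ∩ T₀` -/
theorem comm_mem {t : G} (ht : t ∈ T0) {a b c d : Fin 5} (hd : D4 a b c d)
    {q : G} (hq : q ∈ Qs (y a b * y c d)) :
    t * q * t⁻¹ * q⁻¹ ∈ Qs (y a b * y c d) ∧ t * q * t⁻¹ * q⁻¹ ∈ T0 := by
  refine ⟨mul_mem (h.cj_T0 ht hd hq) (inv_mem hq), ?_⟩
  have e : t * q * t⁻¹ * q⁻¹ = t * (q * t⁻¹ * q⁻¹) := by group
  rw [e]
  exact mul_mem ht (h.T0_nor q (h.QP _ _ _ _ hd hq) _ (inv_mem ht))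

/-- `[Q*_k, Q*_k] ≤ Δ` -/
theorem comm_Q {a b c d : Fin 5} (hd : D4 a b c d) {q q' : G} (hq : q ∈ Qs (y a b * y c d))
    (hq' : q' ∈ Qs (y a b * y c d)) : q * q' * q⁻¹ * q'⁻¹ ∈ Dl y := by
  rcases h.comm a b c d hd q hq q' hq' with e | e <;> rw [e]
  · exact one_mem _
  · exact h.zmem hd

theorem sq_Q {a b c d : Fin 5} (hd : D4 a b c d) {q : G} (hq : q ∈ Qs (y a b * y c d)) :
    q * q ∈ Dl y := by
  rcases h.sq a b c d hd q hq with e | e <;> rw [e]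
  · exact one_mem _
  · exact h.zmem hd

theorem mv (a b : Fin 5) (hab : a ≠ b) : ∃ x, Ov y x (swap a b) := by
  obtain ⟨c, d, hd⟩ : ∃ c d, D4 a b c d := by
    revert a b; decide
  obtain ⟨q, -, hq⟩ := h.ex a b c d hd
  exact ⟨q, hq⟩

theorem ph_inj {w w' : ℕ} (hw : w < 32) (hw' : w' < 32) (e : ph y w = ph y w') : w = w' :=
  h.ys.inj h.mv hw hw' e

/-! ### The quotient `T₀ / Δ` -/

/-- `Δ` in `T₀`. -/
def KK (T0 : Subgroup G) (y : Fin 5 → Fin 5 → G) : Subgroup ↥T0 := (Dl y).subgroupOf T0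

theorem KK_normal : (KK T0 y).Normal := by
  constructor
  rintro ⟨n, hn⟩ hn' ⟨g, hg⟩
  have h1 : n ∈ Dl y := hn'
  show g * n * g⁻¹ ∈ Dl y
  rw [h.comm_Dl hg h1, mul_inv_cancel_right]
  exact h1

/-- `[T₀, T₀] ≤ Δ` -/
theorem comm_T0 {s t : G} (hs : s ∈ T0) (ht : t ∈ T0) : s * t * s⁻¹ * t⁻¹ ∈ Dl y := by
  -- commutators of the generators
  have c1 : ∀ {a b c d e : Fin 5}, D5 a b c d e → ∀ u ∈ Qs (y a b * y c d), u ∈ T0 →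
      ∀ v ∈ Qs (y b c * y d e), v ∈ T0 → u * v * u⁻¹ * v⁻¹ ∈ Dl y := by
    intro a b c d e hd u hu hu0 v hv hv0
    have hd' : D4 b c d e := by
      obtain ⟨⟨h1, h2, h3, h4, h5, h6⟩, h7, h8, h9, h10⟩ := hd
      exact ⟨h4, h5, h8, h6, h9, h10⟩
    have m1 := h.comm_mem hu0 hd' hv
    have m2 : u * v * u⁻¹ * v⁻¹ ∈ Qs (y a b * y c d) := by
      have e : u * v * u⁻¹ * v⁻¹ = u * (v * u⁻¹ * v⁻¹) := by group
      rw [e]
      exact mul_mem hu (h.cj_T0 hv0 hd.1 (inv_mem hu))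
    exact h.dis a b c d e hd _ m2 m1.2 _ m1.1 m1.2 (by rw [inv_mul_cancel]; exact one_mem _)
  have hN := h.KK_normal
  -- work in the quotient
  have key : ∀ {x x' : G} (hx : x ∈ T0) (hx' : x' ∈ T0), x * x' * x⁻¹ * x'⁻¹ ∈ Dl y ↔
      ((⟨x, hx⟩ : T0) : T0 ⧸ KK T0 y) * ((⟨x', hx'⟩ : T0) : T0 ⧸ KK T0 y) =
        ((⟨x', hx'⟩ : T0) : T0 ⧸ KK T0 y) * ((⟨x, hx⟩ : T0) : T0 ⧸ KK T0 y) := by
    intro x x' hx hx'
    rw [← QuotientGroup.mk_mul, ← QuotientGroup.mk_mul, eq_comm, QuotientGroup.eq]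
    have e : ((⟨x', hx'⟩ : T0) * ⟨x, hx⟩)⁻¹ * (⟨x, hx⟩ * ⟨x', hx'⟩) =
        ⟨x⁻¹ * x'⁻¹ * x * x', by
          exact mul_mem (mul_mem (mul_mem (inv_mem hx) (inv_mem hx')) hx) hx'⟩ := by
      apply Subtype.ext
      show (x' * x)⁻¹ * (x * x') = _
      group
    rw [e]
    show _ ↔ x⁻¹ * x'⁻¹ * x * x' ∈ Dl y
    have e2 : x⁻¹ * x'⁻¹ * x * x' = (x' * x)⁻¹ * (x * x' * x⁻¹ * x'⁻¹) * (x' * x) := by group
    constructor
    · intro h1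
      rw [e2, mul_assoc, ← h.comm_Dl (mul_mem hx' hx) h1, ← mul_assoc, inv_mul_cancel, one_mul]
      exact h1
    · intro h1
      rw [e2] at h1
      have h2 := (h.KK_normal).conj_mem ⟨_, h.Dl_le h1⟩ (show _ ∈ Dl y from h1) ⟨x' * x, mul_mem hx' hx⟩
      have h3 : (x' * x) * ((x' * x)⁻¹ * (x * x' * x⁻¹ * x'⁻¹) * (x' * x)) * (x' * x)⁻¹ ∈ Dl y := h2
      have e3 : (x' * x) * ((x' * x)⁻¹ * (x * x' * x⁻¹ * x'⁻¹) * (x' * x)) * (x' * x)⁻¹ =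
          x * x' * x⁻¹ * x'⁻¹ := by group
      rwa [e3] at h3
  obtain ⟨u, hu, v, hv, δ, hδ, hu0, hv0, rfl⟩ := h.gen 0 1 2 3 4 (by decide) s hs
  obtain ⟨u', hu', v', hv', δ', hδ', hu0', hv0', rfl⟩ := h.gen 0 1 2 3 4 (by decide) t ht
  have hδ0 := h.Dl_le hδ
  have hδ0' := h.Dl_le hδ'
  rw [key (mul_mem (mul_mem hu0 hv0) hδ0) (mul_mem (mul_mem hu0' hv0') hδ0')]
  have q : ∀ {a b c : G} (ha : a ∈ T0) (hb : b ∈ T0) (hc : c ∈ Dl y),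
      ((⟨a * b * c, mul_mem (mul_mem ha hb) (h.Dl_le hc)⟩ : T0) : T0 ⧸ KK T0 y) =
        ((⟨a, ha⟩ : T0) : T0 ⧸ KK T0 y) * ((⟨b, hb⟩ : T0) : T0 ⧸ KK T0 y) := by
    intro a b c ha hb hc
    rw [← QuotientGroup.mk_mul, QuotientGroup.eq]
    show (a * b * c)⁻¹ * (a * b) ∈ Dl y
    have e : (a * b * c)⁻¹ * (a * b) = c⁻¹ := by group
    rw [e]
    exact inv_mem hc
  rw [q hu0 hv0 hδ, q hu0' hv0' hδ']
  have k1 := (key hu0 hu0').1 (h.comm_Q (by decide) hu hu')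
  have k2 := (key hv0 hv0').1 (h.comm_Q (by decide) hv hv')
  have k3 := (key hu0 hv0').1 (c1 (by decide) u hu hu0 v' hv' hv0')
  have k4 := (key hu0' hv0).1 (c1 (by decide) u' hu' hu0' v hv hv0)
  exact (Commute.mul_right (Commute.mul_left (show Commute _ _ from k1) (show Commute _ _ from k4.symm))
    (Commute.mul_left (show Commute _ _ from k3) (show Commute _ _ from k2))).eq

end Five

end Cfsg.Agent.Omega.NOne.AG.FiveGrp
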