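import Mathlib.GroupTheory.OrderOfElement
import Mathlib.GroupTheory.Index
import Mathlib.Tactic

/-!
# D0ag: the element `g` inverted by `v` (abstract part); helper950

`E` elementary abelian of order 8, `z ∈ E`, `v` an involution centralising `E` and inverting the element `g` of odd
order, `E ∩ E^g = ⟨z⟩` in the form `ff`.  Then for `e ∈ E - ⟨z⟩` : `C_E(g e g⁻¹) = ⟨z, e⟩` and
`g⁻¹ e g ∈ (g e g⁻¹) e ⟨z⟩`.
-/

set_option autoImplicit false

namespace Cfsg.Agent.Omega.NOne.AG.GData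

variable {G : Type*} [Group G]

theorem comm_of_sq {a b : G} (ha : a * a = 1) (hb : b * b = 1) (hab : a * b * (a * b) = 1) : a * b = b * a := by
  have h1 : a⁻¹ = a := inv_eq_of_mul_eq_one_right ha
  have h2 : b⁻¹ = b := inv_eq_of_mul_eq_one_right hb
  calc a * b = (a * b)⁻¹ := (inv_eq_of_mul_eq_one_right hab).symm
    _ = b⁻¹ * a⁻¹ := mul_inv_rev a b
    _ = b * a := by rw [h1, h2]

/-- an odd power argument -/
theorem comm_of_odd {g e : G} (ho : Odd (orderOf g)) (h : g * g * e = e * (g * g)) : g * e = e * g := by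
  obtain ⟨k, hk⟩ := ho
  have h1 : g = (g * g) ^ (k + 1) := by
    rw [← pow_two, ← pow_mul, show 2 * (k + 1) = (2 * k + 1) + 1 by ring, pow_succ, ← hk, pow_orderOf_eq_one,
      one_mul]
  have h2 : Commute (g * g) e := h
  have h3 : Commute ((g * g) ^ (k + 1)) e := h2.pow_left _
  rw [← h1] at h3
  exact h3

/-- `δ` commutes with `g`, `g² w g⁻² = δ w`, `δ² = 1`, `g` of odd order: `δ = 1`. -/
theorem eq_one_of_odd {g w δ : G} (ho : Odd (orderOf g)) (hg : g * δ = δ * g) (hδ : δ * δ = 1)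
    (hw : g * g * w * (g * g)⁻¹ = δ * w) : δ = 1 := by
  have h1 : ∀ n : ℕ, (g * g) ^ n * w * ((g * g) ^ n)⁻¹ = δ ^ n * w := by
    intro n
    induction n with
    | zero => simp
    | succ n ih =>
      have hc : (g * g) ^ n * δ = δ * (g * g) ^ n := by
        have : Commute g δ := hg
        exact (this.mul_left this).pow_left n
      calc (g * g) ^ (n + 1) * w * ((g * g) ^ (n + 1))⁻¹
          = (g * g) ^ n * (g * g * w * (g * g)⁻¹) * ((g * g) ^ n)⁻¹ := by rw [pow_succ]; group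
        _ = ((g * g) ^ n * δ) * w * ((g * g) ^ n)⁻¹ := by rw [hw]; group
        _ = δ * ((g * g) ^ n * w * ((g * g) ^ n)⁻¹) := by rw [hc]; group
        _ = δ ^ (n + 1) * w := by rw [ih, pow_succ']; group
  obtain ⟨k, hk⟩ := ho
  have h2 := h1 (orderOf g)
  have h3 : (g * g) ^ orderOf g = 1 := by rw [← pow_two, ← pow_mul, mul_comm, pow_mul, pow_orderOf_eq_one, one_pow]
  have h4 : δ ^ orderOf g = δ := by rw [hk, pow_succ, pow_mul, pow_two, hδ, one_pow, one_mul]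
  rw [h3, h4, one_mul, inv_one, mul_one] at h2
  have h5 : 1 * w = δ * w := by rw [one_mul]; exact h2
  exact (mul_right_cancel h5).symm

structure GD (E : Subgroup G) (z v g : G) : Prop where
  z1 : z ≠ 1
  zE : z ∈ E
  Eab : ∀ a ∈ E, ∀ b ∈ E, a * b = b * a
  Esq : ∀ a ∈ E, a * a = 1
  cardE : Nat.card E = 8
  vv : v * v = 1
  vE : ∀ e ∈ E, v * e = e * v
  vg : v * g * v⁻¹ = g⁻¹
  odd : Odd (orderOf g)
  gz : g * z = z * g
  av : ∀ e ∈ E, v * (g * e * g⁻¹) * v⁻¹ * (g * e * g⁻¹)⁻¹ ∈ E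
  com : ∀ e ∈ E, ∀ e' ∈ E, e * (g * e' * g⁻¹) = (g * e' * g⁻¹) * e ∨
    e * (g * e' * g⁻¹) = z * ((g * e' * g⁻¹) * e)
  ff : ∀ e ∈ E, (∀ e' ∈ E, e' * (g * e * g⁻¹) = (g * e * g⁻¹) * e') → e = 1 ∨ e = z

namespace GD

variable {E : Subgroup G} {z v g : G} (h : GD E z v g)
include h

theorem zz : z * z = 1 := h.Esq z h.zE

theorem zi : z⁻¹ = z := inv_eq_of_mul_eq_one_right h.zz

theorem vi : v⁻¹ = v := inv_eq_of_mul_eq_one_right h.vv

theorem Einv {a : G} (ha : a ∈ E) : a⁻¹ = a := inv_eq_of_mul_eq_one_right (h.Esq a ha)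

/-- `τ(e)` -/
def tau (_h : GD E z v g) (e : G) : G := v * (g * e * g⁻¹) * v⁻¹ * (g * e * g⁻¹)⁻¹

theorem tau_mem {e : G} (he : e ∈ E) : h.tau e ∈ E := h.av e he

/-- `v (g e g⁻¹) v⁻¹ = g⁻¹ e g` -/
theorem conj_v {e : G} (he : e ∈ E) : v * (g * e * g⁻¹) * v⁻¹ = g⁻¹ * e * g := by
  have h1 : v * e * v⁻¹ = e := by rw [h.vE e he]; group
  have h2 : v * g⁻¹ * v⁻¹ = g := by
    have : v * g⁻¹ * v⁻¹ = (v * g * v⁻¹)⁻¹ := by group
    rw [this, h.vg, inv_inv]
  calc v * (g * e * g⁻¹) * v⁻¹ = (v * g * v⁻¹) * (v * e * v⁻¹) * (v * g⁻¹ * v⁻¹) := by group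
    _ = g⁻¹ * e * g := by rw [h.vg, h1, h2]

theorem conj_inv {e : G} (he : e ∈ E) : g⁻¹ * e * g = h.tau e * (g * e * g⁻¹) := by
  rw [← h.conj_v he, tau]; group

theorem sq_conj {e : G} (he : e ∈ E) : (g * e * g⁻¹) * (g * e * g⁻¹) = 1 := by
  calc (g * e * g⁻¹) * (g * e * g⁻¹) = g * (e * e) * g⁻¹ := by group
    _ = 1 := by rw [h.Esq e he]; group

theorem tau_comm {e : G} (he : e ∈ E) : h.tau e * (g * e * g⁻¹) = (g * e * g⁻¹) * h.tau e := by
  refine comm_of_sq (h.Esq _ (h.tau_mem he)) (h.sq_conj he) ?_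
  rw [← h.conj_inv he]
  calc g⁻¹ * e * g * (g⁻¹ * e * g) = g⁻¹ * (e * e) * g := by group
    _ = 1 := by rw [h.Esq e he]; group

/-- the pairing is symmetric -/
theorem symm {e e' : G} (he : e ∈ E) (he' : e' ∈ E) (hc : e * (g * e' * g⁻¹) = (g * e' * g⁻¹) * e) :
    e' * (g * e * g⁻¹) = (g * e * g⁻¹) * e' := by
  have h1 : (g⁻¹ * e * g) * e' = e' * (g⁻¹ * e * g) := by
    calc (g⁻¹ * e * g) * e' = g⁻¹ * (e * (g * e' * g⁻¹)) * g := by group
      _ = g⁻¹ * ((g * e' * g⁻¹) * e) * g := by rw [hc]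
      _ = e' * (g⁻¹ * e * g) := by group
  rw [h.conj_inv he] at h1
  have h2 : h.tau e * e' = e' * h.tau e := h.Eab _ (h.tau_mem he) _ he'
  have h3 : h.tau e * ((g * e * g⁻¹) * e') = h.tau e * (e' * (g * e * g⁻¹)) := by
    calc h.tau e * ((g * e * g⁻¹) * e') = h.tau e * (g * e * g⁻¹) * e' := by group
      _ = e' * (h.tau e * (g * e * g⁻¹)) := h1
      _ = (e' * h.tau e) * (g * e * g⁻¹) := by group
      _ = h.tau e * (e' * (g * e * g⁻¹)) := by rw [← h2]; group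
  exact (mul_left_cancel h3).symm

/-- `C_E(h)` for `h = g e g⁻¹`. -/
theorem card_cent {e : G} (he : e ∈ E) (h1 : e ≠ 1) (h2 : e ≠ z) :
    Nat.card ↥(E ⊓ Subgroup.centralizer {g * e * g⁻¹}) = 4 := by
  classical
  haveI : Finite E := Nat.finite_of_card_ne_zero (by rw [h.cardE]; norm_num)
  obtain ⟨d, hd, hdc⟩ : ∃ d ∈ E, ¬ d * (g * e * g⁻¹) = (g * e * g⁻¹) * d := by
    by_contra hcon
    push Not at hcon
    rcases h.ff e he hcon with h3 | h3
    · exact h1 h3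
    · exact h2 h3
  set w := g * e * g⁻¹ with hw
  set K := E ⊓ Subgroup.centralizer {w} with hK
  have hmK : ∀ x, x ∈ K ↔ x ∈ E ∧ x * w = w * x := by
    intro x; rw [hK, Subgroup.mem_inf, Subgroup.mem_centralizer_singleton_iff]
  have hzw : w * z = z * w := by
    rw [hw]
    calc g * e * g⁻¹ * z = g * e * (g⁻¹ * z * g) * g⁻¹ := by group
      _ = g * (e * z) * g⁻¹ := by
        have : g⁻¹ * z * g = z := by rw [mul_assoc, ← h.gz]; group
        rw [this]; group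
      _ = (g * z) * e * g⁻¹ := by rw [h.Eab e he z h.zE]; group
      _ = z * (g * e * g⁻¹) := by rw [h.gz]; group
  have hidx : (K.subgroupOf E).index = 2 := by
    rw [Subgroup.index_eq_two_iff]
    refine ⟨⟨d, hd⟩, fun b => ?_⟩
    have hkey : ∀ x ∈ E, ¬ x * w = w * x → x * w = z * (w * x) := fun x hx hn => (h.com x hx e he).resolve_left hn
    have hdw := hkey d hd hdc
    rw [Subgroup.mem_subgroupOf, Subgroup.mem_subgroupOf, hmK, hmK, Subgroup.coe_mul]
    by_cases hb : (b : G) * w = w * b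
    · right
      refine ⟨⟨b.2, hb⟩, fun hc => hdc ?_⟩
      have h3 : (b : G) * d * w = w * (b * d) := hc.2
      have h4 : (b : G) * (d * w) = b * (w * d) := by
        calc (b : G) * (d * w) = (b : G) * d * w := by group
          _ = w * (b * d) := h3
          _ = (w * b) * d := by group
          _ = b * (w * d) := by rw [← hb]; group
      exact mul_left_cancel h4
    · left
      refine ⟨⟨E.mul_mem b.2 hd, ?_⟩, fun hc => hb hc.2⟩
      have hbw := hkey b b.2 hb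
      show (b : G) * d * w = w * (b * d)
      calc (b : G) * d * w = (b : G) * (d * w) := by group
        _ = ((b : G) * z) * (w * d) := by rw [hdw]; group
        _ = z * ((b : G) * w) * d := by rw [h.Eab b b.2 z h.zE]; group
        _ = (z * z) * w * (b * d) := by rw [hbw]; group
        _ = w * (b * d) := by rw [h.zz, one_mul]
  have h3 := Subgroup.card_mul_index (K.subgroupOf E)
  have h4 : Nat.card (K.subgroupOf E) = Nat.card K :=
    Nat.card_congr (Subgroup.subgroupOfEquivOfLe (inf_le_left : K ≤ E)).toEquiv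
  rw [hidx, h.cardE, h4] at h3
  show Nat.card K = 4
  omega

/-- three independent elements of a group of order 4 -/
theorem mem_four {e a b : G} (he : e ∈ E) (h1 : e ≠ 1) (h2 : e ≠ z) (ha : a ∈ E)
    (hac : a * (g * e * g⁻¹) = (g * e * g⁻¹) * a) (ha1 : a ≠ 1) (haz : a ≠ z) (hb : b ∈ E)
    (hbc : b * (g * e * g⁻¹) = (g * e * g⁻¹) * b) : b = 1 ∨ b = z ∨ b = a ∨ b = a * z := by
  classical
  haveI : Finite E := Nat.finite_of_card_ne_zero (by rw [h.cardE]; norm_num)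
  by_contra hcon
  push Not at hcon
  obtain ⟨b1, b2, b3, b4⟩ := hcon
  set w := g * e * g⁻¹ with hw
  set K := E ⊓ Subgroup.centralizer {w} with hK
  have hzw : z * w = w * z := by
    rw [hw]
    have h5 : g⁻¹ * z * g = z := by rw [mul_assoc, ← h.gz]; group
    calc z * (g * e * g⁻¹) = (z * g) * e * g⁻¹ := by group
      _ = g * (z * e) * g⁻¹ := by rw [← h.gz]; group
      _ = g * (e * z) * g⁻¹ := by rw [h.Eab z h.zE e he]
      _ = g * (e * (g⁻¹ * z * g)) * g⁻¹ := by rw [h5]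
      _ = g * e * g⁻¹ * z := by group
  have hsub : ({1, z, a, a * z, b} : Set G) ⊆ (K : Set G) := by
    have hzK : z ∈ K := ⟨h.zE, Subgroup.mem_centralizer_singleton_iff.2 hzw⟩
    have haK : a ∈ K := ⟨ha, Subgroup.mem_centralizer_singleton_iff.2 hac⟩
    have hbK : b ∈ K := ⟨hb, Subgroup.mem_centralizer_singleton_iff.2 hbc⟩
    rintro x (rfl | rfl | rfl | rfl | rfl)
    · exact K.one_mem
    · exact hzK
    · exact haK
    · exact K.mul_mem haK hzK
    · exact hbK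
  have hKf : (K : Set G).Finite := Set.Finite.subset (Set.toFinite (E : Set G)) (inf_le_left : K ≤ E)
  have h5 := Set.ncard_le_ncard hsub hKf
  have h6 : (K : Set G).ncard = 4 := by rw [← Nat.card_coe_set_eq]; exact h.card_cent he h1 h2
  have h7 : a * z ≠ 1 := fun hc => haz (by
    have : a = z⁻¹ := eq_inv_of_mul_eq_one_left hc
    rw [this, h.zi])
  have h8 : a * z ≠ z := fun hc => ha1 (by
    have : a * z = 1 * z := by rw [one_mul]; exact hc
    exact mul_right_cancel this)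
  have h9 : a * z ≠ a := fun hc => h.z1 (by
    have : a * z = a * 1 := by rw [mul_one]; exact hc
    exact mul_left_cancel this)
  have h10 : ({1, z, a, a * z, b} : Set G).ncard = 5 := by
    rw [Set.ncard_insert_of_notMem, Set.ncard_insert_of_notMem, Set.ncard_insert_of_notMem,
      Set.ncard_insert_of_notMem, Set.ncard_singleton]
    · rw [Set.mem_singleton_iff]; exact fun hc => b4 hc.symm
    · rintro (hc | hc)
      · exact h9 hc.symm
      · rw [Set.mem_singleton_iff] at hc; exact b3 hc.symm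
    · rintro (hc | hc | hc)
      · exact haz hc.symm
      · exact h8 hc.symm
      · rw [Set.mem_singleton_iff] at hc; exact b2 hc.symm
    · rintro (hc | hc | hc | hc)
      · exact h.z1 hc.symm
      · exact ha1 hc.symm
      · exact h7 hc.symm
      · rw [Set.mem_singleton_iff] at hc; exact b1 hc.symm
  rw [h10, h6] at h5
  omega

theorem tau_ne {e : G} (he : e ∈ E) (h1 : e ≠ 1) (h2 : e ≠ z) : h.tau e ≠ 1 ∧ h.tau e ≠ z := by
  have hc := h.conj_inv he
  have hz : g⁻¹ * z * g = z := by rw [mul_assoc, ← h.gz]; group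
  constructor
  · intro ht
    rw [ht, one_mul] at hc
    have h3 : g * g * e = e * (g * g) := by
      calc g * g * e = g * (g * e * g⁻¹) * g := by group
        _ = g * (g⁻¹ * e * g) * g := by rw [hc]
        _ = e * (g * g) := by group
    have h4 := comm_of_odd h.odd h3
    have h5 : g * e * g⁻¹ = e := by rw [h4]; group
    rcases h.ff e he (fun e' he' => by rw [h5]; exact h.Eab _ he' _ he) with h6 | h6
    · exact h1 h6
    · exact h2 h6
  · intro ht
    rw [ht] at hc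
    have h3 : g * g * e * (g * g)⁻¹ = z * e := by
      have h4 : g * e * g⁻¹ = z * (g⁻¹ * e * g) := by rw [hc, ← mul_assoc, h.zz, one_mul]
      have h5 : g * z * g⁻¹ = z := by rw [h.gz]; group
      calc g * g * e * (g * g)⁻¹ = g * (g * e * g⁻¹) * g⁻¹ := by group
        _ = (g * z * g⁻¹) * (g * (g⁻¹ * e * g) * g⁻¹) := by rw [h4]; group
        _ = z * e := by rw [h5]; group
    exact h.z1 (eq_one_of_odd h.odd h.gz h.zz h3)

/-- `g² e g⁻²` -/
theorem conj_sq {e : G} (he : e ∈ E) : g * g * e * (g * g)⁻¹ = (g * h.tau e * g⁻¹) * e := by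
  have h1 : e = (g * h.tau e * g⁻¹) * (g * g * e * (g * g)⁻¹) := by
    calc e = g * (g⁻¹ * e * g) * g⁻¹ := by group
      _ = g * (h.tau e * (g * e * g⁻¹)) * g⁻¹ := by rw [h.conj_inv he]
      _ = _ := by group
  have h2 := h.sq_conj (h.tau_mem he)
  calc g * g * e * (g * g)⁻¹ = ((g * h.tau e * g⁻¹) * (g * h.tau e * g⁻¹)) * (g * g * e * (g * g)⁻¹) := by
        rw [h2, one_mul]
    _ = (g * h.tau e * g⁻¹) * ((g * h.tau e * g⁻¹) * (g * g * e * (g * g)⁻¹)) := by rw [mul_assoc]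
    _ = (g * h.tau e * g⁻¹) * e := by rw [← h1]

theorem tau_tau {e : G} (he : e ∈ E) (h1 : e ≠ 1) (h2 : e ≠ z) : h.tau (h.tau e) = e ∨ h.tau (h.tau e) = e * z := by
  obtain ⟨h3, h4⟩ := h.tau_ne he h1 h2
  have ht := h.tau_mem he
  obtain ⟨h5, h6⟩ := h.tau_ne ht h3 h4
  have h7 : e * (g * h.tau e * g⁻¹) = (g * h.tau e * g⁻¹) * e := h.symm ht he (h.tau_comm he)
  rcases h.mem_four ht h3 h4 (h.tau_mem ht) (h.tau_comm ht) h5 h6 he h7 with h8 | h8 | h8 | h8
  · exact absurd h8 h1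
  · exact absurd h8 h2
  · exact Or.inl h8.symm
  · right
    nth_rewrite 2 [h8]
    rw [mul_assoc, h.zz, mul_one]

/-- `g³ e g⁻³` -/
theorem conj_cube {e : G} (he : e ∈ E) (h1 : e ≠ 1) (h2 : e ≠ z) :
    g ^ 3 * e * (g ^ 3)⁻¹ = h.tau e ∨ g ^ 3 * e * (g ^ 3)⁻¹ = h.tau e * z := by
  have ht := h.tau_mem he
  have hgz : g * z * g⁻¹ = z := by rw [h.gz]; group
  have h3 : g ^ 3 * e * (g ^ 3)⁻¹ = (g * h.tau (h.tau e) * g⁻¹) * h.tau e * (g * e * g⁻¹) := by
    calc g ^ 3 * e * (g ^ 3)⁻¹ = g * (g * g * e * (g * g)⁻¹) * g⁻¹ := by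
          rw [show g ^ 3 = g * (g * g) by rw [pow_succ', pow_two]]; group
      _ = g * ((g * h.tau e * g⁻¹) * e) * g⁻¹ := by rw [h.conj_sq he]
      _ = (g * g * h.tau e * (g * g)⁻¹) * (g * e * g⁻¹) := by group
      _ = _ := by rw [h.conj_sq ht]
  have h4 : (g * e * g⁻¹) * h.tau e * (g * e * g⁻¹) = h.tau e := by
    rw [← h.tau_comm he, mul_assoc, h.sq_conj he, mul_one]
  rcases h.tau_tau he h1 h2 with h5 | h5
  · left
    rw [h3, h5, h4]
  · right
    have h6 : g * (e * z) * g⁻¹ = z * (g * e * g⁻¹) := by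
      rw [← h.Eab z h.zE e he]
      calc g * (z * e) * g⁻¹ = (g * z * g⁻¹) * (g * e * g⁻¹) := by group
        _ = _ := by rw [hgz]
    rw [h3, h5, h6]
    calc z * (g * e * g⁻¹) * h.tau e * (g * e * g⁻¹) = z * ((g * e * g⁻¹) * h.tau e * (g * e * g⁻¹)) := by group
      _ = h.tau e * z := by rw [h4]; exact h.Eab _ h.zE _ ht

/-- **`τ = 1`** -/
theorem tau_eq {e : G} (he : e ∈ E) (h1 : e ≠ 1) (h2 : e ≠ z) : h.tau e = e ∨ h.tau e = e * z := by
  have ht := h.tau_mem he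
  obtain ⟨h3, h4⟩ := h.tau_ne he h1 h2
  have hgz : Commute g z := h.gz
  have hz3 : ∀ x, g ^ 3 * (x * z) * (g ^ 3)⁻¹ = g ^ 3 * x * (g ^ 3)⁻¹ * z := by
    intro x
    have h5 : g ^ 3 * z = z * g ^ 3 := hgz.pow_left 3
    calc g ^ 3 * (x * z) * (g ^ 3)⁻¹ = g ^ 3 * x * (z * (g ^ 3)⁻¹) := by group
      _ = g ^ 3 * x * ((g ^ 3)⁻¹ * (g ^ 3 * z) * (g ^ 3)⁻¹) := by group
      _ = g ^ 3 * x * ((g ^ 3)⁻¹ * (z * g ^ 3) * (g ^ 3)⁻¹) := by rw [h5]
      _ = _ := by group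
  have ho3 : Odd (orderOf (g ^ 3)) := h.odd.of_dvd_nat (orderOf_pow_dvd 3)
  -- `u = g³`: `u e u⁻¹ = τ e z^a`, `u (τ e) u⁻¹ = e z^b`
  have hδ : ∃ δ : G, (δ = 1 ∨ δ = z) ∧ g ^ 3 * g ^ 3 * e * (g ^ 3 * g ^ 3)⁻¹ = δ * e := by
    have hze : e * z = z * e := h.Eab _ he _ h.zE
    have h6 : ∀ x, g ^ 3 * g ^ 3 * x * (g ^ 3 * g ^ 3)⁻¹ = g ^ 3 * (g ^ 3 * x * (g ^ 3)⁻¹) * (g ^ 3)⁻¹ := by
      intro x; group
    have h7 : g ^ 3 * h.tau e * (g ^ 3)⁻¹ = e ∨ g ^ 3 * h.tau e * (g ^ 3)⁻¹ = z * e := by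
      rcases h.conj_cube ht h3 h4 with h8 | h8 <;> rcases h.tau_tau he h1 h2 with h9 | h9
      · left; rw [h8, h9]
      · right; rw [h8, h9, hze]
      · right; rw [h8, h9, hze]
      · left; rw [h8, h9, mul_assoc, h.zz, mul_one]
    rcases h.conj_cube he h1 h2 with h8 | h8 <;> rcases h7 with h9 | h9
    · exact ⟨1, Or.inl rfl, by rw [h6, h8, h9, one_mul]⟩
    · exact ⟨z, Or.inr rfl, by rw [h6, h8, h9]⟩
    · exact ⟨z, Or.inr rfl, by rw [h6, h8, hz3, h9, hze]⟩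
    · exact ⟨1, Or.inl rfl, by rw [h6, h8, hz3, h9, one_mul, mul_assoc, hze, ← mul_assoc, h.zz, one_mul]⟩
  obtain ⟨δ, hδ1, hδ2⟩ := hδ
  have hδ0 : δ = 1 := by
    refine eq_one_of_odd ho3 ?_ ?_ hδ2
    · rcases hδ1 with rfl | rfl
      · rw [mul_one, one_mul]
      · exact hgz.pow_left 3
    · rcases hδ1 with rfl | rfl
      · exact one_mul 1
      · exact h.zz
  rw [hδ0, one_mul] at hδ2
  have h10 : g ^ 3 * e = e * g ^ 3 := comm_of_odd ho3 (mul_inv_eq_iff_eq_mul.1 hδ2)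
  have h11 : g ^ 3 * e * (g ^ 3)⁻¹ = e := by rw [h10]; group
  rcases h.conj_cube he h1 h2 with h8 | h8
  · left; rw [← h8, h11]
  · right
    rw [h11] at h8
    nth_rewrite 2 [h8]
    rw [mul_assoc, h.zz, mul_one]

/-- `g⁻¹ e g = (g e g⁻¹) e` modulo `⟨z⟩` -/
theorem third {e : G} (he : e ∈ E) (h1 : e ≠ 1) (h2 : e ≠ z) :
    g⁻¹ * e * g = (g * e * g⁻¹) * e ∨ g⁻¹ * e * g = (g * e * g⁻¹) * e * z := by
  have hc := h.conj_inv he
  have hcm := h.tau_comm he
  rcases h.tau_eq he h1 h2 with h3 | h3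
  · left; rw [hc, hcm, h3]
  · right; rw [hc, hcm, h3]; group

/-- `C_E(g e g⁻¹) = ⟨z, e⟩` -/
theorem perp {e e' : G} (he : e ∈ E) (h1 : e ≠ 1) (h2 : e ≠ z) (he' : e' ∈ E) :
    e' * (g * e * g⁻¹) = (g * e * g⁻¹) * e' ↔ e' = 1 ∨ e' = z ∨ e' = e ∨ e' = e * z := by
  have hcz : z * (g * e * g⁻¹) = (g * e * g⁻¹) * z := by
    have h5 : g⁻¹ * z * g = z := by rw [mul_assoc, ← h.gz]; group
    calc z * (g * e * g⁻¹) = (z * g) * e * g⁻¹ := by group
      _ = g * (z * e) * g⁻¹ := by rw [← h.gz]; group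
      _ = g * (e * z) * g⁻¹ := by rw [h.Eab z h.zE e he]
      _ = g * (e * (g⁻¹ * z * g)) * g⁻¹ := by rw [h5]
      _ = g * e * g⁻¹ * z := by group
  have hce : e * (g * e * g⁻¹) = (g * e * g⁻¹) * e := by
    have h4 := h.tau_comm he
    rcases h.tau_eq he h1 h2 with h3 | h3
    · rwa [h3] at h4
    · rw [h3] at h4
      have h5 : e * (g * e * g⁻¹) * z = (g * e * g⁻¹) * e * z := by
        rw [mul_assoc, ← hcz, ← mul_assoc, h4, ← mul_assoc]
      exact mul_right_cancel h5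
  constructor
  · intro hc
    exact h.mem_four he h1 h2 he hce h1 h2 he' hc
  · rintro (rfl | rfl | rfl | rfl)
    · rw [one_mul, mul_one]
    · exact hcz
    · exact hce
    · rw [mul_assoc, hcz, ← mul_assoc, hce, mul_assoc]

end GD

end Cfsg.Agent.Omega.NOne.AG.GData
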