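import Cfsg.Agent.Omega.NOne.AG.FivePair

/-!
# THEOREM D0ag (#15001), section (5.4): `T₀ = Δ`

`FiveE.T0_le` : under `Five` and the data of the point `z = z_{01|23}` (`g`, `E^g`, LEMMA Y), `T0 ≤ Dl y`.
-/

set_option autoImplicit false
set_option linter.unusedSectionVars false

namespace Cfsg.Agent.Omega.NOne.AG.FiveGrp

open Equiv Subgroup
open Cfsg.Agent.Omega.NOne.AG.FiveMod Cfsg.Agent.Omega.NOne.AG.FiveDl

universe u

variable {G : Type u} [Group G]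

/-- `E = z^⊥` for `z = z_{01|23}`. -/
def EE (y : Fin 5 → Fin 5 → G) : Subgroup G :=
  closure {y 0 1 * y 2 3, y 0 1 * y 2 4, y 2 3 * y 0 4}

/-- The situation of (5.4) at the point `z = z_{01|23}`. -/
structure FiveE (P T0 : Subgroup G) (y : Fin 5 → Fin 5 → G) (Qs : G → Subgroup G) (g α β : G) : Prop
    extends Five P T0 y Qs where
  EQ : EE y ≤ Qs (y 0 1 * y 2 3)
  gQ : ∀ q ∈ Qs (y 0 1 * y 2 3), g * q * g⁻¹ ∈ Qs (y 0 1 * y 2 3)
  gQ' : ∀ q ∈ Qs (y 0 1 * y 2 3), g⁻¹ * q * g ∈ Qs (y 0 1 * y 2 3)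
  g01 : g * y 0 1 = y 0 1 * g
  g23 : g * y 2 3 = y 2 3 * g
  αE : α ∈ EE y
  βE : β ∈ EE y
  oα : Ov y (g * α * g⁻¹) (swap 0 1)
  oβ : Ov y (g * β * g⁻¹) (swap 2 3)
  cap : ∀ x ∈ EE y, g * x * g⁻¹ ∈ T0 → g * x * g⁻¹ = 1 ∨ g * x * g⁻¹ = y 0 1 * y 2 3
  ly : ∀ a b, a ≠ b → ∀ x : G, x * y a b * x⁻¹ ≠ y 0 1 * y 2 3

namespace FiveE

variable {P T0 : Subgroup G} {y : Fin 5 → Fin 5 → G} {Qs : G → Subgroup G} {g α β : G}
variable (k : FiveE P T0 y Qs g α β)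
include k

theorem hz : y 0 1 * y 2 3 = ph y 5 := by
  rw [← k.ys.yt (a := 0) (b := 1) (by decide), ← k.ys.yt (a := 2) (b := 3) (by decide), k.ys.mul]
  rfl

theorem he1 : y 0 1 * y 2 4 = ph y 12 := by
  rw [← k.ys.yt (a := 0) (b := 1) (by decide), ← k.ys.yt (a := 2) (b := 4) (by decide), k.ys.mul]
  rfl

theorem he2 : y 2 3 * y 0 4 = ph y 20 := by
  rw [← k.ys.yt (a := 2) (b := 3) (by decide), ← k.ys.yt (a := 0) (b := 4) (by decide), k.ys.mul]
  rfl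

theorem E_Dl : EE y ≤ Dl y := by
  unfold EE
  rw [closure_le]
  rintro x (rfl | rfl | rfl)
  · exact mul_mem (y_mem (by decide)) (y_mem (by decide))
  · exact mul_mem (y_mem (by decide)) (y_mem (by decide))
  · exact mul_mem (y_mem (by decide)) (y_mem (by decide))

omit k in
theorem zE : y 0 1 * y 2 3 ∈ EE y := subset_closure (by simp)

omit k in
theorem e1E : y 0 1 * y 2 4 ∈ EE y := subset_closure (by simp)

omit k in
theorem e2E : y 2 3 * y 0 4 ∈ EE y := subset_closure (by simp)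

theorem zz : y 0 1 * y 2 3 * (y 0 1 * y 2 3) = 1 := by rw [k.hz, k.ys.sq']

theorem z1 : y 0 1 * y 2 3 ≠ 1 := k.ys.zne 0 1 2 3 (by decide)

theorem zg : g * (y 0 1 * y 2 3) = y 0 1 * y 2 3 * g := by
  rw [← mul_assoc, k.g01, mul_assoc, k.g23, mul_assoc]

theorem zT {t : G} (ht : t ∈ T0) : t * (y 0 1 * y 2 3) = y 0 1 * y 2 3 * t :=
  k.comm_Dl ht (k.E_Dl zE)

theorem zQ {q : G} (hq : q ∈ Qs (y 0 1 * y 2 3)) : q * (y 0 1 * y 2 3) = y 0 1 * y 2 3 * q := by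
  have key : ∀ σ : Perm (Fin 5), ac σ 5 = 5 → Ov y q σ → q * (y 0 1 * y 2 3) = y 0 1 * y 2 3 * q := by
    intro σ hσ oq
    have := k.ys.conj oq 5
    rw [hσ] at this
    rw [k.hz]
    calc q * ph y 5 = q * ph y 5 * q⁻¹ * q := by group
      _ = _ := by rw [this]
  rcases k.over 0 1 2 3 (by decide) q hq with o | o | o | o
  · exact key _ (by decide) o
  · exact key _ (by decide) o
  · exact key _ (by decide) o
  · exact key _ (by decide) o

theorem E_comm {x x' : G} (hx : x ∈ EE y) (hx' : x' ∈ EE y) : x * x' = x' * x :=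
  k.ys.dl_comm (k.E_Dl hx) (k.E_Dl hx')

theorem E_sq {x : G} (hx : x ∈ EE y) : x * x = 1 := k.ys.dl_sq (k.E_Dl hx)

/-- `E^g ∩ T₀ = ⟨z⟩` -/
theorem E_one {x : G} (hx : x ∈ EE y) (ox : Ov y (g * x * g⁻¹) 1) : x = 1 ∨ x = y 0 1 * y 2 3 := by
  have h1 := k.ker 0 1 2 3 (by decide) _ (k.gQ _ (k.EQ hx)) ox
  rcases k.cap x hx h1 with e | e
  · left
    have : x = g⁻¹ * (g * x * g⁻¹) * g := by group
    rw [this, e]; group
  · right
    have : x = g⁻¹ * (g * x * g⁻¹) * g := by group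
    rw [this, e, mul_assoc, ← k.zg]; group

/-- the elements of `E` -/
def Cov (y : Fin 5 → Fin 5 → G) (α β : G) : Prop := ∀ x ∈ EE y,
  (x = 1 ∨ x = y 0 1 * y 2 3) ∨ (x = α ∨ x = y 0 1 * y 2 3 * α) ∨ (x = β ∨ x = y 0 1 * y 2 3 * β) ∨
    (x = α * β ∨ x = y 0 1 * y 2 3 * (α * β))

theorem cov_aux {x γ : G} {σ : Perm (Fin 5)} (hx : x ∈ EE y) (hγ : γ ∈ EE y)
    (oγ : Ov y (g * γ * g⁻¹) σ) (ox : Ov y (g * x * g⁻¹) σ) : x = γ ∨ x = y 0 1 * y 2 3 * γ := by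
  have h1 : x * γ⁻¹ ∈ EE y := mul_mem hx (inv_mem hγ)
  have h2 : Ov y (g * (x * γ⁻¹) * g⁻¹) 1 := by
    have := ox.mul oγ.inv
    rw [mul_inv_cancel] at this
    have e : g * (x * γ⁻¹) * g⁻¹ = g * x * g⁻¹ * (g * γ * g⁻¹)⁻¹ := by group
    rwa [e]
  rcases k.E_one h1 h2 with e | e
  · left
    rwa [mul_inv_eq_one] at e
  · right
    rw [← e]; group

theorem cov : Cov y α β := by
  intro x hx
  rcases k.over 0 1 2 3 (by decide) _ (k.gQ _ (k.EQ hx)) with o | o | o | o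
  · exact Or.inl (k.E_one hx o)
  · exact Or.inr (Or.inl (k.cov_aux hx k.αE k.oα o))
  · exact Or.inr (Or.inr (Or.inl (k.cov_aux hx k.βE k.oβ o)))
  · refine Or.inr (Or.inr (Or.inr (k.cov_aux hx (mul_mem k.αE k.βE) ?_ o)))
    have := k.oα.mul k.oβ
    have e : g * (α * β) * g⁻¹ = g * α * g⁻¹ * (g * β * g⁻¹) := by group
    rwa [e]

theorem cov' : Cov y β α := by
  intro x hx
  rcases k.cov x hx with o | o | o | o
  · exact Or.inl o
  · exact Or.inr (Or.inr (Or.inl o))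
  · exact Or.inr (Or.inl o)
  · rw [k.E_comm k.αE k.βE] at o
    exact Or.inr (Or.inr (Or.inr o))

/-- `[v, Q] ≤ E` for `v = z_{12|34}` -/
theorem V1 {q : G} (hq : q ∈ Qs (y 0 1 * y 2 3)) : ∃ e ∈ EE y, ph y 10 * q * (ph y 10)⁻¹ = e * q ∧
    e * q = q * e ∧ ((e = 1 ∨ e = y 0 1 * y 2 3) → q ∈ T0) := by
  have key : ∀ (σ : Perm (Fin 5)) (c : ℕ), Ov y q σ → c < 32 → 10 ^^^ ac σ 10 = c → ac σ c = c → c ≠ 0 → c ≠ 5 →
      ph y c ∈ EE y →
      ∃ e ∈ EE y, ph y 10 * q * (ph y 10)⁻¹ = e * q ∧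
    e * q = q * e ∧ ((e = 1 ∨ e = y 0 1 * y 2 3) → q ∈ T0) := by
    intro σ c oq hc h10 hσ n0 n5 hE
    refine ⟨ph y c, hE, ?_, ?_, ?_⟩
    · have h1 := k.ys.conj oq 10
      have h2 : ph y 10 * q * (ph y 10)⁻¹ = ph y 10 * (q * ph y 10 * q⁻¹)⁻¹ * q := by group
      rw [h2, h1, k.ys.inv', k.ys.mul, h10]
    · have h1 := k.ys.conj oq c
      rw [hσ] at h1
      calc ph y c * q = q * ph y c * q⁻¹ * q := by rw [h1]
        _ = _ := by group
    · rintro (e | e)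
      · rw [← ph_zero (y := y)] at e
        exact absurd (k.ph_inj hc (by decide) e) n0
      · rw [k.hz] at e
        exact absurd (k.ph_inj hc (by decide) e) n5
  have hz5 : ph y 5 ∈ EE y := by rw [← k.hz]; exact zE
  have h12 : ph y 12 ∈ EE y := by rw [← k.he1]; exact e1E
  have h20 : ph y 20 ∈ EE y := by rw [← k.he2]; exact e2E
  have h9 : ph y 9 ∈ EE y := by
    have := mul_mem hz5 h12
    rwa [k.ys.mul] at this
  have h17 : ph y 17 ∈ EE y := by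
    have := mul_mem hz5 h20
    rwa [k.ys.mul] at this
  have h29 : ph y 29 ∈ EE y := by
    have := mul_mem h9 h20
    rwa [k.ys.mul] at this
  rcases k.over 0 1 2 3 (by decide) q hq with o | o | o | o
  · refine ⟨1, one_mem _, ?_, by simp, fun _ => k.ker 0 1 2 3 (by decide) q hq o⟩
    have h0 := k.ker 0 1 2 3 (by decide) q hq o
    rw [← k.comm_Dl h0 (k.ys.ph_mem (by decide))]
    group
  · exact key _ 9 o (by decide) (by decide) (by decide) (by decide) (by decide) h9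
  · exact key _ 17 o (by decide) (by decide) (by decide) (by decide) (by decide) h17
  · exact key _ 29 o (by decide) (by decide) (by decide) (by decide) (by decide) h29

/-- the same for `v' = g v g⁻¹` -/
theorem V2 {x : G} (hx : x ∈ Qs (y 0 1 * y 2 3)) : ∃ e ∈ EE y,
    (g * ph y 10 * g⁻¹) * x * (g * ph y 10 * g⁻¹)⁻¹ = (g * e * g⁻¹) * x ∧
    (g * e * g⁻¹) * x = x * (g * e * g⁻¹) ∧
    ((e = 1 ∨ e = y 0 1 * y 2 3) → ∀ f ∈ EE y, (g * f * g⁻¹) * x = x * (g * f * g⁻¹)) := by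
  obtain ⟨e, he, h1, h2, h3⟩ := k.V1 (k.gQ' x hx)
  refine ⟨e, he, ?_, ?_, ?_⟩
  · have e1 : (g * ph y 10 * g⁻¹) * x * (g * ph y 10 * g⁻¹)⁻¹ =
        g * (ph y 10 * (g⁻¹ * x * g) * (ph y 10)⁻¹) * g⁻¹ := by group
    rw [e1, h1]; group
  · have e1 : g * e * g⁻¹ * x = g * (e * (g⁻¹ * x * g)) * g⁻¹ := by group
    rw [e1, h2]; group
  · intro hez f hf
    have h4 := k.comm_Dl (h3 hez) (k.E_Dl hf)
    have e1 : g * f * g⁻¹ * x = g * (f * (g⁻¹ * x * g)) * g⁻¹ := by group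
    rw [e1, ← h4]; group

/-- `x` commutes with `γ^g`, not with `δ^g` ⟹ `[v', x] = γ^g` modulo `z`. -/
theorem V3 {γ δ x : G} (hδ : δ ∈ EE y) (hc : Cov y γ δ)
    (hx : x ∈ Qs (y 0 1 * y 2 3)) (h1 : g * γ * g⁻¹ * x = x * (g * γ * g⁻¹))
    (h2 : g * δ * g⁻¹ * x = y 0 1 * y 2 3 * (x * (g * δ * g⁻¹))) :
    ∃ ζ, (ζ = 1 ∨ ζ = y 0 1 * y 2 3) ∧
      (g * ph y 10 * g⁻¹) * x * (g * ph y 10 * g⁻¹)⁻¹ = ζ * ((g * γ * g⁻¹) * x) := by
  obtain ⟨e, he, f1, f2, f3⟩ := k.V2 hx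
  have zx := k.zQ hx
  set z := y 0 1 * y 2 3 with hz
  have nz : z ≠ 1 := k.z1
  have zz := k.zz
  rw [← hz] at zz
  have zg := k.zg
  rw [← hz] at zg
  have gz : g * z * g⁻¹ = z := by rw [zg]; group
  have n2 : ¬ g * δ * g⁻¹ * x = x * (g * δ * g⁻¹) := by
    intro e'
    rw [e'] at h2
    apply nz
    calc z = z * (x * (g * δ * g⁻¹)) * (x * (g * δ * g⁻¹))⁻¹ := by group
      _ = 1 := by rw [← h2]; group
  have fin : ∀ {A B : G}, A * x = x * A → A * B * x = x * (A * B) → B * x = x * B := by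
    intro A B hA hAB
    have f5 : A * (B * x) = A * (x * B) := by
      calc A * (B * x) = A * B * x := (mul_assoc _ _ _).symm
        _ = x * (A * B) := hAB
        _ = x * A * B := (mul_assoc _ _ _).symm
        _ = A * x * B := by rw [hA]
        _ = A * (x * B) := mul_assoc _ _ _
    exact mul_left_cancel f5
  rcases hc e he with (e1 | e1) | (e1 | e1) | (e1 | e1) | (e1 | e1)
  · exact absurd (f3 (Or.inl e1) δ hδ) n2
  · exact absurd (f3 (Or.inr e1) δ hδ) n2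
  · refine ⟨1, Or.inl rfl, ?_⟩
    rw [f1, e1, one_mul]
  · refine ⟨z, Or.inr rfl, ?_⟩
    rw [f1, e1]
    have : g * (z * γ) * g⁻¹ = g * z * g⁻¹ * (g * γ * g⁻¹) := by group
    rw [this, gz, mul_assoc]
  · rw [e1] at f2
    exact absurd f2 n2
  · exfalso
    apply n2
    have : g * (z * δ) * g⁻¹ = g * z * g⁻¹ * (g * δ * g⁻¹) := by group
    rw [e1, this, gz, mul_assoc, ← mul_assoc x z, zx, mul_assoc z x] at f2
    exact mul_left_cancel f2
  · exfalso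
    apply n2
    have : g * (γ * δ) * g⁻¹ = g * γ * g⁻¹ * (g * δ * g⁻¹) := by group
    rw [e1, this] at f2
    exact fin h1 f2
  · exfalso
    apply n2
    have : g * (z * (γ * δ)) * g⁻¹ = g * z * g⁻¹ * (g * γ * g⁻¹ * (g * δ * g⁻¹)) := by group
    rw [e1, this, gz, mul_assoc z, ← mul_assoc x z, zx, mul_assoc z x] at f2
    exact fin h1 (mul_left_cancel f2)

omit k in
theorem codes01 : ∀ c < 32, ac (swap 0 1) c = c → (c = 8 ∨ c = 9 ∨ c = 12 ∨ c = 13) ∨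
    (c = 0 ∨ c = 1 ∨ c = 4 ∨ c = 5) := by decide

theorem aQ : g * α * g⁻¹ ∈ Qs (y 0 1 * y 2 3) := k.gQ _ (k.EQ k.αE)

theorem bQ : g * β * g⁻¹ ∈ Qs (y 0 1 * y 2 3) := k.gQ _ (k.EQ k.βE)

theorem aa : g * α * g⁻¹ * (g * α * g⁻¹) = 1 := by
  have e : g * α * g⁻¹ * (g * α * g⁻¹) = g * (α * α) * g⁻¹ := by group
  rw [e, k.E_sq k.αE]; group

theorem bb : g * β * g⁻¹ * (g * β * g⁻¹) = 1 := by
  have e : g * β * g⁻¹ * (g * β * g⁻¹) = g * (β * β) * g⁻¹ := by group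
  rw [e, k.E_sq k.βE]; group

theorem ab : g * α * g⁻¹ * (g * β * g⁻¹) = g * β * g⁻¹ * (g * α * g⁻¹) := by
  have e : g * α * g⁻¹ * (g * β * g⁻¹) = g * (α * β) * g⁻¹ := by group
  have e' : g * β * g⁻¹ * (g * α * g⁻¹) = g * (β * α) * g⁻¹ := by group
  rw [e, e', k.E_comm k.αE k.βE]

omit k in
/-- `t a t⁻¹ = a s` for `s = [a, t]`, `a² = 1` -/
theorem tat {t a s : G} (haa : a * a = 1) (es : a * t * a⁻¹ * t⁻¹ = s) : t * a * t⁻¹ = a * s := by
  have ai : a⁻¹ = a := inv_eq_of_mul_eq_one_left haa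
  calc t * a * t⁻¹ = t * a⁻¹ * t⁻¹ := by rw [ai]
    _ = a⁻¹ * (a * t * a⁻¹ * t⁻¹) := by group
    _ = a * s := by rw [es, ai]

omit k in
/-- then `s` commutes with `a` if `s² = 1` -/
theorem tat_comm {t a s : G} (haa : a * a = 1) (es : a * t * a⁻¹ * t⁻¹ = s) (hss : s * s = 1) :
    a * s = s * a := by
  have e1 : (a * s) * (a * s) = 1 := by
    rw [← tat haa es]
    have : t * a * t⁻¹ * (t * a * t⁻¹) = t * (a * a) * t⁻¹ := by group
    rw [this, haa]; group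
  have ai : a⁻¹ = a := inv_eq_of_mul_eq_one_left haa
  have si : s⁻¹ = s := inv_eq_of_mul_eq_one_left hss
  have e2 : a * s = (a * s)⁻¹ := (inv_eq_of_mul_eq_one_left e1).symm
  rw [e2, mul_inv_rev, ai, si]

/-- the choice of `t` -/
theorem exists_t (hne : ¬ T0 ≤ Dl y) : ∃ t ∈ T0, I2 y Qs 3 4 t ∧ t ∉ Dl y ∧
    ∃ c, (c = 8 ∨ c = 9 ∨ c = 12 ∨ c = 13) ∧
      g * α * g⁻¹ * t * (g * α * g⁻¹)⁻¹ * t⁻¹ = ph y c := by
  obtain ⟨t, ht, it, nt⟩ := k.i2_exists hne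
  have h1 : g * α * g⁻¹ * t * (g * α * g⁻¹)⁻¹ * t⁻¹ ∈ Dl y :=
    k.i2_fix (a := 0) (b := 1) (c := 3) (d := 4) (a' := 2) (b' := 3) (by decide) (by decide) k.aQ k.oα ht
      (Or.inr it)
  obtain ⟨c, hc, ec⟩ := k.ys.mem_iff.1 h1
  have h2 : g * α * g⁻¹ * ph y c = ph y c * (g * α * g⁻¹) := tat_comm k.aa ec.symm (k.ys.sq' c)
  have h3 : ac (swap 0 1) c = c := by
    refine k.code_fix k.oα hc ?_
    rw [h2]; group
  rcases codes01 c hc h3 with h4 | h4
  · exact ⟨t, ht, it, nt, c, h4, ec.symm⟩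
  · have hvD : ph y 10 ∈ Dl y := k.ys.ph_mem (by decide)
    have hv := k.Dl_le hvD
    refine ⟨t * ph y 10, mul_mem ht hv, ?_, ?_, c ^^^ 9, ?_, ?_⟩
    · intro c' d' hd
      obtain ⟨q, hq, e⟩ := it c' d' hd
      refine ⟨q, hq, ?_⟩
      rw [← mul_assoc]
      exact mul_mem e hvD
    · intro e
      apply nt
      have : t = t * ph y 10 * (ph y 10)⁻¹ := by group
      rw [this]
      exact mul_mem e (inv_mem hvD)
    · rcases h4 with rfl | rfl | rfl | rfl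
      · right; left; rfl
      · left; rfl
      · right; right; right; rfl
      · right; right; left; rfl
    · have e1 : g * α * g⁻¹ * (t * ph y 10) * (g * α * g⁻¹)⁻¹ * (t * ph y 10)⁻¹ =
          (g * α * g⁻¹ * t * (g * α * g⁻¹)⁻¹ * t⁻¹) *
            (t * ((g * α * g⁻¹ * ph y 10 * (g * α * g⁻¹)⁻¹) * (ph y 10)⁻¹) * t⁻¹) := by group
      have e2 : g * α * g⁻¹ * ph y 10 * (g * α * g⁻¹)⁻¹ * (ph y 10)⁻¹ = ph y 9 := by
        rw [k.ys.conj k.oα, k.ys.inv', k.ys.mul]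
        rfl
      rw [e1, e2, k.comm_Dl ht (k.ys.ph_mem (by decide)), mul_inv_cancel_right, ← ec, k.ys.mul]

omit k in
theorem codes23 : ∀ c, (c = 8 ∨ c = 9 ∨ c = 12 ∨ c = 13) → ac (swap 2 3) c = 5 ^^^ c := by
  rintro c (rfl | rfl | rfl | rfl) <;> decide

/-- the choice of `u'` -/
theorem exists_u : ∃ u, (u = y 0 1 * y 2 4 ∨ u = y 2 3 * y 0 4) ∧ u ∈ EE y ∧
    ((u = β ∨ u = y 0 1 * y 2 3 * β) ∨ (u = α * β ∨ u = y 0 1 * y 2 3 * (α * β))) := by
  by_contra hcon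
  push Not at hcon
  -- then `E^g` is over `⟨(01)⟩`
  have hP : ∀ x ∈ EE y, Ov y (g * x * g⁻¹) 1 ∨ Ov y (g * x * g⁻¹) (swap 0 1) := by
    have key : ∀ x ∈ EE y, (x = y 0 1 * y 2 4 ∨ x = y 2 3 * y 0 4) →
        Ov y (g * x * g⁻¹) 1 ∨ Ov y (g * x * g⁻¹) (swap 0 1) := by
      intro x hx hx'
      have h1 := hcon x hx' hx
      rcases k.over 0 1 2 3 (by decide) _ (k.gQ _ (k.EQ hx)) with o | o | o | o
      · exact Or.inl o
      · exact Or.inr o
      · exfalso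
        rcases k.cov_aux hx k.βE k.oβ o with e | e
        · exact h1.1.1 e
        · exact h1.1.2 e
      · exfalso
        have o' : Ov y (g * (α * β) * g⁻¹) (swap 0 1 * swap 2 3) := by
          have := k.oα.mul k.oβ
          have e : g * (α * β) * g⁻¹ = g * α * g⁻¹ * (g * β * g⁻¹) := by group
          rwa [e]
        rcases k.cov_aux hx (mul_mem k.αE k.βE) o' o with e | e
        · exact h1.2.1 e
        · exact h1.2.2 e
    have sym : ∀ {x : G}, Ov y x 1 → Ov y x⁻¹ 1 := fun o => by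
      have := o.inv
      rwa [inv_one] at this
    intro x hx
    unfold EE at hx
    induction hx using closure_induction with
    | mem x hx =>
      rcases hx with rfl | rfl | rfl
      · left
        have e : g * (y 0 1 * y 2 3) * g⁻¹ = y 0 1 * y 2 3 := by rw [k.zg]; group
        rw [e]
        exact k.ov_T0 (k.Dl_le (k.E_Dl zE))
      · exact key _ e1E (Or.inl rfl)
      · exact key _ e2E (Or.inr rfl)
    | one =>
      left
      have : g * 1 * g⁻¹ = 1 := by group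
      rw [this]
      exact Ov.one y
    | mul x x' _ _ h1 h2 =>
      have e : g * (x * x') * g⁻¹ = g * x * g⁻¹ * (g * x' * g⁻¹) := by group
      rw [e]
      rcases h1 with h1 | h1 <;> rcases h2 with h2 | h2
      · left
        have := h1.mul h2
        rwa [mul_one] at this
      · right
        have := h1.mul h2
        rwa [one_mul] at this
      · right
        have := h1.mul h2
        rwa [mul_one] at this
      · left
        have := h1.mul h2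
        rwa [swap_mul_self] at this
    | inv x _ h1 =>
      have e : g * x⁻¹ * g⁻¹ = (g * x * g⁻¹)⁻¹ := by group
      rw [e]
      rcases h1 with h1 | h1
      · exact Or.inl (sym h1)
      · right
        have := h1.inv
        rwa [swap_inv] at this
  rcases hP β k.βE with o | o
  · have h1 := o 1 2 (by decide)
    rw [k.oβ 1 2 (by decide)] at h1
    have e1 : swap (2 : Fin 5) 3 1 = 1 := by decide
    have e2 : swap (2 : Fin 5) 3 2 = 3 := by decide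
    rw [e1, e2, Perm.one_apply, Perm.one_apply, ← k.ys.yt (by decide), ← k.ys.yt (by decide)] at h1
    exact absurd (k.ph_inj (Yt_lt _ _) (Yt_lt _ _) h1) (by decide)
  · have h1 := o 0 2 (by decide)
    rw [k.oβ 0 2 (by decide)] at h1
    have e1 : swap (2 : Fin 5) 3 0 = 0 := by decide
    have e2 : swap (2 : Fin 5) 3 2 = 3 := by decide
    have e3 : swap (0 : Fin 5) 1 0 = 1 := by decide
    have e4 : swap (0 : Fin 5) 1 2 = 2 := by decide
    rw [e1, e2, e3, e4, ← k.ys.yt (by decide), ← k.ys.yt (by decide)] at h1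
    exact absurd (k.ph_inj (Yt_lt _ _) (Yt_lt _ _) h1) (by decide)

/-- **(5.4)**: `T₀ = Δ`. -/
theorem T0_le_aux : T0 ≤ Dl y := by
  by_contra hne
  obtain ⟨t, ht, it, nt, c, hc, es⟩ := k.exists_t hne
  obtain ⟨u, hu, huE, hu'⟩ := k.exists_u
  have aQ := k.aQ
  have bQ := k.bQ
  have aa := k.aa
  have bb := k.bb
  have ab := k.ab
  have oα := k.oα
  have oβ := k.oβ
  have hc32 : c < 32 := by rcases hc with rfl | rfl | rfl | rfl <;> decide
  have sD : ph y c ∈ Dl y := k.ys.ph_mem hc32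
  have sT : ph y c ∈ T0 := k.Dl_le sD
  have hV3 := @V3 G _ P T0 y Qs g α β k
  have zQ := @zQ G _ P T0 y Qs g α β k
  have zg := k.zg
  have zz := k.zz
  have zT := @zT G _ P T0 y Qs g α β k
  have z1 := k.z1
  -- `s`
  have sQ : ph y c ∈ Qs (y 0 1 * y 2 3) := by
    rw [← es]
    have e : g * α * g⁻¹ * t * (g * α * g⁻¹)⁻¹ * t⁻¹ = g * α * g⁻¹ * (t * (g * α * g⁻¹)⁻¹ * t⁻¹) := by
      simp only [mul_assoc]
    rw [e]
    exact mul_mem aQ (k.cj_T0 ht (by decide) (inv_mem aQ))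
  have ta := tat aa es
  have sa := tat_comm aa es (k.ys.sq' c)
  -- `b s = z s b`
  have bs : g * β * g⁻¹ * ph y c = y 0 1 * y 2 3 * (ph y c * (g * β * g⁻¹)) := by
    have h1 := k.ys.conj oβ c
    rw [codes23 c hc, ← k.ys.mul, ← k.hz] at h1
    calc g * β * g⁻¹ * ph y c = g * β * g⁻¹ * ph y c * (g * β * g⁻¹)⁻¹ * (g * β * g⁻¹) := by group
      _ = _ := by rw [h1]; simp only [mul_assoc]
  -- `w`
  obtain ⟨w, hw⟩ : ∃ w, w = g * β * g⁻¹ * t * (g * β * g⁻¹)⁻¹ * t⁻¹ := ⟨_, rfl⟩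
  have tb := tat bb hw.symm
  have wQ : w ∈ Qs (y 0 1 * y 2 3) := by
    have e : g * β * g⁻¹ * t * (g * β * g⁻¹)⁻¹ * t⁻¹ = g * β * g⁻¹ * (t * (g * β * g⁻¹)⁻¹ * t⁻¹) := by
      simp only [mul_assoc]
    rw [hw, e]
    exact mul_mem bQ (k.cj_T0 ht (by decide) (inv_mem bQ))
  have wT : w ∈ T0 := by
    rw [hw]
    exact mul_mem (k.T0_nor _ (k.QP 0 1 2 3 (by decide) bQ) t ht) (inv_mem ht)
  have bQ' : g * β * g⁻¹ ∈ Qs (y 2 3 * y 0 1) := by
    rw [k.zs2 (a := 0) (b := 1) (c := 2) (d := 3) (by decide)]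
    exact bQ
  have iw : I2 y Qs 2 3 w := by
    rw [hw]
    exact k.i2_br (a := 2) (b := 3) (a' := 0) (b' := 1) (by decide) bQ' oβ ht
  have nw : w ∉ Dl y := by
    intro e
    rw [hw] at e
    exact nt (k.i2_inj (a := 2) (b := 3) (c := 4) (a' := 0) (b' := 1) (by decide) (by decide) (by decide)
      (by decide) bQ' oβ ht it e)
  have ww : w * w = 1 := by
    obtain ⟨q, hq, eq⟩ := iw 0 4 (by decide)
    have e1 : w * w = q * q := by
      have hqT := k.mem_of wT eq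
      have e0 : w = q * (q⁻¹ * w) := by group
      calc w * w = q * (q⁻¹ * w) * (q * (q⁻¹ * w)) := by rw [← e0]
        _ = q * ((q⁻¹ * w) * q) * (q⁻¹ * w) := by simp only [mul_assoc]
        _ = q * (q * (q⁻¹ * w)) * (q⁻¹ * w) := by rw [← k.comm_Dl hqT eq]
        _ = q * q * ((q⁻¹ * w) * (q⁻¹ * w)) := by simp only [mul_assoc]
        _ = q * q := by rw [k.ys.dl_sq eq, mul_one]
    rcases k.sq 0 1 2 3 (by decide) w wQ with e2 | e2
    · exact e2
    · rcases k.sq 2 3 0 4 (by decide) q hq with e3 | e3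
      · rw [e1, e3]
      · exfalso
        rw [e1, e3, ← k.zcomm (a := 0) (b := 1) (c := 2) (d := 3) (by decide)] at e2
        exact k.z_ne (a := 2) (b := 3) (c := 0) (d := 1) (e := 4) (by decide) e2.symm
  have bw := tat_comm bb hw.symm ww
  have αD := k.E_Dl k.αE
  have βD := k.E_Dl k.βE
  have uD := k.E_Dl huE
  have hζ0 : ∀ ζ, (ζ = 1 ∨ ζ = y 0 1 * y 2 3) → ζ ∈ Dl y := by
    rintro ζ (rfl | rfl)
    · exact one_mem _
    · exact k.E_Dl zE
  have g01 := k.g01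
  have hex1 := k.ex 3 4 0 1 (by decide)
  have hex2 := k.ex 1 4 0 2 (by decide)
  have gαE := k.gQ _ (k.EQ k.αE)
  -- names
  have hb01 : ph y 10 * y 0 1 = y 0 1 * ph y 10 :=
    k.ys.dl_comm (k.ys.ph_mem (by decide)) (y_mem (by decide))
  have hvα : ph y 10 * α = α * ph y 10 := k.ys.dl_comm (k.ys.ph_mem (by decide)) αD
  have hvβ : ph y 10 * β = β * ph y 10 := k.ys.dl_comm (k.ys.ph_mem (by decide)) βD
  have va : g * ph y 10 * g⁻¹ * (g * α * g⁻¹) = g * α * g⁻¹ * (g * ph y 10 * g⁻¹) := by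
    have e : g * ph y 10 * g⁻¹ * (g * α * g⁻¹) = g * (ph y 10 * α) * g⁻¹ := by group
    have e' : g * α * g⁻¹ * (g * ph y 10 * g⁻¹) = g * (α * ph y 10) * g⁻¹ := by group
    rw [e, e', hvα]
  have vb : g * ph y 10 * g⁻¹ * (g * β * g⁻¹) = g * β * g⁻¹ * (g * ph y 10 * g⁻¹) := by
    have e : g * ph y 10 * g⁻¹ * (g * β * g⁻¹) = g * (ph y 10 * β) * g⁻¹ := by group
    have e' : g * β * g⁻¹ * (g * ph y 10 * g⁻¹) = g * (β * ph y 10) * g⁻¹ := by group
    rw [e, e', hvβ]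
  have vy : g * ph y 10 * g⁻¹ * y 0 1 = y 0 1 * (g * ph y 10 * g⁻¹) := by
    have c1 : Commute g (y 0 1) := g01
    have c2 : Commute (ph y 10) (y 0 1) := hb01
    exact ((c1.mul_left c2).mul_left c1.inv_left).eq
  have vz : g * ph y 10 * g⁻¹ * (y 0 1 * y 2 3) = y 0 1 * y 2 3 * (g * ph y 10 * g⁻¹) := by
    have c1 : Commute g (y 0 1 * y 2 3) := zg
    have c2 : Commute (ph y 10) (y 0 1 * y 2 3) :=
      k.ys.dl_comm (k.ys.ph_mem (by decide)) (k.E_Dl zE)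
    exact ((c1.mul_left c2).mul_left c1.inv_left).eq
  have hua : (g * u * g⁻¹ = g * β * g⁻¹ ∨ g * u * g⁻¹ = y 0 1 * y 2 3 * (g * β * g⁻¹)) ∨
      (g * u * g⁻¹ = g * α * g⁻¹ * (g * β * g⁻¹) ∨
        g * u * g⁻¹ = y 0 1 * y 2 3 * (g * α * g⁻¹ * (g * β * g⁻¹))) := by
    have gz : ∀ x, g * (y 0 1 * y 2 3 * x) * g⁻¹ = y 0 1 * y 2 3 * (g * x * g⁻¹) := by
      intro x
      rw [← mul_assoc g, zg]; simp only [mul_assoc]
    have gab : g * (α * β) * g⁻¹ = g * α * g⁻¹ * (g * β * g⁻¹) := by group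
    rcases hu' with (e | e) | (e | e)
    · exact Or.inl (Or.inl (by rw [e]))
    · exact Or.inl (Or.inr (by rw [e, gz]))
    · exact Or.inr (Or.inl (by rw [e, gab]))
    · exact Or.inr (Or.inr (by rw [e, gz, gab]))
  generalize hA : g * α * g⁻¹ = a at *
  generalize hB : g * β * g⁻¹ = b at *
  generalize hV : g * ph y 10 * g⁻¹ = v at *
  generalize hS : ph y c = s at *
  have sw : s * w = w * s := (k.comm_Dl wT sD).symm
  -- `a w = z w a`
  have aw : a * w = y 0 1 * y 2 3 * (w * a) := by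
    have h1 : (a * s) * (b * w) = (b * w) * (a * s) := by
      rw [← ta, ← tb]
      have e1 : t * a * t⁻¹ * (t * b * t⁻¹) = t * (a * b) * t⁻¹ := by group
      have e2 : t * b * t⁻¹ * (t * a * t⁻¹) = t * (b * a) * t⁻¹ := by group
      rw [e1, e2, ab]
    -- `s b = z b s`
    have sb : s * b = y 0 1 * y 2 3 * (b * s) := by
      rw [bs, ← mul_assoc, zz, one_mul]
    have h2 : (a * s) * (b * w) = (b * (y 0 1 * y 2 3) * a * w) * s := by
      calc (a * s) * (b * w) = a * (s * b) * w := by simp only [mul_assoc]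
        _ = (a * (y 0 1 * y 2 3)) * b * (s * w) := by rw [sb]; simp only [mul_assoc]
        _ = y 0 1 * y 2 3 * (a * b) * (w * s) := by rw [zQ aQ, sw]; simp only [mul_assoc]
        _ = (y 0 1 * y 2 3 * b) * a * (w * s) := by rw [ab]; simp only [mul_assoc]
        _ = (b * (y 0 1 * y 2 3) * a * w) * s := by rw [← zQ bQ]; simp only [mul_assoc]
    have h3 : (b * w) * (a * s) = b * (w * a) * s := by simp only [mul_assoc]
    rw [h2, h3] at h1
    have h4 := mul_right_cancel h1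
    have h5 : b * ((y 0 1 * y 2 3) * (a * w)) = b * (w * a) := by
      rw [← h4]; simp only [mul_assoc]
    have h6 := mul_left_cancel h5
    rw [← h6, ← mul_assoc, zz, one_mul]
  -- `[v', s]`, `[v', w]`
  obtain ⟨ζ, hζ, e1⟩ := hV3 (γ := α) (δ := β) k.βE k.cov sQ (by rw [hA]; exact sa) (by rw [hB]; exact bs)
  obtain ⟨ζ', hζ', e2⟩ := hV3 (γ := β) (δ := α) k.αE k.cov' wQ (by rw [hB]; exact bw) (by rw [hA]; exact aw)
  rw [hA] at e1
  rw [hB] at e2
  have zetac : ∀ ζ, (ζ = 1 ∨ ζ = y 0 1 * y 2 3) → ∀ q ∈ Qs (y 0 1 * y 2 3), q * ζ = ζ * q := by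
    rintro ζ (rfl | rfl) q hq
    · simp
    · exact zQ hq
  have hah : v * t * a * (v * t)⁻¹ = ζ * s := by
    calc v * t * a * (v * t)⁻¹ = v * (t * a * t⁻¹) * v⁻¹ := by group
      _ = v * a * v⁻¹ * (v * s * v⁻¹) := by rw [ta]; group
      _ = a * (ζ * (a * s)) := by rw [va, e1]; group
      _ = (a * ζ) * (a * s) := by simp only [mul_assoc]
      _ = ζ * (a * a) * s := by rw [zetac ζ hζ a aQ]; simp only [mul_assoc]
      _ = ζ * s := by rw [aa, mul_one]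
  have hbh : v * t * b * (v * t)⁻¹ = ζ' * w := by
    calc v * t * b * (v * t)⁻¹ = v * (t * b * t⁻¹) * v⁻¹ := by group
      _ = v * b * v⁻¹ * (v * w * v⁻¹) := by rw [tb]; group
      _ = b * (ζ' * (b * w)) := by rw [vb, e2]; group
      _ = (b * ζ') * (b * w) := by simp only [mul_assoc]
      _ = ζ' * (b * b) * w := by rw [zetac ζ' hζ' b bQ]; simp only [mul_assoc]
      _ = ζ' * w := by rw [bb, mul_one]
  have hzh : ∀ x, v * t * (y 0 1 * y 2 3 * x) * (v * t)⁻¹ = y 0 1 * y 2 3 * (v * t * x * (v * t)⁻¹) := by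
    intro x
    have h1 : v * t * (y 0 1 * y 2 3) = y 0 1 * y 2 3 * (v * t) := by
      rw [mul_assoc v, zT ht, ← mul_assoc v, vz, mul_assoc]
    rw [← mul_assoc (v * t), h1]; simp only [mul_assoc]
  -- `(v' t g) u (v' t g)⁻¹ ∈ Δ w`
  have hd : ∃ δ ∈ Dl y, v * t * (g * u * g⁻¹) * (v * t)⁻¹ = δ * w := by
    have hzD := k.E_Dl (zE (y := y))
    have hab : v * t * (a * b) * (v * t)⁻¹ = ζ * s * ζ' * w := by
      have : v * t * (a * b) * (v * t)⁻¹ = v * t * a * (v * t)⁻¹ * (v * t * b * (v * t)⁻¹) := by group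
      rw [this, hah, hbh]; simp only [mul_assoc]
    rcases hua with (e | e) | (e | e)
    · exact ⟨ζ', hζ0 _ hζ', by rw [e, hbh]⟩
    · exact ⟨y 0 1 * y 2 3 * ζ', mul_mem hzD (hζ0 _ hζ'), by rw [e, hzh, hbh, ← mul_assoc]⟩
    · exact ⟨ζ * s * ζ', mul_mem (mul_mem (hζ0 _ hζ) sD) (hζ0 _ hζ'), by rw [e, hab]⟩
    · exact ⟨y 0 1 * y 2 3 * (ζ * s * ζ'), mul_mem hzD (mul_mem (mul_mem (hζ0 _ hζ) sD) (hζ0 _ hζ')), by
        rw [e, hzh, hab, ← mul_assoc]⟩
  obtain ⟨δ, hδ, ed⟩ := hd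
  obtain ⟨t1, ht1, et1⟩ := k.pair wT iw nw
  have y01D : y 0 1 ∈ Dl y := y_mem (by decide)
  -- `m u m⁻¹ = y01 u`
  have hdy : v * t * g * y 0 1 = y 0 1 * (v * t * g) := by
    have c1 : Commute v (y 0 1) := vy
    have c2 : Commute t (y 0 1) := k.comm_Dl ht y01D
    have c3 : Commute g (y 0 1) := g01
    exact ((c1.mul_left c2).mul_left c3).eq
  have hm : (v * t * g)⁻¹ * t1 * (v * t * g) * u * ((v * t * g)⁻¹ * t1 * (v * t * g))⁻¹ = y 0 1 * u := by
    have f1 : (v * t * g)⁻¹ * t1 * (v * t * g) * u * ((v * t * g)⁻¹ * t1 * (v * t * g))⁻¹ =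
        (v * t * g)⁻¹ * (t1 * (v * t * (g * u * g⁻¹) * (v * t)⁻¹) * t1⁻¹) * (v * t * g) := by group
    have f2 : t1 * (δ * w) * t1⁻¹ = y 0 1 * (δ * w) := by
      calc t1 * (δ * w) * t1⁻¹ = (t1 * δ) * w * t1⁻¹ := by simp only [mul_assoc]
        _ = δ * (t1 * w * t1⁻¹ * w⁻¹) * w := by rw [k.comm_Dl ht1 hδ]; group
        _ = y 0 1 * (δ * w) := by rw [et1, k.ys.dl_comm hδ y01D, mul_assoc]
    rw [f1, ed, f2, ← ed]
    have f3 : (v * t * g)⁻¹ * (y 0 1 * (v * t * (g * u * g⁻¹) * (v * t)⁻¹)) * (v * t * g) =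
        (v * t * g)⁻¹ * (y 0 1 * (v * t * g)) * u := by group
    rw [f3, ← hdy]; group
  -- `y01 u` is one of the `y_e`, `u` is conjugate to `z`
  have hlast : ∀ (p q : Fin 5) (x : G), p ≠ q → y 0 1 * u = y p q → x * (y 0 1 * y 2 3) * x⁻¹ = u → False := by
    intro p q x hpq f1 f2
    rw [f1, ← f2] at hm
    refine k.ly p q hpq (((v * t * g)⁻¹ * t1 * (v * t * g) * x)⁻¹) ?_
    rw [← hm]; group
  rcases hu with rfl | rfl
  · obtain ⟨x, hx, ox⟩ := hex1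
    refine hlast 2 4 x (by decide) ?_ ?_
    · rw [← mul_assoc, k.ys.sq 0 1 (by decide), one_mul]
    · rw [Five.zconj ox (by decide)]
      have e1 : swap (3 : Fin 5) 4 0 = 0 := by decide
      have e2 : swap (3 : Fin 5) 4 1 = 1 := by decide
      have e3 : swap (3 : Fin 5) 4 2 = 2 := by decide
      have e4 : swap (3 : Fin 5) 4 3 = 4 := by decide
      rw [e1, e2, e3, e4]
  · obtain ⟨x, hx, ox⟩ := hex2
    refine hlast 1 4 x (by decide) ?_ ?_
    · rw [← k.ys.yt (a := 0) (b := 1) (by decide), ← k.ys.yt (a := 2) (b := 3) (by decide),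
        ← k.ys.yt (a := 0) (b := 4) (by decide), ← k.ys.yt (a := 1) (b := 4) (by decide),
        k.ys.mul, k.ys.mul]
      rfl
    · rw [Five.zconj ox (by decide)]
      have e1 : swap (1 : Fin 5) 4 0 = 0 := by decide
      have e2 : swap (1 : Fin 5) 4 1 = 4 := by decide
      have e3 : swap (1 : Fin 5) 4 2 = 2 := by decide
      have e4 : swap (1 : Fin 5) 4 3 = 3 := by decide
      rw [e1, e2, e3, e4, k.ys.comm 0 4 2 3 (by decide) (by decide)]

/-- **(5)**: `T₀ = Δ`. -/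
theorem T0_eq : T0 = Dl y := le_antisymm k.T0_le_aux k.Dl_le

end FiveE

end Cfsg.Agent.Omega.NOne.AG.FiveGrp
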