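import Mathlib.GroupTheory.Sylow
import Mathlib.GroupTheory.Nilpotent
import Mathlib.GroupTheory.PGroup

/-!
# LEMMA Y of THEOREM D0ag ((4) of #15001, helper313); typed by helper950

`S` Sylow 2-subgroup of `G`, `Ω₁ Z(S) = ⟨z⟩`, `y` an involution with `C_S(y)` of index 2 in `S`,
`S ≤ C ≤ C_G(z)`, `QF = O₂(C_C(y))`, `Qs ≤ O₂(C_G(z))` nonabelian, `C_QF(Qs) = ⟨z, y⟩`, `[Qs, QF] ≤ ⟨z⟩`.
Then `y` is not conjugate to `z`.
-/

set_option autoImplicit false

namespace Cfsg.Agent.Omega.NOne.AG.LemY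

open Subgroup

variable {G : Type*} [Group G] [Finite G]

/-- Normalizers grow. -/
theorem exists_normalizes {R T : Subgroup G} (hR : IsPGroup 2 R) (hT : T ≤ R) (hne : T ≠ R) :
    ∃ r ∈ R, r ∉ T ∧ ∀ t, t ∈ T ↔ r * t * r⁻¹ ∈ T := by
  haveI : Fact (Nat.Prime 2) := ⟨Nat.prime_two⟩
  haveI : Group.IsNilpotent R := hR.isNilpotent
  have h1 : T.subgroupOf R < ⊤ := by
    rw [lt_top_iff_ne_top]
    intro h
    rw [Subgroup.subgroupOf_eq_top] at h
    exact hne (le_antisymm hT h)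
  have h2 := Group.normalizerCondition_of_isNilpotent (G := R) _ h1
  obtain ⟨r, hr, hrT⟩ := SetLike.exists_of_lt h2
  refine ⟨r, r.2, fun h => hrT (Subgroup.mem_subgroupOf.2 h), fun t => ?_⟩
  constructor
  · intro ht
    have h3 := (Subgroup.mem_normalizer_iff.1 hr ⟨t, hT ht⟩).1 (Subgroup.mem_subgroupOf.2 ht)
    exact Subgroup.mem_subgroupOf.1 h3
  · intro ht
    have h4 : r * t * (r : G)⁻¹ ∈ R := hT ht
    have h5 : t ∈ R := by
      have : t = (r : G)⁻¹ * (r * t * (r : G)⁻¹) * r := by group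
      rw [this]
      exact R.mul_mem (R.mul_mem (R.inv_mem r.2) h4) r.2
    have h3 := (Subgroup.mem_normalizer_iff.1 hr ⟨t, h5⟩).2 (Subgroup.mem_subgroupOf.2 ht)
    exact Subgroup.mem_subgroupOf.1 h3

/-- a Sylow subgroup has only one central involution: no 2-subgroup of order at least `|S|` centralises `y`, `z`. -/
theorem card_lt (S : Sylow 2 G) {z y : G} (hz1 : z ≠ 1) (hz2 : z * z = 1) (hy1 : y ≠ 1) (hy2 : y * y = 1)
    (hyz : y ≠ z) (hZ : ∀ u ∈ (S : Subgroup G), u * u = 1 → (∀ s ∈ (S : Subgroup G), s * u = u * s) → u = 1 ∨ u = z)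
    {R : Subgroup G} (hR : IsPGroup 2 R) (hRy : y ∈ R) (hRz : z ∈ R) (hcy : ∀ r ∈ R, r * y = y * r)
    (hcz : ∀ r ∈ R, r * z = z * r) : Nat.card R < Nat.card S := by
  haveI : Fact (Nat.Prime 2) := ⟨Nat.prime_two⟩
  obtain ⟨P, hP⟩ := hR.exists_le_sylow
  have hcS : Nat.card P = Nat.card S := (Sylow.card_eq_multiplicity P).trans (Sylow.card_eq_multiplicity S).symm
  have hle : Nat.card R ≤ Nat.card P := Subgroup.card_le_of_le hP
  rw [hcS] at hle
  refine lt_of_le_of_ne hle fun h => ?_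
  have hRP : R = (P : Subgroup G) := Subgroup.eq_of_le_of_card_ge hP (by rw [h]; exact hcS.le)
  obtain ⟨g, hg⟩ := MulAction.exists_smul_eq G P S
  have key : ∀ u ∈ R, g * u * g⁻¹ ∈ (S : Subgroup G) := by
    intro u hu
    rw [← hg, Sylow.coe_subgroup_smul, Subgroup.mem_pointwise_smul_iff_inv_smul_mem, ← hRP]
    simpa [MulAut.smul_def, mul_assoc] using hu
  have hcen : ∀ u ∈ R, (∀ r ∈ R, r * u = u * r) → ∀ s ∈ (S : Subgroup G), s * (g * u * g⁻¹) = g * u * g⁻¹ * s := by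
    intro u _ hu s hs
    have h1 : g⁻¹ * s * g ∈ R := by
      rw [hRP]
      have h2 : s ∈ ((g • P : Sylow 2 G) : Subgroup G) := by rw [hg]; exact hs
      rw [Sylow.coe_subgroup_smul, Subgroup.mem_pointwise_smul_iff_inv_smul_mem] at h2
      simpa [MulAut.smul_def, mul_assoc] using h2
    have h3 := hu _ h1
    calc s * (g * u * g⁻¹) = g * ((g⁻¹ * s * g) * u) * g⁻¹ := by group
      _ = g * (u * (g⁻¹ * s * g)) * g⁻¹ := by rw [h3]
      _ = g * u * g⁻¹ * s := by group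
  have hinj : ∀ u v : G, g * u * g⁻¹ = v → u = g⁻¹ * v * g := by
    intro u v h; rw [← h]; group
  have hc1 : g * y * g⁻¹ = 1 ∨ g * y * g⁻¹ = z := hZ _ (key y hRy)
    (by rw [show g * y * g⁻¹ * (g * y * g⁻¹) = g * (y * y) * g⁻¹ by group, hy2]; group) (hcen y hRy hcy)
  have hc2 : g * z * g⁻¹ = 1 ∨ g * z * g⁻¹ = z := hZ _ (key z hRz)
    (by rw [show g * z * g⁻¹ * (g * z * g⁻¹) = g * (z * z) * g⁻¹ by group, hz2]; group) (hcen z hRz hcz)
  rcases hc1 with h1 | h1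
  · exact hy1 (by rw [hinj _ _ h1]; group)
  · rcases hc2 with h2 | h2
    · exact hz1 (by rw [hinj _ _ h2]; group)
    · exact hyz ((hinj _ _ h1).trans (hinj _ _ h2).symm)

theorem lemmaY (S : Sylow 2 G) {z y : G} (hz1 : z ≠ 1) (hz2 : z * z = 1) (hy1 : y ≠ 1) (hy2 : y * y = 1)
    (hyz : y ≠ z) (hZ : ∀ u ∈ (S : Subgroup G), u * u = 1 → (∀ s ∈ (S : Subgroup G), s * u = u * s) → u = 1 ∨ u = z)
    {C QF Qs Q : Subgroup G} (hSC : (S : Subgroup G) ≤ C) (hCz : ∀ c ∈ C, c * z = z * c)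
    (hQFS : QF ≤ S) (hQsF : Qs ≤ QF) (hzF : z ∈ QF) (hyF : y ∈ QF) (hQFy : ∀ x ∈ QF, x * y = y * x)
    (hO2 : ∀ N : Subgroup G, N ≤ C → (∀ n ∈ N, n * y = y * n) → IsPGroup 2 N →
      (∀ c ∈ C, c * y = y * c → ∀ n ∈ N, c * n * c⁻¹ ∈ N) → N ≤ QF)
    (hself : ∀ u ∈ (S : Subgroup G), (∀ x ∈ QF, x * u = u * x) → u ∈ QF)
    (hcen : ∀ x ∈ QF, (∀ q ∈ Qs, q * x = x * q) → x = 1 ∨ x = z ∨ x = y ∨ x = y * z)
    (hcm : ∀ q ∈ Qs, ∀ x ∈ QF, q * x = x * q ∨ q * x = z * (x * q))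
    (hQp : IsPGroup 2 Q) (hQn : ∀ c, c * z = z * c → ∀ q ∈ Q, c * q * c⁻¹ ∈ Q) (hQs : Qs ≤ Q)
    (hna : ∃ a ∈ Qs, ∃ b ∈ Qs, a * b ≠ b * a) {s : G} (hs : s ∈ (S : Subgroup G)) (hsy : s * y * s⁻¹ = y * z)
    (hind : ∀ a ∈ (S : Subgroup G), a * y = y * a ∨ (s * a) * y = y * (s * a)) : ¬ IsConj y z := by
  classical
  intro hconj
  haveI : Fact (Nat.Prime 2) := ⟨Nat.prime_two⟩
  have hzi : z⁻¹ = z := inv_eq_of_mul_eq_one_right hz2
  have hyi : y⁻¹ = y := inv_eq_of_mul_eq_one_right hy2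
  have hyzc : y * z = z * y := (hQFy z hzF).symm
  -- `S₂ = C_S(y)`
  set S₂ : Subgroup G := (S : Subgroup G) ⊓ centralizer {y} with hS₂
  have hmS₂ : ∀ u, u ∈ S₂ ↔ u ∈ (S : Subgroup G) ∧ u * y = y * u := by
    intro u
    rw [hS₂, Subgroup.mem_inf, Subgroup.mem_centralizer_singleton_iff]
  have hQF₂ : QF ≤ S₂ := fun x hx => (hmS₂ x).2 ⟨hQFS hx, hQFy x hx⟩
  have hS₂S : S₂ ≤ (S : Subgroup G) := inf_le_left
  have hsz : s * z = z * s := hCz s (hSC hs)
  -- `2 |S₂| = |S|`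
  have hcard : Nat.card S ≤ 2 * Nat.card S₂ := by
    have h1 : (S₂.subgroupOf (S : Subgroup G)).index ≤ 2 := by
      rw [Subgroup.index]
      have : ∀ q : (S : Subgroup G) ⧸ S₂.subgroupOf (S : Subgroup G), q = QuotientGroup.mk 1 ∨
          q = QuotientGroup.mk (⟨s, hs⟩ : (S : Subgroup G))⁻¹ := by
        intro q
        obtain ⟨a, rfl⟩ := QuotientGroup.mk_surjective q
        rcases hind a a.2 with h | h
        · left
          rw [QuotientGroup.eq, mul_one]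
          rw [Subgroup.mem_subgroupOf]
          have h2 : (a : G) ∈ S₂ := (hmS₂ _).2 ⟨a.2, h⟩
          exact S₂.inv_mem h2
        · right
          rw [QuotientGroup.eq, Subgroup.mem_subgroupOf]
          have h2 : s * (a : G) ∈ S₂ := (hmS₂ _).2 ⟨(S : Subgroup G).mul_mem hs a.2, h⟩
          have h3 := S₂.inv_mem h2
          show (a : G)⁻¹ * s⁻¹ ∈ S₂
          rwa [mul_inv_rev] at h3
      have h2 : Set.univ ⊆ ({QuotientGroup.mk 1, QuotientGroup.mk (⟨s, hs⟩ : (S : Subgroup G))⁻¹} :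
          Set ((S : Subgroup G) ⧸ S₂.subgroupOf (S : Subgroup G))) := fun q _ => this q
      have h3 := Set.ncard_le_ncard h2 (Set.toFinite _)
      rw [Set.ncard_univ] at h3
      exact h3.trans (Set.ncard_insert_le _ _ |>.trans (by rw [Set.ncard_singleton]))
    have h2 := Subgroup.card_mul_index (S₂.subgroupOf (S : Subgroup G))
    have h3 : Nat.card (S₂.subgroupOf (S : Subgroup G)) = Nat.card S₂ :=
      Nat.card_congr (Subgroup.subgroupOfEquivOfLe hS₂S).toEquiv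
    rw [h3] at h2
    calc Nat.card S = Nat.card S₂ * (S₂.subgroupOf (S : Subgroup G)).index := h2.symm
      _ ≤ Nat.card S₂ * 2 := Nat.mul_le_mul_left _ h1
      _ = _ := mul_comm _ _
  have hS₂p : IsPGroup 2 S₂ := S.isPGroup'.to_le hS₂S
  -- maximality of `S₂` among the 2-subgroups centralising `y`, `z`
  have hmax : ∀ R : Subgroup G, IsPGroup 2 R → S₂ ≤ R → (∀ r ∈ R, r * y = y * r) → (∀ r ∈ R, r * z = z * r) →
      R = S₂ := by
    intro R hR hSR hRy hRz
    have h1 := card_lt S hz1 hz2 hy1 hy2 hyz hZ hR (hSR (hQF₂ hyF)) (hSR (hQF₂ hzF)) hRy hRz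
    have h2 : Nat.card R < 2 * Nat.card S₂ := lt_of_lt_of_le h1 hcard
    obtain ⟨k, hk⟩ := Subgroup.card_dvd_of_le hSR
    have h3 : 0 < Nat.card R := Nat.card_pos
    have h4 : 0 < Nat.card S₂ := Nat.card_pos
    have h5 : k = 1 := by
      rcases k with _ | _ | k
      · rw [hk] at h3; omega
      · rfl
      · exfalso
        rw [hk] at h2
        have : Nat.card S₂ * 2 ≤ Nat.card S₂ * (k + 1 + 1) := Nat.mul_le_mul_left _ (by omega)
        omega
    rw [h5, mul_one] at hk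
    exact (Subgroup.eq_of_le_of_card_ge hSR hk.le).symm
  -- normal 2-subgroups of `C(y) ∩ C(z)` are in `QF`
  have hnorm : ∀ N : Subgroup G, IsPGroup 2 N → (∀ n ∈ N, n * y = y * n) → (∀ n ∈ N, n * z = z * n) →
      (∀ c, c * y = y * c → c * z = z * c → ∀ n ∈ N, c * n * c⁻¹ ∈ N) → N ≤ QF := by
    intro N hN hNy hNz hNn
    have h1 : S₂ ≤ normalizer (N : Set G) := by
      intro u hu
      have hu' := (hmS₂ u).1 hu
      rw [Subgroup.mem_normalizer_iff]
      intro n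
      constructor
      · exact hNn u hu'.2 (hCz u (hSC hu'.1)) n
      · intro h
        have hi1 : u⁻¹ * y = y * u⁻¹ := by
          rw [inv_mul_eq_iff_eq_mul, ← mul_assoc, hu'.2, mul_inv_cancel_right]
        have hi2 : u⁻¹ * z = z * u⁻¹ := by
          rw [inv_mul_eq_iff_eq_mul, ← mul_assoc, hCz u (hSC hu'.1), mul_inv_cancel_right]
        have h2 := hNn u⁻¹ hi1 hi2 _ h
        have h3 : u⁻¹ * (u * n * u⁻¹) * u⁻¹⁻¹ = n := by group
        rwa [h3] at h2
    have h2 : IsPGroup 2 ↥(N ⊔ S₂) := hN.to_sup_of_normal_left' hS₂p h1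
    have hsup : ∀ w : G, (∀ n ∈ N, n * w = w * n) → (∀ n ∈ S₂, n * w = w * n) → ∀ r ∈ N ⊔ S₂, r * w = w * r := by
      intro w hw1 hw2 r hr
      have h3 : N ⊔ S₂ ≤ centralizer {w} := sup_le
        (fun n hn => Subgroup.mem_centralizer_singleton_iff.2 (hw1 n hn))
        (fun n hn => Subgroup.mem_centralizer_singleton_iff.2 (hw2 n hn))
      exact Subgroup.mem_centralizer_singleton_iff.1 (h3 hr)
    have h3 := hmax (N ⊔ S₂) h2 le_sup_right (hsup y hNy (fun n hn => ((hmS₂ n).1 hn).2))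
      (hsup z hNz (fun n hn => hCz n (hSC ((hmS₂ n).1 hn).1)))
    have h4 : N ≤ S₂ := le_sup_left.trans h3.le
    exact hO2 N (fun n hn => hSC (hS₂S (h4 hn))) hNy hN (fun c hc hcy n hn => hNn c hcy (hCz c hc) n hn)
  -- the element `r`
  obtain ⟨g, hg⟩ := isConj_iff.1 hconj
  -- a Sylow group of `C(y)`
  obtain ⟨R, hR, hSR, hRy, hne⟩ : ∃ R : Subgroup G, IsPGroup 2 R ∧ S₂ ≤ R ∧ (∀ r ∈ R, r * y = y * r) ∧ S₂ ≠ R := by
    have hS₂C : S₂ ≤ centralizer {y} := inf_le_right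
    have h1 : IsPGroup 2 (S₂.subgroupOf (centralizer {y})) :=
      hS₂p.of_equiv (Subgroup.subgroupOfEquivOfLe hS₂C).symm
    obtain ⟨P, hP⟩ := h1.exists_le_sylow
    refine ⟨(P : Subgroup (centralizer {y})).map (centralizer {y}).subtype,
      P.isPGroup'.map _, ?_, ?_, ?_⟩
    · intro u hu
      exact ⟨⟨u, hS₂C hu⟩, hP (Subgroup.mem_subgroupOf.2 hu), rfl⟩
    · rintro _ ⟨u, -, rfl⟩
      exact Subgroup.mem_centralizer_singleton_iff.1 u.2
    · intro h
      -- the conjugate of `S` in `C(y)`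
      have hSc : IsPGroup 2 ((S : Subgroup G).map (MulAut.conj g⁻¹).toMonoidHom) := S.isPGroup'.map _
      have hSy : (S : Subgroup G).map (MulAut.conj g⁻¹).toMonoidHom ≤ centralizer {y} := by
        rintro _ ⟨u, hu, rfl⟩
        rw [Subgroup.mem_centralizer_singleton_iff]
        have h2 : y = g⁻¹ * z * g := by rw [← hg]; group
        have h3 : u * z = z * u := hCz u (hSC hu)
        show (g⁻¹ * u * g⁻¹⁻¹) * y = y * (g⁻¹ * u * g⁻¹⁻¹)
        rw [h2]
        calc g⁻¹ * u * g⁻¹⁻¹ * (g⁻¹ * z * g) = g⁻¹ * (u * z) * g := by group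
          _ = g⁻¹ * (z * u) * g := by rw [h3]
          _ = g⁻¹ * z * g * (g⁻¹ * u * g⁻¹⁻¹) := by group
      have hcS : Nat.card ↥((S : Subgroup G).map (MulAut.conj g⁻¹).toMonoidHom) = Nat.card S :=
        Subgroup.card_map_of_injective (MulAut.conj g⁻¹).injective
      have h3 : IsPGroup 2 (((S : Subgroup G).map (MulAut.conj g⁻¹).toMonoidHom).subgroupOf (centralizer {y})) :=
        hSc.of_equiv (Subgroup.subgroupOfEquivOfLe hSy).symm
      obtain ⟨P', hP'⟩ := h3.exists_le_sylow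
      have h4 : Nat.card P' = Nat.card P := (Sylow.card_eq_multiplicity P').trans (Sylow.card_eq_multiplicity P).symm
      have h5 : Nat.card S ≤ Nat.card P' := by
        rw [← hcS, ← Nat.card_congr (Subgroup.subgroupOfEquivOfLe hSy).toEquiv]
        exact Subgroup.card_le_of_le hP'
      have h6 : Nat.card ↥((P : Subgroup (centralizer {y})).map (centralizer {y}).subtype) = Nat.card P :=
        Subgroup.card_map_of_injective (Subgroup.subtype_injective _)
      rw [← h] at h6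
      have h7 : Nat.card S₂ < Nat.card S :=
        card_lt S hz1 hz2 hy1 hy2 hyz hZ hS₂p (hQF₂ hyF) (hQF₂ hzF) (fun r hr => ((hmS₂ r).1 hr).2)
          (fun r hr => hCz r (hSC ((hmS₂ r).1 hr).1))
      omega
  obtain ⟨r, hrR, hrS, hrn⟩ := exists_normalizes hR hSR hne
  have hry : r * y = y * r := hRy r hrR
  -- `r z r⁻¹` is one of `z`, `y`, `y z`
  have hrz : r * z * r⁻¹ = y * z := by
    have h1 : r * z * r⁻¹ ∈ S₂ := (hrn z).1 (hQF₂ hzF)
    have h2 : r * z * r⁻¹ * (r * z * r⁻¹) = 1 := by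
      rw [show r * z * r⁻¹ * (r * z * r⁻¹) = r * (z * z) * r⁻¹ by group, hz2]; group
    have h3 : ∀ u ∈ S₂, u * (r * z * r⁻¹) = (r * z * r⁻¹) * u := by
      intro u hu
      have h4 : r⁻¹ * u * r ∈ S₂ := by
        rw [hrn]
        have : r * (r⁻¹ * u * r) * r⁻¹ = u := by group
        rw [this]; exact hu
      have h5 := hCz _ (hSC (hS₂S h4))
      calc u * (r * z * r⁻¹) = r * ((r⁻¹ * u * r) * z) * r⁻¹ := by group
        _ = r * (z * (r⁻¹ * u * r)) * r⁻¹ := by rw [h5]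
        _ = (r * z * r⁻¹) * u := by group
    have h4 : r * z * r⁻¹ ∈ QF := hself _ (hS₂S h1) (fun x hx => h3 x (hQF₂ hx))
    rcases hcen _ h4 (fun q hq => h3 q (hQF₂ (hQsF hq))) with h | h | h | h
    · exfalso
      apply hz1
      have : z = r⁻¹ * (r * z * r⁻¹) * r := by group
      rw [this, h]; group
    · exfalso
      -- `r` centralises `y` and `z`
      have hrz : r * z = z * r := mul_inv_eq_iff_eq_mul.1 h
      have h5 : IsPGroup 2 ↥(R ⊓ centralizer {z}) := hR.to_le inf_le_left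
      have h6 := hmax (R ⊓ centralizer {z}) h5
        (le_inf hSR fun u hu => Subgroup.mem_centralizer_singleton_iff.2 (hCz u (hSC (hS₂S hu))))
        (fun a ha => hRy a ha.1) (fun a ha => Subgroup.mem_centralizer_singleton_iff.1 ha.2)
      apply hrS
      rw [← h6]
      exact ⟨hrR, Subgroup.mem_centralizer_singleton_iff.2 hrz⟩
    · exfalso
      apply hyz
      have h5 : z = r⁻¹ * (r * z * r⁻¹) * r := by group
      have h6 : y = r⁻¹ * y * r := by rw [mul_assoc, ← hry]; group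
      rw [h5, h, ← h6]
    · exact h
  -- `t = s r`: `z ↦ y`, `y ↦ y z`
  set t := s * r with ht
  have htz : t * z * t⁻¹ = y := by
    have : t * z * t⁻¹ = s * (r * z * r⁻¹) * s⁻¹ := by rw [ht]; group
    rw [this, hrz]
    have h1 : s * (y * z) * s⁻¹ = (s * y * s⁻¹) * (s * z * s⁻¹) := by group
    have h2 : s * z * s⁻¹ = z := by rw [hsz]; group
    rw [h1, hsy, h2, mul_assoc, hz2, mul_one]
  have hty : t * y * t⁻¹ = y * z := by
    have : t * y * t⁻¹ = s * (r * y * r⁻¹) * s⁻¹ := by rw [ht]; group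
    have h2 : r * y * r⁻¹ = y := by rw [hry]; group
    rw [this, h2, hsy]
  -- commuting with `y`, `z` is `t`-invariant
  have hct : ∀ c, c * y = y * c → c * z = z * c → (t⁻¹ * c * t) * y = y * (t⁻¹ * c * t) ∧
      (t⁻¹ * c * t) * z = z * (t⁻¹ * c * t) := by
    intro c hc1 hc2
    constructor
    · have h1 : t * y = y * z * t := by rw [← hty]; group
      have h2 : c * (y * z) = (y * z) * c := by rw [← mul_assoc, hc1, mul_assoc, hc2, mul_assoc]
      calc t⁻¹ * c * t * y = t⁻¹ * c * (t * y) := by group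
        _ = t⁻¹ * (c * (y * z)) * t := by rw [h1]; group
        _ = t⁻¹ * (y * z * t) * t⁻¹ * c * t := by rw [h2]; group
        _ = y * (t⁻¹ * c * t) := by rw [← h1]; group
    · have h1 : t * z = y * t := by rw [← htz]; group
      calc t⁻¹ * c * t * z = t⁻¹ * c * (t * z) := by group
        _ = t⁻¹ * (c * y) * t := by rw [h1]; group
        _ = t⁻¹ * (y * t) * t⁻¹ * c * t := by rw [hc1]; group
        _ = z * (t⁻¹ * c * t) := by rw [← h1]; group
  have hct' : ∀ c, c * y = y * c → c * z = z * c → (t * c * t⁻¹) * y = y * (t * c * t⁻¹) ∧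
      (t * c * t⁻¹) * z = z * (t * c * t⁻¹) := by
    intro c hc1 hc2
    have h0 : (t * c * t⁻¹) * y = y * (t * c * t⁻¹) := by
      have h1 : t⁻¹ * y = z * t⁻¹ := by rw [← htz]; group
      calc t * c * t⁻¹ * y = t * c * (t⁻¹ * y) := by group
        _ = t * (c * z) * t⁻¹ := by rw [h1]; group
        _ = t * (z * t⁻¹) * t * c * t⁻¹ := by rw [hc2]; group
        _ = y * (t * c * t⁻¹) := by rw [← h1]; group
    have h5 : (t * c * t⁻¹) * (y * z) = (y * z) * (t * c * t⁻¹) := by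
      have h1 : t⁻¹ * (y * z) = y * t⁻¹ := by rw [← hty]; group
      calc t * c * t⁻¹ * (y * z) = t * c * (t⁻¹ * (y * z)) := by group
        _ = t * (c * y) * t⁻¹ := by rw [h1]; group
        _ = t * (y * t⁻¹) * t * c * t⁻¹ := by rw [hc1]; group
        _ = y * z * (t * c * t⁻¹) := by rw [← h1]; group
    refine ⟨h0, ?_⟩
    have h6 : z = y * (y * z) := by rw [← mul_assoc, hy2, one_mul]
    calc (t * c * t⁻¹) * z = (t * c * t⁻¹) * y * (y * z) := by nth_rewrite 1 [h6]; group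
      _ = y * ((t * c * t⁻¹) * (y * z)) := by rw [h0]; group
      _ = y * (y * z) * (t * c * t⁻¹) := by rw [h5]; group
      _ = z * (t * c * t⁻¹) := by rw [← h6]
  -- `O = Q ⊓ C(y) ⊓ C(z)` and its conjugates
  have hsub : ∀ q ∈ Qs, (t * q * t⁻¹ ∈ QF) ∧ (t⁻¹ * q * t ∈ QF) := by
    set O : Subgroup G := Q ⊓ (centralizer {y} ⊓ centralizer {z}) with hO
    have hmO : ∀ u, u ∈ O ↔ u ∈ Q ∧ u * y = y * u ∧ u * z = z * u := by
      intro u
      rw [hO, Subgroup.mem_inf, Subgroup.mem_inf, Subgroup.mem_centralizer_singleton_iff,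
        Subgroup.mem_centralizer_singleton_iff]
    have hOn : ∀ c, c * y = y * c → c * z = z * c → ∀ n ∈ O, c * n * c⁻¹ ∈ O := by
      intro c hc1 hc2 n hn
      obtain ⟨hn1, hn2, hn3⟩ := (hmO n).1 hn
      refine (hmO _).2 ⟨hQn c hc2 n hn1, ?_, ?_⟩
      · calc c * n * c⁻¹ * y = c * n * c⁻¹ * y * (c * c⁻¹) := by group
          _ = c * n * c⁻¹ * (y * c) * c⁻¹ := by group
          _ = c * (n * y) * c⁻¹ := by rw [← hc1]; group
          _ = (c * y) * n * c⁻¹ := by rw [hn2]; group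
          _ = y * (c * n * c⁻¹) := by rw [hc1]; group
      · calc c * n * c⁻¹ * z = c * n * c⁻¹ * z * (c * c⁻¹) := by group
          _ = c * n * c⁻¹ * (z * c) * c⁻¹ := by group
          _ = c * (n * z) * c⁻¹ := by rw [← hc2]; group
          _ = (c * z) * n * c⁻¹ := by rw [hn3]; group
          _ = z * (c * n * c⁻¹) := by rw [hc2]; group
    have hOp : IsPGroup 2 O := hQp.to_le inf_le_left
    have hQsO : Qs ≤ O := by
      intro q hq
      exact (hmO q).2 ⟨hQs hq, hQFy q (hQsF hq), hCz q (hSC (hQFS (hQsF hq)))⟩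
    have conj1 : ∀ k : G, (∀ c, c * y = y * c → c * z = z * c →
        (k⁻¹ * c * k) * y = y * (k⁻¹ * c * k) ∧ (k⁻¹ * c * k) * z = z * (k⁻¹ * c * k)) →
        (∀ c, c * y = y * c → c * z = z * c →
        (k * c * k⁻¹) * y = y * (k * c * k⁻¹) ∧ (k * c * k⁻¹) * z = z * (k * c * k⁻¹)) →
        ∀ q ∈ Qs, k * q * k⁻¹ ∈ QF := by
      intro k hk hk' q hq
      have h1 : O.map (MulAut.conj k).toMonoidHom ≤ QF := by
        apply hnorm _ (hOp.map _)
        · rintro _ ⟨u, hu, rfl⟩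
          obtain ⟨-, hu2, hu3⟩ := (hmO u).1 hu
          exact (hk' u hu2 hu3).1
        · rintro _ ⟨u, hu, rfl⟩
          obtain ⟨-, hu2, hu3⟩ := (hmO u).1 hu
          exact (hk' u hu2 hu3).2
        · rintro c hc1 hc2 _ ⟨u, hu, rfl⟩
          refine ⟨(k⁻¹ * c * k) * u * (k⁻¹ * c * k)⁻¹, hOn _ (hk c hc1 hc2).1 (hk c hc1 hc2).2 u hu, ?_⟩
          show k * ((k⁻¹ * c * k) * u * (k⁻¹ * c * k)⁻¹) * k⁻¹ = c * (k * u * k⁻¹) * c⁻¹
          group
      exact h1 ⟨q, hQsO hq, rfl⟩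
    intro q hq
    refine ⟨conj1 t hct hct' q hq, ?_⟩
    have h1 := conj1 t⁻¹ (fun c h1 h2 => by simpa using hct' c h1 h2) (fun c h1 h2 => by simpa using hct c h1 h2) q hq
    rwa [inv_inv] at h1
  -- `[Qs, Qs^t] = 1`
  have hcomm : ∀ q ∈ Qs, ∀ q' ∈ Qs, q * (t * q' * t⁻¹) = (t * q' * t⁻¹) * q := by
    intro q hq q' hq'
    rcases hcm q hq _ (hsub q' hq').1 with h | h
    · exact h
    · exfalso
      rcases hcm q' hq' _ (hsub q hq).2 with h1 | h1
      · have h2 : (t * q' * t⁻¹) * q = q * (t * q' * t⁻¹) := by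
          calc (t * q' * t⁻¹) * q = t * (q' * (t⁻¹ * q * t)) * t⁻¹ := by group
            _ = t * ((t⁻¹ * q * t) * q') * t⁻¹ := by rw [h1]
            _ = q * (t * q' * t⁻¹) := by group
        rw [h2] at h
        have h3 : (1 : G) * (q * (t * q' * t⁻¹)) = z * (q * (t * q' * t⁻¹)) := by rw [one_mul]; exact h
        exact hz1 (mul_right_cancel h3).symm
      · have h2 : (t * q' * t⁻¹) * q = y * (q * (t * q' * t⁻¹)) := by
          calc (t * q' * t⁻¹) * q = t * (q' * (t⁻¹ * q * t)) * t⁻¹ := by group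
            _ = t * (z * ((t⁻¹ * q * t) * q')) * t⁻¹ := by rw [h1]
            _ = (t * z * t⁻¹) * (q * (t * q' * t⁻¹)) := by group
            _ = y * (q * (t * q' * t⁻¹)) := by rw [htz]
        rw [h2, ← mul_assoc z y] at h
        have h3 : (1 : G) * (q * (t * q' * t⁻¹)) = (z * y) * (q * (t * q' * t⁻¹)) := by rw [one_mul]; exact h
        have h4 := (mul_right_cancel h3).symm
        apply hyz
        have h5 : y = z⁻¹ := eq_inv_of_mul_eq_one_right h4
        rw [h5, hzi]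
  -- `Qs^t ≤ Y`
  have hab : ∀ q ∈ Qs, ∀ q' ∈ Qs, q * q' = q' * q := by
    intro q hq q' hq'
    have h1 := hcen _ (hsub q hq).1 (fun a ha => hcomm a ha q hq)
    have h2 := hcen _ (hsub q' hq').1 (fun a ha => hcomm a ha q' hq')
    have h3 : (t * q * t⁻¹) * (t * q' * t⁻¹) = (t * q' * t⁻¹) * (t * q * t⁻¹) := by
      have hyy : ∀ u, (u = 1 ∨ u = z ∨ u = y ∨ u = y * z) → u * y = y * u ∧ u * z = z * u := by
        rintro u (rfl | rfl | rfl | rfl)
        · exact ⟨by rw [one_mul, mul_one], by rw [one_mul, mul_one]⟩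
        · exact ⟨hyzc.symm, rfl⟩
        · exact ⟨rfl, hyzc⟩
        · exact ⟨by rw [mul_assoc, ← hyzc], by rw [hyzc, mul_assoc, hyzc]⟩
      obtain ⟨h4, h5⟩ := hyy _ h1
      rcases h2 with h | h | h | h
      · rw [h, one_mul, mul_one]
      · rw [h]; exact h5
      · rw [h]; exact h4
      · rw [h, ← mul_assoc, h4, mul_assoc, h5, ← mul_assoc]
    calc q * q' = t⁻¹ * ((t * q * t⁻¹) * (t * q' * t⁻¹)) * t := by group
      _ = t⁻¹ * ((t * q' * t⁻¹) * (t * q * t⁻¹)) * t := by rw [h3]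
      _ = q' * q := by group
  obtain ⟨a, ha, b, hb, hab'⟩ := hna
  exact hab' (hab a ha b hb)

end Cfsg.Agent.Omega.NOne.AG.LemY
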