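import Cfsg.Agent.Omega.Tools.LemmaJ

/-!
# The transfer step of THEOREM D0ag ((7) of #15001, helper313); typed by helper950

`K` of index 2 in the Sylow 2-subgroup `S`, `T ≤ S` weakly closed, `y` an involution of `Z(T)` all of whose
conjugates in `T` are outside `K`: a homomorphism `G → {± 1}` with `y ↦ -1`.
-/

set_option autoImplicit false

namespace Cfsg.Agent.Omega.NOne.AG.TransY

open Subgroup

variable {G : Type*} [Group G] [Finite G]

theorem exists_hom (S : Sylow 2 G) {T K : Subgroup G} (hTS : T ≤ S)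
    (hK : ∀ a ∈ (S : Subgroup G), ∀ b ∈ (S : Subgroup G), (a * b ∈ K ↔ (a ∈ K ↔ b ∈ K)))
    {y : G} (hyT : y ∈ T) (hy2 : y * y = 1) (hTy : ∀ t ∈ T, t * y = y * t)
    (hwc : ∀ g : G, (∀ t ∈ T, g * t * g⁻¹ ∈ (S : Subgroup G)) → ∀ t ∈ T, g * t * g⁻¹ ∈ T)
    (hnK : ∀ g : G, g * y * g⁻¹ ∈ T → g * y * g⁻¹ ∉ K) : ∃ f : G →* ℤˣ, f y = -1 := by
  classical
  haveI : Fact (Nat.Prime 2) := ⟨Nat.prime_two⟩
  let ϕ : (S : Subgroup G) →* ℤˣ := {
    toFun := fun s => if (s : G) ∈ K then 1 else -1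
    map_one' := by
      show (if ((1 : (S : Subgroup G)) : G) ∈ K then (1 : ℤˣ) else -1) = 1
      rw [if_pos (show ((1 : (S : Subgroup G)) : G) ∈ K from K.one_mem)]
    map_mul' := fun a b => by
      show (if ((a * b : (S : Subgroup G)) : G) ∈ K then (1 : ℤˣ) else -1) =
        (if (a : G) ∈ K then 1 else -1) * (if (b : G) ∈ K then 1 else -1)
      have h := hK a a.2 b b.2
      rw [Subgroup.coe_mul]
      by_cases ha : (a : G) ∈ K <;> by_cases hb : (b : G) ∈ K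
      · rw [if_pos (h.2 (iff_of_true ha hb)), if_pos ha, if_pos hb, one_mul]
      · rw [if_neg (fun hc => hb ((h.1 hc).1 ha)), if_pos ha, if_neg hb, one_mul]
      · rw [if_neg (fun hc => ha ((h.1 hc).2 hb)), if_neg ha, if_pos hb, mul_one]
      · rw [if_pos (h.2 (iff_of_false ha hb)), if_neg ha, if_neg hb]; rfl }
  refine ⟨MonoidHom.transfer ϕ, ?_⟩
  refine Tools.LemmaJ.transfer_eq ?_ ϕ hy2 T (S.2.to_le hTS) hTy hyT (-1) (by rfl) ?_
  · rw [Nat.odd_iff, ← Nat.not_even_iff, even_iff_two_dvd]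
    exact S.not_dvd_index
  · intro a ha h
    have h1 : ∀ t ∈ T, a⁻¹ * t * a⁻¹⁻¹ ∈ (S : Subgroup G) := fun t ht => by rw [inv_inv]; exact ha t ht
    have h2 := hwc a⁻¹ h1 y hyT
    have h3 := hnK a⁻¹ h2
    rw [inv_inv] at h3
    show (if (a⁻¹ * y * a) ∈ K then (1 : ℤˣ) else -1) = -1
    rw [if_neg h3]

end Cfsg.Agent.Omega.NOne.AG.TransY
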