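import Cfsg.Agent.Omega.NOne.AG.FiveMod
import Mathlib.Algebra.Group.Commute.Basic
import Mathlib.Data.Nat.Bitwise
import Mathlib.Tactic.Group

/-!
# THEOREM D0ag (#15001), section (5): the group `Δ = ⟨y_ab⟩` of order 32

`Ys y` : the ten commuting involutions `y a b` with `y_ab y_bc y_ac = y_de`.  `ph y w` (`w < 32`): the elements of
`Δ` by their coordinates (`y 0 1`, `y 1 2`, `y 2 3`, `y 3 4`, `y 0 4`); everything about `Δ` is decided there.
-/

set_option autoImplicit false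

namespace Cfsg.Agent.Omega.NOne.AG.FiveDl

open Equiv Subgroup
open Cfsg.Agent.Omega.NOne.AG.FiveMod

/-- The code of `y a b`. -/
def Yt (a b : Fin 5) : ℕ :=
  (![![0, 1, 11, 26, 16], ![1, 0, 2, 22, 21], ![11, 2, 0, 4, 13], ![26, 22, 4, 0, 8],
    ![16, 21, 13, 8, 0]] : Fin 5 → Fin 5 → ℕ) a b

/-- The action of a permutation on the codes. -/
def ac (σ : Perm (Fin 5)) (w : ℕ) : ℕ :=
  (bif w.testBit 0 then Yt (σ 0) (σ 1) else 0) ^^^ (bif w.testBit 1 then Yt (σ 1) (σ 2) else 0) ^^^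
  (bif w.testBit 2 then Yt (σ 2) (σ 3) else 0) ^^^ (bif w.testBit 3 then Yt (σ 3) (σ 4) else 0) ^^^
  (bif w.testBit 4 then Yt (σ 0) (σ 4) else 0)

variable {G : Type*} [Group G]

/-- Ten involutions `y a b` with the relations of `Δ`. -/
structure Ys (y : Fin 5 → Fin 5 → G) : Prop where
  sym : ∀ a b, y a b = y b a
  sq : ∀ a b, a ≠ b → y a b * y a b = 1
  comm : ∀ a b c d, a ≠ b → c ≠ d → y a b * y c d = y c d * y a b
  rel : ∀ a b c d e, D5 a b c d e → y a b * y b c * y a c = y d e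
  zne : ∀ a b c d, D4 a b c d → y a b * y c d ≠ 1

/-- `x` induces `σ` on the `y a b`. -/
def Ov (y : Fin 5 → Fin 5 → G) (x : G) (σ : Perm (Fin 5)) : Prop :=
  ∀ a b, a ≠ b → x * y a b * x⁻¹ = y (σ a) (σ b)

theorem Ov.mul {y : Fin 5 → Fin 5 → G} {x x' : G} {σ σ' : Perm (Fin 5)} (h : Ov y x σ) (h' : Ov y x' σ') :
    Ov y (x * x') (σ * σ') := by
  intro a b hab
  calc x * x' * y a b * (x * x')⁻¹ = x * (x' * y a b * x'⁻¹) * x⁻¹ := by group
    _ = y (σ (σ' a)) (σ (σ' b)) := by rw [h' a b hab, h _ _ (fun e => hab (σ'.injective e))]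

theorem Ov.inv {y : Fin 5 → Fin 5 → G} {x : G} {σ : Perm (Fin 5)} (h : Ov y x σ) : Ov y x⁻¹ σ⁻¹ := by
  intro a b hab
  have h1 := h (σ⁻¹ a) (σ⁻¹ b) (fun e => hab (σ⁻¹.injective e))
  have e1 : ∀ c, σ (σ⁻¹ c) = c := fun c => by simp
  rw [e1, e1] at h1
  rw [← h1]
  group

theorem Ov.one (y : Fin 5 → Fin 5 → G) : Ov y 1 1 := fun a b _ => by simp

/-- `g` or `1` -/
def pw (b : Bool) (g : G) : G := bif b then g else 1

theorem pw_mul (b b' : Bool) {g : G} (hg : g * g = 1) : pw b g * pw b' g = pw (b ^^ b') g := by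
  cases b <;> cases b' <;> simp [pw, hg]

theorem pw_comm (b b' : Bool) {g g' : G} (h : g * g' = g' * g) : Commute (pw b g) (pw b' g') := by
  cases b <;> cases b'
  · exact Commute.one_left _
  · exact Commute.one_left _
  · exact Commute.one_right _
  · exact h

/-- The element with the code `w`. -/
def ph (y : Fin 5 → Fin 5 → G) (w : ℕ) : G :=
  pw (w.testBit 0) (y 0 1) * pw (w.testBit 1) (y 1 2) * pw (w.testBit 2) (y 2 3) *
    pw (w.testBit 3) (y 3 4) * pw (w.testBit 4) (y 0 4)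

variable {y : Fin 5 → Fin 5 → G}

theorem ph_zero : ph y 0 = 1 := by simp [ph, pw]

theorem Ys.mul (h : Ys y) (w w' : ℕ) : ph y w * ph y w' = ph y (w ^^^ w') := by
  have c : ∀ a b c d (s t : Bool), a ≠ b → c ≠ d → Commute (pw s (y a b)) (pw t (y c d)) :=
    fun a b c d s t h1 h2 => pw_comm s t (h.comm a b c d h1 h2)
  unfold ph
  rw [Commute.mul_mul_mul_comm (b := pw (w.testBit 4) (y 0 4))
      (Commute.mul_right (Commute.mul_right (Commute.mul_right
        (c 0 4 0 1 _ _ (by decide) (by decide)) (c 0 4 1 2 _ _ (by decide) (by decide)))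
        (c 0 4 2 3 _ _ (by decide) (by decide))) (c 0 4 3 4 _ _ (by decide) (by decide))),
    Commute.mul_mul_mul_comm (b := pw (w.testBit 3) (y 3 4))
      (Commute.mul_right (Commute.mul_right
        (c 3 4 0 1 _ _ (by decide) (by decide)) (c 3 4 1 2 _ _ (by decide) (by decide)))
        (c 3 4 2 3 _ _ (by decide) (by decide))),
    Commute.mul_mul_mul_comm (b := pw (w.testBit 2) (y 2 3))
      (Commute.mul_right (c 2 3 0 1 _ _ (by decide) (by decide)) (c 2 3 1 2 _ _ (by decide) (by decide))),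
    Commute.mul_mul_mul_comm (b := pw (w.testBit 1) (y 1 2)) (c 1 2 0 1 _ _ (by decide) (by decide)),
    pw_mul _ _ (h.sq 0 1 (by decide)), pw_mul _ _ (h.sq 1 2 (by decide)),
    pw_mul _ _ (h.sq 2 3 (by decide)), pw_mul _ _ (h.sq 3 4 (by decide)),
    pw_mul _ _ (h.sq 0 4 (by decide))]
  simp only [Nat.testBit_xor]

theorem Ys.comm' (h : Ys y) (w w' : ℕ) : ph y w * ph y w' = ph y w' * ph y w := by
  rw [h.mul, h.mul, Nat.xor_comm]

theorem Ys.sq' (h : Ys y) (w : ℕ) : ph y w * ph y w = 1 := by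
  rw [h.mul, Nat.xor_self, ph_zero]

theorem Ys.inv' (h : Ys y) (w : ℕ) : (ph y w)⁻¹ = ph y w := inv_eq_of_mul_eq_one_left (h.sq' w)

/-- `y_ac` by the relation -/
theorem Ys.third (h : Ys y) {a b c d e : Fin 5} (hd : D5 a b c d e) :
    y a c = y a b * y b c * y d e := by
  obtain ⟨⟨h1, h2, h3, h4, h5, h6⟩, h7, h8, h9, h10⟩ := hd
  have e1 := h.rel a b c d e ⟨⟨h1, h2, h3, h4, h5, h6⟩, h7, h8, h9, h10⟩
  have s1 := h.sq a b h1
  have s2 := h.sq b c h4
  have c1 := h.comm a b b c h1 h4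
  rw [← e1]
  calc y a c = y a b * y a b * (y b c * y b c) * y a c := by rw [s1, s2]; simp
    _ = y a b * (y a b * y b c) * (y b c * y a c) := by simp only [mul_assoc]
    _ = y a b * (y b c * y a b) * (y b c * y a c) := by rw [c1]
    _ = y a b * y b c * (y a b * y b c * y a c) := by simp only [mul_assoc]

theorem Ys.yt (h : Ys y) {a b : Fin 5} (hab : a ≠ b) : ph y (Yt a b) = y a b := by
  have e02 : ph y 11 = y 0 2 := by
    rw [h.third (a := 0) (b := 1) (c := 2) (d := 3) (e := 4) (by decide)]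
    simp [ph, pw, Nat.testBit]
  have e13 : ph y 22 = y 1 3 := by
    rw [h.third (a := 1) (b := 2) (c := 3) (d := 0) (e := 4) (by decide)]
    simp [ph, pw, Nat.testBit]
  have e24 : ph y 13 = y 2 4 := by
    rw [h.third (a := 2) (b := 3) (c := 4) (d := 0) (e := 1) (by decide),
      mul_assoc, h.comm 3 4 0 1 (by decide) (by decide), ← mul_assoc,
      h.comm 2 3 0 1 (by decide) (by decide)]
    simp [ph, pw, Nat.testBit]
  have e03 : ph y 26 = y 0 3 := by
    rw [h.third (a := 0) (b := 4) (c := 3) (d := 1) (e := 2) (by decide), h.sym 4 3,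
      h.comm 0 4 3 4 (by decide) (by decide), mul_assoc,
      h.comm 0 4 1 2 (by decide) (by decide), ← mul_assoc,
      h.comm 3 4 1 2 (by decide) (by decide)]
    simp [ph, pw, Nat.testBit]
  have e14 : ph y 21 = y 1 4 := by
    rw [h.third (a := 1) (b := 0) (c := 4) (d := 2) (e := 3) (by decide), h.sym 1 0, mul_assoc,
      h.comm 0 4 2 3 (by decide) (by decide), ← mul_assoc]
    simp [ph, pw, Nat.testBit]
  have e01 : ph y 1 = y 0 1 := by simp [ph, pw, Nat.testBit]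
  have e12 : ph y 2 = y 1 2 := by simp [ph, pw, Nat.testBit]
  have e23 : ph y 4 = y 2 3 := by simp [ph, pw, Nat.testBit]
  have e34 : ph y 8 = y 3 4 := by simp [ph, pw, Nat.testBit]
  have e04 : ph y 16 = y 0 4 := by simp [ph, pw, Nat.testBit]
  fin_cases a <;> fin_cases b <;> first
    | exact absurd rfl hab
    | exact e01
    | exact e02
    | exact e03
    | exact e04
    | exact e12
    | exact e13
    | exact e14
    | exact e23
    | exact e24
    | exact e34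
    | exact e01.trans (h.sym _ _)
    | exact e02.trans (h.sym _ _)
    | exact e03.trans (h.sym _ _)
    | exact e04.trans (h.sym _ _)
    | exact e12.trans (h.sym _ _)
    | exact e13.trans (h.sym _ _)
    | exact e14.trans (h.sym _ _)
    | exact e23.trans (h.sym _ _)
    | exact e24.trans (h.sym _ _)
    | exact e34.trans (h.sym _ _)

theorem pw_conj (x g : G) (b : Bool) : x * pw b g * x⁻¹ = pw b (x * g * x⁻¹) := by
  cases b <;> simp [pw]

theorem Ys.pwYt (h : Ys y) {a b : Fin 5} (hab : a ≠ b) (s : Bool) :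
    pw s (y a b) = ph y (bif s then Yt a b else 0) := by
  cases s
  · simp [pw, ph_zero]
  · simp [pw, h.yt hab]

theorem Ys.conj (h : Ys y) {x : G} {σ : Perm (Fin 5)} (hx : Ov y x σ) (w : ℕ) :
    x * ph y w * x⁻¹ = ph y (ac σ w) := by
  have ne : ∀ {a b : Fin 5}, a ≠ b → σ a ≠ σ b := fun hab e => hab (σ.injective e)
  have e1 : x * ph y w * x⁻¹ = pw (w.testBit 0) (y (σ 0) (σ 1)) * pw (w.testBit 1) (y (σ 1) (σ 2)) *
      pw (w.testBit 2) (y (σ 2) (σ 3)) * pw (w.testBit 3) (y (σ 3) (σ 4)) *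
      pw (w.testBit 4) (y (σ 0) (σ 4)) := by
    rw [← hx 0 1 (by decide), ← hx 1 2 (by decide), ← hx 2 3 (by decide), ← hx 3 4 (by decide),
      ← hx 0 4 (by decide), ← pw_conj, ← pw_conj, ← pw_conj, ← pw_conj, ← pw_conj]
    unfold ph
    group
  rw [e1, h.pwYt (ne (by decide)), h.pwYt (ne (by decide)), h.pwYt (ne (by decide)),
    h.pwYt (ne (by decide)), h.pwYt (ne (by decide)), h.mul, h.mul, h.mul, h.mul]
  rfl

/-- parity of a code -/
def par (w : ℕ) : Bool :=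
  (w.testBit 0 ^^ w.testBit 1) ^^ (w.testBit 2 ^^ w.testBit 3) ^^ w.testBit 4

theorem even_cases : ∀ w < 32, w ≠ 0 → par w = false → ∃ a b c d, D4 a b c d ∧ w = Yt a b ^^^ Yt c d := by
  decide

theorem odd_cases : ∀ w < 32, par w = true → ∃ a b, a ≠ b ∧ w ^^^ ac (swap a b) w ≠ 0 ∧
    w ^^^ ac (swap a b) w < 32 ∧ par (w ^^^ ac (swap a b) w) = false := by
  decide

/-- `ph y` is injective on the codes. -/
theorem Ys.eq_zero (h : Ys y) (mv : ∀ a b, a ≠ b → ∃ x, Ov y x (swap a b)) {w : ℕ} (hw : w < 32)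
    (h1 : ph y w = 1) : w = 0 := by
  have ev : ∀ w < 32, par w = false → ph y w = 1 → w = 0 := by
    intro w hw hp h1
    by_contra hne
    obtain ⟨a, b, c, d, hd, rfl⟩ := even_cases w hw hne hp
    rw [← h.mul, h.yt hd.1, h.yt hd.2.2.2.2.2] at h1
    exact h.zne a b c d hd h1
  rcases Bool.eq_false_or_eq_true (par w) with hp | hp
  · exfalso
    obtain ⟨a, b, hab, h2, h3, h4⟩ := odd_cases w hw hp
    obtain ⟨x, hx⟩ := mv a b hab
    refine h2 (ev _ h3 h4 ?_)
    rw [← h.mul, ← h.conj hx, h1]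
    simp
  · exact ev w hw hp h1

theorem Ys.inj (h : Ys y) (mv : ∀ a b, a ≠ b → ∃ x, Ov y x (swap a b)) {w w' : ℕ} (hw : w < 32)
    (hw' : w' < 32) (e : ph y w = ph y w') : w = w' := by
  have h1 : ph y (w ^^^ w') = 1 := by rw [← h.mul, e, h.sq']
  have h2 : w ^^^ w' < 32 := Nat.xor_lt_two_pow (n := 5) hw hw'
  exact Nat.xor_eq_zero_iff.1 (h.eq_zero mv h2 h1)

/-- The group `Δ`. -/
def Dl (y : Fin 5 → Fin 5 → G) : Subgroup G := closure {g | ∃ a b, a ≠ b ∧ g = y a b}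

theorem y_mem {a b : Fin 5} (hab : a ≠ b) : y a b ∈ Dl y := subset_closure ⟨a, b, hab, rfl⟩

theorem Yt_lt : ∀ a b : Fin 5, Yt a b < 32 := by decide

theorem Ys.mem_iff (h : Ys y) {g : G} : g ∈ Dl y ↔ ∃ w < 32, ph y w = g := by
  constructor
  · intro hg
    induction hg using closure_induction with
    | mem x hx =>
      obtain ⟨a, b, hab, rfl⟩ := hx
      exact ⟨_, Yt_lt a b, h.yt hab⟩
    | one => exact ⟨0, by norm_num, ph_zero⟩
    | mul x x' _ _ hx hx' =>
      obtain ⟨w, hw, rfl⟩ := hx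
      obtain ⟨w', hw', rfl⟩ := hx'
      exact ⟨_, Nat.xor_lt_two_pow (n := 5) hw hw', (h.mul w w').symm⟩
    | inv x _ hx =>
      obtain ⟨w, hw, rfl⟩ := hx
      exact ⟨w, hw, (h.inv' w).symm⟩
  · rintro ⟨w, -, rfl⟩
    have key : ∀ a b (s : Bool), a ≠ b → pw s (y a b) ∈ Dl y := by
      intro a b s hab
      cases s
      · exact one_mem _
      · exact y_mem hab
    exact mul_mem (mul_mem (mul_mem (mul_mem (key 0 1 _ (by decide)) (key 1 2 _ (by decide)))
      (key 2 3 _ (by decide))) (key 3 4 _ (by decide))) (key 0 4 _ (by decide))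

theorem Ys.ph_mem (h : Ys y) {w : ℕ} (hw : w < 32) : ph y w ∈ Dl y := h.mem_iff.2 ⟨w, hw, rfl⟩

theorem Ys.dl_comm (h : Ys y) {g g' : G} (hg : g ∈ Dl y) (hg' : g' ∈ Dl y) : g * g' = g' * g := by
  obtain ⟨w, -, rfl⟩ := h.mem_iff.1 hg
  obtain ⟨w', -, rfl⟩ := h.mem_iff.1 hg'
  exact h.comm' w w'

theorem Ys.dl_sq (h : Ys y) {g : G} (hg : g ∈ Dl y) : g * g = 1 := by
  obtain ⟨w, -, rfl⟩ := h.mem_iff.1 hg
  exact h.sq' w

theorem dl_conj {x g : G} {σ : Perm (Fin 5)} (hx : Ov y x σ) (hg : g ∈ Dl y) :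
    x * g * x⁻¹ ∈ Dl y := by
  induction hg using closure_induction with
  | mem g hg =>
    obtain ⟨a, b, hab, rfl⟩ := hg
    rw [hx a b hab]
    exact y_mem (fun e => hab (σ.injective e))
  | one => simp
  | mul g g' _ _ h1 h2 =>
    have e : x * (g * g') * x⁻¹ = (x * g * x⁻¹) * (x * g' * x⁻¹) := by group
    rw [e]
    exact mul_mem h1 h2
  | inv g _ h1 =>
    have e : x * g⁻¹ * x⁻¹ = (x * g * x⁻¹)⁻¹ := by group
    rw [e]
    exact inv_mem h1

end Cfsg.Agent.Omega.NOne.AG.FiveDl
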