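import Cfsg.Agent.Omega.NOne.AG.LabRel
import Cfsg.Agent.Omega.NOne.AG.FiveDl

/-!
# THEOREM D0ag (bb #15001), type (α): the codes of the elements of `V`

`zt Z w` : the element of `V` with the (even) code `w`; `Alp.eq_zt : Z a b c d = zt Z (Yt a b ^^^ Yt c d)`;
`Alp.zt_mul`, `Alp.zt_inj`, `Alp.zt_conj` : `P` acts by `ac σ` on the codes.
-/

set_option autoImplicit false

namespace Cfsg.Agent.Omega.NOne.AG

open Subgroup Cfsg Cfsg.Agent.ZN
open Cfsg.Agent.Omega.NOne.AG.FiveDl (Ys ph ac par Yt pw pw_mul pw_comm)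

universe u

theorem Yt_symm : ∀ a b : Fin 5, Yt a b = Yt b a := by decide

theorem Yt_rel : ∀ a b c d m : Fin 5, D5 a b c d m → Yt a b ^^^ Yt a m = Yt c d ^^^ Yt b m := by
  decide +kernel

theorem ac_Yt5 : ∀ p0 p1 p2 p3 p4 : Fin 5, D5 p0 p1 p2 p3 p4 → ∀ a b : Fin 5, a ≠ b →
    (bif (Yt a b).testBit 0 then Yt p0 p1 else 0) ^^^ (bif (Yt a b).testBit 1 then Yt p1 p2 else 0) ^^^
    (bif (Yt a b).testBit 2 then Yt p2 p3 else 0) ^^^ (bif (Yt a b).testBit 3 then Yt p3 p4 else 0) ^^^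
    (bif (Yt a b).testBit 4 then Yt p0 p4 else 0) =
      Yt ((![p0, p1, p2, p3, p4] : Fin 5 → Fin 5) a) ((![p0, p1, p2, p3, p4] : Fin 5 → Fin 5) b) := by
  decide +kernel

theorem ac_Yt (σ : Equiv.Perm (Fin 5)) {a b : Fin 5} (hab : a ≠ b) :
    ac σ (Yt a b) = Yt (σ a) (σ b) := by
  have h5 : D5 (σ 0) (σ 1) (σ 2) (σ 3) (σ 4) := D5.map (show D5 0 1 2 3 4 by decide) σ
  have h1 := ac_Yt5 (σ 0) (σ 1) (σ 2) (σ 3) (σ 4) h5 a b hab
  have h2 : ∀ x : Fin 5, (![σ 0, σ 1, σ 2, σ 3, σ 4] : Fin 5 → Fin 5) x = σ x := by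
    intro x; fin_cases x <;> rfl
  rw [h2, h2] at h1
  exact h1

theorem bif_xor (s t : Bool) (n : ℕ) :
    (bif (s ^^ t) then n else 0) = (bif s then n else 0) ^^^ (bif t then n else 0) := by
  cases s <;> cases t <;> simp

theorem ac_xor (σ : Equiv.Perm (Fin 5)) (w w' : ℕ) : ac σ (w ^^^ w') = ac σ w ^^^ ac σ w' := by
  unfold ac
  simp only [Nat.testBit_xor, bif_xor]
  ac_rfl

variable {G : Type u} [Group G] {ι : Type*}

/-- The element of `V` with the even code `w`. -/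
def zt (Z : Fin 5 → Fin 5 → Fin 5 → Fin 5 → G) (w : ℕ) : G :=
  pw (w.testBit 0) (Z 0 1 2 3) * pw (w.testBit 1) (Z 1 3 0 4) * pw (w.testBit 3) (Z 0 1 2 4) *
    pw (w.testBit 4) (Z 2 3 0 4)

variable {P V : Subgroup G} {Z : Fin 5 → Fin 5 → Fin 5 → Fin 5 → G}

/-- the canonical labels -/
theorem canon {p : Fin 5 → Fin 5 → Fin 5 → Fin 5 → Prop}
    (h1 : ∀ a b c d, D4 a b c d → p a b c d → p b a c d)
    (h2 : ∀ a b c d, D4 a b c d → p a b c d → p c d a b)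
    (h01 : p 0 1 2 3) (h02 : p 0 1 2 4) (h03 : p 0 1 3 4) (h04 : p 0 2 1 3) (h05 : p 0 2 1 4)
    (h06 : p 0 2 3 4) (h07 : p 0 3 1 2) (h08 : p 0 3 1 4) (h09 : p 0 3 2 4) (h10 : p 0 4 1 2)
    (h11 : p 0 4 1 3) (h12 : p 0 4 2 3) (h13 : p 1 2 3 4) (h14 : p 1 3 2 4) (h15 : p 1 4 2 3) :
    ∀ a b c d, D4 a b c d → p a b c d := by
  have key : ∀ a b c d : Fin 5, D4 a b c d → a < b → c < d → a < c →
      (a, b, c, d) ∈ ([(0, 1, 2, 3), (0, 1, 2, 4), (0, 1, 3, 4), (0, 2, 1, 3), (0, 2, 1, 4), (0, 2, 3, 4),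
        (0, 3, 1, 2), (0, 3, 1, 4), (0, 3, 2, 4), (0, 4, 1, 2), (0, 4, 1, 3), (0, 4, 2, 3), (1, 2, 3, 4),
        (1, 3, 2, 4), (1, 4, 2, 3)] : List (Fin 5 × Fin 5 × Fin 5 × Fin 5)) := by decide +kernel
  have k1 : ∀ a b c d : Fin 5, D4 a b c d → a < b → c < d → a < c → p a b c d := by
    intro a b c d hD hab hcd hac
    have h := key a b c d hD hab hcd hac
    simp only [List.mem_cons, Prod.mk.injEq, List.not_mem_nil, or_false] at h
    rcases h with h | h | h | h | h | h | h | h | h | h | h | h | h | h | h <;>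
      obtain ⟨rfl, rfl, rfl, rfl⟩ := h <;> assumption
  have k2 : ∀ a b c d : Fin 5, D4 a b c d → a < b → c < d → p a b c d := by
    intro a b c d hD hab hcd
    rcases lt_or_gt_of_ne hD.2.1 with hac | hac
    · exact k1 a b c d hD hab hcd hac
    · have hD' : D4 c d a b := ⟨hD.2.2.2.2.2, hD.2.1.symm, hD.2.2.2.1.symm, hD.2.2.1.symm,
        hD.2.2.2.2.1.symm, hD.1⟩
      exact h2 c d a b hD' (k1 c d a b hD' hcd hab hac)
  have k3 : ∀ a b c d : Fin 5, D4 a b c d → c < d → p a b c d := by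
    intro a b c d hD hcd
    rcases lt_or_gt_of_ne hD.1 with hab | hab
    · exact k2 a b c d hD hab hcd
    · obtain ⟨e1, e2, e3, e4, e5, e6⟩ := hD
      exact h1 b a c d ⟨e1.symm, e4, e5, e2, e3, e6⟩ (k2 b a c d ⟨e1.symm, e4, e5, e2, e3, e6⟩ hab hcd)
  intro a b c d hD
  obtain ⟨e1, e2, e3, e4, e5, e6⟩ := id hD
  rcases lt_or_gt_of_ne e6 with hcd | hcd
  · exact k3 a b c d hD hcd
  · have hD1 : D4 d c a b := ⟨e6.symm, e3.symm, e5.symm, e2.symm, e4.symm, e1⟩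
    have hD2 : D4 a b d c := ⟨e1, e3, e2, e5, e4, e6.symm⟩
    exact h2 c d a b ⟨e6, e2.symm, e4.symm, e3.symm, e5.symm, e1⟩
      (h1 d c a b hD1 (h2 a b d c hD2 (k3 a b d c hD2 hcd)))

namespace Alp

variable (A : Alp P V Z)
include A

theorem Zsq {a b c d : Fin 5} (hD : D4 a b c d) : Z a b c d * Z a b c d = 1 :=
  A.sq _ (A.mem a b c d hD)

theorem Zcomm {a b c d a' b' c' d' : Fin 5} (hD : D4 a b c d) (hD' : D4 a' b' c' d') :
    Z a b c d * Z a' b' c' d' = Z a' b' c' d' * Z a b c d :=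
  A.comm _ (A.mem a b c d hD) _ (A.mem a' b' c' d' hD')

theorem pw_mem {a b c d : Fin 5} (hD : D4 a b c d) (s : Bool) : pw s (Z a b c d) ∈ V := by
  cases s
  · exact one_mem _
  · exact A.mem a b c d hD

theorem zt_mem (w : ℕ) : zt Z w ∈ V :=
  mul_mem (mul_mem (mul_mem (A.pw_mem (by decide) _) (A.pw_mem (by decide) _))
    (A.pw_mem (by decide) _)) (A.pw_mem (by decide) _)

theorem zt_mul (w w' : ℕ) : zt Z w * zt Z w' = zt Z (w ^^^ w') := by
  have c : ∀ {a b c d a' b' c' d' : Fin 5} (hD : D4 a b c d) (hD' : D4 a' b' c' d') (s t : Bool),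
      Commute (pw s (Z a b c d)) (pw t (Z a' b' c' d')) :=
    fun hD hD' s t => pw_comm s t (A.Zcomm hD hD')
  unfold zt
  rw [Commute.mul_mul_mul_comm (b := pw (w.testBit 4) (Z 2 3 0 4))
      (Commute.mul_right (Commute.mul_right
        (c (by decide) (by decide) _ _) (c (by decide) (by decide) _ _)) (c (by decide) (by decide) _ _)),
    Commute.mul_mul_mul_comm (b := pw (w.testBit 3) (Z 0 1 2 4))
      (Commute.mul_right (c (by decide) (by decide) _ _) (c (by decide) (by decide) _ _)),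
    Commute.mul_mul_mul_comm (b := pw (w.testBit 1) (Z 1 3 0 4)) (c (by decide) (by decide) _ _),
    pw_mul _ _ (A.Zsq (by decide)), pw_mul _ _ (A.Zsq (by decide)), pw_mul _ _ (A.Zsq (by decide)),
    pw_mul _ _ (A.Zsq (by decide))]
  simp only [Nat.testBit_xor]

omit A in
theorem zt_zero : zt Z 0 = 1 := by simp [zt, pw]

/-- **the master lemma** -/
theorem eq_zt : ∀ a b c d : Fin 5, D4 a b c d → Z a b c d = zt Z (Yt a b ^^^ Yt c d) := by
  have z5 : zt Z 5 = Z 0 1 2 3 := by simp [zt, pw, Nat.testBit]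
  have z6 : zt Z 6 = Z 1 3 0 4 := by simp [zt, pw, Nat.testBit]
  have z12 : zt Z 12 = Z 0 1 2 4 := by simp [zt, pw, Nat.testBit]
  have z20 : zt Z 20 = Z 2 3 0 4 := by simp [zt, pw, Nat.testBit]
  have z9 : zt Z 9 = Z 0 1 3 4 := by
    rw [← A.line2 0 1 2 3 4 (by decide), ← z5, ← z12, A.zt_mul]; rfl
  have z17 : zt Z 17 = Z 2 3 1 4 := by
    rw [← A.line2 2 3 0 1 4 (by decide), ← A.swap2 0 1 2 3 (by decide), ← z5, ← z20, A.zt_mul]; rfl
  have z29 : zt Z 29 = Z 0 2 1 3 := by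
    rw [← A.hyp 1 0 4 3 2 (by decide), ← A.swap1 0 1 4 3 (by decide), A.swap2 0 1 4 3 (by decide),
      A.swap1 4 3 0 1 (by decide), ← A.swap2 0 1 3 4 (by decide), ← z9,
      A.swap2 0 4 3 2 (by decide), A.swap1 3 2 0 4 (by decide), ← z20, A.zt_mul]; rfl
  have z18 : zt Z 18 = Z 0 4 1 2 := by
    rw [← A.line2 0 4 3 1 2 (by decide), A.swap2 0 4 3 1 (by decide), A.swap1 3 1 0 4 (by decide),
      ← z6, A.swap2 0 4 3 2 (by decide), A.swap1 3 2 0 4 (by decide), ← z20, A.zt_mul]; rfl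
  have z30 : zt Z 30 = Z 0 2 1 4 := by
    have e := A.line4 0 1 2 4 (by decide)
    rw [← z12, ← z18] at e
    have e2 : Z 0 2 1 4 = zt Z 12 * zt Z 18 := by
      rw [← e, ← mul_assoc, A.sq _ (A.zt_mem 12), one_mul]
    rw [e2, A.zt_mul]; rfl
  have z3 : zt Z 3 = Z 0 2 4 3 := by
    rw [← A.hyp 4 0 1 3 2 (by decide), A.swap2 4 0 1 3 (by decide), ← A.swap2 4 0 1 3 (by decide),
      A.swap1 4 0 1 3 (by decide), ← A.swap2 1 3 0 4 (by decide), ← z6, A.swap2 0 1 3 2 (by decide),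
      A.swap1 3 2 0 1 (by decide), ← A.swap2 0 1 2 3 (by decide), ← z5, A.zt_mul]; rfl
  have z24 : zt Z 24 = Z 0 3 1 2 := by
    rw [← A.hyp 1 0 4 2 3 (by decide), ← A.swap1 0 1 4 2 (by decide), A.swap2 0 1 4 2 (by decide),
      A.swap1 4 2 0 1 (by decide), ← A.swap2 0 1 2 4 (by decide), ← z12,
      A.swap2 0 4 2 3 (by decide), ← z20, A.zt_mul]; rfl
  have z15 : zt Z 15 = Z 0 4 1 3 * Z 0 1 3 4 := by
    rw [← z9, ← A.swap2 1 3 0 4 (by decide), ← z6, A.zt_mul]; rfl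
  have z15' : zt Z 15 = Z 0 3 1 4 := by
    have e := A.line4 0 1 3 4 (by decide)
    rw [z15, ← e, A.Zcomm (a := 0) (b := 1) (c := 3) (d := 4) (a' := 0) (b' := 3) (c' := 1) (d' := 4)
      (by decide) (by decide), mul_assoc, A.Zsq (by decide), mul_one]
  have z23 : zt Z 23 = Z 0 3 4 2 := by
    rw [← A.hyp 4 0 1 2 3 (by decide), ← A.swap1 0 4 1 2 (by decide), ← z18, ← z5, A.zt_mul]; rfl
  have z10 : zt Z 10 = Z 1 2 3 4 := by
    rw [← A.hyp 3 1 0 4 2 (by decide), ← A.swap1 1 3 0 4 (by decide), ← z6,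
      ← A.swap1 0 1 4 2 (by decide), A.swap2 0 1 4 2 (by decide), A.swap1 4 2 0 1 (by decide),
      ← A.swap2 0 1 2 4 (by decide), ← z12, A.zt_mul]; rfl
  have z27 : zt Z 27 = Z 3 1 4 2 := by
    rw [← A.hyp 4 3 0 2 1 (by decide), A.swap2 4 3 0 2 (by decide), A.swap2 3 0 2 1 (by decide),
      A.swap1 2 1 3 0 (by decide), ← A.swap2 3 0 1 2 (by decide), ← A.swap1 0 3 1 2 (by decide), ← z24,
      ← z3, A.zt_mul]; rfl
  refine canon ?_ ?_ z5.symm z12.symm z9.symm z29.symm z30.symm ?_ z24.symm z15'.symm ?_ z18.symm ?_ ?_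
    z10.symm ?_ ?_
  · intro a b c d hD e
    rw [← A.swap1 a b c d hD, e, Yt_symm a b]
  · intro a b c d hD e
    rw [← A.swap2 a b c d hD, e, Nat.xor_comm]
  · rw [A.swap2 0 2 3 4 (by decide), A.swap1 3 4 0 2 (by decide), ← A.swap2 0 2 4 3 (by decide), ← z3]
    rfl
  · rw [A.swap2 0 3 2 4 (by decide), A.swap1 2 4 0 3 (by decide), ← A.swap2 0 3 4 2 (by decide), ← z23]
    rfl
  · rw [← A.swap2 1 3 0 4 (by decide), ← z6]
    rfl
  · rw [← A.swap2 2 3 0 4 (by decide), ← z20]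
    rfl
  · rw [A.swap1 1 3 2 4 (by decide), A.swap2 3 1 2 4 (by decide), A.swap1 2 4 3 1 (by decide),
      ← A.swap2 3 1 4 2 (by decide), ← z27]
    rfl
  · rw [← A.swap2 2 3 1 4 (by decide), ← z17]
    rfl

theorem V_code {v : G} (hv : v ∈ V) : ∃ w < 32, par w = false ∧ zt Z w = v := by
  by_cases h1 : v = 1
  · exact ⟨0, by norm_num, rfl, by rw [h1]; exact zt_zero⟩
  · obtain ⟨a, b, c, d, hD, rfl⟩ := A.surj v hv h1
    have hlt : ∀ a b c d : Fin 5, D4 a b c d → Yt a b ^^^ Yt c d < 32 ∧ par (Yt a b ^^^ Yt c d) = false := by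
      decide +kernel
    exact ⟨_, (hlt a b c d hD).1, (hlt a b c d hD).2, (A.eq_zt a b c d hD).symm⟩

theorem zt_eq_one {w : ℕ} (hw : w < 32) (hp : par w = false) (h1 : zt Z w = 1) : w = 0 := by
  by_contra h0
  obtain ⟨a, b, c, d, hD, rfl⟩ := FiveDl.even_cases w hw h0 hp
  rw [← A.eq_zt a b c d hD] at h1
  exact A.ne_one a b c d hD h1

theorem zt_inj {w w' : ℕ} (hw : w < 32) (hw' : w' < 32) (hp : par w = false) (hp' : par w' = false)
    (e : zt Z w = zt Z w') : w = w' := by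
  have h1 : zt Z (w ^^^ w') = 1 := by rw [← A.zt_mul, e, A.sq _ (A.zt_mem w')]
  have h2 : w ^^^ w' < 32 := Nat.xor_lt_two_pow (n := 5) hw hw'
  have h3 : par (w ^^^ w') = false := by
    have : par (w ^^^ w') = (par w ^^ par w') := by
      unfold par
      simp only [Nat.testBit_xor]
      cases w.testBit 0 <;> cases w.testBit 1 <;> cases w.testBit 2 <;> cases w.testBit 3 <;>
        cases w.testBit 4 <;> simp
    rw [this, hp, hp']; rfl
  exact Nat.xor_eq_zero_iff.1 (A.zt_eq_one h2 h3 h1)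

/-- `m ∈ P` over `σ` -/
theorem zt_conj {m : G} {σ : Equiv.Perm (Fin 5)} (hm : ∀ a b c d, D4 a b c d →
      m * Z a b c d * m⁻¹ = Z (σ a) (σ b) (σ c) (σ d)) {w : ℕ} (hw : w < 32) (hp : par w = false) :
    m * zt Z w * m⁻¹ = zt Z (ac σ w) := by
  by_cases h0 : w = 0
  · subst h0
    have : ac σ 0 = 0 := by simp [ac]
    rw [this, zt_zero]; group
  · obtain ⟨a, b, c, d, hD, rfl⟩ := FiveDl.even_cases w hw h0 hp
    rw [← A.eq_zt a b c d hD, hm a b c d hD, A.eq_zt _ _ _ _ (D4.map hD σ), ac_xor, ac_Yt σ hD.1,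
      ac_Yt σ hD.2.2.2.2.2]

end Alp

end Cfsg.Agent.Omega.NOne.AG
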