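import Cfsg.Agent.Omega.NOne.AG.AlphaG
import Cfsg.Agent.Omega.NO1.Types

/-!
# D0ag, type (α): the labels from `Cfg` and `Nat4`

`exists_alp` : `Cfg S P`, `Nat4 S P` ⟹ `Alp P (zl S P) Z` and `zc S = ⟨Z 0 1 2 3⟩`.
-/

set_option autoImplicit false
set_option linter.unusedSectionVars false

namespace Cfsg.Agent.Omega.NOne.AG

open Subgroup Cfsg Cfsg.Agent.ZN Cfsg.Agent.Omega.MinPar Cfsg.Agent.Omega.Frame
open Cfsg.Agent.Omega.NO1 Cfsg.Agent.Omega.SQ1.FFOne
open Cfsg.Agent.Omega.NoFF.LinesPlug (CC)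
open Cfsg.Agent.Omega.FrameFF (NatOver)
open Cfsg.Agent.Omega.NOne.AG.Tab (D4.map)

universe u

variable {G : Type u} [Group G]

theorem Tab.D5.map {a b c d m : Fin 5} (h : D5 a b c d m) (σ : Equiv.Perm (Fin 5)) :
    D5 (σ a) (σ b) (σ c) (σ d) (σ m) := by
  obtain ⟨h0, h1, h2, h3, h4⟩ := h
  exact ⟨Tab.D4.map h0 σ, σ.injective.ne h1, σ.injective.ne h2, σ.injective.ne h3, σ.injective.ne h4⟩

/-- relabelling -/
theorem Alp.relabel {P V : Subgroup G} {Z : Fin 5 → Fin 5 → Fin 5 → Fin 5 → G} (A : Alp P V Z)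
    (τ : Equiv.Perm (Fin 5)) : Alp P V fun a b c d => Z (τ a) (τ b) (τ c) (τ d) where
  swap1 a b c d hd := A.swap1 _ _ _ _ (Tab.D4.map hd τ)
  swap2 a b c d hd := A.swap2 _ _ _ _ (Tab.D4.map hd τ)
  ne_one a b c d hd := A.ne_one _ _ _ _ (Tab.D4.map hd τ)
  mem a b c d hd := A.mem _ _ _ _ (Tab.D4.map hd τ)
  sq := A.sq
  comm := A.comm
  card := A.card
  surj v hv h1 := by
    obtain ⟨a, b, c, d, hd, e⟩ := A.surj v hv h1
    refine ⟨τ.symm a, τ.symm b, τ.symm c, τ.symm d, Tab.D4.map hd τ.symm, ?_⟩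
    rw [e]
    simp only [Equiv.apply_symm_apply]
  line4 a b c d hd := A.line4 _ _ _ _ (Tab.D4.map hd τ)
  line2 a b c d m hd := A.line2 _ _ _ _ _ (Tab.D5.map hd τ)
  hyp a b c d m hd := A.hyp _ _ _ _ _ (Tab.D5.map hd τ)
  act m hm := by
    obtain ⟨σ, hσ⟩ := A.act m hm
    refine ⟨τ⁻¹ * σ * τ, fun a b c d hd => ?_⟩
    have hτ : ∀ i, τ ((τ⁻¹ * σ * τ) i) = σ (τ i) := fun i => by
      rw [← Equiv.Perm.mul_apply, ← Equiv.Perm.mul_apply]
      congr 1
      group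
    rw [hσ _ _ _ _ (Tab.D4.map hd τ), hτ, hτ, hτ, hτ]
  full σ := by
    obtain ⟨m, hm, hσ⟩ := A.full (τ * σ * τ⁻¹)
    refine ⟨m, hm, fun a b c d hd => ?_⟩
    have hτ : ∀ i, (τ * σ * τ⁻¹) (τ i) = τ (σ i) := fun i => by
      rw [← Equiv.Perm.mul_apply, ← Equiv.Perm.mul_apply]
      congr 1
      group
    rw [hσ _ _ _ _ (Tab.D4.map hd τ), hτ, hτ, hτ, hτ]

/-- a permutation mapping `0, 1, 2, 3` to `a, b, c, d` -/
theorem exists_perm {a b c d : Fin 5} (h : D4 a b c d) :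
    ∃ τ : Equiv.Perm (Fin 5), τ 0 = a ∧ τ 1 = b ∧ τ 2 = c ∧ τ 3 = d := by
  have hinj : Function.Injective ![a, b, c, d, -(a + b + c + d)] := by
    revert a b c d
    decide +kernel
  exact ⟨Equiv.ofBijective _ (Finite.injective_iff_bijective.1 hinj), rfl, rfl, rfl, rfl⟩

variable [Finite G]

/-- **`Cfg S P`, `Nat4 S P`: the coordinates.** -/
theorem exists_aw {S : Sylow 2 G} {P : Subgroup G} (h : Cfg S P) (hN : Nat4 (S : Subgroup G) P) :
    ∃ W, Tab.AW P (zl (S : Subgroup G) P) W ∧ zc (S : Subgroup G) = zpowers (W (Tab.tb 0 1 2 3)) := by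
  obtain ⟨⟨F, iF, iFin, iC, hF, ⟨M0⟩⟩, hZ, hind⟩ := hN
  obtain ⟨w, hw⟩ := Tab.exists_w4 (F := F) hF
  let M : NatSec F P (zl (S : Subgroup G) P) ⊥ :=
    { π := M0.e
      map_mul := M0.mul
      V0V := bot_le
      ker := M0.ker
      surj := M0.surj
      Vn := fun g hg v hv => (mem_normalizer_iff.1 (Cfg.P_norm_V S P hg) v).1 hv
      V0n := fun g _ v hv => by
        rw [mem_bot] at hv ⊢
        rw [hv]; group
      lift := fun A => by
        obtain ⟨g, hg, hA, -⟩ := M0.lift A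
        exact ⟨g, hg, hA⟩
      norm := M0.norm }
  -- the generator of `zc S`
  have hcyc : ∃ z : G, z ≠ 1 ∧ zc (S : Subgroup G) = zpowers z := by
    have : Fact (Nat.Prime 2) := ⟨Nat.prime_two⟩
    have hc : IsCyclic (zc (S : Subgroup G)) := isCyclic_of_prime_card hZ
    obtain ⟨⟨z, hz⟩, hg⟩ := hc.exists_generator
    have he : zc (S : Subgroup G) = zpowers z := by
      apply le_antisymm
      · intro x hx
        obtain ⟨n, hn⟩ := mem_zpowers_iff.1 (hg ⟨x, hx⟩)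
        rw [mem_zpowers_iff]
        exact ⟨n, by simpa using congrArg Subtype.val hn⟩
      · rw [zpowers_le]; exact hz
    refine ⟨z, ?_, he⟩
    rintro rfl
    rw [he, zpowers_one_eq_bot, card_bot] at hZ
    omega
  obtain ⟨z, hz1, hz⟩ := hcyc
  have hzS : z ∈ zc (S : Subgroup G) := by rw [hz]; exact mem_zpowers z
  have hzz : z * z = 1 := by
    have := MinSimple.VModule.zc_sq (S : Subgroup G) z hzS
    rwa [pow_two] at this
  have hmem : ∀ v, v ∈ zc (S : Subgroup G) ↔ v = 1 ∨ v = z := by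
    intro v
    rw [hz, mem_zpowers_iff]
    constructor
    · rintro ⟨n, rfl⟩
      rcases Int.even_or_odd' n with ⟨k, rfl | rfl⟩
      · left; rw [zpow_mul, zpow_two, hzz, one_zpow]
      · right; rw [zpow_add, zpow_mul, zpow_two, hzz, one_zpow, one_mul, zpow_one]
    · rintro (rfl | rfl)
      · exact ⟨0, zpow_zero _⟩
      · exact ⟨1, zpow_one _⟩
  have hN' : Tab.Nt P (zl (S : Subgroup G) P) (S : Subgroup G) (EE (S : Subgroup G) P) z :=
    { S_le := h.S_le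
      zV := h.Z_le_V hzS
      z_ne := hz1
      comm := by
        intro s hs
        have := (zc_le (S : Subgroup G)) hzS
        exact (mem_centralizer_iff.1 (le_centralizer_zc (S : Subgroup G) hs) z hzS).symm
      uniq := by
        intro v hv hc
        rw [← hmem, mem_zc]
        exact ⟨h.V_le_S hv, hc, h.V_sq v hv⟩
      E_le := inf_le_left
      ind := hind
      inv := by
        intro m hm hmz e he
        refine ⟨(mem_normalizer_iff.1 (Cfg.P_norm_V S P hm) e).1 he.1, ?_⟩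
        have hmC : m ∈ CC (S : Subgroup G) := by
          refine mem_centralizer_iff.2 fun v hv => ?_
          rcases (hmem v).1 hv with rfl | rfl
          · simp
          · exact hmz.symm
        exact conj_mem_of_norm (ZN.ChoiceSit.le_normalizer_o2 _ hmC) he.2 }
  obtain ⟨W, A⟩ := Tab.exists_aw M hw hN'
  obtain ⟨a, b, c, d, hd, e⟩ := A.alp.surj z hN'.zV hz1
  obtain ⟨τ, h0, h1, h2, h3⟩ := exists_perm hd
  obtain ⟨m, hm, hτ⟩ := A.full τ
  refine ⟨_, A.conj (Cfg.P_norm_V S P) hm, ?_⟩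
  rw [hz, e, hτ 0 1 2 3 (by decide), h0, h1, h2, h3]

/-- **`Cfg S P`, `Nat4 S P`: the labels.** -/
theorem exists_alp {S : Sylow 2 G} {P : Subgroup G} (h : Cfg S P) (hN : Nat4 (S : Subgroup G) P) :
    ∃ Z, Alp P (zl (S : Subgroup G) P) Z ∧ zc (S : Subgroup G) = zpowers (Z 0 1 2 3) := by
  obtain ⟨W, A, hz⟩ := exists_aw h hN
  exact ⟨_, A.alp, hz⟩

end Cfsg.Agent.Omega.NOne.AG
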