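import Cfsg.Agent.Omega.NOne.AG.AlphaTab

/-!
# D0ag, type (α): the points of `F₄²` and `ΣL₂(4) = S₅`

`W4 w` : the elements of `F` are `0, 1, w, w + 1`, `w² = w + 1`.
`Act φ σ` : the map `φ` of `F²` permutes the points `zz a b c d` as `σ ∈ S₅`.
-/

set_option autoImplicit false
set_option linter.unusedSectionVars false

namespace Cfsg.Agent.Omega.NOne.AG.Tab

open Cfsg.Agent.Lib.SL2Mat Cfsg.Agent.Omega.NatPair

variable {F : Type*} [Field F]

/-- the elements of the field with four elements -/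
structure W4 (w : F) : Prop where
  two : (2 : F) = 0
  sq : w * w = w + 1
  all : ∀ x : F, x = 0 ∨ x = 1 ∨ x = w ∨ x = w + 1

theorem exists_w4 [Finite F] [CharP F 2] (h4 : Nat.card F = 4) : ∃ w : F, W4 w := by
  classical
  have := Fintype.ofFinite F
  rw [Nat.card_eq_fintype_card] at h4
  have h2 : (2 : F) = 0 := CharTwo.two_eq_zero
  have hex : ∃ w : F, w ≠ 0 ∧ w ≠ 1 := by
    by_contra hcon
    push Not at hcon
    have h1 : (Finset.univ : Finset F) ⊆ {0, 1} := by
      intro x _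
      by_cases hx : x = 0
      · simp [hx]
      · simp [hcon x hx]
    have h5 := Finset.card_le_card h1
    rw [Finset.card_univ, h4] at h5
    have h6 : ({0, 1} : Finset F).card ≤ 2 := Finset.card_le_two
    omega
  obtain ⟨w, hw0, hw1⟩ := hex
  have hw3 : w ^ 3 = 1 := by
    have := FiniteField.pow_card_sub_one_eq_one w hw0
    rwa [h4] at this
  have hsq : w * w = w + 1 := by
    have h1 : (w - 1) * (w * w + w + 1) = 0 := by linear_combination hw3
    have h3 := (mul_eq_zero.1 h1).resolve_left (sub_ne_zero.2 hw1)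
    linear_combination h3 - (w + 1) * h2
  refine ⟨w, h2, hsq, ?_⟩
  have hw2 : w + 1 ≠ 0 := by
    intro h
    apply hw1
    linear_combination h - h2
  have hcard : ({0, 1, w, w + 1} : Finset F).card = 4 := by
    rw [Finset.card_eq_of_equiv_fin]
    refine Fintype.equivFinOfCardEq ?_
    rw [Fintype.card_coe, Finset.card_insert_of_notMem, Finset.card_insert_of_notMem,
      Finset.card_insert_of_notMem, Finset.card_singleton]
    · simp
    · simp only [Finset.mem_insert, Finset.mem_singleton, not_or]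
      exact ⟨fun h => hw1 h.symm, fun h => hw0 (by linear_combination -h)⟩
    · simp only [Finset.mem_insert, Finset.mem_singleton, not_or]
      exact ⟨zero_ne_one, fun h => hw0 h.symm, fun h => hw2 h.symm⟩
  have huniv : ({0, 1, w, w + 1} : Finset F) = Finset.univ := by
    apply Finset.eq_univ_of_card
    rw [hcard, h4]
  intro x
  have := huniv ▸ Finset.mem_univ x
  simpa using this

/-- `0` or `1` -/
def bf (b : Bool) : F := if b then 1 else 0

/-- the vector of four bits -/
def ps (w : F) (x : B4) : Fin 2 → F := ![bf x.1 + bf x.2.1 * w, bf x.2.2.1 + bf x.2.2.2 * w]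

theorem bf_xor (h2 : (2 : F) = 0) (a b : Bool) : (bf (xor a b) : F) = bf a + bf b := by
  cases a <;> cases b <;> simp [bf]
  linear_combination -h2

variable {w : F}

theorem ps_ad (h : W4 w) (x y : B4) : ps w (ad x y) = ps w x + ps w y := by
  apply ext2
  · show (bf (xor x.1 y.1) : F) + bf (xor x.2.1 y.2.1) * w =
      (bf x.1 + bf x.2.1 * w) + (bf y.1 + bf y.2.1 * w)
    rw [bf_xor h.two, bf_xor h.two]; ring
  · show (bf (xor x.2.2.1 y.2.2.1) : F) + bf (xor x.2.2.2 y.2.2.2) * w =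
      (bf x.2.2.1 + bf x.2.2.2 * w) + (bf y.2.2.1 + bf y.2.2.2 * w)
    rw [bf_xor h.two, bf_xor h.two]; ring

theorem ps_zero : ps w (false, false, false, false) = 0 := by
  apply ext2 <;> simp [ps, bf]

theorem bf_inj (h : W4 w) {a b c d : Bool} (he : (bf a : F) + bf b * w = bf c + bf d * w) :
    a = c ∧ b = d := by
  have hw0 : w ≠ 0 := by
    intro h0
    have := h.sq
    rw [h0] at this
    simp at this
  have hw1 : w ≠ 1 := by
    intro h0
    have := h.sq
    rw [h0] at this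
    simp at this
  have hw2 : (1 : F) + w ≠ 0 := by
    intro h0
    apply hw1
    linear_combination h0 - h.two
  have hw3 : (1 : F) + w ≠ 1 := fun h0 => hw0 (by linear_combination h0)
  have hw4 : (1 : F) + w ≠ w := fun h0 => one_ne_zero (α := F) (by linear_combination h0)
  cases a <;> cases b <;> cases c <;> cases d <;>
    simp [bf, hw0, hw1, hw2, hw3, hw4, hw0.symm, hw1.symm, hw2.symm, hw3.symm, hw4.symm] at he ⊢

theorem ps_inj (h : W4 w) {x y : B4} (he : ps w x = ps w y) : x = y := by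
  obtain ⟨h1, h2⟩ := bf_inj h (congrFun he 0)
  obtain ⟨h3, h4⟩ := bf_inj h (congrFun he 1)
  obtain ⟨x1, x2, x3, x4⟩ := x
  obtain ⟨y1, y2, y3, y4⟩ := y
  simp only at h1 h2 h3 h4
  rw [h1, h2, h3, h4]

theorem bf_surj (h : W4 w) (x : F) : ∃ a b : Bool, x = bf a + bf b * w := by
  rcases h.all x with rfl | rfl | rfl | rfl
  · exact ⟨false, false, by simp [bf]⟩
  · exact ⟨true, false, by simp [bf]⟩
  · exact ⟨false, true, by simp [bf]⟩
  · exact ⟨true, true, by simp [bf]; ring⟩

theorem ps_surj (h : W4 w) (x : Fin 2 → F) : ∃ b : B4, x = ps w b := by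
  obtain ⟨a, b, h1⟩ := bf_surj h (x 0)
  obtain ⟨c, d, h2⟩ := bf_surj h (x 1)
  exact ⟨(a, b, c, d), ext2 h1 h2⟩

/-- the point `z_{ab|cd}` -/
def zz (w : F) (a b c d : Fin 5) : Fin 2 → F := ps w (tb a b c d)

/-- `φ` permutes the points as `σ` -/
def Act (w : F) (φ : (Fin 2 → F) → (Fin 2 → F)) (σ : Equiv.Perm (Fin 5)) : Prop :=
  ∀ a b c d, D4 a b c d → φ (zz w a b c d) = zz w (σ a) (σ b) (σ c) (σ d)

theorem D4.map {a b c d : Fin 5} (h : D4 a b c d) (σ : Equiv.Perm (Fin 5)) :
    D4 (σ a) (σ b) (σ c) (σ d) := by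
  obtain ⟨h1, h2, h3, h4, h5, h6⟩ := h
  exact ⟨σ.injective.ne h1, σ.injective.ne h2, σ.injective.ne h3, σ.injective.ne h4,
    σ.injective.ne h5, σ.injective.ne h6⟩

theorem Act.comp {φ ψ : (Fin 2 → F) → (Fin 2 → F)} {σ τ : Equiv.Perm (Fin 5)} (h1 : Act w φ σ)
    (h2 : Act w ψ τ) : Act w (fun x => φ (ψ x)) (σ * τ) := by
  intro a b c d hd
  show φ (ψ (zz w a b c d)) = _
  rw [h2 a b c d hd, h1 _ _ _ _ (D4.map hd τ)]
  rfl

theorem Act.id : Act w (fun x => x) 1 := fun _ _ _ _ _ => rfl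

theorem act_up_one (h : W4 w) : Act w (ap (up 1)) sU1 := by
  intro a b c d hd
  have h1 : ∀ x : B4, ap (up 1) (ps w x) = ps w (U1 x) := by
    intro x
    apply ext2
    · rw [ap_zero', up_00, up_01]
      simp only [ps, U1, Matrix.cons_val_zero, Matrix.cons_val_one, bf_xor h.two]; ring
    · rw [ap_one', up_10, up_11]
      simp only [ps, U1, Matrix.cons_val_zero, Matrix.cons_val_one]; ring
  rw [zz, h1, tb_U1 a b c d hd]; rfl

theorem act_up_w (h : W4 w) : Act w (ap (up w)) sUw := by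
  intro a b c d hd
  have h1 : ∀ x : B4, ap (up w) (ps w x) = ps w (Uw x) := by
    intro x
    apply ext2
    · rw [ap_zero', up_00, up_01]
      simp only [ps, Uw, Matrix.cons_val_zero, Matrix.cons_val_one, bf_xor h.two]
      linear_combination (bf x.2.2.2 : F) * h.sq
    · rw [ap_one', up_10, up_11]
      simp only [ps, Uw, Matrix.cons_val_zero, Matrix.cons_val_one]; ring
  rw [zz, h1, tb_Uw a b c d hd]; rfl

theorem act_lo_one (h : W4 w) : Act w (ap (lo 1)) sL1 := by
  intro a b c d hd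
  have h1 : ∀ x : B4, ap (lo 1) (ps w x) = ps w (L1 x) := by
    intro x
    apply ext2
    · rw [ap_zero', lo_00, lo_01]
      simp only [ps, L1, Matrix.cons_val_zero, Matrix.cons_val_one]; ring
    · rw [ap_one', lo_10, lo_11]
      simp only [ps, L1, Matrix.cons_val_zero, Matrix.cons_val_one, bf_xor h.two]; ring
  rw [zz, h1, tb_L1 a b c d hd]; rfl

theorem act_lo_w (h : W4 w) : Act w (ap (lo w)) sLw := by
  intro a b c d hd
  have h1 : ∀ x : B4, ap (lo w) (ps w x) = ps w (Lw x) := by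
    intro x
    apply ext2
    · rw [ap_zero', lo_00, lo_01]
      simp only [ps, Lw, Matrix.cons_val_zero, Matrix.cons_val_one]; ring
    · rw [ap_one', lo_10, lo_11]
      simp only [ps, Lw, Matrix.cons_val_zero, Matrix.cons_val_one, bf_xor h.two]
      linear_combination (bf x.2.1 : F) * h.sq
  rw [zz, h1, tb_Lw a b c d hd]; rfl

/-- squaring of the coordinates -/
def fr (x : Fin 2 → F) : Fin 2 → F := ![x 0 * x 0, x 1 * x 1]

theorem bf_sq (a : Bool) : (bf a : F) * bf a = bf a := by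
  cases a <;> simp [bf]

theorem act_fr (h : W4 w) : Act w fr (Equiv.swap 3 4) := by
  intro a b c d hd
  have h1 : ∀ x : B4, fr (ps w x) = ps w (Th x) := by
    intro x
    apply ext2
    · simp only [fr, ps, Th, Matrix.cons_val_zero, Matrix.cons_val_one, bf_xor h.two]
      linear_combination bf_sq (F := F) x.1 + (w * w) * bf_sq (F := F) x.2.1 + (bf x.2.1 : F) * h.sq +
        (bf x.1 * bf x.2.1 * w : F) * h.two
    · simp only [fr, ps, Th, Matrix.cons_val_zero, Matrix.cons_val_one, bf_xor h.two]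
      linear_combination bf_sq (F := F) x.2.2.1 + (w * w) * bf_sq (F := F) x.2.2.2 + (bf x.2.2.2 : F) * h.sq +
        (bf x.2.2.1 * bf x.2.2.2 * w : F) * h.two
  rw [zz, h1, tb_Th a b c d hd]; rfl

theorem exists_up (h : W4 w) (b : F) : ∃ σ, Act w (ap (up b)) σ := by
  rcases h.all b with rfl | rfl | rfl | rfl
  · refine ⟨1, ?_⟩
    rw [up_zero]
    intro a b c d hd
    rw [ap_one]; rfl
  · exact ⟨_, act_up_one h⟩
  · exact ⟨_, act_up_w h⟩
  · refine ⟨sUw * sU1, ?_⟩
    rw [← up_mul]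
    have := (act_up_w h).comp (act_up_one h)
    intro a b c d hd
    rw [ap_mul]
    exact this a b c d hd

theorem exists_lo (h : W4 w) (b : F) : ∃ σ, Act w (ap (lo b)) σ := by
  rcases h.all b with rfl | rfl | rfl | rfl
  · refine ⟨1, ?_⟩
    rw [lo_zero]
    intro a b c d hd
    rw [ap_one]; rfl
  · exact ⟨_, act_lo_one h⟩
  · exact ⟨_, act_lo_w h⟩
  · refine ⟨sLw * sL1, ?_⟩
    rw [← lo_mul]
    have := (act_lo_w h).comp (act_lo_one h)
    intro a b c d hd
    rw [ap_mul]
    exact this a b c d hd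

theorem exists_act (h : W4 w) (A : Matrix.SpecialLinearGroup (Fin 2) F) : ∃ σ, Act w (ap A) σ := by
  obtain ⟨a, b, c, d, rfl⟩ := exists_up_lo A
  obtain ⟨σ1, h1⟩ := exists_up h a
  obtain ⟨σ2, h2⟩ := exists_lo h b
  obtain ⟨σ3, h3⟩ := exists_up h c
  obtain ⟨σ4, h4⟩ := exists_lo h d
  refine ⟨σ1 * (σ2 * (σ3 * σ4)), ?_⟩
  have := h1.comp (h2.comp (h3.comp h4))
  intro i j k l hd
  rw [mul_assoc, mul_assoc, ap_mul, ap_mul, ap_mul]
  exact this i j k l hd

theorem zz_ne (h : W4 w) {a b c d : Fin 5} (hd : D4 a b c d) : zz w a b c d ≠ 0 := by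
  intro h0
  rw [zz, ← ps_zero (w := w)] at h0
  exact tb_ne a b c d hd (ps_inj h h0)

theorem zz_surj (h : W4 w) {x : Fin 2 → F} (hx : x ≠ 0) : ∃ a b c d, D4 a b c d ∧ x = zz w a b c d := by
  obtain ⟨b, rfl⟩ := ps_surj h x
  have hb : b ≠ (false, false, false, false) := by
    rintro rfl
    exact hx ps_zero
  obtain ⟨i, j, k, l, hd, e⟩ := tb_surj b hb
  exact ⟨i, j, k, l, hd, by rw [zz, ← e]⟩

end Cfsg.Agent.Omega.NOne.AG.Tab
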