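import Cfsg.Agent.Omega.NOne.AG.AlphaF
import Cfsg.Agent.Omega.SQ1.FFOne

/-!
# D0ag, type (α): the labels of the points, from the natural `SL₂(4)`-module

`Nt`: `V` is a natural `SL₂(4)`-module of `P`, `z` is the only nontrivial element of `V` centralised by
`S ≤ P`, and some hyperplane `E` of `V` is invariant under `C_P(z)`.  Then there are labels `Alp P V Z`.
-/

set_option autoImplicit false
set_option linter.unusedSectionVars false

namespace Cfsg.Agent.Omega.NOne.AG.Tab

open Cfsg.Agent.Lib.SL2Mat Cfsg.Agent.Omega.NatPair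
open Subgroup Cfsg Cfsg.Agent.ZN Cfsg.Agent.Omega.SQ1.FFOne

universe u

variable {F : Type*} [Field F] {w : F}

/-- `det (x, y)` -/
def dt (x y : Fin 2 → F) : F := x 0 * y 1 - x 1 * y 0

theorem dt_ap (A : Matrix.SpecialLinearGroup (Fin 2) F) (x y : Fin 2 → F) :
    dt (ap A x) (ap A y) = dt x y := by
  have hd := det_eq A
  simp only [dt, ap_zero', ap_one']
  linear_combination (x 0 * y 1 - x 1 * y 0) * hd

/-- the matrix maps -/
def mt (p q r t : F) (x : Fin 2 → F) : Fin 2 → F := ![p * x 0 + q * x 1, r * x 0 + t * x 1]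

theorem dt_mt (p q r t : F) (x y : Fin 2 → F) :
    dt (mt p q r t x) (mt p q r t y) = (p * t - q * r) * dt x y := by
  simp only [dt, mt, Matrix.cons_val_zero, Matrix.cons_val_one]
  ring

theorem mt_eq_ap {p q r t : F} (h : p * t - q * r = 1) (x : Fin 2 → F) :
    mt p q r t x = ap (mk p q r t h) x := by
  apply ext2
  · rw [ap_zero', mk_00, mk_01]; rfl
  · rw [ap_one', mk_10, mk_11]; rfl

/-- a ring automorphism of the field with four elements is the identity or the squaring -/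
theorem ringEquiv_cases (h : W4 w) (s : F ≃+* F) : (∀ c, s c = c) ∨ ∀ c, s c = c * c := by
  have h2 := h.two
  have hs := congrArg s h.sq
  rw [map_mul, map_add, map_one] at hs
  rcases h.all (s w) with e | e | e | e
  · rw [e] at hs
    simp at hs
  · rw [e] at hs
    exfalso
    have : (1 : F) = 0 := by linear_combination -hs
    exact one_ne_zero this
  · left
    intro c
    rcases h.all c with rfl | rfl | rfl | rfl
    · simp
    · simp
    · exact e
    · rw [map_add, map_one, e]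
  · right
    intro c
    rcases h.all c with rfl | rfl | rfl | rfl
    · simp
    · simp
    · rw [e, h.sq]
    · rw [map_add, map_one, e]
      linear_combination -h.sq - w * h2

variable {G : Type u} [Group G] {P V : Subgroup G} (M : NatSec F P V ⊥)

theorem exists_mt [Finite F] (h : W4 w) {g : G} (hg : g ∈ P) : ∃ p q r t : F,
    (∀ x, M.act g x = mt p q r t x) ∨ ∀ x, M.act g x = mt p q r t (fr x) := by
  obtain ⟨s, hs⟩ := M.exists_semi hg
  refine ⟨(M.act g ![1, 0]) 0, (M.act g ![0, 1]) 0, (M.act g ![1, 0]) 1, (M.act g ![0, 1]) 1, ?_⟩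
  have key : ∀ x, M.act g x = s (x 0) • M.act g ![1, 0] + s (x 1) • M.act g ![0, 1] := by
    intro x
    rw [← hs, ← hs, ← M.act_add hg]
    congr 1
    apply ext2 <;> simp
  rcases ringEquiv_cases h s with e | e
  · left
    intro x
    rw [key]
    apply ext2
    · simp only [mt, Pi.add_apply, Pi.smul_apply, smul_eq_mul, Matrix.cons_val_zero, e]; ring
    · simp only [mt, Pi.add_apply, Pi.smul_apply, smul_eq_mul, Matrix.cons_val_one, e]
      simp only [Matrix.cons_val_fin_one]
      ring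
  · right
    intro x
    rw [key]
    apply ext2
    · simp only [mt, fr, Pi.add_apply, Pi.smul_apply, smul_eq_mul, Matrix.cons_val_zero,
        Matrix.cons_val_one, e]; ring
    · simp only [mt, fr, Pi.add_apply, Pi.smul_apply, smul_eq_mul, Matrix.cons_val_zero,
        Matrix.cons_val_one, e]; ring

/-- The configuration at `z`. -/
structure Nt (P V S E : Subgroup G) (z : G) : Prop where
  S_le : S ≤ P
  zV : z ∈ V
  z_ne : z ≠ 1
  comm : ∀ s ∈ S, s * z = z * s
  uniq : ∀ v ∈ V, (∀ s ∈ S, s * v = v * s) → v = 1 ∨ v = z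
  E_le : E ≤ V
  ind : E.relIndex V = 2
  inv : ∀ m ∈ P, m * z = z * m → ∀ e ∈ E, m * e * m⁻¹ ∈ E

theorem π_inj {v v' : G} (hv : v ∈ V) (hv' : v' ∈ V) (e : M.π v = M.π v') : v = v' := by
  have := (M.eq_iff hv hv').1 e
  rw [mem_bot] at this
  exact mul_inv_eq_one.1 this

theorem π_ne {v : G} (hv : v ∈ V) (h : v ≠ 1) : M.π v ≠ 0 := by
  intro h0
  exact h ((M.ker v hv).1 h0)

/-- linear elements have determinant one -/
theorem det_one (h : W4 w) {S E : Subgroup G} {z : G} (N : Nt P V S E z) {g : G} (hg : g ∈ P)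
    {p q r t : F} (hm : ∀ x, M.act g x = mt p q r t x) : p * t - q * r = 1 := by
  have h2 := h.two
  -- the vector of `z`
  set x := M.π z with hx
  have hx0 : x ≠ 0 := π_ne M N.zV N.z_ne
  have hgx0 : M.act g x ≠ 0 := by
    intro h0
    apply hx0
    rw [← M.act_inv_act hg x, h0, M.act_zero (inv_mem hg)]
  -- an element `m` of `C_P(z)`
  obtain ⟨A, hA⟩ := exists_ap hgx0 hx0
  obtain ⟨a, ha, haA⟩ := M.lift A
  have haA' := (M.ind_iff ha).1 haA
  have hmP : a * g ∈ P := mul_mem ha hg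
  have hmact : ∀ y, M.act (a * g) y = ap A (mt p q r t y) := by
    intro y
    rw [M.act_mul ha hg, haA', hm]
  have hmx : M.act (a * g) x = x := by rw [hmact, ← hm, hA]
  have hmz : a * g * z = z * (a * g) := by
    have h1 : a * g * z * (a * g)⁻¹ = z := by
      apply π_inj M (M.Vn _ hmP z N.zV) N.zV
      rw [← M.act_π hmP N.zV]
      exact hmx
    rwa [mul_inv_eq_iff_eq_mul] at h1
  -- the functional
  have hdt : ∀ y, dt x (M.act (a * g) y) = (p * t - q * r) * dt x y := by
    intro y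
    nth_rewrite 1 [← hmx]
    rw [hmact, hmact, dt_ap, dt_mt]
  set μ := p * t - q * r with hμ
  -- `E` has index two
  have hidx : ∀ u ∈ V, ∀ v ∈ V, u ∉ E → v ∉ E → u * v ∈ E := by
    intro u hu v hv h1 h3
    have h4 : (E.subgroupOf V).index = 2 := N.ind
    have h5 := Subgroup.mul_mem_iff_of_index_two h4 (a := ⟨u, hu⟩) (b := ⟨v, hv⟩)
    rw [mem_subgroupOf, mem_subgroupOf, mem_subgroupOf] at h5
    exact h5.2 ⟨fun h => absurd h h1, fun h => absurd h h3⟩
  have hnot : ¬ ∀ v ∈ V, v ∈ E := by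
    intro hall
    have h1 : V ≤ E := hall
    have := N.ind
    rw [relIndex_eq_one.2 h1] at this
    omega
  have hw0 : w ≠ 0 := by
    intro h0
    have := h.sq
    rw [h0] at this
    simp at this
  have hw1 : w ≠ 1 := by
    intro h0
    have := h.sq
    rw [h0] at this
    simp at this
  -- `dt x` is onto
  obtain ⟨y0, hy0⟩ : ∃ y, dt x y = 1 := by
    by_cases hx1 : x 0 = 0
    · have hx2 : x 1 ≠ 0 := fun h' => hx0 (ext2 hx1 h')
      refine ⟨![-(x 1)⁻¹, 0], ?_⟩
      simp only [dt, Matrix.cons_val_zero, Matrix.cons_val_one]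
      field_simp
      ring
    · refine ⟨![0, (x 0)⁻¹], ?_⟩
      simp only [dt, Matrix.cons_val_zero, Matrix.cons_val_one]
      field_simp
      ring
  have hdta : ∀ a b, dt x (a + b) = dt x a + dt x b := by
    intro a b; simp only [dt, Pi.add_apply]; ring
  have hdts : ∀ (c : F) a, dt x (c • a) = c * dt x a := by
    intro c a; simp only [dt, Pi.smul_apply, smul_eq_mul]; ring
  -- the vectors of `E`
  have hadd : ∀ a b, (∃ v ∈ E, M.π v = a) → (∃ v ∈ E, M.π v = b) → ∃ v ∈ E, M.π v = a + b := by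
    rintro a b ⟨u, hu, rfl⟩ ⟨v, hv, rfl⟩
    exact ⟨u * v, mul_mem hu hv, M.map_mul u (N.E_le hu) v (N.E_le hv)⟩
  have hEV : ∀ v ∈ V, (∃ u ∈ E, M.π u = M.π v) → v ∈ E := by
    rintro v hv ⟨u, hu, e⟩
    rwa [← π_inj M (N.E_le hu) hv e]
  -- (1) some element of `E` is not perpendicular to `x`
  obtain ⟨v0, hv0, hd0⟩ : ∃ v ∈ E, dt x (M.π v) ≠ 0 := by
    by_contra hcon
    push Not at hcon
    obtain ⟨u, hu, e1⟩ := M.surj y0
    obtain ⟨v, hv, e2⟩ := M.surj (w • y0)
    have h1 : u ∉ E := by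
      intro h1
      have := hcon u h1
      rw [e1, hy0] at this
      exact one_ne_zero this
    have h3 : v ∉ E := by
      intro h1
      have := hcon v h1
      rw [e2, hdts, hy0, mul_one] at this
      exact hw0 this
    have h4 := hcon _ (hidx u hu v hv h1 h3)
    rw [M.map_mul u hu v hv, e1, e2, hdta, hdts, hy0] at h4
    apply hw1
    linear_combination h4 - h2
  -- (2) the line of `x` is in `E`
  have hline : ∀ c : F, ∃ v ∈ E, M.π v = c • x := by
    intro c
    set b := c * (dt x (M.π v0))⁻¹ with hb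
    obtain ⟨m, hm', hmA⟩ := M.lift (mk (1 - b * x 0 * x 1) (b * x 0 * x 0) (-(b * x 1 * x 1))
      (1 + b * x 0 * x 1) (by ring))
    have hmA' := (M.ind_iff hm').1 hmA
    have hmf : ∀ y, M.act m y = y + (b * dt x y) • x := by
      intro y
      rw [hmA']
      apply ext2
      · rw [ap_zero', mk_00, mk_01, Pi.add_apply, Pi.smul_apply, smul_eq_mul, dt]; ring
      · rw [ap_one', mk_10, mk_11, Pi.add_apply, Pi.smul_apply, smul_eq_mul, dt]; ring
    have hmz' : m * z = z * m := by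
      have h1 : m * z * m⁻¹ = z := by
        apply π_inj M (M.Vn _ hm' z N.zV) N.zV
        rw [← M.act_π hm' N.zV, ← hx, hmf]
        have : dt x x = 0 := by simp only [dt]; ring
        rw [this, mul_zero, zero_smul, add_zero]
      rwa [mul_inv_eq_iff_eq_mul] at h1
    have h3 := N.inv m hm' hmz' v0 hv0
    refine ⟨m * v0 * m⁻¹ * v0, mul_mem h3 hv0, ?_⟩
    rw [M.map_mul _ (N.E_le h3) _ (N.E_le hv0), ← M.act_π hm' (N.E_le hv0), hmf, hb]
    have h4 : c * (dt x (M.π v0))⁻¹ * dt x (M.π v0) = c := by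
      rw [mul_assoc, inv_mul_cancel₀ hd0, mul_one]
    rw [h4]
    have h5 : M.π v0 + c • x + M.π v0 = c • x + (2 : F) • M.π v0 := by
      rw [two_smul]; abel
    rw [h5, h2, zero_smul, add_zero]
  -- (3) all values of `dt x` on `E`
  by_contra hμ1
  have hμ0 : μ ≠ 0 := by
    intro h0
    obtain ⟨v, hv, e1⟩ := M.surj y0
    have h1 := hdt (M.act (a * g)⁻¹ y0)
    rw [M.act_act_inv hmP, h0, zero_mul, hy0] at h1
    exact one_ne_zero h1
  set δ := dt x (M.π v0) with hδ
  have hv1 : a * g * v0 * (a * g)⁻¹ ∈ E := N.inv _ hmP hmz v0 hv0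
  have hval : ∀ c : F, ∃ v ∈ E, dt x (M.π v) = c := by
    intro c
    have h1 : M.π (a * g * v0 * (a * g)⁻¹) = M.act (a * g) (M.π v0) := (M.act_π hmP (N.E_le hv0)).symm
    have h3 : dt x (M.π (a * g * v0 * (a * g)⁻¹)) = μ * δ := by rw [h1, hdt]
    have h4 : dt x (M.π (a * g * v0 * (a * g)⁻¹ * v0)) = μ * δ + δ := by
      rw [M.map_mul _ (N.E_le hv1) _ (N.E_le hv0), hdta, h3]
    have h5 : dt x (M.π 1) = 0 := by rw [M.map_one]; simp [dt]
    have hcase : c * δ⁻¹ = 0 ∨ c * δ⁻¹ = 1 ∨ c * δ⁻¹ = μ ∨ c * δ⁻¹ = μ + 1 := by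
      rcases h.all μ with e | e | e | e
      · exact absurd e hμ0
      · exact absurd e hμ1
      · rw [e]; exact h.all _
      · rw [e]
        rcases h.all (c * δ⁻¹) with e' | e' | e' | e'
        · exact Or.inl e'
        · exact Or.inr (Or.inl e')
        · right; right; right; rw [e']; linear_combination -h2
        · right; right; left; exact e'
    have hc : c * δ⁻¹ * δ = c := by rw [mul_assoc, inv_mul_cancel₀ hd0, mul_one]
    rcases hcase with e | e | e | e
    · exact ⟨1, one_mem E, by rw [h5, ← hc, e, zero_mul]⟩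
    · exact ⟨v0, hv0, by rw [← hδ, ← hc, e, one_mul]⟩
    · exact ⟨_, hv1, by rw [h3, ← hc, e]⟩
    · exact ⟨_, mul_mem hv1 hv0, by rw [h4, ← hc, e]; ring⟩
  apply hnot
  intro v hv
  apply hEV v hv
  obtain ⟨u, hu, e⟩ := hval (dt x (M.π v))
  -- `π v - π u` is a multiple of `x`
  have h3 : ∃ c : F, M.π v = M.π u + c • x := by
    have h4 : dt x (M.π v - M.π u) = 0 := by
      have : dt x (M.π v - M.π u) = dt x (M.π v) - dt x (M.π u) := by
        simp only [dt, Pi.sub_apply]; ring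
      rw [this, e, sub_self]
    generalize hy : M.π v - M.π u = y at h4
    have h5 : ∃ c : F, y = c • x := by
      simp only [dt] at h4
      by_cases hx1 : x 0 = 0
      · have hx2 : x 1 ≠ 0 := fun h' => hx0 (ext2 hx1 h')
        refine ⟨y 1 * (x 1)⁻¹, ext2 ?_ ?_⟩
        · rw [Pi.smul_apply, smul_eq_mul, hx1, mul_zero]
          rw [hx1, zero_mul, zero_sub, neg_eq_zero] at h4
          exact (mul_eq_zero.1 h4).resolve_left hx2
        · rw [Pi.smul_apply, smul_eq_mul, mul_assoc, inv_mul_cancel₀ hx2, mul_one]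
      · refine ⟨y 0 * (x 0)⁻¹, ext2 ?_ ?_⟩
        · rw [Pi.smul_apply, smul_eq_mul, mul_assoc, inv_mul_cancel₀ hx1, mul_one]
        · rw [Pi.smul_apply, smul_eq_mul]
          field_simp
          linear_combination h4
    obtain ⟨c, hc⟩ := h5
    exact ⟨c, by rw [← hc, ← hy]; abel⟩
  obtain ⟨c, hc⟩ := h3
  rw [hc]
  exact hadd _ _ ⟨u, hu, rfl⟩ (hline c)

/-- the coordinates multiplied by `κ` -/
def scale (κ : F) (hκ : κ ≠ 0) : NatSec F P V ⊥ where
  π v := κ • M.π v
  map_mul v hv u hu := by rw [M.map_mul v hv u hu, smul_add]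
  V0V := M.V0V
  ker v hv := by rw [smul_eq_zero_iff_right hκ, M.ker v hv]
  surj x := by
    obtain ⟨v, hv, e⟩ := M.surj (κ⁻¹ • x)
    exact ⟨v, hv, by rw [e, smul_smul, mul_inv_cancel₀ hκ, one_smul]⟩
  Vn := M.Vn
  V0n := M.V0n
  lift A := by
    obtain ⟨m, hm, hA⟩ := M.lift A
    exact ⟨m, hm, fun v hv => by rw [hA v hv, ap_smul]⟩
  norm g hg m hm A hA := by
    have h1 : ∀ v ∈ V, M.π (m * v * m⁻¹) = ap A (M.π v) := by
      intro v hv
      have h2 := hA v hv
      rw [ap_smul] at h2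
      exact smul_right_injective _ hκ h2
    obtain ⟨B, hB⟩ := M.norm g hg m hm A h1
    exact ⟨B, fun v hv => by rw [hB v hv, ap_smul]⟩

theorem scale_act (κ : F) (hκ : κ ≠ 0) {g : G} (hg : g ∈ P) (x : Fin 2 → F) :
    (scale M κ hκ).act g x = κ • M.act g (κ⁻¹ • x) := by
  obtain ⟨v, hv, e⟩ := M.surj (κ⁻¹ • x)
  have h1 : x = (scale M κ hκ).π v := by
    show x = κ • M.π v
    rw [e, smul_smul, mul_inv_cancel₀ hκ, one_smul]
  rw [← e, M.act_π hg hv]
  nth_rewrite 1 [h1]
  rw [(scale M κ hκ).act_π hg hv]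
  rfl

/-- some element of `P` is not linear -/
theorem exists_frob [Finite F] (h : W4 w) {S E : Subgroup G} {z : G} (N : Nt P V S E z) :
    ∃ g ∈ P, ∃ p q r t : F, ∀ x, M.act g x = mt p q r t (fr x) := by
  by_contra hcon
  push Not at hcon
  have hw0 : w ≠ 0 := by
    intro h0
    have := h.sq
    rw [h0] at this
    simp at this
  have hw1 : w ≠ 1 := by
    intro h0
    have := h.sq
    rw [h0] at this
    simp at this
  obtain ⟨v, hv, e⟩ := M.surj (w • M.π z)
  have hz0 := π_ne M N.zV N.z_ne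
  have h1 : ∀ s ∈ S, s * v = v * s := by
    intro s hs
    have hsP := N.S_le hs
    obtain ⟨p, q, r, t, h2 | h2⟩ := exists_mt M h hsP
    · have h3 : M.act s (M.π z) = M.π z := by
        rw [M.act_π hsP N.zV, N.comm s hs, mul_inv_cancel_right]
      have h4 : M.act s (w • M.π z) = w • M.π z := by
        rw [h2]
        rw [h2] at h3
        have h5 : mt p q r t (w • M.π z) = w • mt p q r t (M.π z) := by
          apply ext2
          · simp only [mt, Pi.smul_apply, smul_eq_mul, Matrix.cons_val_zero]; ring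
          · simp only [mt, Pi.smul_apply, smul_eq_mul, Matrix.cons_val_one]
            simp only [Matrix.cons_val_fin_one]; ring
        rw [h5, h3]
      rw [← e, M.act_π hsP hv] at h4
      have h5 := π_inj M (M.Vn s hsP v hv) hv h4
      rwa [mul_inv_eq_iff_eq_mul] at h5
    · obtain ⟨x, hx⟩ := hcon s hsP p q r t
      exact absurd (h2 x) hx
  rcases N.uniq v hv h1 with rfl | rfl
  · rw [M.map_one] at e
    rcases smul_eq_zero.1 e.symm with e' | e'
    · exact hw0 e'
    · exact hz0 e'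
  · have h2 : (w - 1) • M.π v = 0 := by rw [sub_smul, one_smul, ← e, sub_self]
    rcases smul_eq_zero.1 h2 with e' | e'
    · exact hw1 (sub_eq_zero.1 e')
    · exact hz0 e'

theorem fr_fr (h : W4 w) (x : Fin 2 → F) : fr (fr x) = x := by
  have h4 : ∀ c : F, c * c * (c * c) = c := by
    intro c
    rcases h.all c with e | e | e | e <;> rw [e]
    · simp
    · simp
    · rw [h.sq]; linear_combination h.sq + (w + 1) * h.two
    · have h5 : (w + 1) * (w + 1) = w := by linear_combination h.sq + (w + 1) * h.two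
      rw [h5, h.sq]
  apply ext2
  · exact h4 _
  · exact h4 _

theorem fr_mt (h2 : (2 : F) = 0) (p q r t : F) (x : Fin 2 → F) :
    fr (mt p q r t x) = mt (p * p) (q * q) (r * r) (t * t) (fr x) := by
  apply ext2
  · simp only [mt, fr, Matrix.cons_val_zero, Matrix.cons_val_one]
    linear_combination (p * x 0 * q * x 1) * h2
  · simp only [mt, fr, Matrix.cons_val_zero, Matrix.cons_val_one]
    linear_combination (r * x 0 * t * x 1) * h2

theorem mt_mt (p q r t a b c d : F) (x : Fin 2 → F) : mt p q r t (mt a b c d x) =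
    mt (p * a + q * c) (p * b + q * d) (r * a + t * c) (r * b + t * d) x := by
  apply ext2
  · simp only [mt, Matrix.cons_val_zero, Matrix.cons_val_one]; ring
  · simp only [mt, Matrix.cons_val_zero, Matrix.cons_val_one]; ring

theorem ap_eq_mt (A : Matrix.SpecialLinearGroup (Fin 2) F) (x : Fin 2 → F) :
    ap A x = mt (ent A 0 0) (ent A 0 1) (ent A 1 0) (ent A 1 1) x := rfl

include M in
/-- some element acts as `A ∘ Frobenius`, in suitable coordinates -/
theorem exists_frob_one [Finite F] (h : W4 w) {S E : Subgroup G} {z : G} (N : Nt P V S E z) :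
    ∃ M' : NatSec F P V ⊥, ∃ g ∈ P, ∃ A, ∀ x, M'.act g x = ap A (fr x) := by
  have h2 := h.two
  obtain ⟨g, hg, p, q, r, t, hm⟩ := exists_frob M h N
  set ν := p * t - q * r with hν
  have hν0 : ν ≠ 0 := by
    intro h0
    have h1 : ∀ x y, dt (M.act g x) (M.act g y) = 0 := by
      intro x y
      rw [hm, hm, dt_mt, ← hν, h0, zero_mul]
    have h3 := h1 (M.act g⁻¹ ![1, 0]) (M.act g⁻¹ ![0, 1])
    rw [M.act_act_inv hg, M.act_act_inv hg] at h3
    simp [dt] at h3
  have hκκ : ν * ν * (ν * ν) = ν := by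
    have := congrFun (fr_fr h ![ν, 0]) 0
    simpa [fr] using this
  have hκ : ν * ν ≠ 0 := mul_ne_zero hν0 hν0
  refine ⟨scale M (ν * ν) hκ, g, hg, ?_⟩
  set κ := ν * ν with hκd
  have hdet : (κ⁻¹ * p) * (κ⁻¹ * t) - (κ⁻¹ * q) * (κ⁻¹ * r) = 1 := by
    have h3 : (κ⁻¹ * p) * (κ⁻¹ * t) - (κ⁻¹ * q) * (κ⁻¹ * r) = κ⁻¹ * κ⁻¹ * ν := by rw [hν]; ring
    rw [h3, ← hκκ]
    field_simp
  refine ⟨mk _ _ _ _ hdet, fun x => ?_⟩
  rw [scale_act M κ hκ hg, hm, ← mt_eq_ap hdet]
  apply ext2
  · simp only [mt, fr, Pi.smul_apply, smul_eq_mul, Matrix.cons_val_zero, Matrix.cons_val_one]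
    field_simp
  · simp only [mt, fr, Pi.smul_apply, smul_eq_mul, Matrix.cons_val_zero, Matrix.cons_val_one]
    field_simp

/-- all elements of `P` act as `A` or as `A ∘ Frobenius` -/
theorem act_cases [Finite F] (h : W4 w) {S E : Subgroup G} {z : G} (N : Nt P V S E z) {g0 : G}
    (hg0 : g0 ∈ P) {A0 : Matrix.SpecialLinearGroup (Fin 2) F} (h0 : ∀ x, M.act g0 x = ap A0 (fr x))
    {g : G} (hg : g ∈ P) : ∃ A, (∀ x, M.act g x = ap A x) ∨ ∀ x, M.act g x = ap A (fr x) := by
  obtain ⟨p, q, r, t, h1 | h1⟩ := exists_mt M h hg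
  · have hd := det_one M h N hg h1
    exact ⟨mk p q r t hd, Or.inl fun x => by rw [h1, mt_eq_ap hd]⟩
  · have hgg : g * g0 ∈ P := mul_mem hg hg0
    have h3 : ∀ x, M.act (g * g0) x = mt p q r t (mt (ent A0 0 0 * ent A0 0 0) (ent A0 0 1 * ent A0 0 1)
        (ent A0 1 0 * ent A0 1 0) (ent A0 1 1 * ent A0 1 1) x) := by
      intro x
      rw [M.act_mul hg hg0, h0, h1, ap_eq_mt, fr_mt h.two, fr_fr h]
    have h4 := det_one M h N hgg (fun x => (h3 x).trans (mt_mt _ _ _ _ _ _ _ _ x))
    have h5 := det_eq A0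
    have hd : p * t - q * r = 1 := by
      have h6 : (ent A0 0 0 * ent A0 0 0) * (ent A0 1 1 * ent A0 1 1) -
          (ent A0 0 1 * ent A0 0 1) * (ent A0 1 0 * ent A0 1 0) = 1 := by
        have h7 : ent A0 0 0 * ent A0 1 1 = 1 + ent A0 0 1 * ent A0 1 0 := by linear_combination h5
        linear_combination (ent A0 0 0 * ent A0 1 1 + 1 + ent A0 0 1 * ent A0 1 0) * h7 +
          (ent A0 0 1 * ent A0 1 0) * h.two
      linear_combination h4 - (p * t - q * r) * h6
    exact ⟨mk p q r t hd, Or.inr fun x => by rw [h1, mt_eq_ap hd]⟩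

/-- **Coordinates of `V` such that `P` acts on the points through `S₅`.** -/
structure AW (P V : Subgroup G) (W : B4 → G) : Prop where
  mul : ∀ x y, W (ad x y) = W x * W y
  inj : ∀ x y, W x = W y → x = y
  mem : ∀ x, W x ∈ V
  surj : ∀ v ∈ V, ∃ x, v = W x
  act : ∀ m ∈ P, ∃ σ : Equiv.Perm (Fin 5), ∀ a b c d, D4 a b c d →
    m * W (tb a b c d) * m⁻¹ = W (tb (σ a) (σ b) (σ c) (σ d))
  full : ∀ σ : Equiv.Perm (Fin 5), ∃ m ∈ P, ∀ a b c d, D4 a b c d →
    m * W (tb a b c d) * m⁻¹ = W (tb (σ a) (σ b) (σ c) (σ d))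

theorem AW.zero {W : B4 → G} (A : AW P V W) : W (false, false, false, false) = 1 := by
  have h1 := A.mul (false, false, false, false) (false, false, false, false)
  have h2 : ad (false, false, false, false) (false, false, false, false) =
    ((false, false, false, false) : B4) := rfl
  rw [h2] at h1
  exact left_eq_mul.1 h1

theorem ad_self (x : B4) : ad x x = (false, false, false, false) := by
  obtain ⟨a, b, c, d⟩ := x
  simp [ad]

theorem ad_comm (x y : B4) : ad x y = ad y x := by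
  simp only [ad, Bool.xor_comm]

theorem AW.sq {W : B4 → G} (A : AW P V W) (v : G) (hv : v ∈ V) : v * v = 1 := by
  obtain ⟨x, rfl⟩ := A.surj v hv
  rw [← A.mul, ad_self, A.zero]

theorem AW.comm {W : B4 → G} (A : AW P V W) (v : G) (hv : v ∈ V) (u : G) (hu : u ∈ V) : v * u = u * v := by
  obtain ⟨x, rfl⟩ := A.surj v hv
  obtain ⟨y, rfl⟩ := A.surj u hu
  rw [← A.mul, ← A.mul, ad_comm]

theorem AW.card {W : B4 → G} (A : AW P V W) : Nat.card V = 16 := by
  have e : B4 ≃ V := Equiv.ofBijective (fun x => ⟨W x, A.mem x⟩) ⟨fun x y h => A.inj x y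
    (congrArg Subtype.val h), fun v => by
      obtain ⟨x, hx⟩ := A.surj v v.2
      exact ⟨x, Subtype.ext hx.symm⟩⟩
  rw [← Nat.card_congr e, Nat.card_eq_fintype_card]
  rfl

/-- the labels -/
theorem AW.alp {W : B4 → G} (A : AW P V W) : Alp P V fun a b c d => W (tb a b c d) where
  swap1 a b c d hd := by rw [tb_swap1 a b c d hd]
  swap2 a b c d hd := by rw [tb_swap2 a b c d hd]
  ne_one a b c d hd h := tb_ne a b c d hd (A.inj _ _ (h.trans A.zero.symm))
  mem a b c d _ := A.mem _
  sq := A.sq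
  comm := A.comm
  card := A.card
  surj v hv h1 := by
    obtain ⟨x, rfl⟩ := A.surj v hv
    have hx : x ≠ (false, false, false, false) := by
      rintro rfl
      exact h1 A.zero
    obtain ⟨a, b, c, d, hd, e⟩ := tb_surj x hx
    exact ⟨a, b, c, d, hd, by rw [e]⟩
  line4 a b c d hd := by rw [← A.mul, tb_line4 a b c d hd]
  line2 a b c d m hd := by rw [← A.mul, tb_line2 a b c d m hd]
  hyp a b c d m hd := by rw [← A.mul, tb_hyp a b c d m hd]
  act := A.act
  full := A.full

/-- conjugation by an element of `P` -/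
theorem AW.conj {W : B4 → G} (A : AW P V W) (hV : P ≤ normalizer (V : Set G)) {m : G} (hm : m ∈ P) :
    AW P V fun x => m * W x * m⁻¹ where
  mul x y := by
    show m * W (ad x y) * m⁻¹ = _
    rw [A.mul]; group
  inj x y h := A.inj x y (by
    have h1 : m * W x * m⁻¹ = m * W y * m⁻¹ := h
    exact mul_left_cancel (mul_right_cancel h1))
  mem x := (mem_normalizer_iff.1 (hV hm) _).1 (A.mem x)
  surj v hv := by
    have h1 := (mem_normalizer_iff.1 (hV (inv_mem hm)) v).1 hv
    obtain ⟨x, hx⟩ := A.surj _ h1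
    exact ⟨x, by rw [← hx]; group⟩
  act g hg := by
    obtain ⟨σ, hσ⟩ := A.act (m⁻¹ * g * m) (mul_mem (mul_mem (inv_mem hm) hg) hm)
    refine ⟨σ, fun a b c d hd => ?_⟩
    rw [← hσ a b c d hd]; group
  full σ := by
    obtain ⟨g, hg, hσ⟩ := A.full σ
    refine ⟨m * g * m⁻¹, mul_mem (mul_mem hm hg) (inv_mem hm), fun a b c d hd => ?_⟩
    rw [← hσ a b c d hd]; group

include M in
/-- **The coordinates.** -/
theorem exists_aw [Finite F] (h : W4 w) {S E : Subgroup G} {z : G} (N : Nt P V S E z) :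
    ∃ W, AW P V W := by
  classical
  have h2 := h.two
  obtain ⟨M, g0, hg0, A0, h0⟩ := exists_frob_one M h N
  choose pv hpV hpπ using M.surj
  have hpinj : ∀ v ∈ V, ∀ x, M.π v = x → v = pv x := by
    intro v hv x e
    exact π_inj M hv (hpV x) (by rw [hpπ, e])
  have hconj : ∀ g ∈ P, ∀ x y, M.act g x = y → g * pv x * g⁻¹ = pv y := by
    intro g hg x y e
    apply hpinj _ (M.Vn g hg _ (hpV x))
    rw [← M.act_π hg (hpV x), hpπ, e]
  have hmul : ∀ x y, pv x * pv y = pv (x + y) := by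
    intro x y
    apply hpinj _ (mul_mem (hpV x) (hpV y))
    rw [M.map_mul _ (hpV x) _ (hpV y), hpπ, hpπ]
  have hVx : ∀ v ∈ V, v = pv (M.π v) := fun v hv => hpinj v hv _ rfl
  have hp0 : pv 0 = 1 := (hpinj 1 (one_mem V) 0 M.map_one).symm
  have hp1 : ∀ x, x ≠ 0 → pv x ≠ 1 := by
    intro x hx e
    apply hx
    rw [← hpπ x, e, M.map_one]
  refine ⟨fun x => pv (ps w x), ?_, ?_, fun x => hpV _, ?_, ?_, ?_⟩
  · intro x y
    show pv (ps w (ad x y)) = pv (ps w x) * pv (ps w y)
    rw [hmul, ps_ad h]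
  · intro x y e
    apply ps_inj h
    rw [← hpπ (ps w x), ← hpπ (ps w y)]
    exact congrArg _ e
  · intro v hv
    obtain ⟨x, hx⟩ := ps_surj h (M.π v)
    exact ⟨x, by rw [← hx]; exact hVx v hv⟩
  · intro m hm
    obtain ⟨A, hA | hA⟩ := act_cases M h N hg0 h0 hm
    · obtain ⟨σ, hσ⟩ := exists_act h A
      exact ⟨σ, fun a b c d hd => hconj m hm _ _ (by rw [hA]; exact hσ a b c d hd)⟩
    · obtain ⟨σ, hσ⟩ := exists_act h A
      have h5 := hσ.comp (act_fr h)
      exact ⟨σ * Equiv.swap 3 4, fun a b c d hd => hconj m hm _ _ (by rw [hA]; exact h5 a b c d hd)⟩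
  · -- the permutations induced by `P`
    let K : Subgroup (Equiv.Perm (Fin 5)) :=
      { carrier := {σ | ∃ m ∈ P, Act w (M.act m) σ}
        mul_mem' := by
          rintro σ τ ⟨m, hm, hσ⟩ ⟨n, hn, hτ⟩
          refine ⟨m * n, mul_mem hm hn, ?_⟩
          have := hσ.comp hτ
          intro a b c d hd
          rw [M.act_mul hm hn]
          exact this a b c d hd
        one_mem' := ⟨1, one_mem P, fun a b c d _ => by rw [M.act_one]; rfl⟩
        inv_mem' := by
          rintro σ ⟨m, hm, hσ⟩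
          refine ⟨m⁻¹, inv_mem hm, ?_⟩
          intro a b c d hd
          have h5 := hσ (σ⁻¹ a) (σ⁻¹ b) (σ⁻¹ c) (σ⁻¹ d) (D4.map hd σ⁻¹)
          have hσi : ∀ i, σ (σ⁻¹ i) = i := fun i => by
            rw [← Equiv.Perm.mul_apply, mul_inv_cancel]; rfl
          rw [hσi, hσi, hσi, hσi] at h5
          rw [← h5, M.act_inv_act hm] }
    have hK : K = ⊤ := by
      rw [eq_top_iff, ← closure_top, closure_le]
      rintro σ hσ
      rcases hσ with rfl | hσ
      · obtain ⟨m, hm, hA⟩ := M.lift (up w * lo 1)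
        refine ⟨m, hm, ?_⟩
        have h5 := (act_up_w h).comp (act_lo_one h)
        intro a b c d hd
        rw [(M.ind_iff hm).1 hA, ap_mul]
        exact h5 a b c d hd
      · rw [Set.mem_singleton_iff] at hσ
        subst hσ
        obtain ⟨m, hm, hA⟩ := M.lift A0⁻¹
        refine ⟨m * g0, mul_mem hm hg0, ?_⟩
        intro a b c d hd
        rw [M.act_mul hm hg0, (M.ind_iff hm).1 hA, h0, ap_inv_ap]
        exact act_fr h a b c d hd
    intro σ
    have hσ : σ ∈ K := by rw [hK]; trivial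
    obtain ⟨m, hm, h5⟩ := hσ
    exact ⟨m, hm, fun a b c d hd => hconj m hm _ _ (h5 a b c d hd)⟩

theorem exists_alp [Finite F] (h : W4 w) {S E : Subgroup G} {z : G} (M : NatSec F P V ⊥)
    (N : Nt P V S E z) : ∃ Z, Alp P V Z := by
  obtain ⟨W, hW⟩ := exists_aw M h N
  exact ⟨_, hW.alp⟩

end Cfsg.Agent.Omega.NOne.AG.Tab
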