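import Cfsg.Agent.Omega.NOne.AG.Lab
import Cfsg.Agent.Omega.NatPair.Semi

/-!
# D0ag, type (α): the table of the 15 points of `F₄²`

`F` is a field with four elements, `w ∈ F`, `w² = w + 1`.  The vectors of `F²` are encoded by four bits,
`ps w : B4 → F²`; `tb a b c d` is the point `z_{ab|cd}`.  The elements of `SL₂(F)` and the field
automorphism permute the points through `S₅`.
-/

set_option autoImplicit false
set_option linter.unusedSectionVars false

namespace Cfsg.Agent.Omega.NOne.AG.Tab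

open Cfsg.Agent.Lib.SL2Mat Cfsg.Agent.Omega.NatPair

/-- four bits -/
abbrev B4 : Type := Bool × Bool × Bool × Bool

/-- addition -/
def ad (x y : B4) : B4 := (xor x.1 y.1, xor x.2.1 y.2.1, xor x.2.2.1 y.2.2.1, xor x.2.2.2 y.2.2.2)

/-- the bits of a number -/
def dec : ℕ → B4
  | 1 => (true, false, false, false)
  | 2 => (false, true, false, false)
  | 3 => (true, true, false, false)
  | 4 => (false, false, true, false)
  | 5 => (true, false, true, false)
  | 6 => (false, true, true, false)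
  | 7 => (true, true, true, false)
  | 8 => (false, false, false, true)
  | 9 => (true, false, false, true)
  | 10 => (false, true, false, true)
  | 11 => (true, true, false, true)
  | 12 => (false, false, true, true)
  | 13 => (true, false, true, true)
  | 14 => (false, true, true, true)
  | 15 => (true, true, true, true)
  | _ => (false, false, false, false)

/-- the table -/
def tabL : List ℕ :=
  [0, 0, 0, 0, 0, 0, 0, 5, 11, 14, 0, 4, 0, 13, 9, 0, 8, 15, 0, 7, 0, 12, 10, 6, 0, 0, 0, 5, 11, 14, 0, 0,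
   0, 0, 0, 1, 0, 0, 6, 7, 3, 0, 10, 0, 9, 2, 0, 15, 13, 0, 0, 4, 0, 13, 9, 1, 0, 0, 6, 7, 0, 0, 0, 0, 0,
   2, 12, 0, 0, 14, 3, 8, 0, 11, 0, 0, 8, 15, 0, 7, 3, 0, 10, 0, 9, 2, 12, 0, 0, 14, 0, 0, 0, 0, 0, 1, 4,
   5, 0, 0, 0, 12, 10, 6, 0, 2, 0, 15, 13, 0, 3, 8, 0, 11, 0, 1, 4, 5, 0, 0, 0, 0, 0, 0, 0]

/-- `z_{ab|cd}` -/
def tb (a b c d : Fin 5) : B4 :=
  dec (tabL.getD (25 * a.1 + 5 * b.1 + (-(a + b + c + d) : Fin 5).1) 0)

theorem m_eq : ∀ a b c d m : Fin 5, D5 a b c d m → m = -(a + b + c + d) := by decide +kernel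

theorem tb_swap1 : ∀ a b c d, D4 a b c d → tb a b c d = tb b a c d := by decide +kernel

theorem tb_swap2 : ∀ a b c d, D4 a b c d → tb a b c d = tb c d a b := by decide +kernel

theorem tb_ne : ∀ a b c d, D4 a b c d → tb a b c d ≠ (false, false, false, false) := by decide +kernel

theorem tb_surj : ∀ x : B4, x ≠ (false, false, false, false) → ∃ a b c d, D4 a b c d ∧ x = tb a b c d := by
  decide +kernel

theorem tb_line4 : ∀ a b c d, D4 a b c d → ad (tb a b c d) (tb a c b d) = tb a d b c := by decide +kernel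

theorem tb_line2 : ∀ a b c d m, D5 a b c d m → ad (tb a b c d) (tb a b c m) = tb a b d m := by
  decide +kernel

theorem tb_hyp : ∀ a b c d m, D5 a b c d m → ad (tb a b c d) (tb b c d m) = tb b m a d := by
  decide +kernel

/-- `x ↦ x₀ + x₁` -/
def U1 (x : B4) : B4 := (xor x.1 x.2.2.1, xor x.2.1 x.2.2.2, x.2.2.1, x.2.2.2)
/-- `x ↦ x₀ + w x₁` -/
def Uw (x : B4) : B4 := (xor x.1 x.2.2.2, xor x.2.1 (xor x.2.2.1 x.2.2.2), x.2.2.1, x.2.2.2)
/-- `x ↦ x₁ + x₀` -/
def L1 (x : B4) : B4 := (x.1, x.2.1, xor x.2.2.1 x.1, xor x.2.2.2 x.2.1)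
/-- `x ↦ x₁ + w x₀` -/
def Lw (x : B4) : B4 := (x.1, x.2.1, xor x.2.2.1 x.2.1, xor x.2.2.2 (xor x.1 x.2.1))
/-- the field automorphism -/
def Th (x : B4) : B4 := (xor x.1 x.2.1, x.2.1, xor x.2.2.1 x.2.2.2, x.2.2.2)

/-- the permutations -/
def sU1 : Equiv.Perm (Fin 5) := ⟨![0, 2, 1, 4, 3], ![0, 2, 1, 4, 3], by decide, by decide⟩
@[inherit_doc sU1] def sUw : Equiv.Perm (Fin 5) := ⟨![0, 3, 4, 1, 2], ![0, 3, 4, 1, 2], by decide, by decide⟩
@[inherit_doc sU1] def sL1 : Equiv.Perm (Fin 5) := ⟨![2, 1, 0, 4, 3], ![2, 1, 0, 4, 3], by decide, by decide⟩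
@[inherit_doc sU1] def sLw : Equiv.Perm (Fin 5) := ⟨![4, 1, 3, 2, 0], ![4, 1, 3, 2, 0], by decide, by decide⟩

theorem tb_U1 : ∀ a b c d, D4 a b c d → U1 (tb a b c d) = tb (sU1 a) (sU1 b) (sU1 c) (sU1 d) := by
  decide +kernel

theorem tb_Uw : ∀ a b c d, D4 a b c d → Uw (tb a b c d) = tb (sUw a) (sUw b) (sUw c) (sUw d) := by
  decide +kernel

theorem tb_L1 : ∀ a b c d, D4 a b c d → L1 (tb a b c d) = tb (sL1 a) (sL1 b) (sL1 c) (sL1 d) := by
  decide +kernel

theorem tb_Lw : ∀ a b c d, D4 a b c d → Lw (tb a b c d) = tb (sLw a) (sLw b) (sLw c) (sLw d) := by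
  decide +kernel

theorem tb_Th : ∀ a b c d, D4 a b c d → Th (tb a b c d) =
    tb (Equiv.swap 3 4 a) (Equiv.swap 3 4 b) (Equiv.swap 3 4 c) (Equiv.swap 3 4 d) := by
  decide +kernel

theorem closure_top : Subgroup.closure ({sUw * sL1, Equiv.swap 3 4} : Set (Equiv.Perm (Fin 5))) = ⊤ := by
  apply Equiv.Perm.closure_prime_cycle_swap
  · rw [Fintype.card_fin]; norm_num
  · refine ⟨0, by decide, ?_⟩
    have h : ∀ y : Fin 5, ∃ n : Fin 5, ((sUw * sL1) ^ n.1) 0 = y := by decide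
    intro y _
    obtain ⟨n, hn⟩ := h y
    exact ⟨n.1, by rw [zpow_natCast]; exact hn⟩
  · decide
  · exact ⟨3, 4, by decide, rfl⟩

end Cfsg.Agent.Omega.NOne.AG.Tab
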