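import Cfsg.Agent.Omega.NOne.AG.Point
import Cfsg.Agent.Omega.NO1.Types

/-!
# THEOREM D0ag (bb #15001): the configuration with its Sylow subgroup

`Base`: `Conf` together with the Sylow 2-subgroup `S` of `G`, `T = C_S(V)`, `S ≤ P`, `S ≤ C i₀`, `Ω₁ Z(S) = ⟨z i₀⟩`,
`O₂(C_G(z i₀)) ≤ Q i₀`, `Qs i₀ ≤ O₂(C_G(z i₀))`, `P ∩ C(z i₀) = S C_P(V)`, `|S : T| = 8`.
`Base.of`: from `Pt` and `NO1.Cfg`.
-/

set_option autoImplicit false

namespace Cfsg.Agent.Omega.NOne.AG

open Subgroup Cfsg Cfsg.Agent.ZN Cfsg.Agent.Omega.MinPar Cfsg.Agent.Omega.Frame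
open Cfsg.Agent.Omega.NoFF.LinesPlug (CC)

universe u

variable {G : Type u} [Group G] {ι : Type*}

/-- The abstract configuration of D0ag with its Sylow subgroup. -/
structure Base [Finite G] (S : Sylow 2 G) (P V T : Subgroup G) (z : ι → G) (opp : ι → ι → Prop)
    (C Q QF Qs : ι → Subgroup G) (i₀ : ι) : Prop extends Conf P V T z opp C Q QF Qs where
  ctx : Ctx G
  T_eq : T = (S : Subgroup G) ⊓ centralizer (V : Set G)
  S_le_P : (S : Subgroup G) ≤ P
  S_le_C : (S : Subgroup G) ≤ C i₀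
  omega : ∀ x ∈ (S : Subgroup G), x * x = 1 → (∀ s ∈ (S : Subgroup G), s * x = x * s) →
    x = 1 ∨ x = z i₀
  Q0_le : o2 (centralizer ({z i₀} : Set G)) ≤ Q i₀
  Qs_le : Qs i₀ ≤ o2 (centralizer ({z i₀} : Set G))
  /-- `P ∩ C = S C_P(V)` -/
  stab : ∀ m ∈ P, m * z i₀ = z i₀ * m →
    ∃ s ∈ (S : Subgroup G), ∃ c ∈ P, (∀ v ∈ V, c * v = v * c) ∧ m = s * c
  index : T.relIndex (S : Subgroup G) = 8

/-- A normal 2-subgroup of a subgroup `X` lies in every Sylow 2-subgroup of `G` contained in `X`. -/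
theorem o2_le_sylow [Finite G] (S : Sylow 2 G) {X : Subgroup G} (hSX : (S : Subgroup G) ≤ X) :
    o2 X ≤ S := by
  exact Cfsg.Agent.MinSimple.VModule.o2_le_of_sylow S.isPGroup'
    (MinSimple.Basic.not_dvd_relIndex S hSX)

namespace Base

variable [Finite G] {S : Sylow 2 G} {P V T : Subgroup G} {z : ι → G} {opp : ι → ι → Prop}
  {C Q QF Qs : ι → Subgroup G} {i₀ : ι}

section

variable (h : Base S P V T z opp C Q QF Qs i₀)
include h

theorem T_le : T ≤ S := h.T_eq.le.trans inf_le_left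

theorem V_le : V ≤ S := h.VT.trans h.T_le

theorem C_le : C i₀ ≤ centralizer ({z i₀} : Set G) := fun c hc =>
  mem_centralizer_singleton_iff.2 (h.Cz i₀ c hc)

theorem S_le_cz : (S : Subgroup G) ≤ centralizer ({z i₀} : Set G) := h.S_le_C.trans h.C_le

theorem Q_le : Q i₀ ≤ S := by
  rw [h.Qo2]
  exact o2_le_sylow S h.S_le_C

theorem S_normT : (S : Subgroup G) ≤ normalizer (T : Set G) := h.S_le_P.trans h.nT

theorem S_normV : (S : Subgroup G) ≤ normalizer (V : Set G) := h.S_le_P.trans h.nV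

/-- `z i₀` is central in `S`. -/
theorem Sz (s : G) (hs : s ∈ (S : Subgroup G)) : s * z i₀ = z i₀ * s := h.Cz i₀ s (h.S_le_C hs)

theorem mem_T {x : G} (hx : x ∈ (S : Subgroup G)) (hc : ∀ v ∈ V, x * v = v * x) : x ∈ T := by
  rw [h.T_eq]
  exact ⟨hx, mem_centralizer_iff.2 fun v hv => (hc v hv).symm⟩

end

end Base

theorem centralizer_zpowers_eq (z : G) :
    centralizer (zpowers z : Set G) = centralizer ({z} : Set G) := by
  apply le_antisymm
  · exact centralizer_le (by simp)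
  · intro x hx
    rw [mem_centralizer_singleton_iff] at hx
    rw [mem_centralizer_iff]
    rintro _ ⟨k, rfl⟩
    have h2 : Commute x z := hx
    exact (h2.zpow_right k).eq.symm

/-- **`Base` from `Pt`** and the configuration `NO1.Cfg`. -/
theorem Base.of [Finite G] {S : Sylow 2 G} {P : Subgroup G} (h : NO1.Cfg S P) {z : G}
    (hz : zc (S : Subgroup G) = zpowers z) {T C Q QF Qs : Subgroup G}
    (hT : T = (S : Subgroup G) ⊓ centralizer (zl (S : Subgroup G) P : Set G))
    (hp : Pt P (zl (S : Subgroup G) P) T z C Q QF Qs) (hSC : (S : Subgroup G) ≤ C)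
    (hE : (NO1.EE (S : Subgroup G) P).relIndex (zl (S : Subgroup G) P) = 2)
    (hstab : ∀ m ∈ P, m * z = z * m →
      ∃ s ∈ (S : Subgroup G), ∃ c ∈ P, (∀ v ∈ zl (S : Subgroup G) P, c * v = v * c) ∧ m = s * c)
    (hind : T.relIndex (S : Subgroup G) = 8) :
    Base S P (zl (S : Subgroup G) P) T (fun i : Pts P z => i.val) hp.opp (tr P z C) (tr P z Q)
      (tr P z QF) (tr P z Qs) (Pts.base P z) where
  toConf := hp.conf
  ctx := h.ctx
  T_eq := hT
  S_le_P := h.S_le
  S_le_C := by rw [hp.trC_base]; exact hSC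
  omega := by
    intro x hx hx2 hxc
    have h1 : x ∈ zc (S : Subgroup G) := mem_zc.2 ⟨hx, hxc, by rw [pow_two, hx2]⟩
    rw [hz] at h1
    obtain ⟨k, rfl⟩ := mem_zpowers_iff.1 h1
    have h2 : z ^ (2 : ℤ) = 1 := by rw [zpow_two, hp.sq]
    rcases Int.even_or_odd' k with ⟨m, hm | hm⟩
    · left
      rw [hm, zpow_mul, h2, one_zpow]
    · right
      change z ^ k = z
      rw [hm, zpow_add, zpow_mul, h2, one_zpow, one_mul, zpow_one]
  Q0_le := by
    rw [hp.trQ_base, hp.Qo2]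
    exact o2_le_o2 S hSC fun c hc => mem_centralizer_singleton_iff.2 (hp.Cz c hc)
  Qs_le := by
    rw [hp.trQs_base]
    change Qs ≤ o2 (centralizer ({z} : Set G))
    have hCC : CC (S : Subgroup G) = centralizer ({z} : Set G) := by
      change centralizer (zc (S : Subgroup G) : Set G) = _
      rw [hz, centralizer_zpowers_eq]
    have hCz : C ≤ centralizer ({z} : Set G) := fun c hc =>
      mem_centralizer_singleton_iff.2 (hp.Cz c hc)
    have hQ0 : o2 (centralizer ({z} : Set G)) ≤ Q := by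
      rw [hp.Qo2]
      exact o2_le_o2 S hSC hCz
    have hle : NO1.EE (S : Subgroup G) P ≤ zl (S : Subgroup G) P ⊓ Q := by
      refine le_inf inf_le_left (inf_le_right.trans ?_)
      rw [hCC]
      exact hQ0
    have hlt : ¬ zl (S : Subgroup G) P ≤ Q := by
      intro h0
      obtain ⟨m, hm, n, hn, h1, -, -⟩ := hp.tri
      exact h1 (h0 ((hp.conjV hm).2 hp.zV))
    have hEE : zl (S : Subgroup G) P ⊓ Q ≤ NO1.EE (S : Subgroup G) P := by
      have h1 := relIndex_mul_relIndex (NO1.EE (S : Subgroup G) P) (zl (S : Subgroup G) P ⊓ Q)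
        (zl (S : Subgroup G) P) hle inf_le_left
      rw [hE] at h1
      have h2 : (zl (S : Subgroup G) P ⊓ Q).relIndex (zl (S : Subgroup G) P) ≠ 1 := by
        intro h3
        exact hlt ((relIndex_eq_one.1 h3).trans inf_le_right)
      have h3 : (NO1.EE (S : Subgroup G) P).relIndex (zl (S : Subgroup G) P ⊓ Q) = 1 := by
        rcases (Nat.dvd_prime Nat.prime_two).1 (Dvd.intro_left _ h1) with h4 | h4
        · exact absurd h4 h2
        · rw [h4] at h1
          omega
      exact relIndex_eq_one.1 h3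
    refine hp.QsGen.trans ((closure_le _).2 ?_)
    rintro _ ⟨c, hc, e, he, heQ, rfl⟩
    have h1 : e ∈ o2 (centralizer ({z} : Set G)) := by
      rw [← hCC]
      exact (hEE ⟨he, heQ⟩).2
    exact (mem_normalizer_iff.1 (le_normalizer_o2 _ (hCz hc)) e).1 h1
  stab := hstab
  index := hind

end Cfsg.Agent.Omega.NOne.AG
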