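import Cfsg.Agent.ZN.Facts

/-!
# NO-1, THEOREM D0ag (#15001), part (3): `Q` induces `D₈` and `Δ = V`  (helper652)

One group `C` (the group `C₁` of the text), `Q = O₂(C) ≥ C_C(Q)`, `R = Q_F` normal in `C` of index 2 in `Q`,
extraspecial with centre `⟨z⟩`, `z ∈ E ≤ R` elementary of order 8, `s ∈ Q` normalises `E` and moves `E/⟨z⟩`, `T ≤ C`
centralises `E`, `[C_R(E), T] ≤ E`, `|T ∩ Q| ≤ 4`, `|R| ≤ 4 |T|`, `v ∈ C - Q` an involution.

`Wide.card_R : Nat.card R = 32`, `Wide.card_C : Nat.card C = 6 * Nat.card Q`.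

Proof: `N = [R, s]⟨z⟩`, `K = {x ∈ R : [s, x] ∈ ⟨z⟩} = C_R(N)`; `N ≤ K`, `|R : K| = |N : ⟨z⟩|`; `n = [s, e] ∈ E ∩ N`,
some `a ∈ N` does not commute with `e`, `N_e = C_N(e)`.  `t ∈ T` is determined mod `T ∩ Q` by `[t, a] ∈ N_e / ⟨z⟩`, because
an element of `T` centralising `a` mod `z` stabilises the chain `Q > R > K > N > ⟨z⟩ > 1`.
-/

set_option autoImplicit false
set_option linter.unusedSectionVars false
set_option linter.dupNamespace false
set_option linter.unusedVariables false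

namespace Cfsg.Agent.Omega.NOne.AG.Wide

open Subgroup Cfsg Cfsg.Agent.ZN

universe u

variable {G : Type u} [Group G]

/-! ### general lemmas -/

/-- an odd order element stabilising a chain of length 2 of a 2-group -/
theorem comm_of_odd {c w : G} (hc : Odd (orderOf c)) {P : Subgroup G} (hP : IsPGroup 2 P)
    (h : c * w * c⁻¹ * w⁻¹ ∈ P) (h2 : c * (c * w * c⁻¹ * w⁻¹) = c * w * c⁻¹ * w⁻¹ * c) : c * w = w * c := by
  set t := c * w * c⁻¹ * w⁻¹ with ht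
  have hk : ∀ k : ℕ, c ^ k * w * (c ^ k)⁻¹ = t ^ k * w := by
    intro k
    induction k with
    | zero => simp
    | succ k ih =>
      have hct : c * t ^ k = t ^ k * c := (show Commute c t from h2).pow_right k
      calc c ^ (k + 1) * w * (c ^ (k + 1))⁻¹ = c * (c ^ k * w * (c ^ k)⁻¹) * c⁻¹ := by
            rw [pow_succ']; group
        _ = (c * t ^ k) * w * c⁻¹ := by rw [ih]; group
        _ = t ^ k * (c * w * c⁻¹ * w⁻¹) * w := by rw [hct]; group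
        _ = t ^ (k + 1) * w := by rw [← ht, pow_succ]
  have h1 := hk (orderOf c)
  rw [pow_orderOf_eq_one, one_mul, inv_one, mul_one, eq_comm, mul_eq_right] at h1
  obtain ⟨n, hn⟩ := hP ⟨t, h⟩
  have hn' : t ^ 2 ^ n = 1 := congrArg Subtype.val hn
  have hd := Nat.dvd_gcd (orderOf_dvd_of_pow_eq_one h1) (orderOf_dvd_of_pow_eq_one hn')
  have hco : Nat.gcd (orderOf c) (2 ^ n) = 1 := (Nat.coprime_two_right.2 hc).pow_right n
  rw [hco, Nat.dvd_one, orderOf_eq_one_iff] at hd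
  rw [hd, eq_comm, mul_inv_eq_one, mul_inv_eq_iff_eq_mul] at ht
  exact ht

theorem isPGroup_of_odd [Finite G] {H : Subgroup G} (h : ∀ c ∈ H, Odd (orderOf c) → c = 1) :
    IsPGroup 2 H := by
  rintro ⟨c, hc⟩
  obtain ⟨k, m, hm, hk⟩ := Nat.exists_eq_two_pow_mul_odd (orderOf_pos c).ne'
  refine ⟨k, Subtype.ext ?_⟩
  change c ^ 2 ^ k = 1
  refine h _ (pow_mem hc _) ?_
  rw [orderOf_pow' c (by positivity), hk, Nat.gcd_mul_right_left, Nat.mul_div_cancel_left _ (by positivity)]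
  exact hm

/-- a map `F` from `C` to `M` which separates the cosets of `H` mod `Z`: `|C : C ∩ H| ≤ |M : Z|` -/
theorem relIndex_le [Finite G] {C H M Z : Subgroup G} (F : G → G) (hF : ∀ c ∈ C, F c ∈ M)
    (hs : ∀ c ∈ C, ∀ d ∈ C, (F c)⁻¹ * F d ∈ Z → c⁻¹ * d ∈ H) : H.relIndex C ≤ Z.relIndex M := by
  unfold relIndex
  rw [Subgroup.index, Subgroup.index]
  refine Nat.card_le_card_of_injective
    (fun q : C ⧸ H.subgroupOf C => (QuotientGroup.mk (⟨F q.out, hF _ q.out.2⟩ : M) : M ⧸ Z.subgroupOf M)) ?_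
  intro q r hqr
  have h1 := QuotientGroup.eq.1 hqr
  rw [mem_subgroupOf] at h1
  have h2 := hs _ q.out.2 _ r.out.2 h1
  rw [← QuotientGroup.out_eq' q, ← QuotientGroup.out_eq' r]
  refine QuotientGroup.eq.2 ?_
  rw [mem_subgroupOf]
  exact h2

theorem relIndex_le_card [Finite G] {β : Type*} {C H : Subgroup G} (F : G → β) (P : Finset β)
    (hF : ∀ c ∈ C, F c ∈ P) (hs : ∀ c ∈ C, ∀ d ∈ C, F c = F d → c⁻¹ * d ∈ H) : H.relIndex C ≤ P.card := by
  have h0 : Nat.card P = P.card := by simp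
  rw [← h0]
  unfold relIndex
  rw [Subgroup.index]
  refine Nat.card_le_card_of_injective
    (fun q : C ⧸ H.subgroupOf C => (⟨F q.out, hF _ q.out.2⟩ : P)) ?_
  intro q r hqr
  have h1 : F q.out = F r.out := congrArg Subtype.val hqr
  have h2 := hs _ q.out.2 _ r.out.2 h1
  rw [← QuotientGroup.out_eq' q, ← QuotientGroup.out_eq' r]
  refine QuotientGroup.eq.2 ?_
  rw [mem_subgroupOf]
  exact h2

theorem inv_mul_mem {H K : Subgroup G} (h : H.relIndex K = 2) {x y : G} (hx : x ∈ K) (hy : y ∈ K)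
    (hxH : x ∉ H) (hyH : y ∉ H) : x⁻¹ * y ∈ H := by
  have h1 : (H.subgroupOf K).index = 2 := h
  have h2 := (Subgroup.mul_mem_iff_of_index_two h1 (a := ⟨x⁻¹, inv_mem hx⟩) (b := ⟨y, hy⟩)).2 (by
    simp only [mem_subgroupOf]
    have h5 : x⁻¹ ∉ H := fun h5 => hxH (by simpa using inv_mem h5)
    tauto)
  exact h2

theorem card_mul_relIndex {H K : Subgroup G} (h : H ≤ K) :
    Nat.card H * H.relIndex K = Nat.card K := by
  rw [Subgroup.relIndex, ← Nat.card_congr (Subgroup.subgroupOfEquivOfLe h).toEquiv]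
  exact Subgroup.card_mul_index _

/-- a proper subgroup has at most half of the order -/
theorem two_mul_le [Finite G] {H K : Subgroup G} (h : H ≤ K) {k : G} (hk : k ∈ K) (hkH : k ∉ H) :
    2 * Nat.card H ≤ Nat.card K := by
  have h1 := card_mul_relIndex h
  have h2 : H.relIndex K ≠ 1 := fun h3 => hkH (relIndex_eq_one.1 h3 hk)
  have h3 : H.relIndex K ≠ 0 := fun h3 => by
    rw [h3, mul_zero] at h1
    exact Nat.card_pos.ne h1
  have h4 : 2 ≤ H.relIndex K := by omega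
  calc 2 * Nat.card H = Nat.card H * 2 := mul_comm _ _
    _ ≤ Nat.card H * H.relIndex K := Nat.mul_le_mul_left _ h4
    _ = _ := h1

/-! ### the configuration -/

/-- the commutator `x y x⁻¹ y⁻¹` -/
abbrev cm (x y : G) : G := x * y * x⁻¹ * y⁻¹

/-- **Part (3) of D0ag, hypotheses.**  (`C = C₁`, `R = Q_F`, `T = T_j`.) -/
structure Wide (C Q R E T : Subgroup G) (z s v : G) : Prop where
  /-- `Q = O₂(C)` -/
  Q_eq : Q = o2 C
  /-- `C_C(Q) ≤ Q` -/
  cent : C ⊓ centralizer (Q : Set G) ≤ Q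
  z_ne : z ≠ 1
  z_sq : z * z = 1
  z_cent : ∀ c ∈ C, c * z = z * c
  R_le : R ≤ Q
  R_norm : ∀ c ∈ C, ∀ x ∈ R, c * x * c⁻¹ ∈ R
  /-- `|Q : R| = 2` -/
  R_idx : R.relIndex Q = 2
  R_sq : ∀ x ∈ R, x * x ∈ zpowers z
  R_comm : ∀ x ∈ R, ∀ y ∈ R, cm x y ∈ zpowers z
  /-- `C_R(R) ≤ ⟨z⟩` -/
  R_cent : ∀ x ∈ R, (∀ y ∈ R, x * y = y * x) → x ∈ zpowers z
  z_mem : z ∈ E
  E_le : E ≤ R
  E_card : Nat.card E = 8
  E_comm : ∀ x ∈ E, ∀ y ∈ E, x * y = y * x
  s_mem : s ∈ Q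
  s_norm : ∀ e ∈ E, s * e * s⁻¹ ∈ E
  /-- `s` does not centralise `E/⟨z⟩` -/
  s_move : ∃ e ∈ E, cm s e ∉ zpowers z
  T_le : T ≤ C
  T_cent : ∀ t ∈ T, ∀ e ∈ E, t * e = e * t
  T_comm : ∀ t ∈ T, ∀ x ∈ R, (∀ e ∈ E, x * e = e * x) → cm t x ∈ E
  T_card : Nat.card R ≤ 4 * Nat.card T
  T_inf : Nat.card (T ⊓ Q : Subgroup G) ≤ 4
  v_mem : v ∈ C
  v_sq : v * v = 1
  v_not : v ∉ Q

namespace Wide

variable {C Q R E T : Subgroup G} {z s v : G}

theorem z_inv (h : Wide C Q R E T z s v) : z⁻¹ = z := inv_eq_of_mul_eq_one_right h.z_sq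

theorem mem_z (h : Wide C Q R E T z s v) {x : G} : x ∈ zpowers z ↔ x = 1 ∨ x = z := by
  constructor
  · intro hx
    obtain ⟨k, rfl⟩ := mem_zpowers_iff.1 hx
    rcases Int.even_or_odd' k with ⟨m, rfl | rfl⟩
    · left
      rw [zpow_mul, show z ^ (2 : ℤ) = 1 by rw [zpow_two, h.z_sq], one_zpow]
    · right
      rw [zpow_add, zpow_mul, show z ^ (2 : ℤ) = 1 by rw [zpow_two, h.z_sq], one_zpow, one_mul, zpow_one]
  · rintro (rfl | rfl)
    · exact one_mem _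
    · exact mem_zpowers _

theorem Q_le (h : Wide C Q R E T z s v) : Q ≤ C := by rw [h.Q_eq]; exact o2_le C

theorem R_le_C (h : Wide C Q R E T z s v) : R ≤ C := h.R_le.trans h.Q_le

theorem Q_p (h : Wide C Q R E T z s v) : IsPGroup 2 Q := by rw [h.Q_eq]; exact isPGroup_o2 C

theorem zp_cent (h : Wide C Q R E T z s v) {c x : G} (hc : c ∈ C) (hx : x ∈ zpowers z) : c * x = x * c := by
  rcases h.mem_z.1 hx with rfl | rfl
  · simp
  · exact h.z_cent c hc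

theorem zp_le_E (h : Wide C Q R E T z s v) : zpowers z ≤ E := zpowers_le.2 h.z_mem

theorem zp_le_R (h : Wide C Q R E T z s v) : zpowers z ≤ R := h.zp_le_E.trans h.E_le

theorem card_zp (h : Wide C Q R E T z s v) : Nat.card (zpowers z) = 2 := by
  rw [Nat.card_zpowers]
  refine orderOf_eq_prime ?_ h.z_ne
  rw [pow_two, h.z_sq]

/-- elements of `Q` outside `R`, `R` of index 2 -/
theorem mul_mem_of (h : Wide C Q R E T z s v) {x y : G} (hx : x ∈ Q) (hy : y ∈ Q) (hxR : x ∉ R) (hyR : y ∉ R) :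
    x * y ∈ R := by
  have h1 : (R.subgroupOf Q).index = 2 := h.R_idx
  have h2 := (Subgroup.mul_mem_iff_of_index_two h1 (a := ⟨x, hx⟩) (b := ⟨y, hy⟩)).2
    (by simp only [mem_subgroupOf]; tauto)
  exact h2

/-- `[c, q] ∈ R` for `c ∈ C`, `q ∈ Q` -/
theorem cm_mem_R (h : Wide C Q R E T z s v) {c q : G} (hc : c ∈ C) (hq : q ∈ Q) : cm c q ∈ R := by
  by_cases hqR : q ∈ R
  · exact mul_mem (h.R_norm c hc q hqR) (inv_mem hqR)
  · have h1 : c * q * c⁻¹ ∈ Q := by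
      rw [h.Q_eq] at hq ⊢
      exact (mem_normalizer_iff.1 (le_normalizer_o2 C hc) q).1 hq
    have h2 : c * q * c⁻¹ ∉ R := by
      intro h3
      have h4 := h.R_norm _ (inv_mem hc) _ h3
      apply hqR
      have e : c⁻¹ * (c * q * c⁻¹) * c⁻¹⁻¹ = q := by group
      rwa [e] at h4
    exact h.mul_mem_of h1 (inv_mem hq) h2 (fun h5 => hqR (by simpa using inv_mem h5))

/-- `x² ∈ R` for `x ∈ Q` -/
theorem sq_mem_R (h : Wide C Q R E T z s v) {q : G} (hq : q ∈ Q) : q * q ∈ R := by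
  by_cases hqR : q ∈ R
  · exact mul_mem hqR hqR
  · exact h.mul_mem_of hq hq hqR hqR

/-! ### congruence mod `z` -/

/-- `x ≡ y` mod `⟨z⟩` -/
def Eqz (z x y : G) : Prop := ∃ ζ ∈ zpowers z, x = y * ζ

theorem Eqz.refl (x : G) : Eqz z x x := ⟨1, one_mem _, by simp⟩

theorem Eqz.symm {x y : G} (h : Eqz z x y) : Eqz z y x := by
  obtain ⟨ζ, hζ, rfl⟩ := h
  exact ⟨ζ⁻¹, inv_mem hζ, by simp⟩

theorem Eqz.trans {x y w : G} (h : Eqz z x y) (h' : Eqz z y w) : Eqz z x w := by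
  obtain ⟨ζ, hζ, rfl⟩ := h
  obtain ⟨ξ, hξ, rfl⟩ := h'
  exact ⟨ξ * ζ, mul_mem hξ hζ, by rw [mul_assoc]⟩

theorem eqz_one {x : G} : Eqz z x 1 ↔ x ∈ zpowers z := by
  constructor
  · rintro ⟨ζ, hζ, rfl⟩
    simpa using hζ
  · intro hx
    exact ⟨x, hx, by simp⟩

theorem eqz_mul (h : Wide C Q R E T z s v) {x y x' y' : G} (hy : y' ∈ C) (h1 : Eqz z x x')
    (h2 : Eqz z y y') : Eqz z (x * y) (x' * y') := by
  obtain ⟨ζ, hζ, rfl⟩ := h1
  obtain ⟨ξ, hξ, rfl⟩ := h2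
  refine ⟨ζ * ξ, mul_mem hζ hξ, ?_⟩
  calc x' * ζ * (y' * ξ) = x' * (ζ * y') * ξ := by group
    _ = x' * (y' * ζ) * ξ := by rw [h.zp_cent hy hζ]
    _ = _ := by group

theorem eqz_inv (h : Wide C Q R E T z s v) {x x' : G} (hx : x' ∈ C) (h1 : Eqz z x x') : Eqz z x⁻¹ x'⁻¹ := by
  obtain ⟨ζ, hζ, rfl⟩ := h1
  refine ⟨ζ⁻¹, inv_mem hζ, ?_⟩
  rw [mul_inv_rev]
  exact (h.zp_cent (inv_mem hx) (inv_mem hζ)).symm

theorem eqz_conj (h : Wide C Q R E T z s v) {c x x' : G} (hc : c ∈ C) (h1 : Eqz z x x') :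
    Eqz z (c * x * c⁻¹) (c * x' * c⁻¹) := by
  obtain ⟨ζ, hζ, rfl⟩ := h1
  refine ⟨ζ, hζ, ?_⟩
  calc c * (x' * ζ) * c⁻¹ = c * x' * (ζ * c⁻¹) := by group
    _ = c * x' * (c⁻¹ * ζ) := by rw [h.zp_cent (inv_mem hc) hζ]
    _ = _ := by group

theorem eqz_mem (h : Wide C Q R E T z s v) {A : Subgroup G} (hA : zpowers z ≤ A) {x y : G} (hxy : Eqz z x y)
    (hy : y ∈ A) : x ∈ A := by
  obtain ⟨ζ, hζ, rfl⟩ := hxy
  exact mul_mem hy (hA hζ)

/-- commuting mod `z` in `R` -/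
theorem eqz_comm (h : Wide C Q R E T z s v) {x y : G} (hx : x ∈ R) (hy : y ∈ R) : Eqz z (x * y) (y * x) := by
  have h1 := h.R_comm x hx y hy
  refine ⟨cm x y, h1, ?_⟩
  rw [← h.zp_cent (mul_mem (h.R_le_C hy) (h.R_le_C hx)) h1 |>.symm]
  simp only [cm]
  group

/-! ### the commutator form on `R` -/

theorem cm_mul_left (h : Wide C Q R E T z s v) {x y w : G} (hx : x ∈ R) (hy : y ∈ R) (hw : w ∈ R) :
    cm (x * y) w = cm x w * cm y w := by
  have h1 := h.R_comm y hy w hw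
  have h2 := h.zp_cent (h.R_le_C hx) h1
  have h3 := h.zp_cent (h.R_le_C (h.zp_le_R (h.R_comm x hx w hw))) h1
  calc cm (x * y) w = x * cm y w * (w * x⁻¹ * w⁻¹) := by simp only [cm]; group
    _ = cm y w * x * (w * x⁻¹ * w⁻¹) := by rw [h2]
    _ = cm y w * cm x w := by simp only [cm]; group
    _ = _ := h3.symm

theorem cm_inv (x y : G) : (cm x y)⁻¹ = cm y x := by simp only [cm]; group

theorem zp_inv (h : Wide C Q R E T z s v) {x : G} (hx : x ∈ zpowers z) : x⁻¹ = x := by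
  rcases h.mem_z.1 hx with rfl | rfl
  · simp
  · exact h.z_inv

theorem cm_swap (h : Wide C Q R E T z s v) {x y : G} (hx : x ∈ R) (hy : y ∈ R) : cm x y = cm y x := by
  rw [← cm_inv x y, h.zp_inv (h.R_comm x hx y hy)]

theorem cm_mul_right (h : Wide C Q R E T z s v) {x y w : G} (hx : x ∈ R) (hy : y ∈ R) (hw : w ∈ R) :
    cm x (y * w) = cm x y * cm x w := by
  rw [h.cm_swap hx (mul_mem hy hw), h.cm_mul_left hy hw hx, h.cm_swap hy hx, h.cm_swap hw hx]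

theorem cm_conj (h : Wide C Q R E T z s v) {c x y : G} (hc : c ∈ C) (hx : x ∈ R) (hy : y ∈ R) :
    cm (c * x * c⁻¹) (c * y * c⁻¹) = cm x y := by
  have h1 := h.zp_cent hc (h.R_comm x hx y hy)
  calc cm (c * x * c⁻¹) (c * y * c⁻¹) = c * cm x y * c⁻¹ := by simp only [cm]; group
    _ = cm x y := by rw [h1]; group

theorem cm_one_iff {x y : G} : cm x y = 1 ↔ x * y = y * x := by
  simp only [cm]
  rw [mul_inv_eq_one, mul_inv_eq_iff_eq_mul]

theorem cm_eqz (h : Wide C Q R E T z s v) {x x' y y' : G} (hx : x' ∈ C) (hy : y' ∈ C) (h1 : Eqz z x x')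
    (h2 : Eqz z y y') : cm x y = cm x' y' := by
  obtain ⟨ζ, hζ, rfl⟩ := h1
  obtain ⟨ξ, hξ, rfl⟩ := h2
  have a1 := h.zp_cent hx hζ
  have a2 := h.zp_cent hy hζ
  have a3 := h.zp_cent hx hξ
  have a4 := h.zp_cent hy hξ
  have a5 := h.zp_cent (h.R_le_C (h.zp_le_R hζ)) hξ
  simp only [cm, mul_inv_rev]
  calc x' * ζ * (y' * ξ) * (ζ⁻¹ * x'⁻¹) * (ξ⁻¹ * y'⁻¹) = x' * (ζ * y') * (ξ * ζ⁻¹) * x'⁻¹ * (ξ⁻¹ * y'⁻¹) := by group
    _ = x' * (y' * ζ) * (ζ⁻¹ * ξ) * x'⁻¹ * (ξ⁻¹ * y'⁻¹) := by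
        rw [a2, show ξ * ζ⁻¹ = ζ⁻¹ * ξ from (eq_comm.1 (by
          rw [inv_mul_eq_iff_eq_mul, ← mul_assoc, a5, mul_assoc, mul_inv_cancel, mul_one]))]
    _ = x' * y' * (ξ * x'⁻¹) * (ξ⁻¹ * y'⁻¹) := by group
    _ = x' * y' * (x'⁻¹ * ξ) * (ξ⁻¹ * y'⁻¹) := by
        rw [show ξ * x'⁻¹ = x'⁻¹ * ξ from (eq_comm.1 (by
          rw [inv_mul_eq_iff_eq_mul, ← mul_assoc, a3, mul_assoc, mul_inv_cancel, mul_one]))]
    _ = _ := by group

/-! ### the map `x ↦ [s, x]` -/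

/-- `[s, x] ∈ R` -/
theorem sx_mem (h : Wide C Q R E T z s v) {x : G} (hx : x ∈ R) : cm s x ∈ R :=
  mul_mem (h.R_norm s (h.Q_le h.s_mem) x hx) (inv_mem hx)

theorem s_conj_mem (h : Wide C Q R E T z s v) {x : G} (hx : x ∈ R) : s * x * s⁻¹ ∈ R :=
  h.R_norm s (h.Q_le h.s_mem) x hx

/-- `[s, x y] ≡ [s, x] [s, y]` -/
theorem sx_mul (h : Wide C Q R E T z s v) {x y : G} (hx : x ∈ R) (hy : y ∈ R) :
    Eqz z (cm s (x * y)) (cm s x * cm s y) := by
  have e : cm s (x * y) = cm s x * (x * cm s y * x⁻¹) := by simp only [cm]; group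
  rw [e]
  refine h.eqz_mul (h.R_le_C (h.sx_mem hy)) (Eqz.refl _) ?_
  have h1 := h.eqz_comm hx (h.sx_mem hy)
  have h2 := h.eqz_mul (inv_mem (h.R_le_C hx)) h1 (Eqz.refl x⁻¹)
  have e2 : cm s y * x * x⁻¹ = cm s y := by group
  rwa [e2] at h2

theorem sx_eqz (h : Wide C Q R E T z s v) {x y : G} (hx : x ∈ R) (hy : y ∈ R) (hxy : Eqz z x y) :
    Eqz z (cm s x) (cm s y) := by
  rw [h.cm_eqz (h.Q_le h.s_mem) (h.R_le_C hy) (Eqz.refl s) hxy]
  exact Eqz.refl _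

theorem sx_inv (h : Wide C Q R E T z s v) {x : G} (hx : x ∈ R) : Eqz z (cm s x⁻¹) (cm s x)⁻¹ := by
  have h1 := h.sx_mul hx (inv_mem hx)
  have e : cm s (x * x⁻¹) = 1 := by simp [cm]
  rw [e] at h1
  have h2 := h.eqz_mul (h.R_le_C (mul_mem (h.sx_mem hx) (h.sx_mem (inv_mem hx)))) (Eqz.refl (cm s x)⁻¹) h1
  have e1 : (cm s x)⁻¹ * 1 = (cm s x)⁻¹ := mul_one _
  have e2 : (cm s x)⁻¹ * (cm s x * cm s x⁻¹) = cm s x⁻¹ := inv_mul_cancel_left _ _
  rw [e1, e2] at h2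
  exact h2.symm

/-- `c [s, y] c⁻¹ ≡ [s, c y c⁻¹]` -/
theorem sx_conj (h : Wide C Q R E T z s v) {c y : G} (hc : c ∈ C) (hy : y ∈ R) :
    Eqz z (c * cm s y * c⁻¹) (cm s (c * y * c⁻¹)) := by
  set r := c * s * c⁻¹ * s⁻¹ with hr
  have hrR : r ∈ R := h.cm_mem_R hc h.s_mem
  set y' := c * y * c⁻¹ with hy'
  have hyR : y' ∈ R := h.R_norm c hc y hy
  have e : c * cm s y * c⁻¹ = cm r (s * y' * s⁻¹) * cm s y' := by
    simp only [cm, hr, hy']
    group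
  rw [e]
  have h1 := h.R_comm r hrR _ (h.s_conj_mem hyR)
  refine ⟨cm r (s * y' * s⁻¹), h1, ?_⟩
  exact (h.zp_cent (h.R_le_C (h.sx_mem hyR)) h1).symm

/-- `[s, [s, y]] ∈ ⟨z⟩` -/
theorem sx_sx (h : Wide C Q R E T z s v) {y : G} (hy : y ∈ R) : cm s (cm s y) ∈ zpowers z := by
  set a := s * y⁻¹ * s⁻¹ with ha
  have haR : a ∈ R := h.s_conj_mem (inv_mem hy)
  have h1 : cm (s * s) y ∈ zpowers z := h.R_comm _ (h.sq_mem_R h.s_mem) _ hy
  have e : cm s (cm s y) = cm (s * s) y * ((y * a) * (y * a)) := by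
    simp only [cm, ha]
    group
  rw [e]
  exact mul_mem h1 (h.R_sq _ (mul_mem hy haR))

/-! ### `K` and `N` -/

/-- `K = {x ∈ R : [s, x] ∈ ⟨z⟩}` -/
def KK (h : Wide C Q R E T z s v) : Subgroup G where
  carrier := {x | x ∈ R ∧ Eqz z (cm s x) 1}
  one_mem' := ⟨one_mem _, by rw [show cm s 1 = 1 by simp [cm]]; exact Eqz.refl _⟩
  mul_mem' := by
    rintro x y ⟨hx, hx1⟩ ⟨hy, hy1⟩
    refine ⟨mul_mem hx hy, (h.sx_mul hx hy).trans ?_⟩
    have := h.eqz_mul (one_mem C) hx1 hy1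
    rwa [mul_one] at this
  inv_mem' := by
    rintro x ⟨hx, hx1⟩
    refine ⟨inv_mem hx, (h.sx_inv hx).trans ?_⟩
    have := h.eqz_inv (one_mem C) hx1
    rwa [inv_one] at this

/-- `N = [s, R]⟨z⟩` -/
def NN (h : Wide C Q R E T z s v) : Subgroup G where
  carrier := {x | x ∈ R ∧ ∃ y ∈ R, Eqz z x (cm s y)}
  one_mem' := ⟨one_mem _, 1, one_mem _, by rw [show cm s 1 = 1 by simp [cm]]; exact Eqz.refl _⟩
  mul_mem' := by
    rintro x x' ⟨hx, y, hy, hxy⟩ ⟨hx', y', hy', hxy'⟩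
    refine ⟨mul_mem hx hx', y * y', mul_mem hy hy', ?_⟩
    exact (h.eqz_mul (h.R_le_C (h.sx_mem hy')) hxy hxy').trans (h.sx_mul hy hy').symm
  inv_mem' := by
    rintro x ⟨hx, y, hy, hxy⟩
    refine ⟨inv_mem hx, y⁻¹, inv_mem hy, ?_⟩
    exact (h.eqz_inv (h.R_le_C (h.sx_mem hy)) hxy).trans (h.sx_inv hy).symm

theorem mem_KK (h : Wide C Q R E T z s v) {x : G} : x ∈ h.KK ↔ x ∈ R ∧ Eqz z (cm s x) 1 := Iff.rfl

theorem mem_NN (h : Wide C Q R E T z s v) {x : G} : x ∈ h.NN ↔ x ∈ R ∧ ∃ y ∈ R, Eqz z x (cm s y) := Iff.rfl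

theorem KK_le (h : Wide C Q R E T z s v) : h.KK ≤ R := fun _ hx => hx.1

theorem NN_le (h : Wide C Q R E T z s v) : h.NN ≤ h.KK := by
  rintro x ⟨hx, y, hy, hxy⟩
  refine ⟨hx, (h.sx_eqz hx (h.sx_mem hy) hxy).trans ?_⟩
  exact eqz_one.2 (h.sx_sx hy)

theorem zp_le_NN (h : Wide C Q R E T z s v) : zpowers z ≤ h.NN := by
  intro x hx
  refine ⟨h.zp_le_R hx, 1, one_mem _, ?_⟩
  rw [show cm s 1 = 1 by simp [cm]]
  exact eqz_one.2 hx

theorem NN_conj (h : Wide C Q R E T z s v) {c x : G} (hc : c ∈ C) (hx : x ∈ h.NN) : c * x * c⁻¹ ∈ h.NN := by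
  obtain ⟨hxR, y, hy, hxy⟩ := hx
  exact ⟨h.R_norm c hc x hxR, c * y * c⁻¹, h.R_norm c hc y hy, (h.eqz_conj hc hxy).trans (h.sx_conj hc hy)⟩

theorem KK_conj (h : Wide C Q R E T z s v) {c x : G} (hc : c ∈ C) (hx : x ∈ h.KK) : c * x * c⁻¹ ∈ h.KK := by
  obtain ⟨hxR, hx1⟩ := hx
  refine ⟨h.R_norm c hc x hxR, (h.sx_conj hc hxR).symm.trans ?_⟩
  have := h.eqz_conj hc hx1
  rwa [mul_one, mul_inv_cancel] at this

/-- `[K, N] = 1` -/
theorem KN_comm (h : Wide C Q R E T z s v) {k a : G} (hk : k ∈ h.KK) (ha : a ∈ h.NN) : cm k a = 1 := by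
  obtain ⟨hkR, hk1⟩ := hk
  obtain ⟨haR, x, hx, hax⟩ := ha
  rw [h.cm_eqz (h.R_le_C hkR) (h.R_le_C (h.sx_mem hx)) (Eqz.refl k) hax]
  have hsk : Eqz z (s * k * s⁻¹) k := by
    have := h.eqz_mul (h.R_le_C hkR) hk1 (Eqz.refl k)
    have e : cm s k * k = s * k * s⁻¹ := by simp only [cm]; group
    rwa [e, one_mul] at this
  have e1 : cm s x = (s * x * s⁻¹) * x⁻¹ := rfl
  rw [e1, h.cm_mul_right hkR (h.s_conj_mem hx) (inv_mem hx)]
  have h2 : cm k (s * x * s⁻¹) = cm k x := by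
    rw [← h.cm_eqz (h.R_le_C hkR) (h.R_le_C (h.s_conj_mem hx)) hsk (Eqz.refl (s * x * s⁻¹))]
    exact h.cm_conj (h.Q_le h.s_mem) hkR hx
  rw [h2, ← h.cm_mul_right hkR hx (inv_mem hx)]
  simp [cm]

/-- `|R : K| ≥ |N : ⟨z⟩|` -/
theorem idx_le [Finite G] (h : Wide C Q R E T z s v) : (zpowers z).relIndex h.NN ≤ h.KK.relIndex R := by
  classical
  have hch : ∀ a : G, ∃ x : G, a ∈ h.NN → x ∈ R ∧ Eqz z a (cm s x) := by
    intro a
    by_cases ha : a ∈ h.NN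
    · obtain ⟨-, x, hx, hax⟩ := ha
      exact ⟨x, fun _ => ⟨hx, hax⟩⟩
    · exact ⟨1, fun h' => (ha h').elim⟩
  choose F hF using hch
  refine relIndex_le F (fun a ha => (hF a ha).1) fun a ha b hb hab => ?_
  have h1 := (hF a ha).2
  have h2 := (hF b hb).2
  obtain ⟨-, h3⟩ := hab
  have h4 := h.sx_mul (inv_mem (hF a ha).1) (hF b hb).1
  have h5 := h.eqz_mul (h.R_le_C (h.sx_mem (hF b hb).1)) (h.sx_inv (hF a ha).1) (Eqz.refl (cm s (F b)))
  have h6 := (h4.trans h5).symm.trans h3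
  have h7 := h.eqz_mul (h.R_le_C (h.sx_mem (hF b hb).1))
    (h.eqz_inv (h.R_le_C (h.sx_mem (hF a ha).1)) h1) h2
  exact eqz_one.1 (h7.trans h6)

/-- `|N|² ≤ 2 |R|` -/
theorem card_N_sq [Finite G] (h : Wide C Q R E T z s v) : Nat.card h.NN * Nat.card h.NN ≤ 2 * Nat.card R := by
  have h1 := card_mul_relIndex h.KK_le
  have h2 := card_mul_relIndex h.zp_le_NN
  rw [h.card_zp] at h2
  have h3 : Nat.card h.NN ≤ Nat.card h.KK := Nat.card_le_card_of_injective _ (inclusion_injective h.NN_le)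
  calc Nat.card h.NN * Nat.card h.NN = 2 * (Nat.card h.NN * (zpowers z).relIndex h.NN) := by
        conv_lhs => rw [← h2]
        rw [← h2]; ring
    _ ≤ 2 * (Nat.card h.KK * h.KK.relIndex R) := Nat.mul_le_mul_left _ (Nat.mul_le_mul h3 h.idx_le)
    _ = _ := by rw [h1]

/-! ### the elements `e`, `n`, `a` -/

/-- the elements of `E` fixed by `s` mod `z` -/
theorem E_inf [Finite G] (h : Wide C Q R E T z s v) {e : G} (he : e ∈ E) (hse : cm s e ∉ zpowers z) {y : G}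
    (hy : y ∈ E) (hyK : y ∈ h.KK) : y ∈ h.NN := by
  -- `E ∩ K = ⟨z, [s, e]⟩`: `E ∩ K < E` has order at most 4, `⟨z⟩ < ⟨z⟩⟨[s,e]⟩ ≤ E ∩ N`
  have hn : cm s e ∈ E := mul_mem (h.s_norm e he) (inv_mem he)
  have heR := h.E_le he
  have hnN : cm s e ∈ h.NN := ⟨h.sx_mem heR, e, heR, Eqz.refl _⟩
  have h1 : E ⊓ h.NN ≤ E ⊓ h.KK := inf_le_inf_left _ h.NN_le
  have heK : e ∉ E ⊓ h.KK := fun h2 => hse (eqz_one.1 h2.2.2)
  have h2 := two_mul_le (inf_le_left : E ⊓ h.KK ≤ E) he heK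
  rw [h.E_card] at h2
  have h3 : zpowers z ≤ E ⊓ h.NN := le_inf h.zp_le_E h.zp_le_NN
  have h4 := two_mul_le h3 (k := cm s e) ⟨hn, hnN⟩ hse
  rw [h.card_zp] at h4
  have h5 : E ⊓ h.NN = E ⊓ h.KK := Subgroup.eq_of_le_of_card_ge h1 (by omega)
  have h6 : y ∈ E ⊓ h.KK := ⟨hy, hyK⟩
  rw [← h5] at h6
  exact h6.2

/-- some `a ∈ N` does not commute with `e` -/
theorem exists_a (h : Wide C Q R E T z s v) {e : G} (he : e ∈ R) (hse : cm s e ∉ zpowers z) :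
    ∃ a ∈ h.NN, cm a e ≠ 1 := by
  by_contra hcon
  push Not at hcon
  apply hse
  refine h.R_cent _ (h.sx_mem he) fun x hx => ?_
  have h1 := hcon _ ⟨h.sx_mem hx, x, hx, Eqz.refl _⟩
  -- `[[s, x], e] = [σx, e][x, e] = [x, σe][x, e] = [x, [s, e]]`
  have e1 : cm s x = (s * x * s⁻¹) * x⁻¹ := rfl
  have e2 : cm s e = (s * e * s⁻¹) * e⁻¹ := rfl
  rw [e1, h.cm_mul_left (h.s_conj_mem hx) (inv_mem hx) he] at h1
  have h2 : cm (s * x * s⁻¹) e = cm x (s * e * s⁻¹) := by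
    have h3 := h.cm_conj (h.Q_le h.s_mem) (h.s_conj_mem hx) he
    have hss : Eqz z (s * (s * x * s⁻¹) * s⁻¹) x := by
      have h4 : cm (s * s) x ∈ zpowers z := h.R_comm _ (h.sq_mem_R h.s_mem) _ hx
      have e3 : s * (s * x * s⁻¹) * s⁻¹ = cm (s * s) x * x := by simp only [cm]; group
      rw [e3]
      have := h.eqz_mul (h.R_le_C hx) (eqz_one.2 h4) (Eqz.refl x)
      rwa [one_mul] at this
    rw [h.cm_eqz (h.R_le_C hx) (h.R_le_C (h.s_conj_mem he)) hss (Eqz.refl (s * e * s⁻¹))] at h3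
    exact h3.symm
  have h3 : ∀ {u w : G}, u ∈ R → w ∈ R → cm u w * cm u w = 1 := by
    intro u w hu hw
    rcases h.mem_z.1 (h.R_comm u hu w hw) with h4 | h4
    · rw [h4, one_mul]
    · rw [h4, h.z_sq]
  have h4 : cm x⁻¹ e = cm x e := by
    have h5 := h.cm_mul_left (inv_mem hx) hx he
    rw [inv_mul_cancel, show cm 1 e = 1 by simp [cm]] at h5
    rw [← mul_right_cancel_iff (a := cm x e), ← h5, h3 hx he]
  have h5 : cm x e⁻¹ = cm x e := by
    have h5 := h.cm_mul_right hx (inv_mem he) he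
    rw [inv_mul_cancel, show cm x 1 = 1 by simp [cm]] at h5
    rw [← mul_right_cancel_iff (a := cm x e), ← h5, h3 hx he]
  refine (cm_one_iff.1 ?_).symm
  rw [e2, h.cm_mul_right hx (h.s_conj_mem he) (inv_mem he), h5, ← h2]
  rwa [h4] at h1

/-! ### the stabiliser of the chain -/

/-- the (K) lemma for the chain `Q > R > K > N > ⟨z⟩ > 1` -/
theorem mem_Q_of [Finite G] (h : Wide C Q R E T z s v) {c : G} (hc : c ∈ C) (h1 : ∀ x ∈ R, cm c x ∈ h.KK)
    (h2 : ∀ x ∈ h.KK, cm c x ∈ h.NN) (h3 : ∀ x ∈ h.NN, cm c x ∈ zpowers z) : c ∈ Q := by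
  have aux : ∀ {A : Subgroup G}, (∀ c ∈ C, ∀ x ∈ A, c * x * c⁻¹ ∈ A) → ∀ {B : Subgroup G} {a b : G}, a ∈ C → b ∈ C →
      (∀ x ∈ B, cm a x ∈ A) → (∀ x ∈ B, cm b x ∈ A) → (∀ x ∈ B, cm (a * b) x ∈ A) ∧ (∀ x ∈ B, cm a⁻¹ x ∈ A) := by
    intro A hA B a b ha hb h4 h5
    refine ⟨fun x hx => ?_, fun x hx => ?_⟩
    · have e : cm (a * b) x = (a * cm b x * a⁻¹) * cm a x := by simp only [cm]; group
      rw [e]
      exact mul_mem (hA a ha _ (h5 x hx)) (h4 x hx)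
    · have e : cm a⁻¹ x = a⁻¹ * (cm a x)⁻¹ * a⁻¹⁻¹ := by simp only [cm]; group
      rw [e]
      exact hA _ (inv_mem ha) _ (inv_mem (h4 x hx))
  have nK : ∀ c ∈ C, ∀ x ∈ h.KK, c * x * c⁻¹ ∈ h.KK := fun c hc x hx => h.KK_conj hc hx
  have nN : ∀ c ∈ C, ∀ x ∈ h.NN, c * x * c⁻¹ ∈ h.NN := fun c hc x hx => h.NN_conj hc hx
  have nZ : ∀ c ∈ C, ∀ x ∈ zpowers z, c * x * c⁻¹ ∈ zpowers z := by
    intro c hc x hx
    rw [h.zp_cent hc hx, mul_inv_cancel_right]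
    exact hx
  let B : Subgroup G :=
    { carrier := {g | g ∈ C ∧ (∀ x ∈ R, cm g x ∈ h.KK) ∧ (∀ x ∈ h.KK, cm g x ∈ h.NN) ∧
        ∀ x ∈ h.NN, cm g x ∈ zpowers z}
      one_mem' := ⟨one_mem _, fun x _ => by simp [cm], fun x _ => by simp [cm], fun x _ => by simp [cm]⟩
      mul_mem' := by
        rintro a b ⟨ha0, ha1, ha2, ha3⟩ ⟨hb0, hb1, hb2, hb3⟩
        exact ⟨mul_mem ha0 hb0, (aux nK ha0 hb0 ha1 hb1).1, (aux nN ha0 hb0 ha2 hb2).1, (aux nZ ha0 hb0 ha3 hb3).1⟩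
      inv_mem' := by
        rintro a ⟨ha0, ha1, ha2, ha3⟩
        exact ⟨inv_mem ha0, (aux nK ha0 ha0 ha1 ha1).2, (aux nN ha0 ha0 ha2 ha2).2, (aux nZ ha0 ha0 ha3 ha3).2⟩ }
  have hB : ∀ g, g ∈ B ↔ g ∈ C ∧ (∀ x ∈ R, cm g x ∈ h.KK) ∧ (∀ x ∈ h.KK, cm g x ∈ h.NN) ∧
        ∀ x ∈ h.NN, cm g x ∈ zpowers z := fun _ => Iff.rfl
  have hBC : B ≤ C := fun g hg => ((hB g).1 hg).1
  have hR2 : IsPGroup 2 R := h.Q_p.to_le h.R_le
  have hB2 : IsPGroup 2 B := by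
    refine isPGroup_of_odd fun g hg hodd => ?_
    obtain ⟨g0, g1, g2, g3⟩ := (hB g).1 hg
    have k3 : ∀ x ∈ h.NN, g * x = x * g := fun x hx =>
      comm_of_odd hodd (hR2.to_le h.zp_le_R) (g3 x hx) (h.zp_cent g0 (g3 x hx))
    have k2 : ∀ x ∈ h.KK, g * x = x * g := fun x hx =>
      comm_of_odd hodd (hR2.to_le (h.NN_le.trans h.KK_le)) (g2 x hx) (k3 _ (g2 x hx))
    have k1 : ∀ x ∈ R, g * x = x * g := fun x hx =>
      comm_of_odd hodd (hR2.to_le h.KK_le) (g1 x hx) (k2 _ (g1 x hx))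
    have k0 : ∀ x ∈ Q, g * x = x * g := fun x hx =>
      comm_of_odd hodd hR2 (h.cm_mem_R g0 hx) (k1 _ (h.cm_mem_R g0 hx))
    have h4 : g ∈ Q := h.cent ⟨g0, mem_centralizer_iff.2 fun x hx => (k0 x hx).symm⟩
    obtain ⟨n, hn⟩ := h.Q_p ⟨g, h4⟩
    have hn' : g ^ 2 ^ n = 1 := congrArg Subtype.val hn
    have hd := orderOf_dvd_of_pow_eq_one hn'
    have hco : (orderOf g).Coprime (2 ^ n) := (Nat.coprime_two_right.2 hodd).pow_right n
    exact orderOf_eq_one_iff.1 (Nat.Coprime.eq_one_of_dvd hco hd)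
  have hBn : C ≤ normalizer (B : Set G) := by
    have key : ∀ l ∈ C, ∀ g ∈ B, l * g * l⁻¹ ∈ B := by
      intro l hl g hg
      obtain ⟨g0, g1, g2, g3⟩ := (hB g).1 hg
      have conv : ∀ {A A' : Subgroup G}, (∀ c ∈ C, ∀ x ∈ A, c * x * c⁻¹ ∈ A) →
          (∀ c ∈ C, ∀ x ∈ A', c * x * c⁻¹ ∈ A') → (∀ x ∈ A', cm g x ∈ A) → ∀ x ∈ A', cm (l * g * l⁻¹) x ∈ A := by
        intro A A' hA hA' h4 x hx
        have h5 := hA' _ (inv_mem hl) x hx
        have h6 := hA l hl _ (h4 _ h5)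
        have e : cm (l * g * l⁻¹) x = l * cm g (l⁻¹ * x * l⁻¹⁻¹) * l⁻¹ := by simp only [cm]; group
        rw [e]
        exact h6
      exact (hB _).2 ⟨mul_mem (mul_mem hl g0) (inv_mem hl), conv nK h.R_norm g1, conv nN nK g2, conv nZ nN g3⟩
    intro l hl
    rw [mem_normalizer_iff]
    intro g
    refine ⟨key l hl g, fun h4 => ?_⟩
    have h5 := key _ (inv_mem hl) _ h4
    have e : l⁻¹ * (l * g * l⁻¹) * l⁻¹⁻¹ = g := by group
    rwa [e] at h5
  rw [h.Q_eq]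
  exact le_o2 hBC hB2 hBn ((hB c).2 ⟨hc, h1, h2, h3⟩)

/-- an element acting trivially on `N/z` has `[c, R] ≤ K` -/
theorem cm_R_mem (h : Wide C Q R E T z s v) {c : G} (hc : c ∈ C) (h3 : ∀ x ∈ h.NN, cm c x ∈ zpowers z) {x : G}
    (hx : x ∈ R) : cm c x ∈ h.KK := by
  have hcx : c * x * c⁻¹ ∈ R := h.R_norm c hc x hx
  refine ⟨mul_mem hcx (inv_mem hx), ?_⟩
  have h1 : cm c x = (c * x * c⁻¹) * x⁻¹ := rfl
  rw [h1]
  refine (h.sx_mul hcx (inv_mem hx)).trans ?_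
  have h2 := h.sx_conj hc hx
  have hsxN : cm s x ∈ h.NN := ⟨h.sx_mem hx, x, hx, Eqz.refl _⟩
  have h4 := h3 _ hsxN
  have h5 : Eqz z (c * cm s x * c⁻¹) (cm s x) := by
    have e : c * cm s x * c⁻¹ = cm c (cm s x) * cm s x := by simp only [cm]; group
    rw [e]
    have := h.eqz_mul (h.R_le_C (h.sx_mem hx)) (eqz_one.2 h4) (Eqz.refl (cm s x))
    rwa [one_mul] at this
  have h6 := h.eqz_mul (inv_mem (h.R_le_C (h.sx_mem hx))) (h2.symm.trans h5) (h.sx_inv hx)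
  rwa [mul_inv_cancel] at h6

/-- **the kernel**: an element of `T` centralising `a` mod `z` lies in `Q` -/
theorem mem_Q_of_T [Finite G] (h : Wide C Q R E T z s v) {e a : G} (he : e ∈ E) (hse : cm s e ∉ zpowers z)
    (ha : a ∈ h.NN) (hae : cm a e ≠ 1) {w : G} (hw : w ∈ T) (hwa : cm w a ∈ zpowers z) : w ∈ Q := by
  have hwC := h.T_le hw
  have heR := h.E_le he
  have hNR : h.NN ≤ R := h.NN_le.trans h.KK_le
  have hnE : cm s e ∈ E := mul_mem (h.s_norm e he) (inv_mem he)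
  have hnN : cm s e ∈ h.NN := ⟨h.sx_mem heR, e, heR, Eqz.refl _⟩
  -- `[a, e] = z` and so `y` or `y a` commutes with `e`
  have hz : ∀ {x y : G}, x ∈ R → y ∈ R → cm x y ≠ 1 → cm x y = z := fun hx hy h1 =>
    (h.mem_z.1 (h.R_comm _ hx _ hy)).resolve_left h1
  have hfix : ∀ k ∈ h.KK, cm k e ≠ 1 → cm (k * a) e = 1 := by
    intro k hk hke
    rw [h.cm_mul_left (h.KK_le hk) (hNR ha) heR, hz (h.KK_le hk) heR hke, hz (hNR ha) heR hae, h.z_sq]
  -- elements of `K` commuting with `e` centralise `E`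
  have hcE : ∀ k ∈ h.KK, cm k e = 1 → ∀ x ∈ E, k * x = x * k := by
    intro k hk hke x hx
    -- `E = ⟨z, n, e⟩`
    have h1 : E ⊓ centralizer ({k} : Set G) = E := by
      refine Subgroup.eq_of_le_of_card_ge inf_le_left ?_
      rw [h.E_card]
      have heI : e ∈ E ⊓ centralizer ({k} : Set G) := ⟨he, mem_centralizer_singleton_iff.2 (cm_one_iff.1 hke).symm⟩
      have hnI : cm s e ∈ E ⊓ h.NN ⊓ centralizer ({k} : Set G) :=
        ⟨⟨hnE, hnN⟩, mem_centralizer_singleton_iff.2 (cm_one_iff.1 (h.KN_comm hk hnN)).symm⟩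
      have hzI : zpowers z ≤ E ⊓ h.NN ⊓ centralizer ({k} : Set G) := by
        refine le_inf (le_inf h.zp_le_E h.zp_le_NN) ?_
        intro y hy
        exact mem_centralizer_singleton_iff.2 (h.zp_cent (h.R_le_C (h.KK_le hk)) hy).symm
      have h2 := two_mul_le hzI hnI hse
      rw [h.card_zp] at h2
      have hle : E ⊓ h.NN ⊓ centralizer ({k} : Set G) ≤ E ⊓ centralizer ({k} : Set G) :=
        inf_le_inf_right _ inf_le_left
      have h3 := two_mul_le hle heI (fun h4 => hse (eqz_one.1 (h.NN_le h4.1.2).2))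
      omega
    have h2 : x ∈ E ⊓ centralizer ({k} : Set G) := by rw [h1]; exact hx
    exact (mem_centralizer_singleton_iff.1 h2.2).symm
  -- `[w, k] ∈ E ∩ K ≤ N` for such `k`
  have hk1 : ∀ k ∈ h.KK, cm k e = 1 → cm w k ∈ h.NN := by
    intro k hk hke
    refine h.E_inf he hse (h.T_comm w hw k (h.KK_le hk) (hcE k hk hke)) ?_
    exact mul_mem (h.KK_conj hwC hk) (inv_mem hk)
  -- `[w, y] ∈ ⟨z⟩` for `y ∈ N`, `[y, e] = 1`
  have hy1 : ∀ y ∈ h.NN, cm y e = 1 → cm w y ∈ zpowers z := by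
    intro y hy hye
    have hyE : cm w y ∈ E := h.T_comm w hw y (hNR hy) (hcE y (h.NN_le hy) hye)
    by_contra hcon
    -- `E ∩ N = ⟨z⟩ ∪ n⟨z⟩`
    have hyN : cm w y ∈ h.NN := mul_mem (h.NN_conj hwC hy) (inv_mem hy)
    have h2 : Eqz z (cm w y) (cm s e) := by
      have h3 : (zpowers z).relIndex (E ⊓ h.NN) = 2 := by
        have h4 := card_mul_relIndex (le_inf h.zp_le_E h.zp_le_NN)
        rw [h.card_zp] at h4
        have h5 := two_mul_le (inf_le_left : E ⊓ h.NN ≤ E) he (fun h6 => hse (eqz_one.1 (h.NN_le h6.2).2))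
        rw [h.E_card] at h5
        have h6 := two_mul_le (le_inf h.zp_le_E h.zp_le_NN) (k := cm s e) ⟨hnE, hnN⟩ hse
        rw [h.card_zp] at h6
        omega
      have h4 := (Subgroup.mul_mem_iff_of_index_two h3 (a := ⟨(cm s e)⁻¹, inv_mem ⟨hnE, hnN⟩⟩)
        (b := ⟨cm w y, ⟨hyE, hyN⟩⟩)).2 (by
          simp only [mem_subgroupOf]
          have h5 : (cm s e)⁻¹ ∉ zpowers z := fun h5 => hse (by simpa using inv_mem h5)
          tauto)
      exact ⟨(cm s e)⁻¹ * cm w y, h4, (mul_inv_cancel_left _ _).symm⟩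
    -- `y ≡ [s, x]`, `w x w⁻¹ ≡ x e k`
    obtain ⟨-, x, hx, hyx⟩ := hy
    have hwx : w * x * w⁻¹ ∈ R := h.R_norm w hwC x hx
    have h5 : Eqz z (cm s (w * x * w⁻¹)) (cm s (x * e)) := by
      refine (h.sx_conj hwC hx).symm.trans ((h.eqz_conj hwC hyx).symm.trans ?_)
      have e1 : w * y * w⁻¹ = cm w y * y := by simp only [cm]; group
      rw [e1]
      refine (h.eqz_mul (h.R_le_C (h.sx_mem hx)) h2 hyx).trans ?_
      exact (h.eqz_comm (h.sx_mem heR) (h.sx_mem hx)).trans (h.sx_mul hx heR).symm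
    have hkK : (x * e)⁻¹ * (w * x * w⁻¹) ∈ h.KK := by
      refine ⟨mul_mem (inv_mem (mul_mem hx heR)) hwx, ?_⟩
      refine (h.sx_mul (inv_mem (mul_mem hx heR)) hwx).trans ?_
      have h6 := h.eqz_mul (h.R_le_C (h.sx_mem (mul_mem hx heR))) (h.sx_inv (mul_mem hx heR)) h5
      rwa [inv_mul_cancel] at h6
    have hwa' : Eqz z (w * a * w⁻¹) a := by
      have e1 : w * a * w⁻¹ = cm w a * a := by simp only [cm]; group
      rw [e1]
      have := h.eqz_mul (h.R_le_C (hNR ha)) (eqz_one.2 hwa) (Eqz.refl a)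
      rwa [one_mul] at this
    have h6 : cm (w * x * w⁻¹) a = cm x a := by
      rw [← h.cm_conj hwC hx (hNR ha)]
      exact (h.cm_eqz (h.R_le_C hwx) (h.R_le_C (hNR ha)) (Eqz.refl _) hwa').symm
    have h7 : cm (w * x * w⁻¹) a = cm x a * cm e a := by
      have e1 : w * x * w⁻¹ = (x * e) * ((x * e)⁻¹ * (w * x * w⁻¹)) := by group
      rw [e1, h.cm_mul_left (mul_mem hx heR) (h.KK_le hkK) (hNR ha), h.KN_comm hkK ha, mul_one,
        h.cm_mul_left hx heR (hNR ha)]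
    rw [h6, left_eq_mul, ← h.cm_swap (hNR ha) heR] at h7
    exact hae h7
  -- `w` is trivial on `N / z`
  have h3 : ∀ x ∈ h.NN, cm w x ∈ zpowers z := by
    intro x hx
    by_cases hxe : cm x e = 1
    · exact hy1 x hx hxe
    · have h4 := hy1 (x * a) (mul_mem hx ha) (hfix x (h.NN_le hx) hxe)
      have h5 : cm w (x * a) = cm w x * (x * cm w a * x⁻¹) := by simp only [cm]; group
      rw [h5, h.zp_cent (h.R_le_C (hNR hx)) hwa, mul_inv_cancel_right] at h4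
      exact (Subgroup.mul_mem_cancel_right _ hwa).1 h4
  -- `[w, K] ≤ N`
  have h2 : ∀ x ∈ h.KK, cm w x ∈ h.NN := by
    intro x hx
    by_cases hxe : cm x e = 1
    · exact hk1 x hx hxe
    · have h4 := hk1 (x * a) (mul_mem hx (h.NN_le ha)) (hfix x hx hxe)
      have h5 : cm w (x * a) = cm w x * (x * cm w a * x⁻¹) := by simp only [cm]; group
      rw [h5, h.zp_cent (h.R_le_C (h.KK_le hx)) hwa, mul_inv_cancel_right] at h4
      exact (Subgroup.mul_mem_cancel_right _ (h.zp_le_NN hwa)).1 h4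
  exact h.mem_Q_of hwC (fun x hx => h.cm_R_mem hwC h3 hx) h2 h3

/-- `c x c⁻¹ ≡ d x d⁻¹` implies `[c⁻¹ d, x] ∈ ⟨z⟩` -/
theorem cm_of_eq (h : Wide C Q R E T z s v) {c d x : G} (hc : c ∈ C) (hd : d ∈ C) (hx : x ∈ C)
    (h6 : (c * x * c⁻¹)⁻¹ * (d * x * d⁻¹) ∈ zpowers z) : cm (c⁻¹ * d) x ∈ zpowers z := by
  have hcx : c * x * c⁻¹ ∈ C := mul_mem (mul_mem hc hx) (inv_mem hc)
  have e2 : cm (c⁻¹ * d) x =
      c⁻¹ * ((c * x * c⁻¹) * ((c * x * c⁻¹)⁻¹ * (d * x * d⁻¹)) * (c * x * c⁻¹)⁻¹) * c := by simp only [cm]; group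
  rw [e2, h.zp_cent hcx h6, mul_inv_cancel_right, h.zp_cent (inv_mem hc) h6, inv_mul_cancel_right]
  exact h6

/-- `8 ≤ |N|`, `|R| ≤ 4 |N|` -/
theorem card_N [Finite G] (h : Wide C Q R E T z s v) : 8 ≤ Nat.card h.NN ∧ Nat.card R ≤ 4 * Nat.card h.NN := by
  obtain ⟨e, he, hse⟩ := h.s_move
  have heR := h.E_le he
  have hNR : h.NN ≤ R := h.NN_le.trans h.KK_le
  have hnE : cm s e ∈ E := mul_mem (h.s_norm e he) (inv_mem he)
  have hnN : cm s e ∈ h.NN := ⟨h.sx_mem heR, e, heR, Eqz.refl _⟩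
  obtain ⟨a, ha, hae⟩ := h.exists_a heR hse
  set Ne : Subgroup G := h.NN ⊓ centralizer ({e} : Set G) with hNe
  have hz : zpowers z ≤ Ne := by
    refine le_inf h.zp_le_NN fun x hx => mem_centralizer_singleton_iff.2 (h.zp_cent (h.R_le_C heR) hx).symm
  have haN : a ∉ Ne := fun h1 => hae (cm_one_iff.2 (mem_centralizer_singleton_iff.1 h1.2))
  have hnNe : cm s e ∈ Ne := ⟨hnN, mem_centralizer_singleton_iff.2 (h.E_comm _ hnE _ he)⟩
  have h1 := two_mul_le hz hnNe hse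
  have h2 : 2 * Nat.card Ne ≤ Nat.card h.NN := two_mul_le inf_le_left ha haN
  rw [h.card_zp] at h1
  refine ⟨by omega, ?_⟩
  have h3 : Q.relIndex T ≤ (zpowers z).relIndex Ne := by
    refine relIndex_le (fun t => cm t a) (fun t ht => ?_) fun t ht t' ht' h4 => ?_
    · have htC := h.T_le ht
      have h5 : cm t a ∈ h.NN := mul_mem (h.NN_conj htC ha) (inv_mem ha)
      refine ⟨h5, mem_centralizer_singleton_iff.2 (cm_one_iff.1 ?_)⟩
      have e1 : cm t a = (t * a * t⁻¹) * a⁻¹ := rfl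
      have hta : t * a * t⁻¹ ∈ R := h.R_norm t htC a (hNR ha)
      have e2 : t * e * t⁻¹ = e := by rw [h.T_cent t ht e he, mul_inv_cancel_right]
      have h6 : cm (t * a * t⁻¹) e = cm a e := by
        conv_lhs => rw [← e2]
        exact h.cm_conj htC (hNR ha) heR
      rw [e1, h.cm_mul_left hta (inv_mem (hNR ha)) heR, h6, ← h.cm_mul_left (hNR ha) (inv_mem (hNR ha)) heR]
      simp [cm]
    · -- `[t⁻¹ t', a] ∈ ⟨z⟩`
      have htC := h.T_le ht
      refine h.mem_Q_of_T he hse ha hae (mul_mem (inv_mem ht) ht') ?_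
      refine h.cm_of_eq htC (h.T_le ht') (h.R_le_C (hNR ha)) ?_
      have h5 : (cm t a)⁻¹ * cm t' a = a * ((t * a * t⁻¹)⁻¹ * (t' * a * t'⁻¹)) * a⁻¹ := by simp only [cm]; group
      change (cm t a)⁻¹ * cm t' a ∈ zpowers z at h4
      rw [h5] at h4
      have h7 := h.zp_cent (inv_mem (h.R_le_C (hNR ha))) h4
      have e1 : (t * a * t⁻¹)⁻¹ * (t' * a * t'⁻¹) =
          a⁻¹ * (a * ((t * a * t⁻¹)⁻¹ * (t' * a * t'⁻¹)) * a⁻¹) * a := by group
      rw [e1, h7, inv_mul_cancel_right]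
      exact h4
  have h4 : Nat.card (T ⊓ Q : Subgroup G) * Q.relIndex T = Nat.card T := by
    have := card_mul_relIndex (inf_le_left : T ⊓ Q ≤ T)
    rwa [inf_relIndex_left] at this
  have h5 := card_mul_relIndex hz
  rw [h.card_zp] at h5
  have h6 := h.T_inf
  have h7 := h.T_card
  have h8 : Nat.card T ≤ 4 * (zpowers z).relIndex Ne := by
    rw [← h4]
    exact Nat.mul_le_mul h6 h3
  omega

/-- **`|R| = 32`** -/
theorem card_R [Finite G] (h : Wide C Q R E T z s v) : Nat.card R = 32 := by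
  obtain ⟨h1, h2⟩ := h.card_N
  have h3 := h.card_N_sq
  have h4 : Nat.card h.NN ≤ 8 := by
    have h5 : Nat.card h.NN * Nat.card h.NN ≤ 8 * Nat.card h.NN := by omega
    exact Nat.le_of_mul_le_mul_right h5 (by omega)
  have h5 : Nat.card h.NN = 8 := le_antisymm h4 h1
  rw [h5] at h2 h3
  omega

theorem card_NN [Finite G] (h : Wide C Q R E T z s v) : Nat.card h.NN = 8 := by
  obtain ⟨h1, h2⟩ := h.card_N
  have h3 := h.card_N_sq
  rw [h.card_R] at h3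
  have h4 : Nat.card h.NN ≤ 8 := by
    by_contra h5
    push Not at h5
    have : 9 * 9 ≤ Nat.card h.NN * Nat.card h.NN := Nat.mul_le_mul h5 h5
    omega
  omega

/-- `K = N` -/
theorem KK_eq [Finite G] (h : Wide C Q R E T z s v) : h.NN = h.KK := by
  refine Subgroup.eq_of_le_of_card_ge h.NN_le ?_
  have h1 := card_mul_relIndex h.KK_le
  have h2 := card_mul_relIndex h.zp_le_NN
  have h3 := h.idx_le
  rw [h.card_zp, h.card_NN] at h2
  rw [h.card_R] at h1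
  rw [h.card_NN]
  have h4 : (zpowers z).relIndex h.NN = 4 := by omega
  rw [h4] at h3
  by_contra h5
  push Not at h5
  have : 9 * 4 ≤ Nat.card h.KK * h.KK.relIndex R := Nat.mul_le_mul h5 h3
  omega

/-- an element of `C` trivial on `N/z` lies in `Q` -/
theorem mem_Q_of_N [Finite G] (h : Wide C Q R E T z s v) {c : G} (hc : c ∈ C)
    (h3 : ∀ x ∈ h.NN, cm c x ∈ zpowers z) : c ∈ Q := by
  refine h.mem_Q_of hc (fun x hx => h.cm_R_mem hc h3 hx) (fun x hx => ?_) h3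
  rw [← h.KK_eq] at hx
  exact h.zp_le_NN (h3 x hx)

/-- `|C : Q| ≤ 6` -/
theorem relIndex_le_six [Finite G] (h : Wide C Q R E T z s v) : Q.relIndex C ≤ 6 := by
  classical
  obtain ⟨e, he, hse⟩ := h.s_move
  have heR := h.E_le he
  have hNR : h.NN ≤ R := h.NN_le.trans h.KK_le
  have hnE : cm s e ∈ E := mul_mem (h.s_norm e he) (inv_mem he)
  set n := cm s e with hn
  have hnN : n ∈ h.NN := ⟨h.sx_mem heR, e, heR, Eqz.refl _⟩
  obtain ⟨a, ha, hae⟩ := h.exists_a heR hse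
  set Ne : Subgroup G := h.NN ⊓ centralizer ({e} : Set G) with hNe
  have hz : zpowers z ≤ Ne := by
    refine le_inf h.zp_le_NN fun x hx => mem_centralizer_singleton_iff.2 (h.zp_cent (h.R_le_C heR) hx).symm
  have haN : a ∉ Ne := fun h1 => hae (cm_one_iff.2 (mem_centralizer_singleton_iff.1 h1.2))
  have hnNe : n ∈ Ne := ⟨hnN, mem_centralizer_singleton_iff.2 (h.E_comm _ hnE _ he)⟩
  have hNle : Ne ≤ h.NN := inf_le_left
  have h1 := two_mul_le hz hnNe hse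
  have h2 : 2 * Nat.card Ne ≤ Nat.card h.NN := two_mul_le hNle ha haN
  have h3 := card_mul_relIndex hNle
  have h4 := card_mul_relIndex hz
  rw [h.card_zp] at h1 h4
  rw [h.card_NN] at h2 h3
  have hc : Nat.card Ne = 4 := by omega
  have hi1 : Ne.relIndex h.NN = 2 := by rw [hc] at h3; omega
  have hi2 : (zpowers z).relIndex Ne = 2 := by rw [hc] at h4; omega
  have haz : a ∉ zpowers z := fun h5 => haN (hz h5)
  have hanz : a * n ∉ zpowers z := fun h5 => haN ((Subgroup.mul_mem_cancel_right _ hnNe).1 (hz h5))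
  -- the three cosets
  let mk : G → G ⧸ zpowers z := QuotientGroup.mk
  have hmk : ∀ x y : G, mk x = mk y ↔ x⁻¹ * y ∈ zpowers z := fun x y => QuotientGroup.eq
  have hcos : ∀ x ∈ h.NN, x ∉ zpowers z → mk x = mk n ∨ mk x = mk a ∨ mk x = mk (a * n) := by
    intro x hx hxz
    by_cases hxN : x ∈ Ne
    · left
      exact (hmk _ _).2 (inv_mul_mem hi2 hxN hnNe hxz hse)
    · have h5 : a⁻¹ * x ∈ Ne := inv_mul_mem hi1 ha hx haN hxN
      right
      by_cases h6 : a⁻¹ * x ∈ zpowers z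
      · left
        exact ((hmk _ _).2 h6).symm
      · right
        refine ((hmk _ _).2 ?_).symm
        have h7 := inv_mul_mem hi2 hnNe h5 hse h6
        have e1 : (a * n)⁻¹ * x = n⁻¹ * (a⁻¹ * x) := by group
        rwa [e1]
  let P3 : Finset (G ⧸ zpowers z) := {mk n, mk a, mk (a * n)}
  have hP3 : P3.card ≤ 3 := Finset.card_le_three
  have hconj : ∀ c ∈ C, ∀ x ∈ h.NN, x ∉ zpowers z → mk (c * x * c⁻¹) ∈ P3 := by
    intro c hc x hx hxz
    have h5 := hcos _ (h.NN_conj hc hx) (fun h6 => hxz (by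
      have h7 := h.zp_cent (inv_mem hc) h6
      have e1 : x = c⁻¹ * (c * x * c⁻¹) * c := by group
      rw [e1, h7, inv_mul_cancel_right]
      exact h6))
    simp only [P3, Finset.mem_insert, Finset.mem_singleton]
    exact h5
  have h5 : P3.offDiag.card ≤ 6 := by
    rw [Finset.offDiag_card]
    interval_cases P3.card <;> omega
  refine le_trans (relIndex_le_card (fun c => (mk (c * n * c⁻¹), mk (c * a * c⁻¹))) P3.offDiag ?_ ?_) h5
  · intro c hc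
    rw [Finset.mem_offDiag]
    refine ⟨hconj c hc n hnN hse, hconj c hc a ha haz, fun h6 => ?_⟩
    have h7 := (hmk _ _).1 h6
    have h8 : n⁻¹ * a ∈ zpowers z := by
      have e1 : n⁻¹ * a = c⁻¹ * ((c * n * c⁻¹)⁻¹ * (c * a * c⁻¹)) * c := by group
      rw [e1, h.zp_cent (inv_mem hc) h7, inv_mul_cancel_right]
      exact h7
    exact haN ((Subgroup.mul_mem_cancel_left _ (inv_mem hnNe)).1 (hz h8))
  · intro c hc d hd h6
    have h7 := (hmk _ _).1 (congrArg Prod.fst h6)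
    have h8 := (hmk _ _).1 (congrArg Prod.snd h6)
    have hwC : c⁻¹ * d ∈ C := mul_mem (inv_mem hc) hd
    have k1 := h.cm_of_eq hc hd (h.R_le_C (hNR hnN)) h7
    have k2 := h.cm_of_eq hc hd (h.R_le_C (hNR ha)) h8
    have kmul : ∀ x ∈ C, ∀ y ∈ C, cm (c⁻¹ * d) x ∈ zpowers z → cm (c⁻¹ * d) y ∈ zpowers z →
        cm (c⁻¹ * d) (x * y) ∈ zpowers z := by
      intro x hx y hy h9 h10
      have h11 : cm (c⁻¹ * d) (x * y) = cm (c⁻¹ * d) x * (x * cm (c⁻¹ * d) y * x⁻¹) := by simp only [cm]; group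
      rw [h11, h.zp_cent hx h10, mul_inv_cancel_right]
      exact mul_mem h9 h10
    have kz : ∀ x ∈ zpowers z, cm (c⁻¹ * d) x ∈ zpowers z := by
      intro x hx
      have : cm (c⁻¹ * d) x = 1 := cm_one_iff.2 (h.zp_cent hwC hx)
      rw [this]
      exact one_mem _
    have kcos : ∀ y ∈ C, cm (c⁻¹ * d) y ∈ zpowers z → ∀ x, mk x = mk y → cm (c⁻¹ * d) x ∈ zpowers z := by
      intro y hy h9 x h10
      have h11 := (hmk _ _).1 h10.symm
      have e1 : x = y * (y⁻¹ * x) := by group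
      rw [e1]
      exact kmul y hy _ (h.R_le_C (h.zp_le_R h11)) h9 (kz _ h11)
    have hnC := h.R_le_C (hNR hnN)
    have haC := h.R_le_C (hNR ha)
    refine h.mem_Q_of_N hwC fun x hx => ?_
    by_cases hxz : x ∈ zpowers z
    · exact kz x hxz
    · rcases hcos x hx hxz with h9 | h9 | h9
      · exact kcos n hnC k1 x h9
      · exact kcos a haC k2 x h9
      · exact kcos (a * n) (mul_mem haC hnC) (kmul a haC n hnC k2 k1) x h9

/-- **`|C| = 6 |Q|`** -/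
theorem card_C [Finite G] (h : Wide C Q R E T z s v) : Nat.card C = 6 * Nat.card Q := by
  have h1 := card_mul_relIndex h.Q_le
  have h2 := h.relIndex_le_six
  have h3 : Q.relIndex C ≠ 0 := fun h3 => by
    rw [h3, mul_zero] at h1
    exact Nat.card_pos.ne h1
  have : (Q.subgroupOf C).Normal := by
    rw [h.Q_eq]
    exact normal_subgroupOf_of_le_normalizer (le_normalizer_o2 C)
  -- even
  have h4 : 2 ∣ Q.relIndex C := by
    have h5 : orderOf (QuotientGroup.mk (⟨v, h.v_mem⟩ : C) : C ⧸ Q.subgroupOf C) = 2 := by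
      refine orderOf_eq_prime ?_ ?_
      · rw [← QuotientGroup.mk_pow, QuotientGroup.eq_one_iff, mem_subgroupOf]
        change v ^ 2 ∈ Q
        rw [pow_two, h.v_sq]
        exact one_mem _
      · rw [Ne, QuotientGroup.eq_one_iff, mem_subgroupOf]
        exact h.v_not
    rw [← h5]
    exact orderOf_dvd_natCard _
  -- not a power of 2
  have h5 : ∀ k : ℕ, Q.relIndex C ≠ 2 ^ k := by
    intro k hk
    obtain ⟨n, hn⟩ := IsPGroup.iff_card.1 h.Q_p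
    have h6 : IsPGroup 2 C := by
      refine IsPGroup.iff_card.2 ⟨n + k, ?_⟩
      rw [← h1, hn, hk, pow_add]
    have h7 : C ≤ Q := by
      rw [h.Q_eq]
      exact le_o2 le_rfl h6 le_normalizer
    exact h.v_not (h7 h.v_mem)
  have h6 : Q.relIndex C = 6 := by
    have h7 := h5 1
    have h8 := h5 2
    interval_cases hq : Q.relIndex C <;> omega
  rw [← h1, h6, mul_comm]

end Wide

end Cfsg.Agent.Omega.NOne.AG.Wide
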