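import Cfsg.Agent.Omega.NOne.AG.Sympl
import Cfsg.Agent.Omega.NOne.AG.Wide

/-!
# THEOREM D0ag (bb #15001): the case `Δ = V`

`Base.caseV`: `Δ ≤ V` gives `F*(C_G(z i₀))` of symplectic type, or `|S| = 128`, `C_S(V) = V`.
-/

set_option autoImplicit false

namespace Cfsg.Agent.Omega.NOne.AG

open Subgroup Cfsg Cfsg.Agent.ZN Cfsg.Agent.Omega.MinPar Cfsg.Agent.Omega.Frame
open Cfsg.Agent.Omega.NOne.AG.Wide (Wide relIndex_le_card card_mul_relIndex)

universe u

variable {G : Type u} [Group G] {ι : Type*}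

namespace Conf

variable {P V T : Subgroup G} {z : ι → G} {opp : ι → ι → Prop} {C Q QF Qs : ι → Subgroup G}

section

variable (h : Conf P V T z opp C Q QF Qs)
include h

/-- `|Qs i : T ∩ Qs i| ≤ 4`. -/
theorem relIndex_Tt [Finite G] {i j : ι} (hij : opp i j) :
    (h.Tt i).relIndex (Qs i) ≤ 4 := by
  classical
  -- a basis of `E_i / z_i`
  have h8 := h.card_E hij
  obtain ⟨e, he, he1, hez⟩ : ∃ e ∈ V ⊓ Q i, e ≠ 1 ∧ e ≠ z i := by
    by_contra hcon
    push Not at hcon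
    have h1 : ((V ⊓ Q i : Subgroup G) : Set G) ⊆ {1, z i} := by
      intro x hx
      by_cases hx1 : x = 1
      · left; exact hx1
      · right; exact hcon x hx hx1
    have h2 := Set.ncard_le_ncard h1 (Set.toFinite _)
    have h3 : Nat.card ↥(V ⊓ Q i) = ((V ⊓ Q i : Subgroup G) : Set G).ncard := rfl
    have h4 : ({1, z i} : Set G).ncard = 2 := Set.ncard_pair (h.ne_one i).symm
    omega
  obtain ⟨f, hf, hf'⟩ : ∃ f ∈ V ⊓ Q i, ¬ (f = 1 ∨ f = z i ∨ f = e ∨ f = e * z i) := by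
    by_contra hcon
    push Not at hcon
    have h1 : ((V ⊓ Q i : Subgroup G) : Set G) ⊆ (({1, z i, e, e * z i} : Finset G) : Set G) := by
      intro x hx
      simp only [Finset.coe_insert, Finset.coe_singleton, Set.mem_insert_iff, Set.mem_singleton_iff]
      by_contra hc
      simp only [not_or] at hc
      exact hc.2.2.2 (hcon x hx |>.resolve_left hc.1 |>.resolve_left hc.2.1 |>.resolve_left hc.2.2.1)
    have h2 := Set.ncard_le_ncard h1 (Set.toFinite _)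
    rw [Set.ncard_coe_finset] at h2
    have h3 : Nat.card ↥(V ⊓ Q i) = ((V ⊓ Q i : Subgroup G) : Set G).ncard := rfl
    have h4 := Finset.card_le_four (a := (1 : G)) (b := z i) (c := e) (d := e * z i)
    omega
  have key : (h.Tt i).relIndex (Qs i) ≤ (Finset.univ : Finset (Bool × Bool)).card := by
    refine relIndex_le_card (fun x => (decide (x * e = e * x), decide (x * f = f * x))) Finset.univ
      (fun _ _ => Finset.mem_univ _) ?_
    intro c hc d hd hcd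
    rw [Prod.mk.injEq, decide_eq_decide, decide_eq_decide] at hcd
    have hx : c⁻¹ * d ∈ Qs i := mul_mem (inv_mem hc) hd
    -- `c⁻¹ d` commutes with `w` if `c`, `d` commute with `w` or both do not
    have hcom : ∀ w ∈ V ⊓ Q i, (c * w = w * c ↔ d * w = w * d) → w * (c⁻¹ * d) = c⁻¹ * d * w := by
      intro w hw hiff
      have hwQs : w ∈ Qs i := h.VQs i w hw.1 hw.2
      have hzc : ∀ y ∈ Qs i, y * z i = z i * y := fun y hy => h.Qcomm_z (h.QsQ i hy)
      by_cases h1 : c * w = w * c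
      · have h2 := hiff.1 h1
        calc w * (c⁻¹ * d) = c⁻¹ * (c * w) * c⁻¹ * d := by group
          _ = c⁻¹ * (w * c) * c⁻¹ * d := by rw [h1]
          _ = c⁻¹ * (w * d) := by group
          _ = c⁻¹ * d * w := by rw [← h2]; group
      · have h2 : ¬ d * w = w * d := fun h2 => h1 (hiff.2 h2)
        have h3 : c * w = z i * (w * c) := (h.Qs_comm hc hwQs).resolve_left h1
        have h4 : d * w = z i * (w * d) := (h.Qs_comm hd hwQs).resolve_left h2
        have h5 : w * c = z i * (c * w) := by rw [h3, ← mul_assoc, h.sq, one_mul]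
        calc w * (c⁻¹ * d) = c⁻¹ * (c * w) * c⁻¹ * d := by group
          _ = c⁻¹ * (z i * (w * c)) * c⁻¹ * d := by rw [h3]
          _ = c⁻¹ * (z i * (w * d)) := by group
          _ = c⁻¹ * d * w := by rw [← h4]; group
    refine h.mem_Tt.2 ⟨?_, h.QsQ i hx⟩
    by_contra hxT
    exact hf' (h.E_comm hij hx hxT he.1 he.2 hf.1 hf.2 (hcom e he hcd.1) (hcom f hf hcd.2) he1 hez)
  simpa using key

/-- `|Qs i| ≤ 4 |T_i|`. -/
theorem card_Qs_le [Finite G] {i j : ι} (hij : opp i j) (hQF : QF i = Qs i) :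
    Nat.card ↥(Qs i) ≤ 4 * Nat.card ↥(h.Tt i) := by
  have hle : h.Tt i ≤ Qs i := fun x hx => hQF ▸ h.Tt_QF hx
  have h1 := card_mul_relIndex hle
  have h2 := h.relIndex_Tt hij
  calc Nat.card ↥(Qs i) = Nat.card ↥(h.Tt i) * (h.Tt i).relIndex (Qs i) := h1.symm
    _ ≤ Nat.card ↥(h.Tt i) * 4 := Nat.mul_le_mul_left _ h2
    _ = 4 * Nat.card ↥(h.Tt i) := mul_comm _ _

/-- `|Qs i| = |Qs j|`. -/
theorem card_Qs_eq [Finite G] (i j : ι) (hne : ∃ k, opp i k) : Nat.card ↥(Qs i) ≤ Nat.card ↥(Qs j) := by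
  obtain ⟨k, hik⟩ := hne
  obtain ⟨x, hx, hxj⟩ := h.trans i k hik j
  have hxP : x ∈ P := (sup_le (h.QsP i) (h.QsP k)) hx
  refine Nat.card_le_card_of_injective
    (fun y : Qs i => (⟨x * y * x⁻¹, h.eqQs x hxP i j hxj y y.2⟩ : Qs j)) ?_
  intro a b hab
  have h1 := congrArg Subtype.val hab
  exact Subtype.ext (mul_left_cancel (mul_right_cancel h1))

/-- `|V ∩ Q i ∩ Q j| ≤ 4`. -/
theorem card_EE [Finite G] {i j : ι} (hij : opp i j) : Nat.card ↥((V ⊓ Q i) ⊓ Q j) ≤ 4 := by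
  have h1 := card_two (H := (V ⊓ Q i) ⊓ Q j) (K := V ⊓ Q i) inf_le_left
    ⟨z i, ⟨h.zV i, h.z_mem_Q i⟩, fun hc => (h.opp_iff j i).1 (h.symm hij) (mem_inf.1 hc).2⟩
    (fun a ha b hb ha' hb' => by
      refine mem_inf.2 ⟨mul_mem ha hb, ?_⟩
      exact h.VQ2 j a (mem_inf.1 ha).1 b (mem_inf.1 hb).1 (fun hc => ha' (mem_inf.2 ⟨ha, hc⟩))
        (fun hc => hb' (mem_inf.2 ⟨hb, hc⟩)))
  rw [h.card_E hij] at h1
  omega

/-- **The hypotheses of (3).** -/
theorem wide [Finite G] (hD : h.Dl ≤ V) {i j : ι} (hij : opp i j) {s : G} (hs : s ∈ Q i)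
    (hsF : s ∉ QF i) : Wide (C i) (Q i) (QF i) (V ⊓ Q i) (h.Tt j) (z i) s (z j) where
  Q_eq := h.Qo2 i
  cent := fun c hc => h.char2 i c (mem_inf.1 hc).1 fun x hx =>
    ((mem_centralizer_iff.1 (mem_inf.1 hc).2) x hx).symm
  z_ne := h.ne_one i
  z_sq := h.sq i
  z_cent := h.Cz i
  R_le := h.QFQ i
  R_norm := fun c hc x hx => (mem_normalizer_iff.1 (h.nQF i hc) x).1 hx
  R_idx := by
    have h1 := card_two (h.QFQ i) ⟨s, hs, hsF⟩ fun a ha b hb ha' hb' => h.QF2 i a ha b hb ha' hb'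
    have h2 := card_mul_relIndex (h.QFQ i)
    have h3 : 0 < Nat.card ↥(QF i) := Nat.card_pos
    rw [h1, mul_comm] at h2
    exact Nat.eq_of_mul_eq_mul_right h3 h2
  R_sq := fun x hx => by
    rw [h.QF_eq_of_V hD] at hx
    rcases h.sq_Qs hx with h1 | h1
    · rw [h1]; exact one_mem _
    · rw [h1]; exact mem_zpowers _
  R_comm := fun x hx y hy => by
    rw [h.QF_eq_of_V hD] at hx hy
    have e : Wide.cm x y = x * y * (y * x)⁻¹ := by simp only [Wide.cm]; group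
    rw [e]
    rcases h.Qs_comm hx hy with h1 | h1
    · rw [h1, mul_inv_cancel]; exact one_mem _
    · rw [h1, mul_inv_cancel_right]; exact mem_zpowers _
  R_cent := fun x hx hxy => by
    rw [h.QF_eq_of_V hD] at hx
    rcases h.Zs_eq_of_V hD hx (fun y hy => hxy y (h.QsQF i hy)) with h1 | h1
    · rw [h1]; exact one_mem _
    · rw [h1]; exact mem_zpowers _
  z_mem := ⟨h.zV i, h.z_mem_Q i⟩
  E_le := fun e he => h.QsQF i (h.VQs i e he.1 he.2)
  E_card := h.card_E hij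
  E_comm := fun x hx y hy => h.Vab x hx.1 y hy.1
  s_mem := hs
  s_norm := fun e he => ⟨h.conj_V (h.QP i hs) he.1,
    (mem_normalizer_iff.1 (h.nQ i (h.QC i hs)) e).1 he.2⟩
  s_move := by
    by_contra hcon
    push Not at hcon
    apply hsF
    refine h.QQF i s hs fun v hv hvQ => ?_
    have h1 := hcon v ⟨hv, hvQ⟩
    have e : s * v = Wide.cm s v * (v * s) := by simp only [Wide.cm]; group
    have h2 : Wide.cm s v = 1 ∨ Wide.cm s v = z i := by
      obtain ⟨k, hk⟩ := mem_zpowers_iff.1 h1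
      have h3 : z i ^ (2 : ℤ) = 1 := by rw [zpow_two, h.sq]
      rcases Int.even_or_odd' k with ⟨m, hm | hm⟩
      · left
        rw [← hk, hm, zpow_mul, h3, one_zpow]
      · right
        rw [← hk, hm, zpow_add, zpow_mul, h3, one_zpow, one_mul, zpow_one]
    rcases h2 with h2 | h2
    · left; rw [e, h2, one_mul]
    · right; rw [e, h2]
  T_le := (h.Tt_T j).trans (h.TC i)
  T_cent := fun t ht e he => h.TV t (h.Tt_T j ht) e he.1
  T_comm := by
    intro t ht x hx hxe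
    rw [h.QF_eq_of_V hD] at hx
    have hxT : x ∈ T := h.T_of_comm hx fun v hv hvQ => hxe v ⟨hv, hvQ⟩
    have hxi : x ∈ h.Tt i := h.mem_Tt.2 ⟨hxT, h.QsQ i hx⟩
    have htT := h.Tt_T j ht
    have h1 : Wide.cm t x ∈ h.Tt i := by
      have e : Wide.cm t x = (t * x * t⁻¹) * x⁻¹ := rfl
      rw [e]
      exact mul_mem ((mem_normalizer_iff.1 (h.Tt_norm i htT) x).1 hxi) (inv_mem hxi)
    have h2 : Wide.cm t x ∈ h.Tt j := by
      have e : Wide.cm t x = t * (x * t⁻¹ * x⁻¹) := by simp only [Wide.cm]; group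
      rw [e]
      exact mul_mem ht ((mem_normalizer_iff.1 (h.Tt_norm j hxT) t⁻¹).1 (inv_mem ht))
    exact ⟨hD (h.inter_Dl hij h1 h2), (h.mem_Tt.1 h1).2⟩
  T_card := by
    obtain ⟨k, hjk⟩ : ∃ k, opp j k := ⟨i, h.symm hij⟩
    rw [h.QF_eq_of_V hD i]
    exact (h.card_Qs_eq i j ⟨j, hij⟩).trans (h.card_Qs_le (h.symm hij) (h.QF_eq_of_V hD j))
  T_inf := by
    refine le_trans (Subgroup.card_le_of_le ?_) (h.card_EE hij)
    intro x hx
    obtain ⟨hx1, hx2⟩ := mem_inf.1 hx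
    have hxi : x ∈ h.Tt i := h.mem_Tt.2 ⟨h.Tt_T j hx1, hx2⟩
    exact ⟨⟨hD (h.inter_Dl hij hxi hx1), hx2⟩, (h.mem_Tt.1 hx1).2⟩
  v_mem := h.VC i (h.zV j)
  v_sq := h.sq j
  v_not := (h.opp_iff i j).1 hij

end

end Conf

namespace Base

variable [Finite G] {S : Sylow 2 G} {P V T : Subgroup G} {z : ι → G} {opp : ι → ι → Prop}
  {C Q QF Qs : ι → Subgroup G} {i₀ : ι}

/-- **The case `Δ = V` of D0ag.** -/
theorem caseV (h : Base S P V T z opp C Q QF Qs i₀) (hD : h.toConf.Dl ≤ V) :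
    NO1.Sympl (z i₀) ∨ (Nat.card (S : Subgroup G) = 128 ∧ T = V) := by
  by_cases hQ : Q i₀ ≤ QF i₀
  · exact Or.inl (h.sympl (fun x hx => h.toConf.B_eq_of_V hD hx) (h.toConf.QF_eq_of_V hD i₀) hQ)
  right
  obtain ⟨s, hs, hsF⟩ := SetLike.not_le_iff_exists.1 hQ
  obtain ⟨j, k, hij, -, -⟩ := h.tri i₀
  have hW := h.toConf.wide hD hij hs hsF
  have h1 := hW.card_R
  have h2 := hW.card_C
  have h3 := card_two (h.QFQ i₀) ⟨s, hs, hsF⟩ fun a ha b hb ha' hb' => h.QF2 i₀ a ha b hb ha' hb'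
  rw [h1] at h3
  rw [h3] at h2
  -- `|S| = 128`
  have h5 := card_mul_relIndex h.S_le_C
  have h6 : ¬ 2 ∣ (S : Subgroup G).relIndex (C i₀) :=
    MinSimple.Basic.not_dvd_relIndex S h.S_le_C
  have : Fact (Nat.Prime 2) := ⟨Nat.prime_two⟩
  obtain ⟨n, hn⟩ := IsPGroup.iff_card.1 S.isPGroup'
  have h7 : Nat.card (S : Subgroup G) = 128 := by
    rw [hn] at h5 ⊢
    have h8 : 2 ^ n ∣ 2 ^ 7 := by
      have h9 : 2 ^ n ∣ 2 ^ 7 * 3 := by
        rw [show 2 ^ 7 * 3 = 6 * (2 * 32) by norm_num, ← h2, ← h5]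
        exact dvd_mul_right _ _
      exact (Nat.Coprime.pow_left n (by norm_num : Nat.Coprime 2 3)).dvd_of_dvd_mul_right h9
    have h10 : 2 ^ 7 ∣ 2 ^ n := by
      have h9 : 2 ^ 7 ∣ 2 ^ n * (S : Subgroup G).relIndex (C i₀) := by
        rw [h5, h2]
        exact ⟨3, by norm_num⟩
      exact (Nat.Coprime.pow_left 7 ((Nat.prime_two.coprime_iff_not_dvd).2 h6)).dvd_of_dvd_mul_right h9
    exact Nat.dvd_antisymm h8 h10
  refine ⟨h7, ?_⟩
  have h8 := card_mul_relIndex h.T_le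
  rw [h7, h.index] at h8
  symm
  refine Subgroup.eq_of_le_of_card_ge h.VT ?_
  rw [h.cardV]
  omega

end Base

end Cfsg.Agent.Omega.NOne.AG
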