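import Cfsg.Agent.Omega.NOne.LemmaT

/-!
# THEOREM D0ag (bb #15001, helper313): the abstract configuration

`V` is the module of the minimal parabolic `P`, `z i` (`i : ι`) are the points (the conjugates of `z`
under `P`), `opp i j` means that `z i`, `z j` are not perpendicular; `C i` is the conjugate of the group
`C_1` at `z i`, `Q i = O₂(C i)`, `QF i = C_{Q i}(E_i/z_i)` (`E_i = V ∩ Q i = z_i^⊥`), `Qs i = ⟨E_i^{C i}⟩`,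
`T = C_S(V)`.

`Conf` is the configuration after the frame (0) of the text (for all points, by conjugation in `P`).
-/

set_option autoImplicit false

namespace Cfsg.Agent.Omega.NOne.AG

open Subgroup Cfsg Cfsg.Agent.ZN

universe u

variable {G : Type u} [Group G] {ι : Type*}

/-- The abstract configuration of D0ag. -/
structure Conf (P V T : Subgroup G) (z : ι → G) (opp : ι → ι → Prop) (C Q QF Qs : ι → Subgroup G) :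
    Prop where
  -- the points
  ne_one : ∀ i, z i ≠ 1
  sq : ∀ i, z i * z i = 1
  zV : ∀ i, z i ∈ V
  irr : ∀ i, ¬ opp i i
  symm : ∀ {i j}, opp i j → opp j i
  -- `P`, `V`, `T`
  Vab : ∀ v ∈ V, ∀ w ∈ V, v * w = w * v
  Vsq : ∀ v ∈ V, v * v = 1
  cardV : Nat.card V = 16
  VT : V ≤ T
  TP : T ≤ P
  TV : ∀ t ∈ T, ∀ v ∈ V, t * v = v * t
  nT : P ≤ normalizer (T : Set G)
  nV : P ≤ normalizer (V : Set G)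
  pT : IsPGroup 2 T
  perm : ∀ m ∈ P, ∀ i, ∃ j, m * z i * m⁻¹ = z j
  -- transport
  eqC : ∀ m ∈ P, ∀ i j, m * z i * m⁻¹ = z j → ∀ x ∈ C i, m * x * m⁻¹ ∈ C j
  eqQ : ∀ m ∈ P, ∀ i j, m * z i * m⁻¹ = z j → ∀ x ∈ Q i, m * x * m⁻¹ ∈ Q j
  eqQF : ∀ m ∈ P, ∀ i j, m * z i * m⁻¹ = z j → ∀ x ∈ QF i, m * x * m⁻¹ ∈ QF j
  eqQs : ∀ m ∈ P, ∀ i j, m * z i * m⁻¹ = z j → ∀ x ∈ Qs i, m * x * m⁻¹ ∈ Qs j
  -- the local subgroups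
  Cz : ∀ i, ∀ c ∈ C i, c * z i = z i * c
  PC : ∀ i, ∀ m ∈ P, m * z i = z i * m → m ∈ C i
  /-- `C_1 = L_1 (P ∩ C)` -/
  gen : ∀ i, C i ≤ closure ({m | m ∈ P ∧ m * z i = z i * m} ∪
    {x | ∃ c ∈ C i, ∃ v ∈ V, x = c * v * c⁻¹})
  Qo2 : ∀ i, Q i = o2 (C i)
  char2 : ∀ i, ∀ c ∈ C i, (∀ x ∈ Q i, c * x = x * c) → c ∈ Q i
  QP : ∀ i, Q i ≤ P
  nQF : ∀ i, C i ≤ normalizer (QF i : Set G)
  nQs : ∀ i, C i ≤ normalizer (Qs i : Set G)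
  QFQ : ∀ i, QF i ≤ Q i
  QsQF : ∀ i, Qs i ≤ QF i
  /-- `[Qs i, QF i] ≤ ⟨z i⟩` -/
  com : ∀ i, ∀ x ∈ Qs i, ∀ y ∈ QF i, x * y = y * x ∨ x * y = z i * (y * x)
  QsGen : ∀ i, Qs i ≤ closure {y | ∃ c ∈ C i, ∃ e ∈ V, e ∈ Q i ∧ y = c * e * c⁻¹}
  -- `V` and the local subgroups
  /-- `E_i = V ∩ Q i` consists of the points perpendicular to `z i` (and their products) -/
  opp_iff : ∀ i j, opp i j ↔ z j ∉ Q i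
  VQs : ∀ i, ∀ v ∈ V, v ∈ Q i → v ∈ Qs i
  VQ2 : ∀ i, ∀ v ∈ V, ∀ w ∈ V, v ∉ Q i → w ∉ Q i → v * w ∈ Q i
  VQc : ∀ i, ∀ x ∈ Q i, ∀ v ∈ V, x * v * x⁻¹ * v⁻¹ ∈ Q i
  cT : ∀ i, ∀ x ∈ Q i, (∀ v ∈ V, x * v = v * x) → x ∈ T
  /-- no nontrivial element of `P/C_P(V)` centralises `E_i` -/
  faith : ∀ i, ∀ x ∈ P, (∀ v ∈ V, v ∈ Q i → x * v = v * x) → ∀ v ∈ V, x * v = v * x
  fixE : ∀ i, ∀ e ∈ V, (∀ x ∈ Qs i, x * e = e * x) → e = 1 ∨ e = z i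
  QFT : ∀ i, ∀ x ∈ QF i, ∃ t ∈ T, ∃ y ∈ Qs i, x = t * y
  /-- `QF i = C_{Q i}(E_i / z_i)`, `|Q i : QF i| ≤ 2` -/
  QQF : ∀ i, ∀ x ∈ Q i, (∀ v ∈ V, v ∈ Q i → x * v = v * x ∨ x * v = z i * (v * x)) → x ∈ QF i
  QF2 : ∀ i, ∀ x ∈ Q i, ∀ y ∈ Q i, x ∉ QF i → y ∉ QF i → x * y ∈ QF i
  /-- `v ∈ V - E_i`: `C_X(v) = E_i^⊥` -/
  kv : ∀ i, ∀ x ∈ Qs i, ∀ v ∈ V, v ∉ Q i → (x * v = v * x ∨ x * v = z i * (v * x)) → x ∈ T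
  /-- `v ∈ V - E_i`: `[Qs i, v] ⟨z i⟩ = E_i` -/
  ev : ∀ i, ∀ e ∈ V, e ∈ Q i → ∀ v ∈ V, v ∉ Q i →
    ∃ x ∈ Qs i, x * v * x⁻¹ * v⁻¹ = e ∨ x * v * x⁻¹ * v⁻¹ = z i * e
  -- global
  /-- `⟨Qs i, Qs j⟩` is transitive on the points -/
  trans : ∀ i j, opp i j → ∀ k, ∃ x ∈ Qs i ⊔ Qs j, x * z i * x⁻¹ = z k
  tri : ∀ i, ∃ j k, opp i j ∧ opp i k ∧ opp j k
  /-- `Ω₁ Z(S^p) = ⟨z i⟩` -/
  min : ∀ i, ∀ N : Subgroup G, N ≤ T →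
    (∀ m ∈ P, m * z i = z i * m → ∀ x ∈ N, m * x * m⁻¹ ∈ N) → N ≠ ⊥ → z i ∈ N

namespace Conf

variable {P V T : Subgroup G} {z : ι → G} {opp : ι → ι → Prop} {C Q QF Qs : ι → Subgroup G}

/-- `B_i = C_{QF i}(Qs i)` -/
def B (_h : Conf P V T z opp C Q QF Qs) (i : ι) : Subgroup G :=
  QF i ⊓ centralizer (Qs i : Set G)

/-- `T_i = T ∩ Q i` -/
def Tt (_h : Conf P V T z opp C Q QF Qs) (i : ι) : Subgroup G := T ⊓ Q i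

/-- `Δ = ⋂ B_k V` -/
def Dl (h : Conf P V T z opp C Q QF Qs) : Subgroup G := ⨅ k, (h.B k ⊔ V)

end Conf

end Cfsg.Agent.Omega.NOne.AG
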