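import Cfsg.Agent.Omega.NOne.LemmaT

/-!
# THEOREM D0ag: tools

* `chain_mem` = (K): an element of `C` centralising the factors of a chain of normal subgroups of `C`
  from `O₂(C)` to `1` lies in `O₂(C)`.
* `dual`: the functionals `[e, ·]`, `e ∈ E`, are all functionals vanishing on `C_X(E)`.
-/

set_option autoImplicit false

namespace Cfsg.Agent.Omega.NOne.AG

open Subgroup Cfsg Cfsg.Agent.ZN
open Cfsg.Agent.MinSimple.VModule (o2_isPGroup)

universe u

variable {G : Type u} [Group G]

theorem inv_comm' {c x : G} (hc : c * x = x * c) : c⁻¹ * x = x * c⁻¹ := by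
  rw [inv_mul_eq_iff_eq_mul, ← mul_assoc, hc, mul_assoc, mul_inv_cancel, mul_one]

theorem conj_comm' {x y : G} (h : x * y * x⁻¹ = y) : x * y = y * x := by
  calc x * y = x * y * x⁻¹ * x := by group
    _ = y * x := by rw [h]

theorem comm_conj' {x y : G} (h : x * y = y * x) : x * y * x⁻¹ = y := by
  rw [h]; group

theorem le_norm_of {H K : Subgroup G} (h : ∀ x ∈ H, ∀ y ∈ K, x * y * x⁻¹ ∈ K) :
    H ≤ normalizer (K : Set G) := by
  intro x hx
  rw [mem_normalizer_iff]
  intro y
  refine ⟨h x hx y, fun hy => ?_⟩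
  have h1 := h x⁻¹ (inv_mem hx) _ hy
  have e : x⁻¹ * (x * y * x⁻¹) * x⁻¹⁻¹ = y := by group
  rwa [e] at h1

theorem norm_conj {H K : Subgroup G} (h : H ≤ normalizer (K : Set G)) {x y : G} (hx : x ∈ H)
    (hy : y ∈ K) : x * y * x⁻¹ ∈ K := (mem_normalizer_iff.1 (h hx) y).1 hy

/-- `A B` if `A` normalises `B` -/
theorem mem_sup_iff {A B : Subgroup G} (hn : ∀ a ∈ A, ∀ b ∈ B, a * b * a⁻¹ ∈ B) {x : G} :
    x ∈ A ⊔ B ↔ ∃ a ∈ A, ∃ b ∈ B, x = a * b := by
  constructor
  · intro hx
    let H : Subgroup G :=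
      { carrier := {x | ∃ a ∈ A, ∃ b ∈ B, x = a * b}
        one_mem' := ⟨1, one_mem _, 1, one_mem _, by simp⟩
        mul_mem' := by
          rintro _ _ ⟨a, ha, b, hb, rfl⟩ ⟨c, hc, d, hd, rfl⟩
          refine ⟨a * c, mul_mem ha hc, c⁻¹ * b * c⁻¹⁻¹ * d,
            mul_mem (hn _ (inv_mem hc) _ hb) hd, by group⟩
        inv_mem' := by
          rintro _ ⟨a, ha, b, hb, rfl⟩
          exact ⟨a⁻¹, inv_mem ha, a * b⁻¹ * a⁻¹, hn a ha _ (inv_mem hb), by group⟩ }
    have h1 : A ⊔ B ≤ H := sup_le (fun a ha => ⟨a, ha, 1, one_mem _, by simp⟩)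
      (fun b hb => ⟨1, one_mem _, b, hb, by simp⟩)
    exact h1 hx
  · rintro ⟨a, ha, b, hb, rfl⟩
    exact mul_mem (mem_sup_left ha) (mem_sup_right hb)

/-- a subgroup of index 2 -/
theorem card_two {H K : Subgroup G} (hHK : H ≤ K) (hne : ∃ k ∈ K, k ∉ H)
    (h2 : ∀ a ∈ K, ∀ b ∈ K, a ∉ H → b ∉ H → a * b ∈ H) : Nat.card K = 2 * Nat.card H := by
  obtain ⟨k, hk, hkH⟩ := hne
  have h1 : (H.subgroupOf K).index = 2 := by
    rw [index_eq_two_iff]
    refine ⟨⟨k, hk⟩, fun b => ?_⟩
    rw [mem_subgroupOf, mem_subgroupOf]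
    by_cases hb : (b : G) ∈ H
    · refine Or.inr ⟨hb, fun hc => hkH ?_⟩
      have := mul_mem (inv_mem hb) hc
      simpa using this
    · exact Or.inl ⟨h2 _ b.2 _ hk hb hkH, hb⟩
  have h3 := card_mul_index (H.subgroupOf K)
  rw [h1, Nat.card_congr (subgroupOfEquivOfLe hHK).toEquiv] at h3
  omega

/-- a group of order 4 generated by `z`, `e` -/
theorem mem_of_card_four [Finite G] {K : Subgroup G} (hK : Nat.card K = 4) {z e f : G} (hz : z ∈ K)
    (he : e ∈ K) (hf : f ∈ K) (hz1 : z ≠ 1) (hzz : z * z = 1) (he1 : e ≠ 1) (hez : e ≠ z) :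
    f = 1 ∨ f = z ∨ f = e ∨ f = e * z := by
  classical
  by_contra hcon
  push Not at hcon
  obtain ⟨h1, h2, h3, h4⟩ := hcon
  have : Fintype K := Fintype.ofFinite _
  have a1 : z ∉ ({1} : Finset G) := by simpa using hz1
  have a2 : e ∉ ({z, 1} : Finset G) := by simp [he1, hez]
  have a3 : e * z ∉ ({e, z, 1} : Finset G) := by
    simp only [Finset.mem_insert, Finset.mem_singleton, not_or]
    refine ⟨fun hc => hz1 (mul_left_cancel (hc.trans (mul_one e).symm)),
      fun hc => he1 (mul_right_cancel (hc.trans (one_mul z).symm)), fun hc => hez ?_⟩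
    exact mul_right_cancel (hc.trans hzz.symm)
  have a4 : f ∉ ({e * z, e, z, 1} : Finset G) := by simp [h1, h2, h3, h4]
  have hs : ({f, e * z, e, z, 1} : Finset G).card = 5 := by
    rw [Finset.card_insert_of_notMem a4, Finset.card_insert_of_notMem a3,
      Finset.card_insert_of_notMem a2, Finset.card_insert_of_notMem a1, Finset.card_singleton]
  have h6 : (({f, e * z, e, z, 1} : Finset G) : Set G) ⊆ (K : Set G) := by
    intro x hx
    simp only [Finset.coe_insert, Finset.coe_singleton, Set.mem_insert_iff,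
      Set.mem_singleton_iff] at hx
    rcases hx with rfl | rfl | rfl | rfl | rfl
    · exact hf
    · exact mul_mem he hz
    · exact he
    · exact hz
    · exact one_mem _
  have h7 := Set.ncard_le_ncard h6 (Set.toFinite _)
  rw [Set.ncard_coe_finset, hs] at h7
  have h8 : (K : Set G).ncard = 4 := by rw [← hK]; rfl
  omega

/-- (K) -/
theorem chain_mem [Finite G] {C : Subgroup G}
    (char2 : ∀ c ∈ C, (∀ x ∈ o2 C, c * x = x * c) → c ∈ o2 C)
    (n : ℕ) (N : ℕ → Subgroup G) (h0 : N 0 = o2 C) (hn : N n = ⊥)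
    (hN : ∀ k, C ≤ normalizer (N k : Set G)) (hm : ∀ k, N (k + 1) ≤ N k)
    {v : G} (hv : v ∈ C) (hvN : ∀ k, ∀ x ∈ N k, v * x * v⁻¹ * x⁻¹ ∈ N (k + 1)) : v ∈ o2 C := by
  let B : Subgroup G :=
    { carrier := {g | g ∈ C ∧ ∀ k, ∀ x ∈ N k, g * x * g⁻¹ * x⁻¹ ∈ N (k + 1)}
      one_mem' := ⟨one_mem _, fun k x _ => by simp⟩
      mul_mem' := by
        rintro a b ⟨ha0, ha⟩ ⟨hb0, hb⟩
        refine ⟨mul_mem ha0 hb0, fun k x hx => ?_⟩
        have e : a * b * x * (a * b)⁻¹ * x⁻¹ =
            (a * (b * x * b⁻¹ * x⁻¹) * a⁻¹) * (a * x * a⁻¹ * x⁻¹) := by group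
        rw [e]
        exact mul_mem (norm_conj (hN _) ha0 (hb k x hx)) (ha k x hx)
      inv_mem' := by
        rintro a ⟨ha0, ha⟩
        refine ⟨inv_mem ha0, fun k x hx => ?_⟩
        have e : a⁻¹ * x * a⁻¹⁻¹ * x⁻¹ = a⁻¹ * (a * x * a⁻¹ * x⁻¹)⁻¹ * a⁻¹⁻¹ := by group
        rw [e]
        exact norm_conj (hN _) (inv_mem ha0) (inv_mem (ha k x hx)) }
  have hpN : ∀ k, IsPGroup 2 (N k) := by
    intro k
    have h1 : N k ≤ o2 C := by
      induction k with
      | zero => rw [h0]
      | succ k ih => exact (hm k).trans ih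
    exact (o2_isPGroup C).to_le h1
  have hB : B ≤ o2 C := by
    refine le_o2 (fun g hg => hg.1) ?_ ?_
    · rintro ⟨g, hg⟩
      have key : ∀ j, j ≤ n → ∃ a : ℕ, ∀ x ∈ N (n - j), g ^ 2 ^ a * x = x * g ^ 2 ^ a := by
        intro j
        induction j with
        | zero =>
          intro _
          refine ⟨0, fun x hx => ?_⟩
          rw [Nat.sub_zero, hn, mem_bot] at hx
          rw [hx]; simp
        | succ j ih =>
          intro hj
          obtain ⟨a, ha⟩ := ih (by omega)
          have hgB : g ^ 2 ^ a ∈ B := pow_mem hg _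
          have h1 : n - (j + 1) + 1 = n - j := by omega
          obtain ⟨b, hb⟩ := LemmaT.exists_pow_comm (hpN (n - j)) ha (Q := N (n - (j + 1)))
            (fun q hq => by have := hgB.2 _ q hq; rwa [h1] at this)
          exact ⟨a + b, fun x hx => by rw [pow_add, pow_mul]; exact hb x hx⟩
      obtain ⟨a, ha⟩ := key n le_rfl
      rw [Nat.sub_self, h0] at ha
      have h5 : g ^ 2 ^ a ∈ o2 C := char2 _ (pow_mem hg.1 _) ha
      obtain ⟨m, hm'⟩ := LemmaT.exists_pow_eq_one (o2_isPGroup C)
      refine ⟨a + m, Subtype.ext ?_⟩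
      change g ^ 2 ^ (a + m) = 1
      rw [pow_add, pow_mul]
      exact hm' _ h5
    · refine le_norm_of ?_
      rintro c hc g ⟨hg0, hg⟩
      refine ⟨mul_mem (mul_mem hc hg0) (inv_mem hc), fun k x hx => ?_⟩
      have h6 := norm_conj (hN _) hc (hg k _ (norm_conj (hN _) (inv_mem hc) hx))
      have e : c * g * c⁻¹ * x * (c * g * c⁻¹)⁻¹ * x⁻¹ =
          c * (g * (c⁻¹ * x * c⁻¹⁻¹) * g⁻¹ * (c⁻¹ * x * c⁻¹⁻¹)⁻¹) * c⁻¹ := by group
      rw [e]; exact h6
  exact hB ⟨hv, hvN⟩

/-! ### duality -/

theorem units_cases (u : ℤˣ) : u = 1 ∨ u = -1 := Int.units_eq_one_or u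

/-- a functional vanishing on the common kernel of finitely many functionals is a product of some -/
theorem mem_closure_of_ker {X : Type*} [Group X] (s : Finset (X →* ℤˣ)) :
    ∀ (H : Subgroup X) (l : X →* ℤˣ), (∀ x ∈ H, (∀ f ∈ s, f x = 1) → l x = 1) →
      ∃ g ∈ closure (s : Set (X →* ℤˣ)), ∀ x ∈ H, l x = g x := by
  classical
  induction s using Finset.induction_on with
  | empty =>
    intro H l hl
    exact ⟨1, one_mem _, fun x hx => hl x hx (by simp)⟩
  | insert f s hf ih =>
    intro H l hl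
    obtain ⟨g, hg, hg1⟩ := ih (H ⊓ f.ker) l (by
      rintro x ⟨hx, hxf⟩ hxs
      refine hl x hx fun f' hf' => ?_
      rcases Finset.mem_insert.1 hf' with rfl | h
      · exact MonoidHom.mem_ker.1 hxf
      · exact hxs f' h)
    have hmono : Subgroup.closure (s : Set (X →* ℤˣ)) ≤
        Subgroup.closure ((insert f s : Finset (X →* ℤˣ)) : Set (X →* ℤˣ)) :=
      Subgroup.closure_mono (by rw [Finset.coe_insert]; exact Set.subset_insert _ _)
    by_cases hall : ∀ x ∈ H, l x = g x
    · exact ⟨g, hmono hg, hall⟩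
    push Not at hall
    obtain ⟨x0, hx0, hne⟩ := hall
    have hf0 : f x0 = -1 := by
      rcases units_cases (f x0) with h | h
      · exact absurd (hg1 x0 ⟨hx0, h⟩) hne
      · exact h
    refine ⟨g * f, mul_mem (hmono hg)
      (subset_closure (by rw [Finset.coe_insert]; exact Set.mem_insert _ _)), fun x hx => ?_⟩
    rw [MonoidHom.mul_apply]
    rcases units_cases (f x) with h | h
    · rw [h, mul_one]; exact hg1 x (mem_inf.2 ⟨hx, MonoidHom.mem_ker.2 h⟩)
    · have h0 : x0⁻¹ * x ∈ H ⊓ f.ker := by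
        refine mem_inf.2 ⟨mul_mem (inv_mem hx0) hx, MonoidHom.mem_ker.2 ?_⟩
        rw [map_mul, map_inv, hf0, h]; decide
      have h1 := hg1 _ h0
      rw [map_mul, map_mul, map_inv, map_inv] at h1
      rw [h]
      revert hne h1
      generalize l x0 = a
      generalize g x0 = b
      generalize l x = c
      generalize g x = d
      revert a b c d
      decide

open Classical in
/-- the functional `[u, ·]` on `X` -/
noncomputable def chi {z : G} (X : Subgroup G) (hz1 : z ≠ 1) (hz : z * z = 1)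
    (zX : ∀ x ∈ X, x * z = z * x) (u : G)
    (hu : ∀ x ∈ X, u * x = x * u ∨ u * x = z * (x * u)) : X →* ℤˣ where
  toFun x := if u * x = x * u then 1 else -1
  map_one' := by simp
  map_mul' := by
    rintro ⟨x, hx⟩ ⟨y, hy⟩
    have key : ∀ w : G, ¬ (w = z * w) := fun w h => hz1 (by
      have := congrArg (· * w⁻¹) h
      simp only [mul_inv_cancel, mul_assoc, mul_one] at this
      exact this.symm)
    change (if u * (x * y) = x * y * u then (1 : ℤˣ) else -1) =
      (if u * x = x * u then 1 else -1) * (if u * y = y * u then 1 else -1)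
    have e0 : u * (x * y) = (u * x) * y := by group
    rcases hu x hx with h1 | h1 <;> rcases hu y hy with h2 | h2
    · have : u * (x * y) = x * y * u := by rw [e0, h1, mul_assoc, h2]; group
      simp [this, h1, h2]
    · have e : u * (x * y) = z * (x * y * u) := by
        calc u * (x * y) = x * (u * y) := by rw [e0, h1]; group
          _ = (x * z) * (y * u) := by rw [h2]; group
          _ = z * (x * y * u) := by rw [zX x hx]; group
      have n1 : ¬ u * (x * y) = x * y * u := by
        rw [e]; intro h; exact key _ h.symm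
      have n2 : ¬ u * y = y * u := by rw [h2]; intro h; exact key _ h.symm
      simp [n1, n2, h1]
    · have e : u * (x * y) = z * (x * y * u) := by
        calc u * (x * y) = z * (x * (u * y)) := by rw [e0, h1]; group
          _ = z * (x * y * u) := by rw [h2]; group
      have n1 : ¬ u * (x * y) = x * y * u := by
        rw [e]; intro h; exact key _ h.symm
      have n2 : ¬ u * x = x * u := by rw [h1]; intro h; exact key _ h.symm
      simp [n1, n2, h2]
    · have e : u * (x * y) = x * y * u := by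
        calc u * (x * y) = z * (x * (u * y)) := by rw [e0, h1]; group
          _ = z * ((x * z) * (y * u)) := by rw [h2]; group
          _ = (z * z) * (x * y * u) := by rw [zX x hx]; group
          _ = x * y * u := by rw [hz, one_mul]
      have n1 : ¬ u * x = x * u := by rw [h1]; intro h; exact key _ h.symm
      have n2 : ¬ u * y = y * u := by rw [h2]; intro h; exact key _ h.symm
      simp [e, n1, n2]

theorem chi_eq_one {z : G} {X : Subgroup G} {hz1 : z ≠ 1} {hz : z * z = 1}
    {zX : ∀ x ∈ X, x * z = z * x} {u : G}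
    {hu : ∀ x ∈ X, u * x = x * u ∨ u * x = z * (x * u)} {x : X} :
    chi X hz1 hz zX u hu x = 1 ↔ u * x = x * u := by
  classical
  change (if u * (x : G) = x * u then (1 : ℤˣ) else -1) = 1 ↔ _
  split_ifs with h
  · simp [h]
  · simp only [h, iff_false]; decide

/-- **duality**: if `u` acts on `X` modulo `⟨z⟩` trivially and centralises `C_X(E)`, then `u e`
centralises `X` for some `e ∈ E`. -/
theorem dual [Finite G] {z : G} {X E : Subgroup G} (hz1 : z ≠ 1) (hz : z * z = 1)
    (zX : ∀ x ∈ X, x * z = z * x) (zE : ∀ e ∈ E, e * z = z * e)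
    (hE : ∀ e ∈ E, ∀ x ∈ X, e * x = x * e ∨ e * x = z * (x * e))
    {u : G} (uz : u * z = z * u) (hu : ∀ x ∈ X, u * x = x * u ∨ u * x = z * (x * u))
    (hk : ∀ x ∈ X, (∀ e ∈ E, e * x = x * e) → u * x = x * u) :
    ∃ e ∈ E, ∀ x ∈ X, (u * e) * x = x * (u * e) := by
  classical
  have : Fintype E := Fintype.ofFinite _
  let f : E → (X →* ℤˣ) := fun e => chi X hz1 hz zX e (hE e e.2)
  let l : X →* ℤˣ := chi X hz1 hz zX u hu
  have h1 : ∀ x : X, (∀ g ∈ Finset.univ.image f, g x = 1) → l x = 1 := by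
    intro x hx
    refine chi_eq_one.2 (hk x x.2 fun e he => ?_)
    exact chi_eq_one.1 (hx (f ⟨e, he⟩) (Finset.mem_image.2 ⟨_, Finset.mem_univ _, rfl⟩))
  obtain ⟨g, hg, hlg⟩ := mem_closure_of_ker (Finset.univ.image f) ⊤ l (fun x _ => h1 x)
  have h2 : ∀ g ∈ closure ((Finset.univ.image f : Finset (X →* ℤˣ)) : Set (X →* ℤˣ)),
      ∃ e ∈ E, ∀ x : X, g x = 1 ↔ e * (x : G) = x * e := by
    intro g hg
    induction hg using closure_induction with
    | mem g hg =>
      rw [Finset.mem_coe, Finset.mem_image] at hg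
      obtain ⟨e, -, rfl⟩ := hg
      exact ⟨e, e.2, fun x => chi_eq_one⟩
    | one => exact ⟨1, one_mem _, fun x => by simp⟩
    | mul a b _ _ ha hb =>
      obtain ⟨e, he, h⟩ := ha
      obtain ⟨e', he', h'⟩ := hb
      refine ⟨e * e', mul_mem he he', fun x => ?_⟩
      rw [MonoidHom.mul_apply]
      have key : ∀ w : G, ¬ (w = z * w) := fun w h => hz1 (by
        have := congrArg (· * w⁻¹) h
        simp only [mul_inv_cancel, mul_assoc, mul_one] at this
        exact this.symm)
      rcases hE e he x x.2 with p | p <;> rcases hE e' he' x x.2 with q | q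
      · have h3 := (h x).2 p
        have h4 := (h' x).2 q
        rw [h3, h4, mul_one]
        simp only [true_iff]
        rw [mul_assoc, q, ← mul_assoc, p, mul_assoc]
      · have h3 := (h x).2 p
        have h4 : b x ≠ 1 := fun hb1 => key _ (((h' x).1 hb1).symm.trans q)
        have e1 : e * e' * x = z * (x * (e * e')) := by
          calc e * e' * x = e * (e' * x) := by group
            _ = (e * z) * (x * e') := by rw [q]; group
            _ = z * ((e * x) * e') := by rw [zE e he]; group
            _ = z * (x * (e * e')) := by rw [p]; group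
        rw [h3, one_mul]
        refine ⟨fun hb1 => absurd hb1 h4, fun hc => absurd (hc.symm.trans e1) (key _)⟩
      · have h3 : a x ≠ 1 := fun hb1 => key _ (((h x).1 hb1).symm.trans p)
        have h4 := (h' x).2 q
        have e1 : e * e' * x = z * (x * (e * e')) := by
          calc e * e' * x = e * (e' * x) := by group
            _ = (e * x) * e' := by rw [q]; group
            _ = z * (x * (e * e')) := by rw [p]; group
        rw [h4, mul_one]
        refine ⟨fun hb1 => absurd hb1 h3, fun hc => absurd (hc.symm.trans e1) (key _)⟩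
      · have h3 : a x = -1 := (units_cases _).resolve_left
          fun hb1 => key _ (((h x).1 hb1).symm.trans p)
        have h4 : b x = -1 := (units_cases _).resolve_left
          fun hb1 => key _ (((h' x).1 hb1).symm.trans q)
        have e1 : e * e' * x = x * (e * e') := by
          calc e * e' * x = e * (e' * x) := by group
            _ = (e * z) * (x * e') := by rw [q]; group
            _ = z * ((e * x) * e') := by rw [zE e he]; group
            _ = (z * z) * (x * (e * e')) := by rw [p]; group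
            _ = x * (e * e') := by rw [hz, one_mul]
        rw [h3, h4]
        simp [e1]
    | inv a _ ha =>
      obtain ⟨e, he, h⟩ := ha
      refine ⟨e, he, fun x => ?_⟩
      rw [MonoidHom.inv_apply, inv_eq_one]
      exact h x
  obtain ⟨e, he, h3⟩ := h2 g hg
  refine ⟨e, he, fun x hx => ?_⟩
  have h4 : u * x = x * u ↔ e * x = x * e := by
    have a1 := hlg ⟨x, hx⟩ (mem_top _)
    have a2 := h3 ⟨x, hx⟩
    have a3 : l ⟨x, hx⟩ = 1 ↔ u * x = x * u := chi_eq_one
    rw [a1] at a3
    exact a3.symm.trans a2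
  rcases hu x hx with p | p <;> rcases hE e he x hx with q | q
  · rw [mul_assoc, q, ← mul_assoc, p, mul_assoc]
  · have := h4.1 p
    rw [mul_assoc, this, ← mul_assoc, p, mul_assoc]
  · have := h4.2 q
    rw [mul_assoc, q, ← mul_assoc, this, mul_assoc]
  · calc u * e * x = u * (e * x) := by group
      _ = (u * z) * (x * e) := by rw [q]; group
      _ = z * ((u * x) * e) := by rw [uz]; group
      _ = (z * z) * (x * (u * e)) := by rw [p]; group
      _ = x * (u * e) := by rw [hz, one_mul]

end Cfsg.Agent.Omega.NOne.AG
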