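import Cfsg.Agent.Omega.NOne.AG.Conf
import Cfsg.Agent.Omega.NOne.AG.Tools

/-!
# THEOREM D0ag (bb #15001): (1) and (2)
-/

set_option autoImplicit false

namespace Cfsg.Agent.Omega.NOne.AG

open Subgroup Cfsg Cfsg.Agent.ZN

universe u

variable {G : Type u} [Group G] {ι : Type*}

namespace Conf

variable {P V T : Subgroup G} {z : ι → G} {opp : ι → ι → Prop} {C Q QF Qs : ι → Subgroup G}
variable (h : Conf P V T z opp C Q QF Qs)
include h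

/-! ### elementary facts -/

theorem zinv (i : ι) : (z i)⁻¹ = z i := inv_eq_of_mul_eq_one_left (h.sq i)

theorem z_mem_Q (i : ι) : z i ∈ Q i := by
  by_contra hc
  exact h.irr i ((h.opp_iff i i).2 hc)

theorem z_mem_Qs (i : ι) : z i ∈ Qs i := h.VQs i _ (h.zV i) (h.z_mem_Q i)

theorem VP : V ≤ P := h.VT.trans h.TP

theorem TC (i : ι) : T ≤ C i := fun t ht =>
  h.PC i t (h.TP ht) (h.TV t ht _ (h.zV i))

theorem VC (i : ι) : V ≤ C i := h.VT.trans (h.TC i)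

theorem QC (i : ι) : Q i ≤ C i := by rw [h.Qo2]; exact o2_le _

theorem nQ (i : ι) : C i ≤ normalizer (Q i : Set G) := by
  rw [h.Qo2]; exact le_normalizer_o2 _

theorem QsQ (i : ι) : Qs i ≤ Q i := (h.QsQF i).trans (h.QFQ i)

theorem QsP (i : ι) : Qs i ≤ P := (h.QsQ i).trans (h.QP i)

theorem QsC (i : ι) : Qs i ≤ C i := (h.QsQ i).trans (h.QC i)

theorem QFC (i : ι) : QF i ≤ C i := (h.QFQ i).trans (h.QC i)

theorem QFP (i : ι) : QF i ≤ P := (h.QFQ i).trans (h.QP i)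

omit h in
/-- back transport of a point -/
theorem back {m : G} {i j : ι} (hij : m * z i * m⁻¹ = z j) : m⁻¹ * z j * m⁻¹⁻¹ = z i := by
  rw [← hij]; group

theorem perm' {m : G} (hm : m ∈ P) (j : ι) : ∃ i, m * z i * m⁻¹ = z j := by
  obtain ⟨i, hi⟩ := h.perm m⁻¹ (inv_mem hm) j
  exact ⟨i, by rw [← hi]; group⟩

theorem mem_B {i : ι} {x : G} : x ∈ h.B i ↔ x ∈ QF i ∧ ∀ y ∈ Qs i, x * y = y * x := by
  rw [B, mem_inf, mem_centralizer_iff]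
  exact and_congr_right fun _ => ⟨fun H y hy => (H y hy).symm, fun H y hy => (H y hy).symm⟩

theorem B_V {i : ι} {x : G} (hx : x ∈ h.B i) : ∀ v ∈ V, x * v = v * x :=
  h.faith i x (h.QFP i (h.mem_B.1 hx).1) fun v hv hvQ => (h.mem_B.1 hx).2 v (h.VQs i v hv hvQ)

theorem B_T (i : ι) : h.B i ≤ T := fun x hx =>
  h.cT i x (h.QFQ i (h.mem_B.1 hx).1) (h.B_V hx)

theorem B_Q (i : ι) : h.B i ≤ Q i := fun _ hx => h.QFQ i (h.mem_B.1 hx).1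

theorem B_Tt (i : ι) : h.B i ≤ h.Tt i := le_inf (h.B_T i) (h.B_Q i)

theorem B_norm (i : ι) : C i ≤ normalizer (h.B i : Set G) := by
  refine le_norm_of fun c hc x hx => ?_
  obtain ⟨h1, h2⟩ := h.mem_B.1 hx
  refine h.mem_B.2 ⟨norm_conj (h.nQF i) hc h1, fun y hy => ?_⟩
  have h3 := h2 _ (norm_conj (h.nQs i) (inv_mem hc) hy)
  calc c * x * c⁻¹ * y = c * (x * (c⁻¹ * y * c⁻¹⁻¹)) * c⁻¹ := by group
    _ = c * ((c⁻¹ * y * c⁻¹⁻¹) * x) * c⁻¹ := by rw [h3]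
    _ = y * (c * x * c⁻¹) := by group

theorem eqB {m : G} (hm : m ∈ P) {i j : ι} (hij : m * z i * m⁻¹ = z j) {x : G}
    (hx : x ∈ h.B i) : m * x * m⁻¹ ∈ h.B j := by
  obtain ⟨h1, h2⟩ := h.mem_B.1 hx
  refine h.mem_B.2 ⟨h.eqQF m hm i j hij x h1, fun y hy => ?_⟩
  have h3 := h2 _ (h.eqQs m⁻¹ (inv_mem hm) j i (back hij) y hy)
  calc m * x * m⁻¹ * y = m * (x * (m⁻¹ * y * m⁻¹⁻¹)) * m⁻¹ := by group
    _ = m * ((m⁻¹ * y * m⁻¹⁻¹) * x) * m⁻¹ := by rw [h3]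
    _ = y * (m * x * m⁻¹) := by group

theorem mem_Tt {i : ι} {x : G} : x ∈ h.Tt i ↔ x ∈ T ∧ x ∈ Q i := by rw [Tt, mem_inf]

theorem Tt_T (i : ι) : h.Tt i ≤ T := inf_le_left

theorem Tt_QF {i : ι} {x : G} (hx : x ∈ h.Tt i) : x ∈ QF i :=
  h.QQF i x (h.mem_Tt.1 hx).2 fun v hv _ => Or.inl (h.TV x (h.mem_Tt.1 hx).1 v hv)

theorem conj_T {m x : G} (hm : m ∈ P) (hx : x ∈ T) : m * x * m⁻¹ ∈ T := norm_conj h.nT hm hx

theorem conj_V {m x : G} (hm : m ∈ P) (hx : x ∈ V) : m * x * m⁻¹ ∈ V := norm_conj h.nV hm hx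

theorem eqTt {m : G} (hm : m ∈ P) {i j : ι} (hij : m * z i * m⁻¹ = z j) {x : G}
    (hx : x ∈ h.Tt i) : m * x * m⁻¹ ∈ h.Tt j :=
  h.mem_Tt.2 ⟨h.conj_T hm (h.mem_Tt.1 hx).1, h.eqQ m hm i j hij x (h.mem_Tt.1 hx).2⟩

/-- `T` normalises `Tt i` -/
theorem Tt_norm (i : ι) : T ≤ normalizer (h.Tt i : Set G) := by
  refine le_norm_of fun t ht x hx => ?_
  exact h.mem_Tt.2 ⟨mul_mem (mul_mem ht (h.mem_Tt.1 hx).1) (inv_mem ht),
    norm_conj (h.nQ i) (h.TC i ht) (h.mem_Tt.1 hx).2⟩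

/-- `Qs i ∩ T ≤ Tt i` -/
theorem mem_Tt_of_Qs {i : ι} {x : G} (hx : x ∈ Qs i) (hxT : x ∈ T) : x ∈ h.Tt i :=
  h.mem_Tt.2 ⟨hxT, h.QsQ i hx⟩

/-- `[T, Qs i] ≤ Qs i ∩ T` -/
theorem comm_T_Qs {i : ι} {t x : G} (ht : t ∈ T) (hx : x ∈ Qs i) :
    t * x * t⁻¹ * x⁻¹ ∈ Qs i ∧ t * x * t⁻¹ * x⁻¹ ∈ T := by
  refine ⟨mul_mem (norm_conj (h.nQs i) (h.TC i ht) hx) (inv_mem hx), ?_⟩
  have e : t * x * t⁻¹ * x⁻¹ = t * (x * t⁻¹ * x⁻¹) := by group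
  rw [e]
  exact mul_mem ht (h.conj_T (h.QsP i hx) (inv_mem ht))

theorem Qcomm_z {i : ι} {x : G} (hx : x ∈ Q i) : x * z i = z i * x := h.Cz i x (h.QC i hx)

/-- `z i ≠ 1` form: `w ≠ z i w` -/
theorem ne_z_mul (i : ι) (w : G) : w ≠ z i * w := fun hw => h.ne_one i (by
  have := congrArg (· * w⁻¹) hw
  simp only [mul_inv_cancel, mul_assoc, mul_one] at this
  exact this.symm)

/-! ### (1.1) -/

/-- (1.1) -/
theorem B_inf {i j : ι} (hij : opp i j) {x : G} (hi : x ∈ h.B i) (hj : x ∈ h.B j) : x = 1 := by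
  let N : Subgroup G := ⨅ k, h.B k
  have hN : ∀ {x}, x ∈ N ↔ ∀ k, x ∈ h.B k := fun {x} => mem_iInf
  have key : ∀ x, x ∈ h.B i → x ∈ h.B j → x ∈ N := by
    intro x hi hj
    refine hN.2 fun k => ?_
    obtain ⟨y, hy, hyk⟩ := h.trans i j hij k
    have hyP : y ∈ P := (sup_le (h.QsP i) (h.QsP j)) hy
    have hc : y ∈ centralizer ({x} : Set G) := by
      have h1 : Qs i ⊔ Qs j ≤ centralizer ({x} : Set G) := by
        refine sup_le ?_ ?_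
        · intro w hw
          rw [mem_centralizer_iff]
          rintro _ rfl
          exact (h.mem_B.1 hi).2 w hw
        · intro w hw
          rw [mem_centralizer_iff]
          rintro _ rfl
          exact (h.mem_B.1 hj).2 w hw
      exact h1 hy
    have hc' : x * y = y * x := mem_centralizer_iff.1 hc x rfl
    have h2 := h.eqB hyP hyk hi
    rwa [comm_conj' hc'.symm] at h2
  have hxN := key x hi hj
  by_contra hx1
  have hNne : N ≠ ⊥ := fun h0 => hx1 (by rw [h0, mem_bot] at hxN; exact hxN)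
  have hz := h.min i N (fun y hy => h.B_T i (hN.1 hy i)) (fun m hm hmz y hy => by
    refine hN.2 fun k => ?_
    obtain ⟨k', hk'⟩ := h.perm' hm k
    exact h.eqB hm hk' (hN.1 hy k')) hNne
  exact (h.opp_iff j i).1 (h.symm hij) (h.B_Q j (hN.1 hz j))

/-! ### (1.2) -/

/-- `T₀` -/
def T0 (h : Conf P V T z opp C Q QF Qs) : Subgroup G := ⨆ k, h.Tt k

theorem Tt_le_T0 (i : ι) : h.Tt i ≤ h.T0 := le_iSup h.Tt i

theorem T0_le_T : h.T0 ≤ T := iSup_le h.Tt_T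

omit h in
theorem norm_sup {H A B' : Subgroup G} (hA : ∀ x ∈ H, ∀ a ∈ A, x * a * x⁻¹ ∈ A ⊔ B')
    (hB : ∀ x ∈ H, ∀ b ∈ B', x * b * x⁻¹ ∈ A ⊔ B') : H ≤ normalizer ((A ⊔ B' : Subgroup G) : Set G) := by
  refine le_norm_of fun x hx y hy => ?_
  have h1 : A ⊔ B' ≤ (A ⊔ B').comap (MulAut.conj x).toMonoidHom :=
    sup_le (fun a ha => hA x hx a ha) (fun b hb => hB x hx b hb)
  exact h1 hy

/-- `Qs j` normalises `Tt i ⊔ Tt j` -/
theorem norm_TT (i j : ι) : Qs j ≤ normalizer ((h.Tt i ⊔ h.Tt j : Subgroup G) : Set G) := by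
  have key : ∀ x ∈ Qs j, ∀ t ∈ T, t ∈ h.Tt i ⊔ h.Tt j → x * t * x⁻¹ ∈ h.Tt i ⊔ h.Tt j := by
    intro x hx t ht hti
    obtain ⟨h1, h2⟩ := h.comm_T_Qs ht hx
    have h3 : t * x * t⁻¹ * x⁻¹ ∈ h.Tt j := h.mem_Tt_of_Qs h1 h2
    have e : x * t * x⁻¹ = (t * x * t⁻¹ * x⁻¹)⁻¹ * t := by group
    rw [e]
    exact mul_mem (inv_mem (mem_sup_right h3)) hti
  exact norm_sup (fun x hx a ha => key x hx a (h.Tt_T i ha) (mem_sup_left ha))
    (fun x hx a ha => key x hx a (h.Tt_T j ha) (mem_sup_right ha))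

theorem norm_TT' (i j : ι) : Qs i ≤ normalizer ((h.Tt i ⊔ h.Tt j : Subgroup G) : Set G) := by
  rw [sup_comm]; exact h.norm_TT j i

/-- (1.2) -/
theorem T0_eq {i j : ι} (hij : opp i j) : h.Tt i ⊔ h.Tt j = h.T0 := by
  refine le_antisymm (sup_le (h.Tt_le_T0 i) (h.Tt_le_T0 j)) (iSup_le fun k t ht => ?_)
  obtain ⟨y, hy, hyk⟩ := h.trans i j hij k
  have hyP : y ∈ P := (sup_le (h.QsP i) (h.QsP j)) hy
  have hyN : y ∈ normalizer ((h.Tt i ⊔ h.Tt j : Subgroup G) : Set G) :=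
    (sup_le (h.norm_TT' i j) (h.norm_TT i j)) hy
  have h1 := h.eqTt (inv_mem hyP) (back hyk) ht
  have h2 := (mem_normalizer_iff.1 hyN _).1 (mem_sup_left h1 : _ ∈ h.Tt i ⊔ h.Tt j)
  have e : y * (y⁻¹ * t * y⁻¹⁻¹) * y⁻¹ = t := by group
  rwa [e] at h2

theorem T0_norm : P ≤ normalizer (h.T0 : Set G) := by
  refine le_norm_of fun m hm x hx => ?_
  have h1 : h.T0 ≤ h.T0.comap (MulAut.conj m).toMonoidHom := by
    refine iSup_le fun k t ht => ?_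
    obtain ⟨l, hl⟩ := h.perm m hm k
    exact h.Tt_le_T0 l (h.eqTt hm hl ht)
  exact h1 hx

/-! ### (1.3) -/

/-- elements of `Qs i` commuting with `E_i` are in `T` -/
theorem T_of_comm {i : ι} {x : G} (hx : x ∈ Qs i) (hc : ∀ v ∈ V, v ∈ Q i → x * v = v * x) :
    x ∈ T :=
  h.cT i x (h.QsQ i hx) (h.faith i x (h.QsP i hx) hc)

/-- an element of `QF i` centralising `T ∩ Qs i` is in `E_i B_i` -/
theorem dualE [Finite G] {i : ι} {u : G} (hu : u ∈ QF i)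
    (hc : ∀ w ∈ Qs i, w ∈ T → u * w = w * u) :
    ∃ e ∈ V, e ∈ Q i ∧ u * e ∈ h.B i := by
  obtain ⟨e, he, h1⟩ := dual (X := Qs i) (E := V ⊓ Q i) (h.ne_one i) (h.sq i)
    (fun x hx => h.Qcomm_z (h.QsQ i hx)) (fun e he => h.Qcomm_z (mem_inf.1 he).2)
    (fun e he x hx => by
      have h2 := h.VQs i e (mem_inf.1 he).1 (mem_inf.1 he).2
      rcases h.com i e h2 x (h.QsQF i hx) with h3 | h3
      · exact Or.inl h3
      · exact Or.inr h3)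
    (h.Qcomm_z (h.QFQ i hu))
    (fun x hx => by
      rcases h.com i x hx u hu with h3 | h3
      · exact Or.inl h3.symm
      · refine Or.inr ?_
        rw [h3, ← mul_assoc, h.sq, one_mul])
    (fun x hx hxe => hc x hx (h.T_of_comm hx fun v hv hvQ =>
      (hxe v (mem_inf.2 ⟨hv, hvQ⟩)).symm))
  obtain ⟨he1, he2⟩ := mem_inf.1 he
  exact ⟨e, he1, he2, h.mem_B.2 ⟨mul_mem hu (h.QsQF i (h.VQs i e he1 he2)), h1⟩⟩

/-- (1.3) -/
theorem inter [Finite G] {i j : ι} (hij : opp i j) {u : G} (hi : u ∈ h.Tt i) (hj : u ∈ h.Tt j) :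
    ∃ e ∈ V, e ∈ Q i ∧ u * e ∈ h.B i := by
  refine h.dualE (h.Tt_QF hi) fun w hw hwT => ?_
  rcases h.com i w hw u (h.Tt_QF hi) with h1 | h1
  · exact h1.symm
  · exfalso
    have h2 : w * u * w⁻¹ * u⁻¹ ∈ Q j :=
      mul_mem (norm_conj (h.nQ j) (h.TC j hwT) (h.mem_Tt.1 hj).2) (inv_mem (h.mem_Tt.1 hj).2)
    have h3 : w * u * w⁻¹ * u⁻¹ = z i := by rw [h1]; group
    rw [h3] at h2
    exact (h.opp_iff j i).1 (h.symm hij) h2

/-! ### (1.4) -/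

/-- `Δ_i = B_i V` -/
theorem mem_BV {i : ι} {x : G} : x ∈ h.B i ⊔ V ↔ ∃ b ∈ h.B i, ∃ v ∈ V, x = b * v :=
  mem_sup_iff fun _ ha _ hb => h.conj_V (h.QFP i (h.mem_B.1 ha).1) hb

/-- `Qs i` moves the elements of `B_i V` by elements of `V`. -/
theorem Qs_BV {i : ι} {x d : G} (hx : x ∈ Qs i) (hd : d ∈ h.B i ⊔ V) : d⁻¹ * (x * d * x⁻¹) ∈ V := by
  obtain ⟨b, hb, v, hv, rfl⟩ := h.mem_BV.1 hd
  have h1 : x * b = b * x := ((h.mem_B.1 hb).2 x hx).symm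
  have e : (b * v)⁻¹ * (x * (b * v) * x⁻¹) = v⁻¹ * (x * v * x⁻¹) := by
    calc (b * v)⁻¹ * (x * (b * v) * x⁻¹) = v⁻¹ * b⁻¹ * ((x * b) * v * x⁻¹) := by group
      _ = v⁻¹ * (x * v * x⁻¹) := by rw [h1]; group
  rw [e]
  exact mul_mem (inv_mem hv) (h.conj_V (h.QsP i hx) hv)

theorem eqBV {m : G} (hm : m ∈ P) {i j : ι} (hij : m * z i * m⁻¹ = z j) {x : G}
    (hx : x ∈ h.B i ⊔ V) : m * x * m⁻¹ ∈ h.B j ⊔ V := by
  obtain ⟨b, hb, v, hv, rfl⟩ := h.mem_BV.1 hx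
  have e : m * (b * v) * m⁻¹ = (m * b * m⁻¹) * (m * v * m⁻¹) := by group
  rw [e]
  exact mul_mem (mem_sup_left (h.eqB hm hij hb)) (mem_sup_right (h.conj_V hm hv))

theorem mem_Dl {x : G} : x ∈ h.Dl ↔ ∀ k, x ∈ h.B k ⊔ V := by
  rw [Dl, mem_iInf]

theorem V_le_Dl : V ≤ h.Dl := fun _ hv => h.mem_Dl.2 fun _ => mem_sup_right hv

theorem BV_le_T (i : ι) : h.B i ⊔ V ≤ T := sup_le (h.B_T i) h.VT

/-- (1.4) -/
theorem Dl_eq {i j : ι} (hij : opp i j) : (h.B i ⊔ V) ⊓ (h.B j ⊔ V) = h.Dl := by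
  refine le_antisymm (fun d hd => h.mem_Dl.2 fun k => ?_)
    (fun d hd => mem_inf.2 ⟨h.mem_Dl.1 hd i, h.mem_Dl.1 hd j⟩)
  obtain ⟨y, hy, hyk⟩ := h.trans i j hij k
  have hyP : y ∈ P := (sup_le (h.QsP i) (h.QsP j)) hy
  -- elements of `Qs i ⊔ Qs j` move `(B i V) ∩ (B j V)` by elements of `V`
  let H : Subgroup G :=
    { carrier := {x | x ∈ P ∧ ∀ d ∈ (h.B i ⊔ V) ⊓ (h.B j ⊔ V), d⁻¹ * (x * d * x⁻¹) ∈ V}
      one_mem' := ⟨one_mem _, fun d _ => by simp⟩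
      mul_mem' := by
        rintro a b ⟨ha0, ha⟩ ⟨hb0, hb⟩
        refine ⟨mul_mem ha0 hb0, fun d hd => ?_⟩
        have e : d⁻¹ * (a * b * d * (a * b)⁻¹) =
            d⁻¹ * (a * d * a⁻¹) * (a * (d⁻¹ * (b * d * b⁻¹)) * a⁻¹) := by group
        rw [e]
        exact mul_mem (ha d hd) (h.conj_V ha0 (hb d hd))
      inv_mem' := by
        rintro a ⟨ha0, ha⟩
        refine ⟨inv_mem ha0, fun d hd => ?_⟩
        have e : d⁻¹ * (a⁻¹ * d * a⁻¹⁻¹) = a⁻¹ * ((a * d * a⁻¹)⁻¹ * d) * a⁻¹⁻¹ := by group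
        rw [e]
        refine h.conj_V (inv_mem ha0) ?_
        have h1 := inv_mem (ha d hd)
        have e2 : (a * d * a⁻¹)⁻¹ * d = (d⁻¹ * (a * d * a⁻¹))⁻¹ := by group
        rw [e2]; exact h1 }
  have hyH : y ∈ H := by
    have h1 : Qs i ⊔ Qs j ≤ H := sup_le
      (fun x hx => ⟨h.QsP i hx, fun d hd => h.Qs_BV hx (mem_inf.1 hd).1⟩)
      (fun x hx => ⟨h.QsP j hx, fun d hd => h.Qs_BV hx (mem_inf.1 hd).2⟩)
    exact h1 hy
  have h2 := h.eqBV hyP hyk (mem_inf.1 hd).1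
  have h3 := hyH.2 d hd
  have e : d = (y * d * y⁻¹) * (d⁻¹ * (y * d * y⁻¹))⁻¹ := by group
  rw [e]
  exact mul_mem h2 (mem_sup_right (inv_mem h3))

theorem Dl_norm : P ≤ normalizer (h.Dl : Set G) := by
  refine le_norm_of fun m hm x hx => h.mem_Dl.2 fun k => ?_
  obtain ⟨k', hk'⟩ := h.perm' hm k
  exact h.eqBV hm hk' (h.mem_Dl.1 hx k')

theorem Dl_le_T [Nonempty ι] : h.Dl ≤ T := fun _ hx =>
  h.BV_le_T (Classical.arbitrary ι) (h.mem_Dl.1 hx _)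

/-- `[Qs i, Δ] ≤ V` -/
theorem comm_Dl {i : ι} {x d : G} (hx : x ∈ Qs i) (hd : d ∈ h.Dl) : d⁻¹ * (x * d * x⁻¹) ∈ V :=
  h.Qs_BV hx (h.mem_Dl.1 hd i)

/-- `C_P(V)` centralises `Δ`. -/
theorem Dl_comm [Nonempty ι] {c d : G} (hc : c ∈ P) (hcV : ∀ v ∈ V, c * v = v * c) (hd : d ∈ h.Dl) :
    c * d = d * c := by
  obtain ⟨j, k, hij, hik, hjk⟩ := h.tri (Classical.arbitrary ι)
  set i := Classical.arbitrary ι
  have key : ∀ l, c * d * c⁻¹ * d⁻¹ ∈ h.B l := by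
    intro l
    obtain ⟨b, hb, v, hv, rfl⟩ := h.mem_BV.1 (h.mem_Dl.1 hd l)
    have hcl : c ∈ C l := h.PC l c hc (hcV _ (h.zV l))
    have h1 := hcV v hv
    have e : c * (b * v) * c⁻¹ * (b * v)⁻¹ = (c * b * c⁻¹) * b⁻¹ := by
      calc c * (b * v) * c⁻¹ * (b * v)⁻¹ = c * b * (v * c⁻¹) * v⁻¹ * b⁻¹ := by group
        _ = c * b * (c⁻¹ * v) * v⁻¹ * b⁻¹ := by rw [inv_comm' h1]
        _ = (c * b * c⁻¹) * b⁻¹ := by group
    rw [e]
    exact mul_mem (norm_conj (h.B_norm l) hcl hb) (inv_mem hb)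
  have h2 := h.B_inf hij (key i) (key j)
  rw [mul_inv_eq_one, mul_inv_eq_iff_eq_mul] at h2
  exact h2

theorem T_Dl [Nonempty ι] {t d : G} (ht : t ∈ T) (hd : d ∈ h.Dl) : t * d = d * t :=
  h.Dl_comm (h.TP ht) (h.TV t ht) hd

theorem Dl_sq [Nonempty ι] {d : G} (hd : d ∈ h.Dl) : d * d = 1 := by
  obtain ⟨j, k, hij, hik, hjk⟩ := h.tri (Classical.arbitrary ι)
  set i := Classical.arbitrary ι
  have key : ∀ l, d * d ∈ h.B l := by
    intro l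
    obtain ⟨b, hb, v, hv, rfl⟩ := h.mem_BV.1 (h.mem_Dl.1 hd l)
    have e : b * v * (b * v) = b * b := by
      calc b * v * (b * v) = b * (v * b) * v := by group
        _ = b * (b * v) * v := by rw [h.B_V hb v hv]
        _ = b * b * (v * v) := by group
        _ = b * b := by rw [h.Vsq v hv, mul_one]
    rw [e]; exact mul_mem hb hb
  exact h.B_inf hij (key i) (key j)

/-- `Tt i ∩ Tt j ≤ Δ` -/
theorem inter_Dl [Finite G] {i j : ι} (hij : opp i j) {u : G} (hi : u ∈ h.Tt i)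
    (hj : u ∈ h.Tt j) : u ∈ h.Dl := by
  have key : ∀ {i j : ι}, opp i j → u ∈ h.Tt i → u ∈ h.Tt j → u ∈ h.B i ⊔ V := by
    intro i j hij hi hj
    obtain ⟨e, he, -, hb⟩ := h.inter hij hi hj
    have e1 : u = (u * e) * e⁻¹ := by group
    rw [e1]
    exact mul_mem (mem_sup_left hb) (mem_sup_right (inv_mem he))
  rw [← h.Dl_eq hij]
  exact mem_inf.2 ⟨key hij hi hj, key (h.symm hij) hj hi⟩

end Conf

end Cfsg.Agent.Omega.NOne.AG
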