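import Cfsg.Agent.Omega.NOne.AG.GammaV
import Cfsg.Agent.Omega.NOne.AG.CaseV
import Cfsg.Agent.Omega.Node.NO1

/-!
# THEOREM D0ag (bb #15001): the leaves `EndPlus2`, `EndNat4` of N1

`PlusIdx`  : type (γ) has `|V / E| = 2` (#14731, helper690);
`PlusBase` : the configuration `Base` in type (γ) (helper537, helper654);
`PlusRank` : `|S| = 128`, `C_S(V) = V` is impossible in type (γ) (helper319);
`NatBase`  : the configuration `Base` in type (α) with `Δ ≤ V` (helper537, helper67, and (4)-(7): a labelling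
(`Δ > V`) is impossible; helper313, 649, 652, 950, 516);
`NatRank`  : `|S| = 128`, `C_S(V) = V` is impossible in type (α) (helper319).
-/

set_option autoImplicit false

namespace Cfsg.Agent.Omega.NOne.AG.End

open Subgroup Cfsg Cfsg.Agent.ZN Cfsg.Agent.Omega.MinPar Cfsg.Agent.Omega.Frame
open Cfsg.Agent.Omega.NO1 (Cfg Plus2 Nat4 Sympl EE)

universe u

/-- The configuration `Base` with base point `t`. -/
def HasBase {G : Type u} [Group G] [Finite G] (S : Sylow 2 G) (P : Subgroup G) (t : G) : Prop :=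
  ∃ (ι : Type u) (z : ι → G) (opp : ι → ι → Prop) (C Q QF Qs : ι → Subgroup G) (i₀ : ι), z i₀ = t ∧
    Base S P (zl (S : Subgroup G) P) ((S : Subgroup G) ⊓ centralizer (zl (S : Subgroup G) P : Set G))
      z opp C Q QF Qs i₀

/-- `Base` from `Pt` (see `Base.of`). -/
theorem hasBase_of {G : Type u} [Group G] [Finite G] {S : Sylow 2 G} {P : Subgroup G} (h : Cfg S P)
    {z : G} (hz : zc (S : Subgroup G) = zpowers z) {C Q QF Qs : Subgroup G}
    (hp : Pt P (zl (S : Subgroup G) P)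
      ((S : Subgroup G) ⊓ centralizer (zl (S : Subgroup G) P : Set G)) z C Q QF Qs)
    (hSC : (S : Subgroup G) ≤ C) (hE : (EE (S : Subgroup G) P).relIndex (zl (S : Subgroup G) P) = 2)
    (hstab : ∀ m ∈ P, m * z = z * m →
      ∃ s ∈ (S : Subgroup G), ∃ c ∈ P, (∀ v ∈ zl (S : Subgroup G) P, c * v = v * c) ∧ m = s * c)
    (hind : ((S : Subgroup G) ⊓ centralizer (zl (S : Subgroup G) P : Set G)).relIndex
      (S : Subgroup G) = 8) : HasBase S P z :=
  ⟨Pts P z, fun i => i.val, hp.opp, tr P z C, tr P z Q, tr P z QF, tr P z Qs, Pts.base P z, rfl,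
    Base.of h hz rfl hp hSC hE hstab hind⟩

/-- Type (γ): `|V / E| = 2`. -/
def PlusIdx : Prop :=
  ∀ (G : Type u) [Group G] [Finite G] (S : Sylow 2 G) (P : Subgroup G), Cfg S P →
    ∀ z : Fin 3 → Fin 3 → G, Plus2 (S : Subgroup G) P z →
      (EE (S : Subgroup G) P).relIndex (zl (S : Subgroup G) P) = 2

/-- Type (γ): the configuration. -/
def PlusBase : Prop :=
  ∀ (G : Type u) [Group G] [Finite G] (S : Sylow 2 G) (P : Subgroup G), Cfg S P →
    ∀ z : Fin 3 → Fin 3 → G, Plus2 (S : Subgroup G) P z →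
      (EE (S : Subgroup G) P).relIndex (zl (S : Subgroup G) P) = 2 → HasBase S P (z 0 0)

/-- Type (γ): `|S| = 128`, `C_S(V) = V` is impossible. -/
def PlusRank : Prop :=
  ∀ (G : Type u) [Group G] [Finite G] (S : Sylow 2 G) (P : Subgroup G), Cfg S P →
    ∀ z : Fin 3 → Fin 3 → G, Plus2 (S : Subgroup G) P z → Nat.card (S : Subgroup G) = 128 →
      (S : Subgroup G) ⊓ centralizer (zl (S : Subgroup G) P : Set G) = zl (S : Subgroup G) P → False

/-- **`EndPlus2`** from its parts. -/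
theorem endPlus2_of (h1 : PlusIdx.{u}) (h2 : PlusBase.{u}) (h3 : PlusRank.{u}) : NO1.EndPlus2.{u} := by
  intro G _ _ S P h z hz
  obtain ⟨ι, ζ, opp, C, Q, QF, Qs, i₀, e, hB⟩ := h2 G S P h z hz (h1 G S P h z hz)
  rcases hB.caseV (hB.Dl_le_of_plus2 hz) with h4 | ⟨h4, h5⟩
  · rwa [e] at h4
  · exact (h3 G S P h z hz h4 h5).elim

/-- The configuration `Base` with `Δ ≤ V`. -/
def HasBaseV {G : Type u} [Group G] [Finite G] (S : Sylow 2 G) (P : Subgroup G) : Prop :=
  ∃ (ι : Type u) (z : ι → G) (opp : ι → ι → Prop) (C Q QF Qs : ι → Subgroup G) (i₀ : ι)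
    (hB : Base S P (zl (S : Subgroup G) P)
      ((S : Subgroup G) ⊓ centralizer (zl (S : Subgroup G) P : Set G)) z opp C Q QF Qs i₀),
    hB.toConf.Dl ≤ zl (S : Subgroup G) P

/-- Type (α): the configuration, `Δ ≤ V`. -/
def NatBase : Prop :=
  ∀ (G : Type u) [Group G] [Finite G] (S : Sylow 2 G) (P : Subgroup G), Cfg S P →
    Nat4 (S : Subgroup G) P → HasBaseV S P

/-- Type (α): `|S| = 128`, `C_S(V) = V` is impossible. -/
def NatRank : Prop :=
  ∀ (G : Type u) [Group G] [Finite G] (S : Sylow 2 G) (P : Subgroup G), Cfg S P →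
    Nat4 (S : Subgroup G) P → Nat.card (S : Subgroup G) = 128 →
      (S : Subgroup G) ⊓ centralizer (zl (S : Subgroup G) P : Set G) = zl (S : Subgroup G) P → False

/-- **`EndNat4`** from its parts. -/
theorem endNat4_of (h1 : NatBase.{u}) (h2 : NatRank.{u}) : NO1.EndNat4.{u} := by
  intro G _ _ S P h hN
  obtain ⟨ι, ζ, opp, C, Q, QF, Qs, i₀, hB, hD⟩ := h1 G S P h hN
  rcases hB.caseV hD with h4 | ⟨h4, h5⟩
  · exact ⟨_, h4⟩
  · exact (h2 G S P h hN h4 h5).elim

end Cfsg.Agent.Omega.NOne.AG.End
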