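import Cfsg.Agent.Omega.NOne.AG.Frame
import Cfsg.Agent.Omega.NOne.AG.Base
import Cfsg.Agent.Omega.NOne.PlusVec

/-!
# THEOREM D0ag (bb #15001): the facts on `(γ)` (helper654)

`S, P` a configuration of N1 of type `(γ)` (`V = O₄⁺(2)`), `|V : V ∩ Q| = 2`:

* `card_E` : `|V ∩ Q| = 8`, `V ∩ Q = z^⊥`;
* `stab` : `P ∩ C(z) = S C_P(V)`; `ind` : `|S : C_S(V)| = 8`;
* `facts` : `Facts P V (V ∩ Q) z`.
-/

set_option autoImplicit false
set_option linter.unusedSectionVars false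

namespace Cfsg.Agent.Omega.NOne.AG.FactsPlus

open Subgroup Cfsg Cfsg.Agent.ZN Cfsg.Agent.Omega.MinPar Cfsg.Agent.Omega.Frame
open Cfsg.Agent.Omega.NoFF.LinesPlug (CC)
open Cfsg.Agent.Omega.NO1 (Cfg Plus2 EE)
open Cfsg.Agent.Omega.NOne.DPlus
open Cfsg.Agent.Omega.NOne.DPlusPts
open Cfsg.Agent.Omega.NOne.PlusVec

universe u

/-- the elements of `S₃ ≀ 2` -/
def pi (b : Bool) (σ τ : Fin 3 → Fin 3) (p : Fin 3 × Fin 3) : Fin 3 × Fin 3 :=
  (σ (if b then p.2 else p.1), τ (if b then p.1 else p.2))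

/-- the nine points as a family on `Fin 3 × Fin 3` -/
def zz {G : Type u} (z : Fin 3 → Fin 3 → G) (p : Fin 3 × Fin 3) : G := z p.1 p.2

theorem row_of {G : Type u} [Group G] {z : Fin 3 → G} (hs : ∀ i, z i * z i = 1) (hc : ∀ i j, z i * z j = z j * z i)
    (h : z 0 * z 1 * z 2 = 1) : ∀ b c, b ≠ c → z b * z c = z (t b c) := by
  have h01 : z 0 * z 1 = z 2 := by
    have h1 := eq_inv_of_mul_eq_one_left h
    rwa [inv_eq_of_mul_eq_one_left (hs 2)] at h1
  have h02 : z 0 * z 2 = z 1 := by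
    rw [← h01, ← mul_assoc, hs, one_mul]
  have h12 : z 1 * z 2 = z 0 := by
    rw [← h01, hc 0 1, ← mul_assoc, hs, one_mul]
  intro b c hbc
  fin_cases b <;> fin_cases c
  · exact absurd rfl hbc
  · exact h01
  · exact h02
  · exact (hc 1 0).trans h01
  · exact absurd rfl hbc
  · exact h12
  · exact (hc 2 0).trans h02
  · exact (hc 2 1).trans h12
  · exact absurd rfl hbc

section

variable {G : Type u} [Group G] {S P : Subgroup G} {z : Fin 3 → Fin 3 → G}

theorem grid (h : Plus2 S P z) : Grid (zz z) where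
  inj := by
    rintro ⟨a, b⟩ ⟨c, d⟩ e
    obtain ⟨h1, h2⟩ := h.inj a b c d e
    rw [h1, h2]
  ne_one p := h.ne_one _ _
  sq p := h.sq _ _
  comm p q := h.comm _ _ _ _
  row a b c hbc := row_of (z := z a) (fun i => h.sq a i) (fun i j => h.comm a i a j) (h.row a) b c hbc
  col a b c hbc := row_of (z := fun i => z i a) (fun i => h.sq i a) (fun i j => h.comm i a j a) (h.col a) b c hbc

theorem pts (h : Plus2 S P z) : DPlusPts.Pts P (zl S P) (zz z) where
  mem p := by
    rw [← h.gen]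
    exact subset_closure ⟨p, rfl⟩
  gen := h.gen.ge
  grid := grid h
  perm m hm p := by
    obtain ⟨σ, τ, h1 | h1⟩ := h.perm m hm
    · exact ⟨(σ p.1, τ p.2), h1 p.1 p.2⟩
    · exact ⟨(σ p.2, τ p.1), h1 p.1 p.2⟩
  big σ τ := by
    obtain ⟨m, hm, h1⟩ := h.full σ τ
    exact ⟨m, hm, fun x y => h1 x y⟩

theorem exists_pi (h : Plus2 S P z) {m : G} (hm : m ∈ P) : ∃ (b : Bool) (σ τ : Equiv.Perm (Fin 3)),
    Has (zz z) m (pi b σ τ) := by
  obtain ⟨σ, τ, h1 | h1⟩ := h.perm m hm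
  · exact ⟨false, σ, τ, fun p => h1 p.1 p.2⟩
  · exact ⟨true, σ, τ, fun p => h1 p.1 p.2⟩

theorem exists_has (h : Plus2 S P z) (b : Bool) (σ τ : Equiv.Perm (Fin 3)) :
    ∃ m ∈ P, Has (zz z) m (pi b σ τ) := by
  obtain ⟨m, hm, h1⟩ := h.full σ τ
  cases b
  · exact ⟨m, hm, fun p => h1 p.1 p.2⟩
  · obtain ⟨w, hw, h2⟩ := h.swap
    refine ⟨m * w, mul_mem hm hw, fun p => ?_⟩
    have h3 : m * w * zz z p * (m * w)⁻¹ = m * (w * z p.1 p.2 * w⁻¹) * m⁻¹ := by
      show m * w * z p.1 p.2 * (m * w)⁻¹ = _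
      group
    rw [h3, h2, h1]
    rfl

theorem pi_act8 {b : Bool} {σ τ : Equiv.Perm (Fin 3)} (h : pi b σ τ (0, 0) = (0, 0)) :
    ∃ i j, pi b σ τ = act8 b i j := by
  have h0 : pi b σ τ (0, 0) = (σ 0, τ 0) := by cases b <;> rfl
  rw [h0] at h
  have h1 : σ 0 = 0 := congrArg Prod.fst h
  have h2 : τ 0 = 0 := congrArg Prod.snd h
  have key : ∀ ρ : Equiv.Perm (Fin 3), ρ 0 = 0 → ∃ i : Bool, ∀ x, ρ x = if i then t 0 x else x := by
    intro ρ hρ
    rcases perm_cases ρ hρ with h3 | h3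
    · exact ⟨false, fun x => by simpa using h3 x⟩
    · exact ⟨true, fun x => by simpa using h3 x⟩
  obtain ⟨i, hi⟩ := key σ h1
  obtain ⟨j, hj⟩ := key τ h2
  refine ⟨i, j, ?_⟩
  funext p
  rw [pi, act8, hi, hj]

/-- the transposition `t a` -/
def tp (a : Fin 3) : Equiv.Perm (Fin 3) := ⟨t a, t a, fun x => t_t a x, fun x => t_t a x⟩

/-- a power of `t a` with exponent a bit -/
def tpow (i : Bool) (a : Fin 3) : Equiv.Perm (Fin 3) := if i then tp a else 1

theorem act8_eq_pi (b i j : Bool) : act8 b i j = pi b (tpow i 0) (tpow j 0) := by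
  funext p
  cases i <;> cases j <;> rfl

/-- the elements of `P` centralising `z` act as elements of `D₈` -/
theorem exists_act8 (h : Plus2 S P z) {m : G} (hm : m ∈ P) (hc : m * z 0 0 = z 0 0 * m) :
    ∃ b i j, Has (zz z) m (act8 b i j) := by
  obtain ⟨b, σ, τ, h1⟩ := exists_pi h hm
  have h2 : pi b σ τ (0, 0) = (0, 0) := by
    apply (grid h).inj
    rw [← h1]
    show m * z 0 0 * m⁻¹ = z 0 0
    rw [hc, mul_inv_cancel_right]
  obtain ⟨i, j, h3⟩ := pi_act8 h2
  exact ⟨b, i, j, h3 ▸ h1⟩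

theorem has_comm (h : Plus2 S P z) {m : G} (h1 : Has (zz z) m (fun p => p)) :
    ∀ v ∈ zl S P, m * v = v * m := by
  intro v hv
  rw [← h.gen] at hv
  induction hv using closure_induction with
  | mem x hx =>
    obtain ⟨p, rfl⟩ := hx
    have h2 := h1 p
    have h3 : m * zz z p = zz z p * m := by
      calc m * zz z p = m * zz z p * m⁻¹ * m := by group
        _ = _ := by rw [h2]
    exact h3
  | one => rw [mul_one, one_mul]
  | mul a b _ _ ha hb =>
    calc m * (a * b) = (m * a) * b := by group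
      _ = a * (m * b) := by rw [ha]; group
      _ = a * b * m := by rw [hb]; group
  | inv a _ ha =>
    calc m * a⁻¹ = a⁻¹ * (a * m) * a⁻¹ := by group
      _ = a⁻¹ * m := by rw [← ha]; group

theorem has_of_comm (h : Plus2 S P z) {m : G} (h1 : ∀ v ∈ zl S P, m * v = v * m) :
    Has (zz z) m (fun p => p) := by
  intro p
  show m * zz z p * m⁻¹ = zz z p
  rw [h1 _ ((pts h).mem p), mul_inv_cancel_right]

end

/-- `P₀ = S K` if `S` is Sylow and `P₀ / K` is a 2-group. -/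
theorem exists_sc {G : Type u} [Group G] [Finite G] (S : Sylow 2 G) {P₀ K : Subgroup G}
    (hS : (S : Subgroup G) ≤ P₀) (hK : K ≤ P₀) (hn : P₀ ≤ normalizer (K : Set G))
    (h2 : ∀ x ∈ P₀, ∃ n : ℕ, x ^ 2 ^ n ∈ K) {x : G} (hx : x ∈ P₀) :
    ∃ s ∈ (S : Subgroup G), ∃ c ∈ K, x = s * c := by
  have hf : Fact (Nat.Prime 2) := ⟨Nat.prime_two⟩
  have hnor : (K.subgroupOf P₀).Normal := normal_subgroupOf_iff_le_normalizer hK |>.2 hn
  have hpg : IsPGroup 2 (↥P₀ ⧸ K.subgroupOf P₀) := by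
    intro y
    obtain ⟨⟨y, hy⟩, rfl⟩ := QuotientGroup.mk_surjective y
    obtain ⟨n, hn⟩ := h2 y hy
    refine ⟨n, ?_⟩
    rw [← QuotientGroup.mk_pow, QuotientGroup.eq_one_iff]
    exact hn
  obtain ⟨k, hk⟩ := IsPGroup.iff_card.1 hpg
  have h3 : (S : Subgroup G) ⊔ K = P₀ := by
    have hle : (S : Subgroup G) ⊔ K ≤ P₀ := sup_le hS hK
    apply le_antisymm hle
    rw [← relIndex_eq_one]
    have h4 : ((S : Subgroup G) ⊔ K).relIndex P₀ ∣ 2 ^ k := by
      rw [← hk]
      exact relIndex_dvd_of_le_left P₀ le_sup_right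
    have h5 : ((S : Subgroup G) ⊔ K).relIndex P₀ ∣ (S : Subgroup G).relIndex P₀ :=
      relIndex_dvd_of_le_left P₀ le_sup_left
    obtain ⟨l, -, hl⟩ := (Nat.dvd_prime_pow Nat.prime_two).1 h4
    rcases Nat.eq_zero_or_pos l with h6 | h6
    · rw [hl, h6, pow_zero]
    · exfalso
      apply MinSimple.Basic.not_dvd_relIndex S hS
      refine dvd_trans ?_ h5
      rw [hl]
      exact dvd_pow_self 2 (by omega)
  rw [← h3] at hx
  have h4 : (S : Subgroup G) ≤ normalizer (K : Set G) := hS.trans hn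
  rw [← SetLike.mem_coe, coe_mul_of_left_le_normalizer_right _ _ h4] at hx
  obtain ⟨s, hs, c, hc, rfl⟩ := hx
  exact ⟨s, hs, c, hc, rfl⟩

theorem act8_four : ∀ b i j, ∀ p, act8 b i j (act8 b i j (act8 b i j (act8 b i j p))) = p := by
  decide +kernel

section main

variable {G : Type u} [Group G] [Finite G] {S : Sylow 2 G} {P : Subgroup G} {z : Fin 3 → Fin 3 → G}

theorem S_comm (hz : Plus2 (S : Subgroup G) P z) {s : G} (hs : s ∈ (S : Subgroup G)) :
    s * z 0 0 = z 0 0 * s := by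
  have h1 : z 0 0 ∈ zc (S : Subgroup G) := by
    rw [hz.Z]
    exact mem_zpowers _
  exact (mem_zc.1 h1).2.1 s hs

/-- `P ∩ C(z) = S C_P(V)` -/
theorem stab (h : Cfg S P) (hz : Plus2 (S : Subgroup G) P z) : ∀ m ∈ P, m * z 0 0 = z 0 0 * m →
    ∃ s ∈ (S : Subgroup G), ∃ c ∈ P, (∀ v ∈ zl (S : Subgroup G) P, c * v = v * c) ∧ m = s * c := by
  intro m hm hmz
  have hSP : (S : Subgroup G) ≤ P ⊓ centralizer ({z 0 0} : Set G) :=
    le_inf h.S_le fun s hs => mem_centralizer_singleton_iff.2 (S_comm hz hs)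
  have hV : P ≤ normalizer (zl (S : Subgroup G) P : Set G) := Cfg.P_norm_V S P
  have hKP : P ⊓ centralizer (zl (S : Subgroup G) P : Set G) ≤ P ⊓ centralizer ({z 0 0} : Set G) := by
    refine inf_le_inf_left P (centralizer_le ?_)
    rw [Set.singleton_subset_iff]
    exact (pts hz).mem (0, 0)
  have hn : P ⊓ centralizer ({z 0 0} : Set G) ≤
      normalizer ((P ⊓ centralizer (zl (S : Subgroup G) P : Set G) : Subgroup G) : Set G) := by
    have key : ∀ x ∈ P, ∀ k ∈ P ⊓ centralizer (zl (S : Subgroup G) P : Set G),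
        x * k * x⁻¹ ∈ P ⊓ centralizer (zl (S : Subgroup G) P : Set G) := by
      intro x hx k hk
      refine ⟨P.mul_mem (P.mul_mem hx hk.1) (P.inv_mem hx), mem_centralizer_iff.2 fun v hv => ?_⟩
      have h1 : x⁻¹ * v * x⁻¹⁻¹ ∈ zl (S : Subgroup G) P :=
        (mem_normalizer_iff.1 (hV (P.inv_mem hx)) v).1 hv
      have h2 := mem_centralizer_iff.1 hk.2 _ h1
      calc v * (x * k * x⁻¹) = x * ((x⁻¹ * v * x⁻¹⁻¹) * k) * x⁻¹ := by group
        _ = x * k * x⁻¹ * v := by rw [h2]; group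
    intro x hx
    rw [mem_normalizer_iff]
    intro k
    refine ⟨key x hx.1 k, fun hk => ?_⟩
    have h1 := key x⁻¹ (inv_mem hx.1) _ hk
    have h2 : x⁻¹ * (x * k * x⁻¹) * x⁻¹⁻¹ = k := by group
    rwa [h2] at h1
  obtain ⟨s, hs, c, hc, rfl⟩ := exists_sc S hSP hKP hn (fun x hx => by
    obtain ⟨b, i, j, h1⟩ := exists_act8 hz hx.1 (mem_centralizer_singleton_iff.1 hx.2)
    refine ⟨2, pow_mem hx.1 _, mem_centralizer_iff.2 fun v hv => ?_⟩
    have h2 : Has (zz z) (x * (x * (x * x))) (fun p => p) := by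
      have h3 := h1.mul (h1.mul (h1.mul h1))
      have h4 : (fun p => act8 b i j (act8 b i j (act8 b i j (act8 b i j p)))) = fun p => p :=
        funext (act8_four b i j)
      rwa [h4] at h3
    have h3 : x ^ 2 ^ 2 = x * (x * (x * x)) := by
      rw [show 2 ^ 2 = 4 from rfl, pow_succ, pow_succ, pow_two, mul_assoc, mul_assoc]
    rw [h3]
    exact (has_comm hz h2 v hv).symm) (x := m) ⟨hm, mem_centralizer_singleton_iff.2 hmz⟩
  exact ⟨s, hs, c, hc.1, fun v hv => (mem_centralizer_iff.1 hc.2 v hv).symm, rfl⟩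

/-- `S` induces `D₈` -/
theorem exists_S (h : Cfg S P) (hz : Plus2 (S : Subgroup G) P z) (b i j : Bool) :
    ∃ s ∈ (S : Subgroup G), Has (zz z) s (act8 b i j) := by
  obtain ⟨m, hm, h1⟩ := exists_has hz b (tpow i 0) (tpow j 0)
  rw [← act8_eq_pi] at h1
  have h2 : m * z 0 0 = z 0 0 * m := by
    have h3 := h1 (0, 0)
    rw [act8_fix] at h3
    have h4 : m * z 0 0 * m⁻¹ = z 0 0 := h3
    calc m * z 0 0 = m * z 0 0 * m⁻¹ * m := by group
      _ = z 0 0 * m := by rw [h4]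
  obtain ⟨s, hs, c, hc, h3, rfl⟩ := stab h hz m hm h2
  refine ⟨s, hs, fun p => ?_⟩
  have h4 : s * c * zz z p * (s * c)⁻¹ = s * zz z p * s⁻¹ := by
    have h5 := h3 _ ((pts hz).mem p)
    calc s * c * zz z p * (s * c)⁻¹ = s * (c * zz z p) * c⁻¹ * s⁻¹ := by group
      _ = s * zz z p * s⁻¹ := by rw [h5]; group
  rw [← h4, h1]

/-- `|S : C_S(V)| = 8` -/
theorem ind (h : Cfg S P) (hz : Plus2 (S : Subgroup G) P z) :
    ((S : Subgroup G) ⊓ centralizer (zl (S : Subgroup G) P : Set G)).relIndex (S : Subgroup G) = 8 := by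
  have hex : ∀ s : ↥(S : Subgroup G), ∃ a : Bool × Bool × Bool, Has (zz z) s.1 (act8 a.1 a.2.1 a.2.2) := by
    rintro ⟨s, hs⟩
    obtain ⟨b, i, j, h1⟩ := exists_act8 hz (h.S_le hs) (S_comm hz hs)
    exact ⟨(b, i, j), h1⟩
  choose f hf using hex
  have hrel : ∀ s t : ↥(S : Subgroup G), f s = f t ↔
      s⁻¹ * t ∈ ((S : Subgroup G) ⊓ centralizer (zl (S : Subgroup G) P : Set G)).subgroupOf
        (S : Subgroup G) := by
    intro s t
    rw [mem_subgroupOf]
    constructor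
    · intro he
      refine ⟨(s⁻¹ * t).2, mem_centralizer_iff.2 fun v hv => (has_comm hz ?_ v hv).symm⟩
      intro p
      have h1 := hf s p
      have h2 := hf t p
      rw [← he, ← h1] at h2
      show (s.1⁻¹ * t.1) * zz z p * (s.1⁻¹ * t.1)⁻¹ = zz z p
      calc (s.1⁻¹ * t.1) * zz z p * (s.1⁻¹ * t.1)⁻¹ = s.1⁻¹ * (t.1 * zz z p * t.1⁻¹) * s.1 := by group
        _ = zz z p := by rw [h2]; group
    · intro hm
      have h1 : Has (zz z) (s.1⁻¹ * t.1) (fun p => p) :=
        has_of_comm hz fun v hv => (mem_centralizer_iff.1 hm.2 v hv).symm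
      have h2 : Has (zz z) t.1 (act8 (f s).1 (f s).2.1 (f s).2.2) := by
        intro p
        have h3 : t.1 * zz z p * t.1⁻¹ = s.1 * ((s.1⁻¹ * t.1) * zz z p * (s.1⁻¹ * t.1)⁻¹) * s.1⁻¹ := by
          group
        rw [h3, h1 p, hf s p]
      have h3 := Has.unique (grid hz) h2 (hf t)
      obtain ⟨e1, e2, e3⟩ := act8_inj _ _ _ _ _ _ (fun p => congrFun h3 p)
      exact Prod.ext e1 (Prod.ext e2 e3)
  rw [relIndex, Subgroup.index]
  have hN : Nat.card (↥(S : Subgroup G) ⧸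
      ((S : Subgroup G) ⊓ centralizer (zl (S : Subgroup G) P : Set G)).subgroupOf (S : Subgroup G)) =
      Nat.card (Bool × Bool × Bool) := by
    apply Nat.card_eq_of_bijective (fun q => Quotient.liftOn' q f fun s t hst =>
      (hrel s t).2 (QuotientGroup.leftRel_apply.1 hst))
    constructor
    · intro q r
      refine Quotient.inductionOn₂' q r fun s t he => ?_
      exact Quotient.sound' (QuotientGroup.leftRel_apply.2 ((hrel s t).1 he))
    · intro a
      obtain ⟨s, hs, h1⟩ := exists_S h hz a.1 a.2.1 a.2.2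
      refine ⟨Quotient.mk'' ⟨s, hs⟩, ?_⟩
      show f ⟨s, hs⟩ = a
      have h3 := Has.unique (grid hz) (hf ⟨s, hs⟩) h1
      obtain ⟨e1, e2, e3⟩ := act8_inj _ _ _ _ _ _ (fun p => congrFun h3 p)
      exact Prod.ext e1 (Prod.ext e2 e3)
  rw [hN, Nat.card_eq_fintype_card]
  rfl

/-! ### `E = V ∩ Q` -/

theorem CC_eq (hz : Plus2 (S : Subgroup G) P z) :
    CC (S : Subgroup G) = centralizer ({z 0 0} : Set G) := by
  change centralizer (zc (S : Subgroup G) : Set G) = _
  rw [hz.Z, centralizer_zpowers_eq]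

theorem EE_eq (hz : Plus2 (S : Subgroup G) P z) :
    EE (S : Subgroup G) P = zl (S : Subgroup G) P ⊓ o2 (centralizer ({z 0 0} : Set G)) := by
  change zl (S : Subgroup G) P ⊓ o2 (CC (S : Subgroup G)) = _
  rw [CC_eq hz]

theorem conj_E (h : Cfg S P) {s x : G} (hs : s ∈ (S : Subgroup G)) (hx : x ∈ EE (S : Subgroup G) P) :
    s * x * s⁻¹ ∈ EE (S : Subgroup G) P := by
  refine ⟨(mem_normalizer_iff.1 (Cfg.P_norm_V S P (h.S_le hs)) x).1 hx.1, ?_⟩
  have h1 : s ∈ normalizer (o2 (CC (S : Subgroup G)) : Set G) :=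
    MinSimple.VModule.le_normalizer_o2 _ (Cfg.S_le_CC S hs)
  exact (mem_normalizer_iff.1 h1 x).1 hx.2

/-- `[V, S] ≤ E` -/
theorem comm_E (h : Cfg S P) (hE : (EE (S : Subgroup G) P).relIndex (zl (S : Subgroup G) P) = 2)
    {s x : G} (hs : s ∈ (S : Subgroup G)) (hx : x ∈ zl (S : Subgroup G) P) :
    s * x * s⁻¹ * x ∈ EE (S : Subgroup G) P := by
  have hxV : s * x * s⁻¹ ∈ zl (S : Subgroup G) P :=
    (mem_normalizer_iff.1 (Cfg.P_norm_V S P (h.S_le hs)) x).1 hx
  have h1 := Subgroup.mul_mem_iff_of_index_two (H := (EE (S : Subgroup G) P).subgroupOf (zl (S : Subgroup G) P))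
    hE (a := ⟨s * x * s⁻¹, hxV⟩) (b := ⟨x, hx⟩)
  rw [mem_subgroupOf, mem_subgroupOf, mem_subgroupOf] at h1
  refine h1.2 ⟨fun h2 => ?_, fun h2 => conj_E h hs h2⟩
  have h3 := conj_E h (inv_mem hs) h2
  have h4 : s⁻¹ * (s * x * s⁻¹) * s⁻¹⁻¹ = x := by group
  have h5 : s⁻¹ * (s * x * s⁻¹) * s⁻¹⁻¹ ∈ EE (S : Subgroup G) P := h3
  rwa [h4] at h5

variable (h : Cfg S P) (hz : Plus2 (S : Subgroup G) P z)
  (hE : (EE (S : Subgroup G) P).relIndex (zl (S : Subgroup G) P) = 2)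

include h hz hE

theorem z00_mem : zz z (0, 0) ∈ EE (S : Subgroup G) P := by
  obtain ⟨s, hs, h1⟩ := exists_S h hz false false true
  have h2 := comm_E h hE hs ((pts hz).mem (0, 1))
  rw [h1 (0, 1), show act8 false false true (0, 1) = (0, 2) from by decide,
    (grid hz).row 0 2 1 (by decide), show t 2 1 = 0 from by decide] at h2
  exact h2

theorem z01_mem : zz z (0, 1) ∈ EE (S : Subgroup G) P := by
  obtain ⟨s, hs, h1⟩ := exists_S h hz false true false
  have h2 := comm_E h hE hs ((pts hz).mem (1, 1))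
  rw [h1 (1, 1), show act8 false true false (1, 1) = (2, 1) from by decide,
    (grid hz).col 1 2 1 (by decide), show t 2 1 = 0 from by decide] at h2
  exact h2

theorem z10_mem : zz z (1, 0) ∈ EE (S : Subgroup G) P := by
  obtain ⟨s, hs, h1⟩ := exists_S h hz false false true
  have h2 := comm_E h hE hs ((pts hz).mem (1, 1))
  rw [h1 (1, 1), show act8 false false true (1, 1) = (1, 2) from by decide,
    (grid hz).row 1 2 1 (by decide), show t 2 1 = 0 from by decide] at h2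
  exact h2

theorem pw_mem' {x : G} {H : Subgroup G} (hx : x ∈ H) (b : Bool) : pw x b ∈ H := by
  cases b
  · exact one_mem _
  · exact hx

theorem phi_mem_of {v : B4} (hv : v.2.2.2 = false) : phi (zz z) v ∈ EE (S : Subgroup G) P := by
  obtain ⟨a, b, c, d⟩ := v
  simp only at hv
  subst hv
  refine mul_mem (mul_mem (mul_mem ?_ ?_) ?_) ?_
  · exact pw_mem' h hz hE (z00_mem h hz hE) _
  · exact pw_mem' h hz hE (z01_mem h hz hE) _
  · exact pw_mem' h hz hE (z10_mem h hz hE) _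
  · exact one_mem _

/-- `E = z^⊥` -/
theorem phi_mem_iff {v : B4} : phi (zz z) v ∈ EE (S : Subgroup G) P ↔ v.2.2.2 = false := by
  refine ⟨fun hv => ?_, phi_mem_of h hz hE⟩
  by_contra hne
  rw [Bool.not_eq_false] at hne
  have h1 : zl (S : Subgroup G) P ≤ EE (S : Subgroup G) P := by
    intro x hx
    obtain ⟨w, rfl⟩ := exists_phi (pts hz) hx
    by_cases hw : w.2.2.2 = false
    · exact phi_mem_of h hz hE hw
    · rw [Bool.not_eq_false] at hw
      have h2 : phi (zz z) (add w v) ∈ EE (S : Subgroup G) P := by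
        apply phi_mem_of h hz hE
        rw [add]
        show (w.2.2.2 ^^ v.2.2.2) = false
        rw [hw, hne]
        rfl
      rw [phi_add (grid hz)] at h2
      have h3 := mul_mem h2 (inv_mem hv)
      rwa [mul_inv_cancel_right] at h3
  rw [relIndex_eq_one.2 h1] at hE
  omega

/-- `|V ∩ Q| = 8` -/
theorem card_E : Nat.card ↥(EE (S : Subgroup G) P) = 8 := by
  have h1 : Nat.card {v : B4 // v.2.2.2 = false} = Nat.card ↥(EE (S : Subgroup G) P) := by
    apply Nat.card_eq_of_bijective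
      (fun v => (⟨phi (zz z) v.1, (phi_mem_iff h hz hE).2 v.2⟩ : ↥(EE (S : Subgroup G) P)))
    constructor
    · intro v w hvw
      exact Subtype.ext (phi_inj (grid hz) (congrArg Subtype.val hvw))
    · rintro ⟨x, hx⟩
      obtain ⟨v, rfl⟩ := exists_phi (pts hz) hx.1
      exact ⟨⟨v, (phi_mem_iff h hz hE).1 hx⟩, rfl⟩
  rw [← h1, Nat.card_eq_fintype_card]
  decide

theorem pt_mem_iff {p : Fin 3 × Fin 3} : zz z p ∈ EE (S : Subgroup G) P ↔ ¬ op (0, 0) p := by
  rw [← phi_vec (grid hz) p, phi_mem_iff h hz hE]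
  revert p
  decide

end main

/-! ### the facts -/

theorem faith_code : ∀ (b : Bool) (σ τ : Equiv.Perm (Fin 3)), (∀ p, ¬ op (0, 0) p → pi b σ τ p = p) →
    ∀ p, pi b σ τ p = p := by decide +kernel

theorem symm_code : ∀ (b : Bool) (σ τ : Equiv.Perm (Fin 3)) (p : Fin 3 × Fin 3), op (0, 0) (pi b σ τ (0, 0)) →
    pi b σ τ p = (0, 0) → op (0, 0) p := by decide +kernel

theorem lin_code : ∀ (i j : Bool) (v : B4), v.2.2.2 = false →
    lin (act8 false i j) v = v ∨ lin (act8 false i j) v = add z0 v := by decide +kernel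

theorem reach_code : ∀ a : Fin 3, a ≠ 0 → ∀ q : Fin 3, ∃ i j : Bool, tpow j 0 (tpow i a 0) = q := by
  decide +kernel

/-- the elements of `D₈` centralising `E / z` -/
theorem conj_tpow : ∀ (b : Bool) (σ τ : Equiv.Perm (Fin 3)) (i j : Bool), ∀ p q, pi b σ τ p = q →
    pi b σ τ (pi false (tpow i 0) (tpow j 0) p) = if b then pi false (tpow j (σ 0)) (tpow i (τ 0)) q else
      pi false (tpow i (σ 0)) (tpow j (τ 0)) q := by decide +kernel

section final

variable {G : Type u} [Group G] [Finite G] {S : Sylow 2 G} {P : Subgroup G} {z : Fin 3 → Fin 3 → G}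

/-- conjugates of the elements centralising `E / z` -/
theorem has_conj {m x : G} {b : Bool} {σ τ : Equiv.Perm (Fin 3)} {i j : Bool}
    (hm : Has (zz z) m (pi b σ τ)) (hx : Has (zz z) x (act8 false i j)) :
    Has (zz z) (m * x * m⁻¹) (if b then pi false (tpow j (σ 0)) (tpow i (τ 0)) else
      pi false (tpow i (σ 0)) (tpow j (τ 0))) := by
  have hsurj : ∀ (b : Bool) (σ τ : Equiv.Perm (Fin 3)) (q : Fin 3 × Fin 3), ∃ p, pi b σ τ p = q := by
    intro b σ τ q
    cases b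
    · exact ⟨(σ.symm q.1, τ.symm q.2), by simp [pi]⟩
    · exact ⟨(τ.symm q.2, σ.symm q.1), by simp [pi]⟩
  intro q
  obtain ⟨p, hp⟩ := hsurj b σ τ q
  have h1 := conj_tpow b σ τ i j p q hp
  rw [← act8_eq_pi] at h1
  have h2 : m * x * m⁻¹ * zz z q * (m * x * m⁻¹)⁻¹ = m * (x * zz z p * x⁻¹) * m⁻¹ := by
    rw [← hp, ← hm p]
    group
  rw [h2, hx p, hm, h1]
  cases b <;> rfl

theorem facts' (h : Cfg S P) (hz : Plus2 (S : Subgroup G) P z)
    (hE : (EE (S : Subgroup G) P).relIndex (zl (S : Subgroup G) P) = 2) :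
    Facts P (zl (S : Subgroup G) P) (EE (S : Subgroup G) P) (z 0 0) where
  faith := by
    intro x hx hxE
    obtain ⟨b, σ, τ, h1⟩ := exists_pi hz hx
    have h2 : ∀ p, pi b σ τ p = p := by
      apply faith_code
      intro p hp
      apply (grid hz).inj
      rw [← h1, hxE _ ((pt_mem_iff h hz hE).2 hp), mul_inv_cancel_right]
    have h3 : (pi b σ τ : Fin 3 × Fin 3 → Fin 3 × Fin 3) = fun p => p := funext h2
    rw [h3] at h1
    exact has_comm hz h1
  symm := by
    intro m hm hmE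
    obtain ⟨b, σ, τ, h1⟩ := exists_pi hz hm
    obtain ⟨b', σ', τ', h2⟩ := exists_pi hz (inv_mem hm)
    have h3 : op (0, 0) (pi b σ τ (0, 0)) := by
      by_contra hno
      apply hmE
      have h4 := (pt_mem_iff h hz hE).2 hno
      rwa [← h1] at h4
    have h5 : m⁻¹ * z 0 0 * m = zz z (pi b' σ' τ' (0, 0)) := by
      rw [← h2, inv_inv]
      rfl
    have h6 : pi b σ τ (pi b' σ' τ' (0, 0)) = (0, 0) := by
      apply (grid hz).inj
      rw [← h1, ← h5]
      show m * (m⁻¹ * z 0 0 * m) * m⁻¹ = z 0 0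
      group
    have h7 := symm_code b σ τ _ h3 h6
    rw [h5, pt_mem_iff h hz hE]
    exact fun h8 => h8 h7
  trans := by
    intro m hm hmE A hAP hA n hn
    obtain ⟨b, σ, τ, h1⟩ := exists_pi hz hm
    obtain ⟨b', σ', τ', h2⟩ := exists_pi hz hn
    have h3 : op (0, 0) (pi b σ τ (0, 0)) := by
      by_contra hno
      apply hmE
      have h4 := (pt_mem_iff h hz hE).2 hno
      rwa [← h1] at h4
    have h00 : pi b σ τ (0, 0) = (σ 0, τ 0) := by cases b <;> rfl
    rw [h00] at h3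
    have hσ : σ 0 ≠ 0 := fun e => h3.1 e.symm
    have hτ : τ 0 ≠ 0 := fun e => h3.2 e.symm
    -- the elements of `A`
    have hAi : ∀ i j : Bool, ∃ a ∈ A, Has (zz z) a (act8 false i j) := by
      intro i j
      obtain ⟨x, hx, hx1⟩ := exists_S h hz false i j
      obtain ⟨a, ha, ha1⟩ := hA x (h.S_le hx) (by
        intro e he
        obtain ⟨v, rfl⟩ := exists_phi (pts hz) he.1
        have hv := (phi_mem_iff h hz hE).1 he
        have h4 := hx1.conj_phi (grid hz) v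
        have h5 : x * phi (zz z) v = phi (zz z) (lin (act8 false i j) v) * x := by
          rw [← h4]; group
        rcases lin_code i j v hv with h6 | h6
        · left
          rw [h5, h6]
        · right
          rw [h5, h6, phi_add (grid hz)]
          have h7 : phi (zz z) z0 = z 0 0 := phi_vec (grid hz) (0, 0)
          rw [h7, mul_assoc])
      refine ⟨a, ha, fun p => ?_⟩
      rw [ha1 _ ((pts hz).mem p), hx1]
    have hBi : ∀ i j : Bool, ∃ y ∈ A.map (MulAut.conj m).toMonoidHom,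
        Has (zz z) y (pi false (tpow i (σ 0)) (tpow j (τ 0))) := by
      intro i j
      cases b
      · obtain ⟨a, ha, ha1⟩ := hAi i j
        exact ⟨m * a * m⁻¹, ⟨a, ha, rfl⟩, by simpa using has_conj h1 ha1⟩
      · obtain ⟨a, ha, ha1⟩ := hAi j i
        exact ⟨m * a * m⁻¹, ⟨a, ha, rfl⟩, by simpa using has_conj h1 ha1⟩
    obtain ⟨i, i', hi⟩ := reach_code (σ 0) hσ (pi b' σ' τ' (0, 0)).1
    obtain ⟨j, j', hj⟩ := reach_code (τ 0) hτ (pi b' σ' τ' (0, 0)).2
    obtain ⟨y, hy, hy1⟩ := hBi i j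
    obtain ⟨a, ha, ha1⟩ := hAi i' j'
    refine ⟨a * y, mul_mem (mem_sup_left ha) (mem_sup_right hy), ?_⟩
    have h4 := (ha1.mul hy1) (0, 0)
    have h5 := h2 (0, 0)
    have h6 : act8 false i' j' (pi false (tpow i (σ 0)) (tpow j (τ 0)) (0, 0)) = pi b' σ' τ' (0, 0) := by
      rw [act8_eq_pi]
      exact Prod.ext hi hj
    exact (h4.trans (congrArg (zz z) h6)).trans h5.symm
  tri := by
    obtain ⟨m, hm, h1⟩ := exists_has hz false (Equiv.swap 0 1) (Equiv.swap 0 1)
    obtain ⟨n, hn, h2⟩ := exists_has hz false (Equiv.swap 0 2) (Equiv.swap 0 2)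
    have e1 : m * z 0 0 * m⁻¹ = zz z (1, 1) := h1 (0, 0)
    have e2 : n * z 0 0 * n⁻¹ = zz z (2, 2) := h2 (0, 0)
    have e3 : m * zz z (2, 2) * m⁻¹ = zz z (2, 2) := h1 (2, 2)
    have hop : ∀ p : Fin 3 × Fin 3, op (0, 0) p → zz z p ∉ EE (S : Subgroup G) P := fun p hp hpE =>
      (pt_mem_iff h hz hE).1 hpE hp
    refine ⟨m, hm, n, hn, ?_, ?_, ?_⟩
    · rw [e1]; exact hop _ (by decide)
    · rw [e2]; exact hop _ (by decide)
    · have e4 : (m⁻¹ * n) * z 0 0 * (m⁻¹ * n)⁻¹ = m⁻¹ * (n * z 0 0 * n⁻¹) * m := by group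
      have e5 : m⁻¹ * zz z (2, 2) * m = zz z (2, 2) := by
        conv_lhs => rw [← e3]
        group
      rw [e4, e2, e5]
      exact hop _ (by decide)

/-- **the facts on (γ)** -/
theorem facts (h : Cfg S P) (hz : Plus2 (S : Subgroup G) P z)
    (hE : (EE (S : Subgroup G) P).relIndex (zl (S : Subgroup G) P) = 2) :
    Facts P (zl (S : Subgroup G) P) (zl (S : Subgroup G) P ⊓ o2 (centralizer ({z 0 0} : Set G))) (z 0 0) := by
  rw [← EE_eq hz]
  exact facts' h hz hE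

/-- `|V ∩ O₂(C(z))| = 8` -/
theorem card8 (h : Cfg S P) (hz : Plus2 (S : Subgroup G) P z)
    (hE : (EE (S : Subgroup G) P).relIndex (zl (S : Subgroup G) P) = 2) :
    Nat.card ↥(zl (S : Subgroup G) P ⊓ o2 (centralizer ({z 0 0} : Set G))) = 8 := by
  rw [← EE_eq hz]
  exact card_E h hz hE

/-- `|V| = 16` -/
theorem card16 (hz : Plus2 (S : Subgroup G) P z) : Nat.card ↥(zl (S : Subgroup G) P) = 16 := by
  have h1 : Nat.card B4 = Nat.card ↥(zl (S : Subgroup G) P) := by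
    apply Nat.card_eq_of_bijective (fun v => (⟨phi (zz z) v, phi_mem (pts hz) v⟩ : ↥(zl (S : Subgroup G) P)))
    constructor
    · intro v w hvw
      exact phi_inj (grid hz) (congrArg Subtype.val hvw)
    · rintro ⟨x, hx⟩
      obtain ⟨v, rfl⟩ := exists_phi (pts hz) hx
      exact ⟨v, rfl⟩
  rw [← h1, Nat.card_eq_fintype_card]
  decide

end final

end Cfsg.Agent.Omega.NOne.AG.FactsPlus
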