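import Cfsg.Agent.Omega.NOne.AG.FactsA
import Cfsg.Agent.Omega.NOne.AG.FactsPlus

/-!
# D0ag, type (α): the facts in a configuration

`S, P` a configuration of N1 of type (α), `V = zl S P` with the coordinates `W` (`AW P V W`), `z = W z0`:

* `stab` : `P ∩ C(z) = S C_P(V)`; `exists_S` : `S` induces `D₈`; `ind` : `|S : C_S(V)| = 8`;
* `facts`, `card8`, `card16`.
-/

set_option autoImplicit false
set_option linter.unusedSectionVars false

namespace Cfsg.Agent.Omega.NOne.AG.FactsNat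

open Subgroup Cfsg Cfsg.Agent.ZN Cfsg.Agent.Omega.MinPar Cfsg.Agent.Omega.Frame
open Cfsg.Agent.Omega.NoFF.LinesPlug (CC)
open Cfsg.Agent.Omega.NO1 (Cfg Nat4 EE)
open Cfsg.Agent.Omega.NOne.AG.Tab

universe u

theorem st_of : ∀ σ : Equiv.Perm (Fin 5), sA σ z0 = z0 → ∃ i j k, σ = st i j k := by decide +kernel

theorem st_four : ∀ σ : Equiv.Perm (Fin 5), sA σ z0 = z0 → σ * (σ * (σ * σ)) = 1 := by decide +kernel

theorem st_inj : ∀ i j k i' j' k', st i j k = st i' j' k' → i = i' ∧ j = j' ∧ k = k' := by decide +kernel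

theorem sA_one' : ∀ x, sA 1 x = x := by decide +kernel

section

variable {G : Type u} [Group G] {P V : Subgroup G} {W : B4 → G}

theorem comm_of_one (A : AW P V W) {m : G} (h1 : Ovz W m 1) : ∀ v ∈ V, m * v = v * m := by
  intro v hv
  obtain ⟨x, rfl⟩ := A.surj v hv
  have h2 := A.conj_eq h1 x
  rw [sA_one'] at h2
  rwa [mul_inv_eq_iff_eq_mul] at h2

theorem one_of_comm (A : AW P V W) {m : G} (h1 : ∀ v ∈ V, m * v = v * m) : Ovz W m 1 := by
  intro a b c d _
  rw [h1 _ (A.mem _), mul_inv_cancel_right]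
  rfl

theorem ovz_unique (A : AW P V W) {m : G} {σ τ : Equiv.Perm (Fin 5)} (h1 : Ovz W m σ) (h2 : Ovz W m τ) :
    σ = τ := by
  have h3 : Ovz W (m⁻¹ * m) (σ⁻¹ * τ) := h1.inv.mul h2
  rw [inv_mul_cancel] at h3
  have h4 : σ⁻¹ * τ = 1 := by
    apply sA_faith
    intro x _
    apply A.inj
    rw [← A.conj_eq h3]
    simp
  rw [inv_mul_eq_one] at h4
  exact h4

theorem z_fix (A : AW P V W) {m : G} {σ : Equiv.Perm (Fin 5)} (h1 : Ovz W m σ) (h2 : m * W z0 = W z0 * m) :
    sA σ z0 = z0 := by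
  apply A.inj
  rw [← A.conj_eq h1, h2, mul_inv_cancel_right]

end

section main

variable {G : Type u} [Group G] [Finite G] {S : Sylow 2 G} {P : Subgroup G} {W : B4 → G}
variable (h : Cfg S P) (A : AW P (zl (S : Subgroup G) P) W) (hz : zc (S : Subgroup G) = zpowers (W z0))

include hz in
theorem S_comm {s : G} (hs : s ∈ (S : Subgroup G)) : s * W z0 = W z0 * s := by
  have h1 : W z0 ∈ zc (S : Subgroup G) := by
    rw [hz]
    exact mem_zpowers _
  exact (mem_zc.1 h1).2.1 s hs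

include h A hz

/-- `P ∩ C(z) = S C_P(V)` -/
theorem stab : ∀ m ∈ P, m * W z0 = W z0 * m →
    ∃ s ∈ (S : Subgroup G), ∃ c ∈ P, (∀ v ∈ zl (S : Subgroup G) P, c * v = v * c) ∧ m = s * c := by
  intro m hm hmz
  have hSP : (S : Subgroup G) ≤ P ⊓ centralizer ({W z0} : Set G) :=
    le_inf h.S_le fun s hs => mem_centralizer_singleton_iff.2 (S_comm hz hs)
  have hV : P ≤ normalizer (zl (S : Subgroup G) P : Set G) := Cfg.P_norm_V S P
  have hKP : P ⊓ centralizer (zl (S : Subgroup G) P : Set G) ≤ P ⊓ centralizer ({W z0} : Set G) := by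
    refine inf_le_inf_left P (centralizer_le ?_)
    rw [Set.singleton_subset_iff]
    exact A.mem z0
  have hn : P ⊓ centralizer ({W z0} : Set G) ≤
      normalizer ((P ⊓ centralizer (zl (S : Subgroup G) P : Set G) : Subgroup G) : Set G) := by
    have key : ∀ x ∈ P, ∀ k ∈ P ⊓ centralizer (zl (S : Subgroup G) P : Set G),
        x * k * x⁻¹ ∈ P ⊓ centralizer (zl (S : Subgroup G) P : Set G) := by
      intro x hx k hk
      refine ⟨P.mul_mem (P.mul_mem hx hk.1) (P.inv_mem hx), mem_centralizer_iff.2 fun v hv => ?_⟩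
      have h1 : x⁻¹ * v * x⁻¹⁻¹ ∈ zl (S : Subgroup G) P :=
        (mem_normalizer_iff.1 (hV (P.inv_mem hx)) v).1 hv
      have h2 := mem_centralizer_iff.1 hk.2 _ h1
      calc v * (x * k * x⁻¹) = x * ((x⁻¹ * v * x⁻¹⁻¹) * k) * x⁻¹ := by group
        _ = x * k * x⁻¹ * v := by rw [h2]; group
    intro x hx
    rw [mem_normalizer_iff]
    intro k
    refine ⟨key x hx.1 k, fun hk => ?_⟩
    have h1 := key x⁻¹ (inv_mem hx.1) _ hk
    have h2 : x⁻¹ * (x * k * x⁻¹) * x⁻¹⁻¹ = k := by group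
    rwa [h2] at h1
  obtain ⟨s, hs, c, hc, rfl⟩ := FactsPlus.exists_sc S hSP hKP hn (fun x hx => by
    obtain ⟨σ, h1⟩ := A.act x hx.1
    have h0 := st_four σ (z_fix A h1 (mem_centralizer_singleton_iff.1 hx.2))
    refine ⟨2, pow_mem hx.1 _, mem_centralizer_iff.2 fun v hv => ?_⟩
    have h2 : Ovz W (x * (x * (x * x))) 1 := by
      rw [← h0]
      exact Ovz.mul h1 (Ovz.mul h1 (Ovz.mul h1 h1))
    have h3 : x ^ 2 ^ 2 = x * (x * (x * x)) := by
      rw [show 2 ^ 2 = 4 from rfl, pow_succ, pow_succ, pow_two, mul_assoc, mul_assoc]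
    rw [h3]
    exact (comm_of_one A h2 v hv).symm) (x := m) ⟨hm, mem_centralizer_singleton_iff.2 hmz⟩
  exact ⟨s, hs, c, hc.1, fun v hv => (mem_centralizer_iff.1 hc.2 v hv).symm, rfl⟩

/-- `S` induces `D₈` -/
theorem exists_S (i j k : Bool) : ∃ s ∈ (S : Subgroup G), Ovz W s (st i j k) := by
  obtain ⟨m, hm, h1⟩ := A.full (st i j k)
  have h2 : m * W z0 = W z0 * m := by
    have h3 := A.conj_eq h1 z0
    rw [st_z0] at h3
    rwa [mul_inv_eq_iff_eq_mul] at h3
  obtain ⟨s, hs, c, hc, h3, rfl⟩ := stab h A hz m hm h2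
  refine ⟨s, hs, fun a b c' d hd => ?_⟩
  rw [← h1 a b c' d hd]
  have h5 := h3 _ (A.mem (tb a b c' d))
  calc s * W (tb a b c' d) * s⁻¹ = s * (W (tb a b c' d) * c) * c⁻¹ * s⁻¹ := by group
    _ = s * c * W (tb a b c' d) * (s * c)⁻¹ := by rw [← h5]; group

/-- `|S : C_S(V)| = 8` -/
theorem ind :
    ((S : Subgroup G) ⊓ centralizer (zl (S : Subgroup G) P : Set G)).relIndex (S : Subgroup G) = 8 := by
  have hex : ∀ s : ↥(S : Subgroup G), ∃ a : Bool × Bool × Bool, Ovz W s.1 (st a.1 a.2.1 a.2.2) := by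
    rintro ⟨s, hs⟩
    obtain ⟨σ, h1⟩ := A.act s (h.S_le hs)
    obtain ⟨i, j, k, rfl⟩ := st_of σ (z_fix A h1 (S_comm hz hs))
    exact ⟨(i, j, k), h1⟩
  choose f hf using hex
  have hrel : ∀ s t : ↥(S : Subgroup G), f s = f t ↔
      s⁻¹ * t ∈ ((S : Subgroup G) ⊓ centralizer (zl (S : Subgroup G) P : Set G)).subgroupOf
        (S : Subgroup G) := by
    intro s t
    rw [mem_subgroupOf]
    constructor
    · intro he
      refine ⟨(s⁻¹ * t).2, mem_centralizer_iff.2 fun v hv => (comm_of_one A ?_ v hv).symm⟩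
      have h1 := hf s
      have h2 := hf t
      rw [← he] at h2
      have h3 := h1.inv.mul h2
      rw [inv_mul_cancel] at h3
      exact h3
    · intro hm
      have h1 : Ovz W (s.1⁻¹ * t.1) 1 :=
        one_of_comm A fun v hv => (mem_centralizer_iff.1 hm.2 v hv).symm
      have h2 : Ovz W t.1 (st (f s).1 (f s).2.1 (f s).2.2) := by
        have h3 := (hf s).mul h1
        rwa [mul_one, mul_inv_cancel_left] at h3
      obtain ⟨e1, e2, e3⟩ := st_inj _ _ _ _ _ _ (ovz_unique A h2 (hf t))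
      exact Prod.ext e1 (Prod.ext e2 e3)
  rw [relIndex, Subgroup.index]
  have hN : Nat.card (↥(S : Subgroup G) ⧸
      ((S : Subgroup G) ⊓ centralizer (zl (S : Subgroup G) P : Set G)).subgroupOf (S : Subgroup G)) =
      Nat.card (Bool × Bool × Bool) := by
    apply Nat.card_eq_of_bijective (fun q => Quotient.liftOn' q f fun s t hst =>
      (hrel s t).2 (QuotientGroup.leftRel_apply.1 hst))
    constructor
    · intro q r
      refine Quotient.inductionOn₂' q r fun s t he => ?_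
      exact Quotient.sound' (QuotientGroup.leftRel_apply.2 ((hrel s t).1 he))
    · intro a
      obtain ⟨s, hs, h1⟩ := exists_S h A hz a.1 a.2.1 a.2.2
      refine ⟨Quotient.mk'' ⟨s, hs⟩, ?_⟩
      show f ⟨s, hs⟩ = a
      obtain ⟨e1, e2, e3⟩ := st_inj _ _ _ _ _ _ (ovz_unique A (hf ⟨s, hs⟩) h1)
      exact Prod.ext e1 (Prod.ext e2 e3)
  rw [hN, Nat.card_eq_fintype_card]
  rfl

omit h in
theorem CC_eq : CC (S : Subgroup G) = centralizer ({W z0} : Set G) := by
  change centralizer (zc (S : Subgroup G) : Set G) = _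
  rw [hz, centralizer_zpowers_eq]

omit h in
theorem EE_eq :
    EE (S : Subgroup G) P = zl (S : Subgroup G) P ⊓ o2 (centralizer ({W z0} : Set G)) := by
  change zl (S : Subgroup G) P ⊓ o2 (CC (S : Subgroup G)) = _
  rw [CC_eq A hz]

/-- **the facts on (α)** -/
theorem facts (hE : (EE (S : Subgroup G) P).relIndex (zl (S : Subgroup G) P) = 2) :
    Facts P (zl (S : Subgroup G) P) (zl (S : Subgroup G) P ⊓ o2 (centralizer ({W z0} : Set G)))
      (W z0) := by
  rw [← EE_eq A hz]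
  refine A.facts inf_le_left hE fun m hm hmz e he => ?_
  refine ⟨(mem_normalizer_iff.1 (Cfg.P_norm_V S P hm) e).1 he.1, ?_⟩
  have hmC : m ∈ CC (S : Subgroup G) := by
    rw [CC_eq A hz]
    exact mem_centralizer_singleton_iff.2 hmz
  exact (mem_normalizer_iff.1 (ZN.ChoiceSit.le_normalizer_o2 _ hmC) e).1 he.2

end main

end Cfsg.Agent.Omega.NOne.AG.FactsNat
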