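import Cfsg.Agent.Omega.NOne.AG.TwoLab
import Cfsg.Agent.Omega.NOne.AG.FiveGrp

/-!
# THEOREM D0ag (bb #15001): `Conf` + `Lab` gives the situation `Five` of section (5)

* `QG h x` : `Qs i` for the point `i` with `z i = x`; `QG_eq : QG h (z i) = Qs i`;
* `Lab.ys : Ys y`, `Lab.mv`, `Lab.ov`;
* `Lab.V_code` : the elements of `V` are the `ph y w`, `w` even; `Lab.Dl_eq : h.Dl = FiveDl.Dl y`;
* `Lab.five : Five P h.T0 y (QG h)`.
-/

set_option autoImplicit false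

namespace Cfsg.Agent.Omega.NOne.AG

open Subgroup Cfsg Cfsg.Agent.ZN
open Cfsg.Agent.Omega.NOne.AG.FiveDl (Ys ph ac par Yt)

universe u

variable {G : Type u} [Group G] {ι : Type*}

section

variable {P V T : Subgroup G} {z : ι → G} {opp : ι → ι → Prop} {C Q QF Qs : ι → Subgroup G}

/-- `Qs i` as a function of `z i` -/
def QG (_h : Conf P V T z opp C Q QF Qs) (x : G) : Subgroup G := ⨆ i : {i : ι // z i = x}, Qs i.1

theorem QG_eq (h : Conf P V T z opp C Q QF Qs) (i : ι) : QG h (z i) = Qs i := by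
  refine le_antisymm (iSup_le fun ⟨j, hj⟩ x hx => ?_)
    (le_iSup (fun j : {j : ι // z j = z i} => Qs j.1) ⟨i, rfl⟩)
  have h1 := h.eqQs 1 (one_mem _) j i (by rw [hj]; group) x hx
  simpa using h1

/-- `z i = z j` gives `Q i ≤ Q j` -/
theorem Q_of_z (h : Conf P V T z opp C Q QF Qs) {i j : ι} (hij : z i = z j) {x : G} (hx : x ∈ Q i) :
    x ∈ Q j := by
  have h1 := h.eqQ 1 (one_mem _) i j (by rw [hij]; group) x hx
  simpa using h1

end

namespace Lab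

variable {P V T : Subgroup G} {z : ι → G} {opp : ι → ι → Prop} {C Q QF Qs : ι → Subgroup G}
variable {h : Conf P V T z opp C Q QF Qs} {y : Fin 5 → Fin 5 → G}
  {pt : Fin 5 → Fin 5 → Fin 5 → Fin 5 → ι}

theorem d5 {a b c d e : Fin 5} (hD : FiveMod.D5 a b c d e) : D5 a b c d e :=
  ⟨hD.1, hD.2.1.symm, hD.2.2.1.symm, hD.2.2.2.1.symm, hD.2.2.2.2.symm⟩

variable (L : Lab h y pt)
include L

theorem ys : Ys y where
  sym := L.symm
  sq := L.sq
  comm := L.comm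
  rel := fun a b c d e hD => by
    obtain ⟨⟨h1, h2, h3, h4, h5, h6⟩, h7, h8, h9, h10⟩ := hD
    have h0 := L.rel b a d e c
      ⟨⟨h1.symm, h5, h8, h3, h7, h10⟩, h4.symm, h2.symm, h6, h9⟩
    rw [L.symm a b, h0, mul_assoc, L.sq a c h2, mul_one]
  zne := fun a b c d hD => by
    rw [← L.z_eq a b c d hD]
    exact h.ne_one _

omit L in
/-- the forms of `Ov` -/
theorem ov {σ : Equiv.Perm (Fin 5)} {m : G} (hm : Ov P y σ m) : FiveDl.Ov y m σ := hm.2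

theorem mv (a b : Fin 5) : ∃ x, FiveDl.Ov y x (Equiv.swap a b) := by
  obtain ⟨m, hm⟩ := L.full (Equiv.swap a b)
  exact ⟨m, hm.2⟩

theorem ph_V {w : ℕ} (hw : w < 32) (hp : par w = false) : ph y w ∈ V := by
  by_cases h0 : w = 0
  · rw [h0, FiveDl.ph_zero]; exact one_mem _
  · obtain ⟨a, b, c, d, hD, rfl⟩ := FiveDl.even_cases w hw h0 hp
    rw [← L.ys.mul, L.ys.yt hD.1, L.ys.yt hD.2.2.2.2.2, ← L.z_eq a b c d hD]
    exact h.zV _

theorem ph_inj {w w' : ℕ} (hw : w < 32) (hw' : w' < 32) (e : ph y w = ph y w') : w = w' :=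
  L.ys.inj (fun a b _ => L.mv a b) hw hw' e

/-- the elements of `V` are the `ph y w`, `w` even -/
theorem V_code {v : G} (hv : v ∈ V) : ∃ w < 32, par w = false ∧ ph y w = v := by
  classical
  have : Finite V := Nat.finite_of_card_ne_zero (by rw [h.cardV]; norm_num)
  let f : {w : Fin 32 // par w = false} → V := fun w => ⟨ph y w.1, L.ph_V w.1.2 w.2⟩
  have hf : Function.Injective f := by
    rintro ⟨w, hw⟩ ⟨w', hw'⟩ e
    have h1 := L.ph_inj w.2 w'.2 (congrArg Subtype.val e)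
    exact Subtype.ext (Fin.ext h1)
  have hc : Nat.card {w : Fin 32 // par w = false} = 16 := by
    rw [Nat.card_eq_fintype_card]
    decide
  have hb := (Nat.bijective_iff_injective_and_card f).2 ⟨hf, by rw [hc, h.cardV]⟩
  obtain ⟨⟨w, hw⟩, e⟩ := hb.2 ⟨v, hv⟩
  exact ⟨w, w.2, hw, congrArg Subtype.val e⟩

theorem V_le : V ≤ FiveDl.Dl y := fun v hv => by
  obtain ⟨w, hw, -, rfl⟩ := L.V_code hv
  exact L.ys.ph_mem hw

/-- `Δ = ⟨y_ab⟩` -/
theorem Dl_eq : h.Dl = FiveDl.Dl y := by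
  refine le_antisymm (fun x hx => ?_) ?_
  · rcases (L.mem_iff 0 1 (by decide) x).1 hx with h1 | h1
    · exact L.V_le h1
    · have h2 := mul_mem (L.V_le h1) (FiveDl.y_mem (y := y) (a := 0) (b := 1) (by decide))
      rwa [mul_assoc, L.sq 0 1 (by decide), mul_one] at h2
  · rw [FiveDl.Dl, closure_le]
    rintro _ ⟨a, b, hab, rfl⟩
    exact L.y_mem_Dl hab

/-- an element over `1` commutes with `Δ` -/
theorem comm_of_one {x δ : G} (hx : FiveDl.Ov y x 1) (hδ : δ ∈ FiveDl.Dl y) : x * δ = δ * x := by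
  obtain ⟨w, -, rfl⟩ := L.ys.mem_iff.1 hδ
  have h1 := L.ys.conj hx w
  have h2 : ph y (ac 1 w) = ph y w := by
    have := L.ys.conj (FiveDl.Ov.one y) w
    simpa using this.symm
  rw [h2] at h1
  calc x * ph y w = x * ph y w * x⁻¹ * x := by group
    _ = ph y w * x := by rw [h1]

theorem comm_V {x : G} (hx : FiveDl.Ov y x 1) (v : G) (hv : v ∈ V) : x * v = v * x :=
  L.comm_of_one hx (L.V_le hv)

theorem QG' {a b c d : Fin 5} (hD : D4 a b c d) : QG h (y a b * y c d) = Qs (pt a b c d) := by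
  rw [← L.z_eq a b c d hD, QG_eq]

omit L in
theorem Tt_mem {i : ι} {x : G} (hx : x ∈ Qs i) (hxT : x ∈ h.T0) : x ∈ h.Tt i :=
  h.mem_Tt_of_Qs hx (h.T0_le_T hxT)

/-- `Tt i = (Qs i ∩ T₀) ⟨y_ab⟩` -/
theorem Tt_split [Finite G] {a b c d : Fin 5} (hD : D4 a b c d) {t : G} (ht : t ∈ h.Tt (pt a b c d)) :
    ∃ u ∈ Qs (pt a b c d), ∃ δ ∈ FiveDl.Dl y, u ∈ h.T0 ∧ t = u * δ := by
  obtain ⟨w, hw, e⟩ := L.QF_eq hD (h.Tt_QF ht)
  rcases e with rfl | rfl
  · exact ⟨t, hw, 1, one_mem _, h.Tt_le_T0 _ ht, (mul_one t).symm⟩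
  · refine ⟨w, hw, y a b, FiveDl.y_mem hD.1, ?_, rfl⟩
    have h1 : w ∈ T := by
      have h2 := mul_mem (h.Tt_T _ ht) (inv_mem (L.y_mem_T hD.1))
      rwa [mul_inv_cancel_right] at h2
    exact h.Tt_le_T0 _ (h.mem_Tt_of_Qs hw h1)

theorem opp1 {a b c d e : Fin 5} (hD : D5 a b c d e) : opp (pt a b c d) (pt b c d e) := by
  rw [L.opp_iff a b c d e hD]; tauto

omit L in
/-- `V = E_i E_j` for opposite points -/
theorem V_split (h : Conf P V T z opp C Q QF Qs) {i j : ι} (hij : opp i j) {v : G} (hv : v ∈ V) :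
    ∃ e ∈ V, e ∈ Q i ∧ e⁻¹ * v ∈ Q j := by
  have hzj := (h.opp_iff i j).1 hij
  have hzi := (h.opp_iff j i).1 (h.symm hij)
  by_cases h1 : v ∈ Q j
  · exact ⟨1, one_mem _, one_mem _, by rwa [inv_one, one_mul]⟩
  · refine ⟨z i, h.zV i, h.z_mem_Q i, ?_⟩
    rw [h.zinv]
    exact h.VQ2 j _ (h.zV i) _ hv hzi h1

/-- **the situation of section (5)** -/
theorem five [Finite G] : FiveGrp.Five P h.T0 y (QG h) where
  ys := L.ys
  Dl_le := by
    rw [← L.Dl_eq]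
    intro x hx
    have key : ∀ v ∈ V, v ∈ h.T0 := by
      intro v hv
      obtain ⟨e, he, h1, h2⟩ := V_split h (L.opp1 (a := 0) (b := 1) (c := 2) (d := 3) (e := 4) (by decide)) hv
      have h3 : v = e * (e⁻¹ * v) := by group
      rw [h3]
      exact mul_mem (h.Tt_le_T0 _ (h.mem_Tt.2 ⟨h.VT he, h1⟩))
        (h.Tt_le_T0 _ (h.mem_Tt.2 ⟨mul_mem (inv_mem (h.VT he)) (h.VT hv), h2⟩))
    rcases (L.mem_iff 0 1 (by decide) x).1 hx with h1 | h1
    · exact key x h1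
    · have hy : y 0 1 ∈ h.T0 :=
        h.Tt_le_T0 _ (h.B_Tt _ (L.y_mem_B (a := 0) (b := 1) (c := 2) (d := 3) (by decide)))
      have h2 := mul_mem (key _ h1) hy
      rwa [mul_assoc, L.sq 0 1 (by decide), mul_one] at h2
  T0_le := h.T0_le_T.trans h.TP
  T0_nor := fun x hx t ht => norm_conj h.T0_norm hx ht
  T0_cent := fun t ht a b hab => L.y_T hab (h.T0_le_T ht)
  QP := fun a b c d hD => by
    rw [L.QG' hD]; exact h.QsP _
  cjQ := fun x hx a b c d hD q hq => by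
    rw [L.QG' hD] at hq
    obtain ⟨j, hj⟩ := h.perm x hx (pt a b c d)
    rw [← L.z_eq a b c d hD, hj, QG_eq]
    exact h.eqQs x hx _ j hj q hq
  «over» := fun a b c d hD q hq => by
    rw [L.QG' hD] at hq
    rcases L.Qs_ov a b c d hD q hq with h1 | h1 | h1 | h1
    · exact Or.inl h1.2
    · exact Or.inr (Or.inl h1.2)
    · exact Or.inr (Or.inr (Or.inl h1.2))
    · exact Or.inr (Or.inr (Or.inr h1.2))
  ex := fun a b c d hD => by
    rw [L.QG' hD]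
    obtain ⟨x, hx, h1⟩ := L.Qs_ex a b c d hD
    exact ⟨x, hx, h1.2⟩
  ker := fun a b c d hD q hq h1 => by
    rw [L.QG' hD] at hq
    exact h.Tt_le_T0 _ (h.mem_Tt_of_Qs hq (h.T_of_comm hq fun v hv _ => L.comm_V h1 v hv))
  comm := fun a b c d hD q hq q' hq' => by
    rw [L.QG' hD] at hq hq'
    rw [← L.z_eq a b c d hD]
    rcases h.Qs_comm hq hq' with h1 | h1
    · left; rw [h1]; group
    · right
      calc q * q' * q⁻¹ * q'⁻¹ = z (pt a b c d) * (q' * q) * q⁻¹ * q'⁻¹ := by rw [h1]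
        _ = z (pt a b c d) := by group
  sq := fun a b c d hD q hq => by
    rw [L.QG' hD] at hq
    rw [← L.z_eq a b c d hD]
    exact h.sq_Qs hq
  gen := fun a b c d e hD t ht => by
    have hD' := d5 hD
    obtain ⟨⟨h1, h2, h3, h4, h5, h6⟩, h7, h8, h9, h10⟩ := hD
    have hE : D4 b c d e := ⟨h4, h5, h8, h6, h9, h10⟩
    rw [L.QG' ⟨h1, h2, h3, h4, h5, h6⟩, L.QG' hE]
    rw [← h.T0_eq (L.opp1 hD'), mem_sup_iff (fun x hx y hy =>
      norm_conj (h.Tt_norm _) (h.Tt_T _ hx) hy)] at ht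
    obtain ⟨x, hx, x', hx', rfl⟩ := ht
    obtain ⟨u, hu, δ, hδ, hu0, rfl⟩ := L.Tt_split ⟨h1, h2, h3, h4, h5, h6⟩ hx
    obtain ⟨v, hv, δ', hδ', hv0, rfl⟩ := L.Tt_split hE hx'
    refine ⟨u, hu, v, hv, δ * δ', mul_mem hδ hδ', hu0, hv0, ?_⟩
    have hc : v * δ = δ * v := by
      have := L.nonempty
      exact h.T_Dl (h.T0_le_T hv0) (by rw [L.Dl_eq]; exact hδ)
    calc u * δ * (v * δ') = u * (δ * v) * δ' := by group
      _ = u * v * (δ * δ') := by rw [← hc]; group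
  dis := fun a b c d e hD u hu hu0 v hv hv0 huv => by
    have := L.nonempty
    have hD' := d5 hD
    obtain ⟨⟨h1, h2, h3, h4, h5, h6⟩, h7, h8, h9, h10⟩ := hD
    have hE : D4 b c d e := ⟨h4, h5, h8, h6, h9, h10⟩
    have hF : D4 a b c d := ⟨h1, h2, h3, h4, h5, h6⟩
    rw [L.QG' hF] at hu
    rw [L.QG' hE] at hv
    have hij := L.opp1 hD'
    rw [← L.Dl_eq] at huv ⊢
    -- `u⁻¹ v = δ δ'` with `δ ∈ Tt i`, `δ' ∈ Tt j`, both in `Δ`
    obtain ⟨δ, hδ, hδi, δ', hδ', hδj, e'⟩ : ∃ δ ∈ h.Dl, δ ∈ h.Tt (pt a b c d) ∧ ∃ δ' ∈ h.Dl,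
        δ' ∈ h.Tt (pt b c d e) ∧ u⁻¹ * v = δ * δ' := by
      have key : ∀ v' ∈ V, ∃ δ ∈ h.Dl, δ ∈ h.Tt (pt a b c d) ∧ ∃ δ' ∈ h.Dl,
          δ' ∈ h.Tt (pt b c d e) ∧ v' = δ * δ' := by
        intro v' hv'
        obtain ⟨x, hx, hx1, hx2⟩ := V_split h hij hv'
        have hx3 : x⁻¹ * v' ∈ V := mul_mem (inv_mem hx) hv'
        exact ⟨x, h.V_le_Dl hx, h.mem_Tt.2 ⟨h.VT hx, hx1⟩, x⁻¹ * v', h.V_le_Dl hx3,
          h.mem_Tt.2 ⟨h.VT hx3, hx2⟩, by group⟩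
      rcases (L.mem_iff a b h1 _).1 huv with h11 | h11
      · exact key _ h11
      · obtain ⟨δ, hδ, hδi, δ', hδ', hδj, e'⟩ := key _ h11
        refine ⟨y a b * δ, mul_mem (L.y_mem_Dl h1) hδ,
          mul_mem (h.B_Tt _ (L.y_mem_B hF)) hδi, δ', hδ', hδj, ?_⟩
        have hc : u⁻¹ * v * y a b = y a b * (u⁻¹ * v) :=
          L.y_T h1 (mul_mem (inv_mem (h.T0_le_T hu0)) (h.T0_le_T hv0))
        rw [mul_assoc, ← e', hc, ← mul_assoc, L.sq a b h1, one_mul]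
    have hui : u * δ ∈ h.Tt (pt a b c d) := mul_mem (h.mem_Tt_of_Qs hu (h.T0_le_T hu0)) hδi
    have huj : u * δ ∈ h.Tt (pt b c d e) := by
      have e1 : u * δ = v * δ'⁻¹ := by
        have e2 : v = u * (u⁻¹ * v) := by group
        rw [e2, e']; group
      rw [e1]
      exact mul_mem (h.mem_Tt_of_Qs hv (h.T0_le_T hv0)) (inv_mem hδj)
    have h12 := h.inter_Dl hij hui huj
    have h13 := mul_mem h12 (inv_mem hδ)
    rwa [mul_inv_cancel_right] at h13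
  nd := fun a b c d hD u hu hu0 hc => by
    rw [L.QG' hD] at hu hc
    rw [← L.Dl_eq]
    obtain ⟨e, he, heQ, hB⟩ := h.dualE (h.QsQF _ hu) fun w hw hwT =>
      hc w hw (h.Tt_le_T0 _ (h.mem_Tt_of_Qs hw hwT))
    have hue : u * e ∈ h.Dl := by
      rcases (L.B_eq hD).1 hB with h1 | h1 | h1 | h1 <;> rw [h1]
      · exact one_mem _
      · exact h.V_le_Dl (h.zV _)
      · exact L.y_mem_Dl hD.1
      · exact L.y_mem_Dl hD.2.2.2.2.2
    have h2 := mul_mem hue (inv_mem (h.V_le_Dl he))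
    rwa [mul_inv_cancel_right] at h2

end Lab

end Cfsg.Agent.Omega.NOne.AG
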