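import Cfsg.Agent.Omega.NOne.LemmaT

/-!
# NO-1, D0ag (#15001): the stabiliser of a chain

`C` of characteristic 2 (`C_C(O₂(C)) ≤ O₂(C)`).  An element of `C` centralising the factors of a chain
`O₂(C) = A₀ ≥ A₁ ≥ … ≥ A_n = 1` of normal subgroups of `C` lies in `O₂(C)`.
-/

set_option autoImplicit false

namespace Cfsg.Agent.Omega.NOne.AG.K

open Subgroup Cfsg Cfsg.Agent.MinSimple.VModule Cfsg.Agent.MinSimple.Basic
open Cfsg.Agent.ZN (o2)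
open Cfsg.Agent.Omega.NOne

universe u

variable {G : Type u} [Group G]

/-- The elements of `C` moving the elements of `A` by elements of `B`. -/
def st (C A B : Subgroup G) (hB : ∀ c ∈ C, ∀ b ∈ B, c * b * c⁻¹ ∈ B) : Subgroup G where
  carrier := {g | g ∈ C ∧ ∀ a ∈ A, g * a * g⁻¹ * a⁻¹ ∈ B}
  one_mem' := ⟨one_mem _, fun u _ => by simp⟩
  mul_mem' := by
    rintro a b ⟨ha, ha'⟩ ⟨hb, hb'⟩
    refine ⟨mul_mem ha hb, fun x hx => ?_⟩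
    have e : a * b * x * (a * b)⁻¹ * x⁻¹ =
        (a * (b * x * b⁻¹ * x⁻¹) * a⁻¹) * (a * x * a⁻¹ * x⁻¹) := by group
    rw [e]
    exact mul_mem (hB a ha _ (hb' x hx)) (ha' x hx)
  inv_mem' := by
    rintro a ⟨ha, ha'⟩
    refine ⟨inv_mem ha, fun x hx => ?_⟩
    have e : a⁻¹ * x * a⁻¹⁻¹ * x⁻¹ = a⁻¹ * (a * x * a⁻¹ * x⁻¹)⁻¹ * a⁻¹⁻¹ := by group
    rw [e]
    exact hB _ (inv_mem ha) _ (inv_mem (ha' x hx))

theorem mem_st {C A B : Subgroup G} {hB : ∀ c ∈ C, ∀ b ∈ B, c * b * c⁻¹ ∈ B} {g : G} :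
    g ∈ st C A B hB ↔ g ∈ C ∧ ∀ a ∈ A, g * a * g⁻¹ * a⁻¹ ∈ B := Iff.rfl

theorem st_conj {C A B : Subgroup G} {hB : ∀ c ∈ C, ∀ b ∈ B, c * b * c⁻¹ ∈ B}
    (hA : ∀ c ∈ C, ∀ a ∈ A, c * a * c⁻¹ ∈ A) {c g : G} (hc : c ∈ C) (hg : g ∈ st C A B hB) :
    c * g * c⁻¹ ∈ st C A B hB := by
  obtain ⟨h1, h2⟩ := mem_st.1 hg
  refine mem_st.2 ⟨mul_mem (mul_mem hc h1) (inv_mem hc), fun a ha => ?_⟩
  have h3 := hB c hc _ (h2 _ (hA _ (inv_mem hc) a ha))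
  have e : c * g * c⁻¹ * a * (c * g * c⁻¹)⁻¹ * a⁻¹ =
      c * (g * (c⁻¹ * a * c⁻¹⁻¹) * g⁻¹ * (c⁻¹ * a * c⁻¹⁻¹)⁻¹) * c⁻¹ := by group
  rw [e]
  exact h3

/-- **(K)**: the stabiliser in `C` (of characteristic 2) of a chain of normal subgroups from `O₂(C)` to `1`
lies in `O₂(C)`. -/
theorem mem_of_chain [Finite G] {C : Subgroup G} (hC : C ⊓ centralizer (o2 C : Set G) ≤ o2 C) (n : ℕ)
    (A : ℕ → Subgroup G) (h0 : A 0 = o2 C) (hn : A n = ⊥)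
    (hA : ∀ i, ∀ c ∈ C, ∀ a ∈ A i, c * a * c⁻¹ ∈ A i) (hle : ∀ i, A i ≤ o2 C) {g : G} (hg : g ∈ C)
    (h : ∀ i < n, ∀ a ∈ A i, g * a * g⁻¹ * a⁻¹ ∈ A (i + 1)) : g ∈ o2 C := by
  let B : Subgroup G := C ⊓ ⨅ i : Fin n, st C (A i) (A (i + 1)) (hA _)
  have hBst : ∀ x ∈ B, ∀ i < n, ∀ a ∈ A i, x * a * x⁻¹ * a⁻¹ ∈ A (i + 1) := by
    intro x hx i hi a ha
    have h1 := (mem_inf.1 hx).2
    rw [mem_iInf] at h1
    exact (mem_st.1 (h1 ⟨i, hi⟩)).2 a ha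
  have hBC : B ≤ C := inf_le_left
  -- a 2-power of an element of `B` centralises `A i`
  have key : ∀ j ≤ n, ∀ x ∈ B, ∃ k : ℕ, ∀ a ∈ A (n - j), x ^ 2 ^ k * a = a * x ^ 2 ^ k := by
    intro j
    induction j with
    | zero =>
      intro _ x _
      refine ⟨0, fun a ha => ?_⟩
      rw [Nat.sub_zero, hn, mem_bot] at ha
      rw [ha, mul_one, one_mul]
    | succ j ih =>
      intro hj x hx
      obtain ⟨k, hk⟩ := ih (Nat.le_of_succ_le hj) x hx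
      have hxk : x ^ 2 ^ k ∈ B := pow_mem hx _
      have hp : IsPGroup 2 (A (n - j)) := (o2_isPGroup C).to_le (hle _)
      have e : n - (j + 1) + 1 = n - j := by omega
      have h1 : ∀ q ∈ A (n - (j + 1)), x ^ 2 ^ k * q * (x ^ 2 ^ k)⁻¹ * q⁻¹ ∈ A (n - j) := by
        intro q hq
        have := hBst _ hxk (n - (j + 1)) (by omega) q hq
        rwa [e] at this
      obtain ⟨l, hl⟩ := LemmaT.exists_pow_comm hp hk h1
      refine ⟨k + l, fun a ha => ?_⟩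
      rw [pow_add, pow_mul]
      exact hl a ha
  have hB : B ≤ o2 C := by
    refine le_o2 hBC ?_ ?_
    · rintro ⟨x, hx⟩
      obtain ⟨k, hk⟩ := key n le_rfl x hx
      rw [Nat.sub_self, h0] at hk
      have h2 : x ^ 2 ^ k ∈ o2 C :=
        hC ⟨pow_mem (hBC hx) _, mem_centralizer_iff.2 fun r hr => (hk r hr).symm⟩
      obtain ⟨l, hl⟩ := LemmaT.exists_pow_eq_one (o2_isPGroup C)
      refine ⟨k + l, Subtype.ext ?_⟩
      change x ^ 2 ^ (k + l) = 1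
      rw [pow_add, pow_mul]
      exact hl _ h2
    · have hconj : ∀ c ∈ C, ∀ x ∈ B, c * x * c⁻¹ ∈ B := by
        intro c hc x hx
        refine mem_inf.2 ⟨mul_mem (mul_mem hc (hBC hx)) (inv_mem hc), ?_⟩
        have h1 := (mem_inf.1 hx).2
        rw [mem_iInf] at h1 ⊢
        exact fun i => st_conj (hA _) hc (h1 i)
      intro c hc
      rw [mem_normalizer_iff]
      intro x
      refine ⟨hconj c hc x, fun hx => ?_⟩
      have h6 := hconj c⁻¹ (inv_mem hc) _ hx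
      have e : c⁻¹ * (c * x * c⁻¹) * c⁻¹⁻¹ = x := by group
      rwa [e] at h6
  refine hB (mem_inf.2 ⟨hg, ?_⟩)
  rw [mem_iInf]
  exact fun i => mem_st.2 ⟨hg, h i i.2⟩

section

variable [Finite G] {C : Subgroup G}

/-- Form with the normal subgroups given by a list: `l = [A₁, …, A_n]`. -/
theorem mem_of_list (hC : C ⊓ centralizer (o2 C : Set G) ≤ o2 C) (l : List (Subgroup G))
    (hA : ∀ A ∈ l, ∀ c ∈ C, ∀ a ∈ A, c * a * c⁻¹ ∈ A) (hle : ∀ A ∈ l, A ≤ o2 C) {g : G} (hg : g ∈ C)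
    (h : List.IsChain (fun A B : Subgroup G => ∀ a ∈ A, g * a * g⁻¹ * a⁻¹ ∈ B)
      (o2 C :: (l ++ [⊥]))) : g ∈ o2 C := by
  have hlen : (o2 C :: (l ++ [⊥])).length = l.length + 2 := by simp
  refine mem_of_chain hC (l.length + 1) (fun i => (o2 C :: (l ++ [⊥])).getD i ⊥) rfl ?_ ?_ ?_ hg ?_
  · simp
  · intro i c hc a ha
    by_cases hi : i < (o2 C :: (l ++ [⊥])).length
    · rw [List.getD_eq_getElem _ _ hi] at ha ⊢
      have hm := List.getElem_mem hi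
      rcases List.mem_cons.1 hm with h1 | h1
      · rw [h1] at ha ⊢
        exact (mem_normalizer_iff.1 (le_normalizer_o2 C hc) a).1 ha
      · rcases List.mem_append.1 h1 with h2 | h2
        · exact hA _ h2 c hc a ha
        · rw [List.mem_singleton] at h2
          rw [h2, mem_bot] at ha ⊢
          rw [ha, mul_one, mul_inv_cancel]
    · rw [List.getD_eq_default _ _ (not_lt.1 hi), mem_bot] at ha ⊢
      rw [ha, mul_one, mul_inv_cancel]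
  · intro i
    by_cases hi : i < (o2 C :: (l ++ [⊥])).length
    · rw [List.getD_eq_getElem _ _ hi]
      have hm := List.getElem_mem hi
      rcases List.mem_cons.1 hm with h1 | h1
      · rw [h1]
      · rcases List.mem_append.1 h1 with h2 | h2
        · exact hle _ h2
        · rw [List.mem_singleton] at h2
          rw [h2]
          exact bot_le
    · rw [List.getD_eq_default _ _ (not_lt.1 hi)]
      exact bot_le
  · intro i hi a ha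
    have h1 : i < (o2 C :: (l ++ [⊥])).length := by omega
    have h2 : i + 1 < (o2 C :: (l ++ [⊥])).length := by omega
    rw [List.getD_eq_getElem _ _ h1] at ha
    rw [List.getD_eq_getElem _ _ h2]
    exact (List.isChain_iff_getElem.1 h i h2) a ha

/-- Chain `O₂(C) ≥ R ≥ 1`. -/
theorem chain2 (hC : C ⊓ centralizer (o2 C : Set G) ≤ o2 C) {R : Subgroup G}
    (nR : ∀ c ∈ C, ∀ a ∈ R, c * a * c⁻¹ ∈ R) (hR : R ≤ o2 C) {g : G} (hg : g ∈ C)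
    (h1 : ∀ a ∈ o2 C, g * a * g⁻¹ * a⁻¹ ∈ R) (h2 : ∀ a ∈ R, g * a = a * g) : g ∈ o2 C := by
  refine mem_of_list hC [R] (by simpa using nR) (by simpa using hR) hg ?_
  simp only [List.cons_append, List.nil_append, List.isChain_cons_cons, List.isChain_singleton, and_true]
  refine ⟨h1, fun a ha => ?_⟩
  rw [h2 a ha, mem_bot]
  group

/-- Chain `O₂(C) ≥ R ≥ Z ≥ 1`. -/
theorem chain3 (hC : C ⊓ centralizer (o2 C : Set G) ≤ o2 C) {R Z : Subgroup G}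
    (nR : ∀ c ∈ C, ∀ a ∈ R, c * a * c⁻¹ ∈ R) (nZ : ∀ c ∈ C, ∀ a ∈ Z, c * a * c⁻¹ ∈ Z)
    (hR : R ≤ o2 C) (hZ : Z ≤ o2 C) {g : G} (hg : g ∈ C)
    (h1 : ∀ a ∈ o2 C, g * a * g⁻¹ * a⁻¹ ∈ R) (h2 : ∀ a ∈ R, g * a * g⁻¹ * a⁻¹ ∈ Z)
    (h3 : ∀ a ∈ Z, g * a = a * g) : g ∈ o2 C := by
  refine mem_of_list hC [R, Z] (by simpa using ⟨nR, nZ⟩) (by simpa using ⟨hR, hZ⟩) hg ?_
  simp only [List.cons_append, List.nil_append, List.isChain_cons_cons, List.isChain_singleton, and_true]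
  refine ⟨h1, h2, fun a ha => ?_⟩
  rw [h3 a ha, mem_bot]
  group

/-- Chain `O₂(C) ≥ R ≥ U ≥ Z ≥ 1`. -/
theorem chain4 (hC : C ⊓ centralizer (o2 C : Set G) ≤ o2 C) {R U Z : Subgroup G}
    (nR : ∀ c ∈ C, ∀ a ∈ R, c * a * c⁻¹ ∈ R) (nU : ∀ c ∈ C, ∀ a ∈ U, c * a * c⁻¹ ∈ U)
    (nZ : ∀ c ∈ C, ∀ a ∈ Z, c * a * c⁻¹ ∈ Z)
    (hR : R ≤ o2 C) (hU : U ≤ o2 C) (hZ : Z ≤ o2 C) {g : G} (hg : g ∈ C)
    (h1 : ∀ a ∈ o2 C, g * a * g⁻¹ * a⁻¹ ∈ R) (h2 : ∀ a ∈ R, g * a * g⁻¹ * a⁻¹ ∈ U)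
    (h3 : ∀ a ∈ U, g * a * g⁻¹ * a⁻¹ ∈ Z) (h4 : ∀ a ∈ Z, g * a = a * g) : g ∈ o2 C := by
  refine mem_of_list hC [R, U, Z] (by simpa using ⟨nR, nU, nZ⟩) (by simpa using ⟨hR, hU, hZ⟩) hg ?_
  simp only [List.cons_append, List.nil_append, List.isChain_cons_cons, List.isChain_singleton, and_true]
  refine ⟨h1, h2, h3, fun a ha => ?_⟩
  rw [h4 a ha, mem_bot]
  group

/-- Chain `O₂(C) ≥ R ≥ U ≥ W ≥ Z ≥ 1`. -/
theorem chain5 (hC : C ⊓ centralizer (o2 C : Set G) ≤ o2 C) {R U W Z : Subgroup G}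
    (nR : ∀ c ∈ C, ∀ a ∈ R, c * a * c⁻¹ ∈ R) (nU : ∀ c ∈ C, ∀ a ∈ U, c * a * c⁻¹ ∈ U)
    (nW : ∀ c ∈ C, ∀ a ∈ W, c * a * c⁻¹ ∈ W) (nZ : ∀ c ∈ C, ∀ a ∈ Z, c * a * c⁻¹ ∈ Z)
    (hR : R ≤ o2 C) (hU : U ≤ o2 C) (hW : W ≤ o2 C) (hZ : Z ≤ o2 C) {g : G} (hg : g ∈ C)
    (h1 : ∀ a ∈ o2 C, g * a * g⁻¹ * a⁻¹ ∈ R) (h2 : ∀ a ∈ R, g * a * g⁻¹ * a⁻¹ ∈ U)
    (h3 : ∀ a ∈ U, g * a * g⁻¹ * a⁻¹ ∈ W) (h4 : ∀ a ∈ W, g * a * g⁻¹ * a⁻¹ ∈ Z)
    (h5 : ∀ a ∈ Z, g * a = a * g) : g ∈ o2 C := by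
  refine mem_of_list hC [R, U, W, Z] (by simpa using ⟨nR, nU, nW, nZ⟩)
    (by simpa using ⟨hR, hU, hW, hZ⟩) hg ?_
  simp only [List.cons_append, List.nil_append, List.isChain_cons_cons, List.isChain_singleton, and_true]
  refine ⟨h1, h2, h3, h4, fun a ha => ?_⟩
  rw [h5 a ha, mem_bot]
  group

end

end Cfsg.Agent.Omega.NOne.AG.K
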