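import Cfsg.Agent.Omega.NOne.AG.Core
import Cfsg.Agent.Omega.NOne.AG.K
import Cfsg.Agent.Omega.NOne.AG.GData
import Cfsg.Agent.Involutions.BaerSuzuki

/-!
# D0ag: `Conf` gives the element `g` (`GD`); helper950
-/

set_option autoImplicit false

namespace Cfsg.Agent.Omega.NOne.AG.Conf

open Subgroup Cfsg Cfsg.Agent.ZN Cfsg.Agent.Omega.NOne.AG.GData

universe u

variable {G : Type u} [Group G] {ι : Type*}
variable {P V T : Subgroup G} {z : ι → G} {opp : ι → ι → Prop} {C Q QF Qs : ι → Subgroup G}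
variable (h : Conf P V T z opp C Q QF Qs)
include h

/-- `|V ∩ Q i| = 8` if `V ≰ Q i` -/
theorem card_VQ8 [Finite G] (i : ι) {v : G} (hv : v ∈ V) (hvQ : v ∉ Q i) : Nat.card ↥(V ⊓ Q i) = 8 := by
  have hidx : ((V ⊓ Q i).subgroupOf V).index = 2 := by
    rw [Subgroup.index_eq_two_iff]
    refine ⟨⟨v, hv⟩, fun b => ?_⟩
    rw [Subgroup.mem_subgroupOf, Subgroup.mem_subgroupOf, mem_inf, mem_inf, Subgroup.coe_mul]
    by_cases hb : (b : G) ∈ Q i
    · right
      refine ⟨⟨b.2, hb⟩, fun hc => hvQ ?_⟩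
      have h1 := mul_mem (inv_mem hb) hc.2
      rwa [inv_mul_cancel_left] at h1
    · left
      exact ⟨⟨mul_mem b.2 hv, h.VQ2 i b b.2 v hv hb hvQ⟩, fun hc => hb hc.2⟩
  have h3 := Subgroup.card_mul_index ((V ⊓ Q i).subgroupOf V)
  have h4 : Nat.card ((V ⊓ Q i).subgroupOf V) = Nat.card ↥(V ⊓ Q i) :=
    Nat.card_congr (Subgroup.subgroupOfEquivOfLe inf_le_left).toEquiv
  rw [hidx, h.cardV, h4] at h3
  omega

/-- **the element `g`** -/
theorem exists_g [Finite G] (i : ι) {v : G} (hv : v ∈ V) (hvQ : v ∉ Q i) :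
    ∃ g ∈ C i, GD (V ⊓ Q i) (z i) v g := by
  have hvC := h.VC i hv
  have hvv := h.Vsq v hv
  -- Baer–Suzuki
  obtain ⟨g, hgC, hg1, hgo, hgv⟩ : ∃ g ∈ C i, g ≠ 1 ∧ Odd (orderOf g) ∧ v * g * v⁻¹ = g⁻¹ := by
    have h1 : ¬ IsPGroup 2 (Subgroup.normalClosure {(⟨v, hvC⟩ : C i)} : Subgroup (C i)) := by
      intro hp
      apply hvQ
      rw [h.Qo2 i]
      have h2 : (Subgroup.normalClosure {(⟨v, hvC⟩ : C i)}).map (C i).subtype ≤ o2 (C i) := by
        refine Cfsg.Agent.MinSimple.VModule.le_o2 ?_ (hp.map _) ?_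
        · rintro _ ⟨x, -, rfl⟩; exact x.2
        · refine le_norm_of ?_
          rintro c hc _ ⟨x, hx, rfl⟩
          exact ⟨⟨c, hc⟩ * x * ⟨c, hc⟩⁻¹, Subgroup.Normal.conj_mem inferInstance x hx _, rfl⟩
      exact h2 ⟨⟨v, hvC⟩, Subgroup.subset_normalClosure rfl, rfl⟩
    obtain ⟨g, hg1, hgo, hgv⟩ := Involutions.BaerSuzuki.exists_odd_inverted (⟨v, hvC⟩ : C i) (Subtype.ext hvv) h1
    refine ⟨g, g.2, fun hc => hg1 (Subtype.ext hc), ?_, congrArg Subtype.val hgv⟩
    rwa [Subgroup.orderOf_coe]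
  set E : Subgroup G := V ⊓ Q i with hE
  have hmE : ∀ x, x ∈ E ↔ x ∈ V ∧ x ∈ Q i := fun x => mem_inf
  have hzE : z i ∈ E := (hmE _).2 ⟨h.zV i, h.z_mem_Q i⟩
  have hgz : g * z i = z i * g := h.Cz i g hgC
  have hvi : v⁻¹ = v := inv_eq_of_mul_eq_one_right hvv
  have hEab : ∀ a ∈ E, ∀ b ∈ E, a * b = b * a := fun a ha b hb => h.Vab a ((hmE a).1 ha).1 b ((hmE b).1 hb).1
  have hEsq : ∀ a ∈ E, a * a = 1 := fun a ha => h.Vsq a ((hmE a).1 ha).1
  have hvE : ∀ e ∈ E, v * e = e * v := fun e he => h.Vab v hv e ((hmE e).1 he).1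
  have hw : ∀ e ∈ E, g * e * g⁻¹ ∈ Qs i := fun e he =>
    norm_conj (h.nQs i) hgC (h.VQs i e ((hmE e).1 he).1 ((hmE e).1 he).2)
  have hQv : ∀ x ∈ Q i, v * x * v⁻¹ * x⁻¹ ∈ E := by
    intro x hx
    refine (hmE _).2 ⟨?_, ?_⟩
    · have h1 : x * v⁻¹ * x⁻¹ ∈ V := h.conj_V (h.QP i hx) (V.inv_mem hv)
      have h2 := mul_mem hv h1
      rwa [show v * (x * v⁻¹ * x⁻¹) = v * x * v⁻¹ * x⁻¹ by group] at h2
    · have h1 := inv_mem (h.VQc i x hx v hv)
      rwa [show (x * v * x⁻¹ * v⁻¹)⁻¹ = v * x * v⁻¹ * x⁻¹ by group] at h1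
  have hconjv : ∀ e ∈ E, v * (g * e * g⁻¹) * v⁻¹ = g⁻¹ * e * g := by
    intro e he
    have h1 : v * e * v⁻¹ = e := by rw [hvE e he]; group
    have h2 : v * g⁻¹ * v⁻¹ = g := by
      have : v * g⁻¹ * v⁻¹ = (v * g * v⁻¹)⁻¹ := by group
      rw [this, hgv, inv_inv]
    calc v * (g * e * g⁻¹) * v⁻¹ = (v * g * v⁻¹) * (v * e * v⁻¹) * (v * g⁻¹ * v⁻¹) := by group
      _ = g⁻¹ * e * g := by rw [hgv, h1, h2]
  -- `v` commuting with `g e g⁻¹` gives `g e = e g`
  have hcg : ∀ e ∈ E, v * (g * e * g⁻¹) = (g * e * g⁻¹) * v → g * e = e * g := by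
    intro e he hc
    have h1 : g⁻¹ * e * g = g * e * g⁻¹ := by
      rw [← hconjv e he, hc]; group
    refine comm_of_odd hgo ?_
    calc g * g * e = g * (g * e * g⁻¹) * g := by group
      _ = g * (g⁻¹ * e * g) * g := by rw [h1]
      _ = e * (g * g) := by group
  have hcE : ∀ e ∈ E, (∀ e' ∈ E, e' * (g * e * g⁻¹) = (g * e * g⁻¹) * e') → g * e = e * g := by
    intro e he hc
    have h1 : g * e * g⁻¹ ∈ T := h.T_of_comm (hw e he) fun x hx hxQ => (hc x ((hmE x).2 ⟨hx, hxQ⟩)).symm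
    exact hcg e he (h.TV _ h1 v hv).symm
  -- `g⁻² = v (g v g⁻¹)`
  have hg2 : g⁻¹ * g⁻¹ = v * (g * v * g⁻¹) := by
    calc g⁻¹ * g⁻¹ = (v * g * v⁻¹) * g⁻¹ := by rw [hgv]
      _ = v * (g * v * g⁻¹) := by rw [hvi]; group
  have hgo' : Odd (orderOf g⁻¹) := by rw [orderOf_inv]; exact hgo
  have hgi : ∀ {x : G}, g * x = x * g → g⁻¹ * x = x * g⁻¹ := fun {x} hx => by
    rw [inv_mul_eq_iff_eq_mul, ← mul_assoc, hx, mul_inv_cancel_right]
  -- `C_E(g) = ⟨z⟩`
  have hCE : ∀ e ∈ E, g * e = e * g → e = 1 ∨ e = z i := by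
    intro e₀ he₀ hge₀
    by_contra hcon
    push Not at hcon
    obtain ⟨hn1, hn2⟩ := hcon
    -- `g` centralises `E`
    have hall : ∀ e ∈ E, g * e = e * g := by
      intro e he
      by_contra hne
      set w := g * e * g⁻¹ with hwd
      have hww : w * w = 1 := by
        calc w * w = g * (e * e) * g⁻¹ := by rw [hwd]; group
          _ = 1 := by rw [hEsq e he]; group
      obtain ⟨d, hd, hdw⟩ : ∃ d ∈ E, ¬ d * w = w * d := by
        by_contra hc
        push Not at hc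
        exact hne (hcE e he hc)
      have hcw : ∀ x, x ∈ E → g * x = x * g → x * w = w * x := by
        intro x hx hgx
        have h1 : g⁻¹ * x = x * g⁻¹ := hgi hgx
        calc x * w = (x * g) * e * g⁻¹ := by rw [hwd]; group
          _ = g * (x * e) * g⁻¹ := by rw [← hgx]; group
          _ = g * e * (x * g⁻¹) := by rw [hEab x hx e he]; group
          _ = w * x := by rw [← h1, hwd]; group
      have hzw := hcw _ hzE hgz
      have he₀w := hcw _ he₀ hge₀
      set δ := v * w * v⁻¹ * w⁻¹ with hδd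
      have hδE : δ ∈ E := hQv w (h.QsQ i (hw e he))
      have hvw : v * w * v⁻¹ = δ * w := by rw [hδd]; group
      have hδw : δ * w = w * δ := by
        refine comm_of_sq (hEsq δ hδE) hww ?_
        rw [← hvw]
        calc v * w * v⁻¹ * (v * w * v⁻¹) = v * (w * w) * v⁻¹ := by group
          _ = 1 := by rw [hww]; group
      -- `C_E(w)` has order 4
      have hδ4 : δ = 1 ∨ δ = z i ∨ δ = e₀ ∨ δ = e₀ * z i := by
        by_contra hc
        push Not at hc
        obtain ⟨c1, c2, c3, c4⟩ := hc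
        have hsub : ({1, z i, e₀, e₀ * z i, δ} : Set G) ⊆ ((E ⊓ centralizer {w} : Subgroup G) : Set G) := by
          have m1 : z i ∈ E ⊓ centralizer {w} := ⟨hzE, mem_centralizer_singleton_iff.2 hzw⟩
          have m2 : e₀ ∈ E ⊓ centralizer {w} := ⟨he₀, mem_centralizer_singleton_iff.2 he₀w⟩
          have m3 : δ ∈ E ⊓ centralizer {w} := ⟨hδE, mem_centralizer_singleton_iff.2 hδw⟩
          rintro x (rfl | rfl | rfl | rfl | rfl)
          · exact one_mem _
          · exact m1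
          · exact m2
          · exact mul_mem m2 m1
          · exact m3
        have h7 : e₀ * z i ≠ 1 := fun hc => hn2 (by
          have : e₀ = (z i)⁻¹ := eq_inv_of_mul_eq_one_left hc
          rw [this, h.zinv])
        have h8 : e₀ * z i ≠ z i := fun hc => hn1 (by
          have : e₀ * z i = 1 * z i := by rw [one_mul]; exact hc
          exact mul_right_cancel this)
        have h9 : e₀ * z i ≠ e₀ := fun hc => h.ne_one i (by
          have : e₀ * z i = e₀ * 1 := by rw [mul_one]; exact hc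
          exact mul_left_cancel this)
        have h10 : ({1, z i, e₀, e₀ * z i, δ} : Set G).ncard = 5 := by
          rw [Set.ncard_insert_of_notMem, Set.ncard_insert_of_notMem, Set.ncard_insert_of_notMem,
            Set.ncard_insert_of_notMem, Set.ncard_singleton]
          · rw [Set.mem_singleton_iff]; exact fun hc => c4 hc.symm
          · rintro (hc | hc)
            · exact h9 hc.symm
            · rw [Set.mem_singleton_iff] at hc; exact c3 hc.symm
          · rintro (hc | hc | hc)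
            · exact hn2 hc.symm
            · exact h8 hc.symm
            · rw [Set.mem_singleton_iff] at hc; exact c2 hc.symm
          · rintro (hc | hc | hc | hc)
            · exact h.ne_one i hc.symm
            · exact hn1 hc.symm
            · exact h7 hc.symm
            · rw [Set.mem_singleton_iff] at hc; exact c1 hc.symm
        have h11 := Set.ncard_le_ncard hsub (Set.toFinite _)
        rw [h10, ← Nat.card_coe_set_eq] at h11
        have h12 : Nat.card ↥(E ⊓ centralizer {w}) ∣ Nat.card E := Subgroup.card_dvd_of_le inf_le_left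
        rw [h.card_VQ8 i hv hvQ] at h12
        have h13 : Nat.card ↥(E ⊓ centralizer {w}) = 8 := by
          have h14 : Nat.card ↥(E ⊓ centralizer {w}) ≤ 8 := Nat.le_of_dvd (by norm_num) h12
          have h15 : 5 ≤ Nat.card ↥(E ⊓ centralizer {w}) := h11
          interval_cases hn : Nat.card ↥(E ⊓ centralizer {w}) <;> first | rfl | (exfalso; revert h12; decide)
        have h14 : E ⊓ centralizer {w} = E :=
          Subgroup.eq_of_le_of_card_ge inf_le_left (by rw [h13, h.card_VQ8 i hv hvQ])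
        apply hdw
        rw [← h14] at hd
        exact mem_centralizer_singleton_iff.1 (mem_inf.1 hd).2
      have hgδ : g * δ = δ * g := by
        rcases hδ4 with h1 | h1 | h1 | h1
        · rw [h1, mul_one, one_mul]
        · rw [h1]; exact hgz
        · rw [h1]; exact hge₀
        · rw [h1, ← mul_assoc, hge₀, mul_assoc, hgz, mul_assoc]
      have hδ1 : δ = 1 := by
        refine eq_one_of_odd (g := g⁻¹) (w := w) hgo' (hgi hgδ) (hEsq δ hδE) ?_
        have h1 : (g * v * g⁻¹) * w * (g * v * g⁻¹)⁻¹ = w := by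
          calc (g * v * g⁻¹) * w * (g * v * g⁻¹)⁻¹ = g * (v * e) * v⁻¹ * g⁻¹ := by rw [hwd]; group
            _ = w := by rw [hvE e he, hwd]; group
        calc g⁻¹ * g⁻¹ * w * (g⁻¹ * g⁻¹)⁻¹ = v * ((g * v * g⁻¹) * w * (g * v * g⁻¹)⁻¹) * v⁻¹ := by rw [hg2]; group
          _ = δ * w := by rw [h1, hvw]
      rw [hδ1, one_mul] at hvw
      have hvw' : v * w = w * v := mul_inv_eq_iff_eq_mul.1 hvw
      exact hne (hcg e he hvw')
    -- so `g` centralises `Q i`
    have hgQ : g ∈ Q i := by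
      refine h.char2 i g hgC fun x hx => ?_
      have hn := fun {y : G} (hy : y ∈ Q i) => norm_conj (h.nQ i) (inv_mem hgC) hy
      have h1 : g⁻¹ * x * g ∈ Q i := by
        have := hn hx
        rwa [inv_inv] at this
      set ε := v * (g⁻¹ * x * g) * v⁻¹ * (g⁻¹ * x * g)⁻¹ with hεd
      have hε : ε ∈ E := hQv _ h1
      set ε' := v * x * v⁻¹ * x⁻¹ with hεd'
      have hε' : ε' ∈ E := hQv _ hx
      have h2 : (g * v * g⁻¹) * x * (g * v * g⁻¹)⁻¹ = ε * x := by
        calc (g * v * g⁻¹) * x * (g * v * g⁻¹)⁻¹ = g * (v * (g⁻¹ * x * g) * v⁻¹) * g⁻¹ := by group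
          _ = g * (ε * (g⁻¹ * x * g)) * g⁻¹ := by rw [hεd]; group
          _ = (g * ε) * g⁻¹ * x := by group
          _ = ε * x := by rw [hall ε hε]; group
      have h3 : g⁻¹ * g⁻¹ * x * (g⁻¹ * g⁻¹)⁻¹ = (ε * ε') * x := by
        calc g⁻¹ * g⁻¹ * x * (g⁻¹ * g⁻¹)⁻¹ = v * ((g * v * g⁻¹) * x * (g * v * g⁻¹)⁻¹) * v⁻¹ := by rw [hg2]; group
          _ = (v * ε) * x * v⁻¹ := by rw [h2]; group
          _ = ε * (v * x * v⁻¹) := by rw [hvE ε hε]; group
          _ = (ε * ε') * x := by rw [hεd']; group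
      have hm := mul_mem hε hε'
      have h4 : ε * ε' = 1 :=
        eq_one_of_odd (g := g⁻¹) (w := x) hgo' (hgi (hall _ hm)) (hEsq _ hm) h3
      rw [h4, one_mul] at h3
      have h5 : g⁻¹ * g⁻¹ * x = x * (g⁻¹ * g⁻¹) := mul_inv_eq_iff_eq_mul.1 h3
      have h6 := comm_of_odd hgo' h5
      rw [inv_mul_eq_iff_eq_mul] at h6
      calc g * x = (g * (x * g⁻¹)) * g := by group
        _ = x * g := by rw [← h6]
    -- odd order and 2-power order
    have hp : IsPGroup 2 (Q i) := by rw [h.Qo2 i]; exact Cfsg.Agent.MinSimple.VModule.o2_isPGroup _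
    obtain ⟨k, hk⟩ := hp ⟨g, hgQ⟩
    have hk' : g ^ 2 ^ k = 1 := congrArg Subtype.val hk
    have h7 : orderOf g ∣ 2 ^ k := orderOf_dvd_of_pow_eq_one hk'
    obtain ⟨m, -, hm⟩ := (Nat.dvd_prime_pow Nat.prime_two).1 h7
    rcases m with _ | m
    · rw [pow_zero] at hm
      exact hg1 (orderOf_eq_one_iff.1 hm)
    · rw [hm] at hgo
      rw [Nat.odd_iff, pow_succ] at hgo
      omega
  refine ⟨g, hgC, ?_⟩
  exact {
    z1 := h.ne_one i
    zE := hzE
    Eab := hEab
    Esq := hEsq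
    cardE := h.card_VQ8 i hv hvQ
    vv := hvv
    vE := hvE
    vg := hgv
    odd := hgo
    gz := hgz
    av := fun e he => hQv _ (h.QsQ i (hw e he))
    com := fun e he e' he' =>
      h.com i e (h.VQs i e ((hmE e).1 he).1 ((hmE e).1 he).2) _ (h.QsQF i (hw e' he'))
    ff := fun e he hc => hCE e he (hcE e he hc) }

end Cfsg.Agent.Omega.NOne.AG.Conf
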