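import Cfsg.Agent.Omega.NOne.AG.Lab

/-!
# THEOREM D0ag (bb #15001): relabelling

`Lab.relabel π`; `Lab.exists_base i` : a labelling with `i = pt 0 1 2 3`.
-/

set_option autoImplicit false

namespace Cfsg.Agent.Omega.NOne.AG

open Subgroup Cfsg Cfsg.Agent.ZN

universe u

variable {G : Type u} [Group G] {ι : Type*}

theorem D4.map {a b c d : Fin 5} (h : D4 a b c d) (π : Equiv.Perm (Fin 5)) :
    D4 (π a) (π b) (π c) (π d) := by
  obtain ⟨h1, h2, h3, h4, h5, h6⟩ := h
  refine ⟨?_, ?_, ?_, ?_, ?_, ?_⟩ <;> exact fun e => by simp_all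

theorem D5.map {a b c d m : Fin 5} (h : D5 a b c d m) (π : Equiv.Perm (Fin 5)) :
    D5 (π a) (π b) (π c) (π d) (π m) := by
  obtain ⟨h0, h1, h2, h3, h4⟩ := h
  refine ⟨h0.map π, ?_, ?_, ?_, ?_⟩ <;> exact fun e => by simp_all

theorem swap_map (π : Equiv.Perm (Fin 5)) (a b x : Fin 5) :
    Equiv.swap (π a) (π b) (π x) = π (Equiv.swap a b x) := by
  have := congrArg (fun f : Equiv.Perm (Fin 5) => f (π x)) (Equiv.swap_apply_apply π a b)
  simpa using this

theorem Ov.relabel {P : Subgroup G} {y : Fin 5 → Fin 5 → G} {σ σ' : Equiv.Perm (Fin 5)} {m : G}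
    (h : Ov P y σ m) (π : Equiv.Perm (Fin 5)) (hs : ∀ x, σ (π x) = π (σ' x)) :
    Ov P (fun a b => y (π a) (π b)) σ' m :=
  ⟨h.1, fun a b hab => by
    show m * y (π a) (π b) * m⁻¹ = y (π (σ' a)) (π (σ' b))
    rw [← hs, ← hs]
    exact h.2 _ _ fun e => hab (π.injective e)⟩

namespace Lab

variable {P V T : Subgroup G} {z : ι → G} {opp : ι → ι → Prop} {C Q QF Qs : ι → Subgroup G}
variable {h : Conf P V T z opp C Q QF Qs} {y : Fin 5 → Fin 5 → G}
  {pt : Fin 5 → Fin 5 → Fin 5 → Fin 5 → ι}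

theorem relabel (L : Lab h y pt) (π : Equiv.Perm (Fin 5)) :
    Lab h (fun a b => y (π a) (π b)) (fun a b c d => pt (π a) (π b) (π c) (π d)) where
  symm := fun a b => L.symm _ _
  ne_one := fun a b hab => L.ne_one _ _ fun e => hab (π.injective e)
  sq := fun a b hab => L.sq _ _ fun e => hab (π.injective e)
  comm := fun a b c d hab hcd => L.comm _ _ _ _ (fun e => hab (π.injective e))
    (fun e => hcd (π.injective e))
  inj := fun a b c d hab hcd e => by
    rcases L.inj _ _ _ _ (fun e => hab (π.injective e)) (fun e => hcd (π.injective e)) e with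
      ⟨h1, h2⟩ | ⟨h1, h2⟩
    · exact Or.inl ⟨π.injective h1, π.injective h2⟩
    · exact Or.inr ⟨π.injective h1, π.injective h2⟩
  z_eq := fun a b c d hD => L.z_eq _ _ _ _ (hD.map π)
  surj := fun i => by
    obtain ⟨a, b, c, d, hD, rfl⟩ := L.surj i
    refine ⟨π.symm a, π.symm b, π.symm c, π.symm d, hD.map π.symm, ?_⟩
    simp only [Equiv.apply_symm_apply]
  rel := fun a b c d m hD => L.rel _ _ _ _ _ (hD.map π)
  notV := fun a b hab => L.notV _ _ fun e => hab (π.injective e)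
  mem_iff := fun a b hab x => L.mem_iff _ _ (fun e => hab (π.injective e)) x
  B_iff := fun a b c d hD x hx => L.B_iff _ _ _ _ (hD.map π) x hx
  yQ := fun a b c d m hD => L.yQ _ _ _ _ _ (hD.map π)
  yQ' := fun a b c d m hD => L.yQ' _ _ _ _ _ (hD.map π)
  act := fun m hm => by
    obtain ⟨σ, hσ⟩ := L.act m hm
    exact ⟨π.symm * σ * π |> fun s => s, hσ.relabel π fun x => by simp⟩
  full := fun σ => by
    obtain ⟨m, hm⟩ := L.full (π * σ * π.symm)
    exact ⟨m, hm.relabel π fun x => by simp⟩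
  Qs_ov := fun a b c d hD x hx => by
    rcases L.Qs_ov _ _ _ _ (hD.map π) x hx with h1 | h1 | h1 | h1
    · exact Or.inl (h1.relabel π fun x => rfl)
    · exact Or.inr (Or.inl (h1.relabel π fun x => swap_map π a b x))
    · exact Or.inr (Or.inr (Or.inl (h1.relabel π fun x => swap_map π c d x)))
    · refine Or.inr (Or.inr (Or.inr (h1.relabel π fun x => ?_)))
      rw [Equiv.Perm.mul_apply, Equiv.Perm.mul_apply, swap_map, swap_map]
  Qs_ex := fun a b c d hD => by
    obtain ⟨x, hx, h1⟩ := L.Qs_ex _ _ _ _ (hD.map π)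
    exact ⟨x, hx, h1.relabel π fun x => swap_map π a b x⟩
  opp_iff := fun a b c d m hD i => L.opp_iff _ _ _ _ _ (hD.map π) i
  pt1 := fun a b c d hD => L.pt1 _ _ _ _ (hD.map π)
  pt2 := fun a b c d hD => L.pt2 _ _ _ _ (hD.map π)

theorem exists_perm : ∀ a b c d : Fin 5, D4 a b c d →
    ∃ π : Equiv.Perm (Fin 5), π 0 = a ∧ π 1 = b ∧ π 2 = c ∧ π 3 = d := by
  intro a b c d hD
  obtain ⟨m, hm⟩ : ∃ m, D5 a b c d m := by revert a b c d; decide
  have hinj : Function.Injective (![a, b, c, d, m] : Fin 5 → Fin 5) := by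
    revert a b c d m
    decide
  refine ⟨Equiv.ofBijective _ (Finite.injective_iff_bijective.1 hinj), ?_, ?_, ?_, ?_⟩ <;> rfl

/-- a labelling with `i = pt 0 1 2 3` -/
theorem exists_base (L : Lab h y pt) (i : ι) : ∃ π : Equiv.Perm (Fin 5),
    Lab h (fun a b => y (π a) (π b)) (fun a b c d => pt (π a) (π b) (π c) (π d)) ∧
    i = pt (π 0) (π 1) (π 2) (π 3) := by
  obtain ⟨a, b, c, d, hD, rfl⟩ := L.surj i
  obtain ⟨π, rfl, rfl, rfl, rfl⟩ := exists_perm a b c d hD
  exact ⟨π, L.relabel π, rfl⟩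

end Lab

end Cfsg.Agent.Omega.NOne.AG
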