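import Cfsg.Agent.Omega.NOne.AG.Base
import Cfsg.Agent.Omega.NOne.AG.FiveOf
import Cfsg.Agent.Omega.NOne.AG.LabRel
import Cfsg.Agent.Omega.NOne.AG.LemY
import Cfsg.Agent.Omega.NOne.AG.GOf

/-!
# THEOREM D0ag (#15001): LEMMA Y (4) on the structures `Base`, `Lab`; helper950

* `LabY.d8` : the permutations fixing `z_{01|23}`;
* `LabY.not_conj` : **LEMMA Y**: no `y a b` is conjugate to a `z i`.
-/

set_option autoImplicit false

namespace Cfsg.Agent.Omega.NOne.AG.LabY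

open Subgroup Cfsg Cfsg.Agent.ZN Cfsg.Agent.Omega.NOne.AG
open Cfsg.Agent.Omega.NOne.AG.FiveDl (Ys Yt ac ph par)

universe u

/-! ### permutations -/

theorem ext5 {σ τ : Equiv.Perm (Fin 5)} (h0 : σ 0 = τ 0) (h1 : σ 1 = τ 1) (h2 : σ 2 = τ 2) (h3 : σ 3 = τ 3)
    (h4 : σ 4 = τ 4) : σ = τ := by
  ext x
  fin_cases x
  · exact congrArg _ h0
  · exact congrArg _ h1
  · exact congrArg _ h2
  · exact congrArg _ h3
  · exact congrArg _ h4

/-- `(0 2)(1 3)` -/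
def tt : Equiv.Perm (Fin 5) := Equiv.swap 0 2 * Equiv.swap 1 3

/-- the eight tuples -/
def tups : List (Fin 5 × Fin 5 × Fin 5 × Fin 5 × Fin 5) :=
  [(0, 1, 2, 3, 4), (1, 0, 2, 3, 4), (0, 1, 3, 2, 4), (1, 0, 3, 2, 4),
    (2, 3, 0, 1, 4), (3, 2, 0, 1, 4), (2, 3, 1, 0, 4), (3, 2, 1, 0, 4)]

theorem tup : ∀ a b c d e : Fin 5, D5 a b c d e → Yt a b ^^^ Yt c d = 5 → (a, b, c, d, e) ∈ tups := by
  decide

/-- the stabiliser of `z_{01|23}` -/
theorem d8 {σ : Equiv.Perm (Fin 5)} (h : Yt (σ 0) (σ 1) ^^^ Yt (σ 2) (σ 3) = 5) :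
    (σ = 1 ∨ σ = Equiv.swap 0 1 ∨ σ = Equiv.swap 2 3 ∨ σ = Equiv.swap 0 1 * Equiv.swap 2 3) ∨
    (σ = tt ∨ σ = tt * Equiv.swap 0 1 ∨ σ = tt * Equiv.swap 2 3 ∨ σ = tt * (Equiv.swap 0 1 * Equiv.swap 2 3)) := by
  have hD : D5 (σ 0) (σ 1) (σ 2) (σ 3) (σ 4) := D5.map (show D5 0 1 2 3 4 by decide) σ
  have h5 := tup _ _ _ _ _ hD h
  simp only [tups, List.mem_cons, Prod.mk.injEq, List.not_mem_nil, or_false] at h5
  rcases h5 with h1 | h1 | h1 | h1 | h1 | h1 | h1 | h1 <;> obtain ⟨h0, h1, h2, h3, h4⟩ := h1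
  · exact Or.inl (Or.inl (ext5 h0 h1 h2 h3 h4))
  · exact Or.inl (Or.inr (Or.inl (ext5 (h0.trans (by decide)) (h1.trans (by decide)) (h2.trans (by decide))
      (h3.trans (by decide)) (h4.trans (by decide)))))
  · exact Or.inl (Or.inr (Or.inr (Or.inl (ext5 (h0.trans (by decide)) (h1.trans (by decide)) (h2.trans (by decide))
      (h3.trans (by decide)) (h4.trans (by decide))))))
  · exact Or.inl (Or.inr (Or.inr (Or.inr (ext5 (h0.trans (by decide)) (h1.trans (by decide)) (h2.trans (by decide))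
      (h3.trans (by decide)) (h4.trans (by decide))))))
  · exact Or.inr (Or.inl (ext5 (h0.trans (by decide)) (h1.trans (by decide)) (h2.trans (by decide))
      (h3.trans (by decide)) (h4.trans (by decide))))
  · exact Or.inr (Or.inr (Or.inl (ext5 (h0.trans (by decide)) (h1.trans (by decide)) (h2.trans (by decide))
      (h3.trans (by decide)) (h4.trans (by decide)))))
  · exact Or.inr (Or.inr (Or.inr (Or.inl (ext5 (h0.trans (by decide)) (h1.trans (by decide)) (h2.trans (by decide))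
      (h3.trans (by decide)) (h4.trans (by decide))))))
  · exact Or.inr (Or.inr (Or.inr (Or.inr (ext5 (h0.trans (by decide)) (h1.trans (by decide)) (h2.trans (by decide))
      (h3.trans (by decide)) (h4.trans (by decide))))))

variable {G : Type u} [Group G] {ι : Type*}

theorem o2_conj' {L : Subgroup G} {g x : G} (hg : g ∈ normalizer (L : Set G)) (hx : x ∈ o2 L) :
    g * x * g⁻¹ ∈ o2 L := by
  have h : (o2 L).map (MulAut.conj g).toMonoidHom ≤ o2 L := by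
    refine Cfsg.Agent.MinSimple.VModule.le_o2 ?_ ((Cfsg.Agent.MinSimple.VModule.o2_isPGroup L).map _)
      (le_norm_of ?_)
    · rintro _ ⟨y, hy, rfl⟩
      exact (mem_normalizer_iff.1 hg y).1 (Cfsg.Agent.MinSimple.VModule.o2_le L hy)
    · rintro y hy _ ⟨z, hz, rfl⟩
      have h1 : g⁻¹ * y * g ∈ L := (mem_normalizer_iff''.1 hg y).1 hy
      refine ⟨(g⁻¹ * y * g) * z * (g⁻¹ * y * g)⁻¹, ?_, ?_⟩
      · exact (mem_normalizer_iff.1 (Cfsg.Agent.MinSimple.VModule.le_normalizer_o2 L h1) z).1 hz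
      · change g * ((g⁻¹ * y * g) * z * (g⁻¹ * y * g)⁻¹) * g⁻¹ = y * (g * z * g⁻¹) * y⁻¹
        group
  exact h ⟨x, hx, rfl⟩

section

variable {P V T : Subgroup G} {z : ι → G} {opp : ι → ι → Prop} {C Q QF Qs : ι → Subgroup G}
variable {h : Conf P V T z opp C Q QF Qs} {y : Fin 5 → Fin 5 → G}
  {pt : Fin 5 → Fin 5 → Fin 5 → Fin 5 → ι}
variable (L : Lab h y pt)
include L

theorem z_code {a b c d : Fin 5} (hD : D4 a b c d) : z (pt a b c d) = ph y (Yt a b ^^^ Yt c d) := by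
  rw [L.z_eq a b c d hD, ← L.ys.mul, L.ys.yt hD.1, L.ys.yt hD.2.2.2.2.2]

/-- the points are all the elements of `V#` -/
theorem exists_pt {v : G} (hv : v ∈ V) (hv1 : v ≠ 1) : ∃ a b c d, D4 a b c d ∧ v = z (pt a b c d) := by
  obtain ⟨w, hw, hp, rfl⟩ := L.V_code hv
  by_cases h0 : w = 0
  · subst h0; exact absurd FiveDl.ph_zero hv1
  · obtain ⟨a, b, c, d, hD, rfl⟩ := FiveDl.even_cases w hw h0 hp
    exact ⟨a, b, c, d, hD, (z_code L hD).symm⟩

omit L in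
/-- two elements with the same action differ by an element of `C_P(V)` -/
theorem same_act (L : Lab h y pt) {x x' : G} {σ : Equiv.Perm (Fin 5)} (h1 : Ov P y σ x) (h2 : Ov P y σ x') :
    x * x'⁻¹ ∈ P ∧ ∀ v ∈ V, (x * x'⁻¹) * v = v * (x * x'⁻¹) := by
  refine ⟨mul_mem h1.1 (inv_mem h2.1), fun v hv => L.comm_V (x := x * x'⁻¹) ?_ v hv⟩
  have h3 := FiveDl.Ov.mul (Lab.ov h1) (FiveDl.Ov.inv (Lab.ov h2))
  rwa [mul_inv_cancel] at h3

/-- the elements of `P` commuting with `z_{01|23}` -/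
theorem ov_z {x : G} (hx : x ∈ P) (hxz : x * z (pt 0 1 2 3) = z (pt 0 1 2 3) * x) :
    ∃ σ, Ov P y σ x ∧ Yt (σ 0) (σ 1) ^^^ Yt (σ 2) (σ 3) = 5 := by
  obtain ⟨σ, hσ⟩ := L.act x hx
  refine ⟨σ, hσ, ?_⟩
  have hD : D4 0 1 2 3 := by decide
  have h1 : x * z (pt 0 1 2 3) * x⁻¹ = z (pt 0 1 2 3) := by rw [hxz]; group
  have h2 : x * z (pt 0 1 2 3) * x⁻¹ = y (σ 0) (σ 1) * y (σ 2) (σ 3) := by
    rw [L.z_eq 0 1 2 3 hD, ← hσ.2 0 1 (by decide), ← hσ.2 2 3 (by decide)]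
    group
  have hD' := hD.map σ
  rw [h1, z_code L hD, ← L.ys.yt hD'.1, ← L.ys.yt hD'.2.2.2.2.2, L.ys.mul] at h2
  have h3 := L.ph_inj (by decide) (Nat.xor_lt_two_pow (n := 5) (FiveDl.Yt_lt _ _) (FiveDl.Yt_lt _ _)) h2
  rw [← h3]
  decide

/-- the codes of the points opposite to `z_{01|23}` -/
theorem opp_code {i : ι} (hi : opp (pt 0 1 2 3) i) :
    z i = ph y 30 ∨ z i = ph y 15 ∨ z i = ph y 18 ∨ z i = ph y 6 ∨ z i = ph y 3 ∨ z i = ph y 10 ∨
      z i = ph y 23 ∨ z i = ph y 27 := by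
  rw [L.opp_iff 0 1 2 3 4 (by decide)] at hi
  rcases hi with rfl | rfl | rfl | rfl | rfl | rfl | rfl | rfl
  · exact Or.inl (z_code L (by decide))
  · exact Or.inr (Or.inl (z_code L (by decide)))
  · exact Or.inr (Or.inr (Or.inl (z_code L (by decide))))
  · exact Or.inr (Or.inr (Or.inr (Or.inl (z_code L (by decide)))))
  · exact Or.inr (Or.inr (Or.inr (Or.inr (Or.inl (z_code L (by decide))))))
  · exact Or.inr (Or.inr (Or.inr (Or.inr (Or.inr (Or.inl (z_code L (by decide)))))))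
  · exact Or.inr (Or.inr (Or.inr (Or.inr (Or.inr (Or.inr (Or.inl (z_code L (by decide))))))))
  · exact Or.inr (Or.inr (Or.inr (Or.inr (Or.inr (Or.inr (Or.inr (z_code L (by decide))))))))

omit L in
theorem Ecodes : ∀ w < 32, w ∈ [0, 5, 29, 24, 12, 9, 20, 17] → par w = false ∧
    w ∉ [30, 15, 18, 6, 3, 10, 23, 27] := by decide

omit L in
theorem Ecodes' : ∀ w < 32, par w = false → w ∉ [0, 5, 29, 24, 12, 9, 20, 17] →
    w ^^^ 30 ∈ [0, 5, 29, 24, 12, 9, 20, 17] := by decide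

/-- `E = z^⊥` -/
theorem mem_Q {w : ℕ} (hw : w < 32) (hw' : w ∈ [0, 5, 29, 24, 12, 9, 20, 17]) : ph y w ∈ Q (pt 0 1 2 3) := by
  obtain ⟨hp, hn⟩ := Ecodes w hw hw'
  by_cases h0 : w = 0
  · subst h0; rw [FiveDl.ph_zero]; exact one_mem _
  · obtain ⟨a, b, c, d, hD, hc⟩ := FiveDl.even_cases w hw h0 hp
    by_contra hQ
    have h1 : z (pt a b c d) = ph y w := by rw [z_code L hD, hc]
    rw [← h1] at hQ
    apply hn
    rcases opp_code L ((h.opp_iff _ _).2 hQ) with h2 | h2 | h2 | h2 | h2 | h2 | h2 | h2 <;>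
    · rw [h1] at h2
      rw [L.ph_inj hw (by norm_num) h2]
      decide

/-- `z_{02|14}` is opposite -/
theorem not_mem_Q30 : ph y 30 ∉ Q (pt 0 1 2 3) := by
  have h1 : z (pt 0 2 1 4) = ph y 30 := z_code L (by decide)
  rw [← h1, ← h.opp_iff, L.opp_iff 0 1 2 3 4 (by decide)]
  exact Or.inl rfl

theorem mem_Q_iff {w : ℕ} (hw : w < 32) (hp : par w = false) :
    ph y w ∈ Q (pt 0 1 2 3) ↔ w ∈ [0, 5, 29, 24, 12, 9, 20, 17] := by
  refine ⟨fun hQ => ?_, mem_Q L hw⟩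
  by_contra hn
  have h1 := mem_Q L (Nat.xor_lt_two_pow (n := 5) hw (by norm_num)) (Ecodes' w hw hp hn)
  rw [← L.ys.mul] at h1
  have h2 := mul_mem (inv_mem hQ) h1
  rw [inv_mul_cancel_left] at h2
  exact not_mem_Q30 L h2

/-- an element of `Q_i` over `⟨(01), (23)⟩` is in `QF_i` -/
theorem mem_QF {x : G} (hx : x ∈ Q (pt 0 1 2 3)) {σ : Equiv.Perm (Fin 5)} (hσ : Ov P y σ x)
    (h4 : σ = 1 ∨ σ = Equiv.swap 0 1 ∨ σ = Equiv.swap 2 3 ∨ σ = Equiv.swap 0 1 * Equiv.swap 2 3) :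
    x ∈ QF (pt 0 1 2 3) := by
  obtain ⟨a, ha, ha'⟩ := L.Qs_ex 0 1 2 3 (by decide)
  obtain ⟨b, hb, hb'⟩ := L.Qs_ex 2 3 0 1 (by decide)
  rw [← L.pt2 0 1 2 3 (by decide)] at hb
  obtain ⟨x', hx', hx''⟩ : ∃ x' ∈ Qs (pt 0 1 2 3), Ov P y σ x' := by
    rcases h4 with rfl | rfl | rfl | rfl
    · exact ⟨1, one_mem _, one_mem _, fun a b _ => by simp⟩
    · exact ⟨a, ha, ha'⟩
    · exact ⟨b, hb, hb'⟩
    · exact ⟨a * b, mul_mem ha hb, mul_mem ha'.1 hb'.1, FiveDl.Ov.mul ha'.2 hb'.2⟩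
  obtain ⟨-, hc⟩ := same_act L hσ hx''
  set c := x * x'⁻¹ with hcd
  have hxc : x = c * x' := by rw [hcd]; group
  refine h.QQF _ x hx fun v hv hvQ => ?_
  rcases h.com _ v (h.VQs _ v hv hvQ) x' (h.QsQF _ hx') with h1 | h1
  · left
    rw [hxc, mul_assoc, ← h1, ← mul_assoc, hc v hv, mul_assoc]
  · right
    have h2 : x' * v = z (pt 0 1 2 3) * (v * x') := by
      rw [h1, ← mul_assoc, h.sq, one_mul]
    calc x * v = c * (x' * v) := by rw [hxc]; group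
      _ = (c * z (pt 0 1 2 3)) * (v * x') := by rw [h2]; group
      _ = z (pt 0 1 2 3) * (c * v) * x' := by rw [hc _ (h.zV _)]; group
      _ = z (pt 0 1 2 3) * (v * x) := by rw [hc v hv, hxc]; group

/-- `Qs` is nonabelian -/
theorem nonab : ∃ a ∈ Qs (pt 0 1 2 3), ∃ b ∈ Qs (pt 0 1 2 3), a * b ≠ b * a := by
  by_contra hcon
  push Not at hcon
  have h1 := L.ph_V (w := 29) (by norm_num) (by decide)
  have h2 := mem_Q L (w := 29) (by norm_num) (by decide)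
  rcases h.fixE _ _ h1 (fun x hx => hcon x hx _ (h.VQs _ _ h1 h2)) with h3 | h3
  · rw [← FiveDl.ph_zero (y := y)] at h3
    exact absurd (L.ph_inj (by norm_num) (by norm_num) h3) (by norm_num)
  · rw [z_code L (by decide)] at h3
    exact absurd (L.ph_inj (by norm_num) (by decide) h3) (by decide)

end

section

variable [Finite G] {S : Sylow 2 G} {P V T : Subgroup G} {z : ι → G} {opp : ι → ι → Prop}
  {C Q QF Qs : ι → Subgroup G} {y : Fin 5 → Fin 5 → G} {pt : Fin 5 → Fin 5 → Fin 5 → Fin 5 → ι}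
variable (h : Base S P V T z opp C Q QF Qs (pt 0 1 2 3)) (L : Lab h.toConf y pt)
include h L

theorem hC : C (pt 0 1 2 3) ⊓ centralizer (o2 (C (pt 0 1 2 3)) : Set G) ≤ o2 (C (pt 0 1 2 3)) := by
  rw [← h.Qo2]
  intro c hc
  exact h.char2 _ c (mem_inf.1 hc).1 fun x hx => ((mem_centralizer_iff.1 (mem_inf.1 hc).2) x hx).symm

/-- some element of `S` acts as `(02)(13)` -/
theorem exists_s : ∃ s ∈ (S : Subgroup G), Ov P y tt s := by
  obtain ⟨m, hm⟩ := L.full tt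
  have hmz : m * z (pt 0 1 2 3) * m⁻¹ = z (pt 0 1 2 3) := by
    rw [L.z_eq 0 1 2 3 (by decide)]
    calc m * (y 0 1 * y 2 3) * m⁻¹ = (m * y 0 1 * m⁻¹) * (m * y 2 3 * m⁻¹) := by group
      _ = y 2 3 * y 0 1 := by
        rw [hm.2 0 1 (by decide), hm.2 2 3 (by decide)]
        rfl
      _ = y 0 1 * y 2 3 := L.comm _ _ _ _ (by decide) (by decide)
  obtain ⟨s, hs, c, hc, hcV, hsc⟩ := h.stab m hm.1 (mul_inv_eq_iff_eq_mul.1 hmz)
  refine ⟨s, hs, h.S_le_P hs, fun a b hab => ?_⟩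
  haveI : Nonempty ι := L.nonempty
  have h1 : c * y a b = y a b * c := h.Dl_comm hc hcV (L.y_mem_Dl hab)
  have h2 : c * y a b * c⁻¹ = y a b := by rw [h1]; group
  rw [← hm.2 a b hab, hsc]
  calc s * y a b * s⁻¹ = s * (c * y a b * c⁻¹) * s⁻¹ := by rw [h2]
    _ = _ := by group

/-- **LEMMA Y** at the base point -/
theorem not_conj0 : ¬ IsConj (y 0 1) (z (pt 0 1 2 3)) := by
  have hD : D4 0 1 2 3 := by decide
  have hyz : y 0 1 * z (pt 0 1 2 3) = y 2 3 := by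
    rw [L.z_eq 0 1 2 3 hD, ← mul_assoc, L.sq 0 1 (by decide), one_mul]
  have hyB := L.y_mem_B hD
  have hBc : ∀ c ∈ C (pt 0 1 2 3), c * y 0 1 * c⁻¹ = y 0 1 ∨ c * y 0 1 * c⁻¹ = y 2 3 := by
    intro c hc
    have h1 := norm_conj (h.B_norm (pt 0 1 2 3)) hc hyB
    rcases (L.B_eq hD).1 h1 with h2 | h2 | h2 | h2
    · exact absurd (conj_eq_one_iff.1 h2) (L.ne_one 0 1 (by decide))
    · exfalso
      apply L.notV 0 1 (by decide)
      have h3 : y 0 1 = c⁻¹ * z (pt 0 1 2 3) * c := by rw [← h2]; group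
      have h4 : c⁻¹ * z (pt 0 1 2 3) * c = z (pt 0 1 2 3) := by
        rw [mul_assoc, ← h.Cz _ c hc]; group
      rw [h3, h4]
      exact h.zV _
    · exact Or.inl h2
    · exact Or.inr h2
  have hcomm : ∀ c ∈ C (pt 0 1 2 3), (c * y 0 1 = y 0 1 * c ↔ c * y 0 1 * c⁻¹ = y 0 1) := fun c _ =>
    ⟨fun h1 => by rw [h1]; group, fun h1 => mul_inv_eq_iff_eq_mul.1 h1⟩
  obtain ⟨s, hs, hsσ⟩ := exists_s h L
  have hsy : s * y 0 1 * s⁻¹ = y 2 3 := hsσ.2 0 1 (by decide)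
  refine LemY.lemmaY S (h.ne_one _) (h.sq _) (L.ne_one 0 1 (by decide)) (L.sq 0 1 (by decide))
    (fun e => L.notV 0 1 (by decide) (by rw [e]; exact h.zV _)) h.omega (C := C (pt 0 1 2 3))
    (QF := QF (pt 0 1 2 3)) (Qs := Qs (pt 0 1 2 3)) (Q := o2 (centralizer ({z (pt 0 1 2 3)} : Set G)))
    h.S_le_C (fun c hc => h.Cz _ c hc) ((h.QFQ _).trans h.Q_le) (h.QsQF _) (h.QsQF _ (h.z_mem_Qs _))
    (h.mem_B.1 hyB).1 ?_ ?_ ?_ ?_ ?_ (Cfsg.Agent.MinSimple.VModule.o2_isPGroup _) ?_ h.Qs_le (nonab L) hs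
    (by rw [hsy, hyz]) ?_
  · -- `QF` commutes with `y`
    intro x hx
    obtain ⟨w, hw, e⟩ := L.QF_eq hD hx
    have h1 : w * y 0 1 = y 0 1 * w := ((h.mem_B.1 hyB).2 w hw).symm
    rcases e with rfl | rfl
    · exact h1
    · rw [mul_assoc, L.sq 0 1 (by decide), mul_one, ← mul_assoc, ← h1, mul_assoc, L.sq 0 1 (by decide), mul_one]
  · -- `O₂(C_C(y)) ≤ QF`
    intro N hNC hNy hN hNn
    set C₀ : Subgroup G := C (pt 0 1 2 3) ⊓ centralizer ({y 0 1} : Set G) with hC₀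
    have hmC₀ : ∀ x, x ∈ C₀ ↔ x ∈ C (pt 0 1 2 3) ∧ x * y 0 1 = y 0 1 * x := by
      intro x
      rw [hC₀, mem_inf, mem_centralizer_singleton_iff]
    have h1 : N ≤ o2 C₀ := Cfsg.Agent.MinSimple.VModule.le_o2 (fun n hn => (hmC₀ n).2 ⟨hNC hn, hNy n hn⟩) hN
      (le_norm_of fun c hc n hn => hNn c ((hmC₀ c).1 hc).1 ((hmC₀ c).1 hc).2 n hn)
    have hn0 : C (pt 0 1 2 3) ≤ normalizer (C₀ : Set G) := by
      refine le_norm_of fun c hc x hx => ?_
      obtain ⟨hxC, hxy⟩ := (hmC₀ x).1 hx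
      refine (hmC₀ _).2 ⟨mul_mem (mul_mem hc hxC) (inv_mem hc), ?_⟩
      have hci : c⁻¹ ∈ C (pt 0 1 2 3) := inv_mem hc
      have hxz : x * z (pt 0 1 2 3) = z (pt 0 1 2 3) * x := h.Cz _ x hxC
      have hx23 : x * y 2 3 = y 2 3 * x := by
        rw [← hyz, ← mul_assoc, hxy, mul_assoc, hxz, mul_assoc]
      have h2 : c⁻¹ * y 0 1 * c = y 0 1 ∨ c⁻¹ * y 0 1 * c = y 2 3 := by
        have := hBc c⁻¹ hci
        rwa [inv_inv] at this
      have h3 : x * (c⁻¹ * y 0 1 * c) = (c⁻¹ * y 0 1 * c) * x := by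
        rcases h2 with h2 | h2 <;> rw [h2] <;> assumption
      calc c * x * c⁻¹ * y 0 1 = c * (x * (c⁻¹ * y 0 1 * c)) * c⁻¹ := by group
        _ = c * ((c⁻¹ * y 0 1 * c) * x) * c⁻¹ := by rw [h3]
        _ = y 0 1 * (c * x * c⁻¹) := by group
    have h2 : o2 C₀ ≤ Q (pt 0 1 2 3) := by
      rw [h.Qo2]
      refine Cfsg.Agent.MinSimple.VModule.le_o2 ((Cfsg.Agent.MinSimple.VModule.o2_le _).trans inf_le_left)
        (Cfsg.Agent.MinSimple.VModule.o2_isPGroup _) (le_norm_of fun c hc x hx => ?_)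
      exact o2_conj' (hn0 hc) hx
    intro x hx
    have hxQ := h2 (h1 hx)
    have hxP := h.QP _ hxQ
    obtain ⟨σ, hσ, h5⟩ := ov_z L hxP (h.Cz _ x (hNC hx))
    refine mem_QF L hxQ hσ ?_
    rcases d8 h5 with h6 | h6
    · exact h6
    · exfalso
      have h7 : x * y 0 1 * x⁻¹ = y 0 1 := by rw [hNy x hx]; group
      rw [hσ.2 0 1 (by decide)] at h7
      have h8 := L.inj _ _ _ _ (fun e => absurd (σ.injective e) (by decide)) (by decide) h7
      revert h8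
      rcases h6 with rfl | rfl | rfl | rfl <;> decide
  · -- self-centralising
    intro u hu huc
    have huP := h.S_le_P hu
    have huV : ∀ v ∈ V, u * v = v * u := h.faith _ u huP fun v hv hvQ =>
      (huc v (h.QsQF _ (h.VQs _ v hv hvQ))).symm
    have huT := h.mem_T hu huV
    have huC := h.S_le_C hu
    have huQ : u ∈ Q (pt 0 1 2 3) := by
      rw [h.Qo2]
      refine K.chain2 (hC h L) (R := QF (pt 0 1 2 3)) (fun c hc a ha => norm_conj (h.nQF _) hc ha)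
        (by rw [← h.Qo2]; exact h.QFQ _) huC ?_ (fun a ha => (huc a ha).symm)
      intro a ha
      rw [← h.Qo2] at ha
      by_cases haF : a ∈ QF (pt 0 1 2 3)
      · rw [← huc a haF, mul_inv_cancel_right, mul_inv_cancel]
        exact one_mem _
      · have h1 : u * a * u⁻¹ ∈ Q (pt 0 1 2 3) := norm_conj (h.nQ _) huC ha
        refine h.QF2 _ _ h1 _ (inv_mem ha) (fun hc => haF ?_) (fun hc => haF (inv_mem_iff.1 hc))
        have h2 := norm_conj (h.nQF _) (inv_mem huC) hc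
        rwa [inv_inv, show u⁻¹ * (u * a * u⁻¹) * u = a by group] at h2
    exact h.Tt_QF (h.mem_Tt.2 ⟨huT, huQ⟩)
  · -- `C_QF(Qs) = ⟨z, y⟩`
    intro x hx hxc
    rcases (L.B_eq hD).1 (h.mem_B.2 ⟨hx, fun q hq => (hxc q hq).symm⟩) with h1 | h1 | h1 | h1
    · exact Or.inl h1
    · exact Or.inr (Or.inl h1)
    · exact Or.inr (Or.inr (Or.inl h1))
    · exact Or.inr (Or.inr (Or.inr (h1.trans hyz.symm)))
  · exact fun q hq x hx => h.com _ q hq x hx
  · intro c hc q hq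
    exact (mem_normalizer_iff.1 (Cfsg.Agent.MinSimple.VModule.le_normalizer_o2 _
      (mem_centralizer_singleton_iff.2 hc)) q).1 hq
  · intro a ha
    rcases hBc a (h.S_le_C ha) with h1 | h1
    · exact Or.inl (mul_inv_eq_iff_eq_mul.1 h1)
    · right
      have h2 : s * y 2 3 * s⁻¹ = y 0 1 := hsσ.2 2 3 (by decide)
      have h3 : (s * a) * y 0 1 * (s * a)⁻¹ = y 0 1 := by
        calc (s * a) * y 0 1 * (s * a)⁻¹ = s * (a * y 0 1 * a⁻¹) * s⁻¹ := by group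
          _ = y 0 1 := by rw [h1, h2]
      exact mul_inv_eq_iff_eq_mul.1 h3

end

/-- **LEMMA Y**: no `y a b` is conjugate to a point. -/
theorem not_conj [Finite G] {S : Sylow 2 G} {P V T : Subgroup G} {z : ι → G} {opp : ι → ι → Prop}
    {C Q QF Qs : ι → Subgroup G} {y : Fin 5 → Fin 5 → G} {pt : Fin 5 → Fin 5 → Fin 5 → Fin 5 → ι}
    {i₀ : ι} (h : Base S P V T z opp C Q QF Qs i₀) (L : Lab h.toConf y pt) {a b : Fin 5} (hab : a ≠ b)
    (i : ι) (x : G) : x * y a b * x⁻¹ ≠ z i := by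
  obtain ⟨π, L', rfl⟩ := L.exists_base i₀
  have h1 := not_conj0 (y := fun a b => y (π a) (π b)) (pt := fun a b c d => pt (π a) (π b) (π c) (π d)) h L'
  intro e
  apply h1
  -- `y a b` is conjugate to `y (π 0) (π 1)`
  obtain ⟨σ, hσ0, hσ1⟩ : ∃ σ : Equiv.Perm (Fin 5), σ (π 0) = a ∧ σ (π 1) = b := by
    have h2 : π 0 ≠ π 1 := fun e => absurd (π.injective e) (by decide)
    generalize π 0 = p at *
    generalize π 1 = q at *
    refine ⟨Equiv.swap (Equiv.swap p a q) b * Equiv.swap p a, ?_, ?_⟩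
    · rw [Equiv.Perm.mul_apply, Equiv.swap_apply_left]
      refine Equiv.swap_apply_of_ne_of_ne (fun e => h2 ?_) hab
      have := congrArg (Equiv.swap p a) e
      rw [Equiv.swap_apply_self, Equiv.swap_apply_right] at this
      exact this
    · rw [Equiv.Perm.mul_apply, Equiv.swap_apply_left]
  obtain ⟨m, hm⟩ := L.full σ
  have h3 : m * y (π 0) (π 1) * m⁻¹ = y a b := by
    rw [hm.2 _ _ (fun e => absurd (π.injective e) (by decide)), hσ0, hσ1]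
  -- `z i` is conjugate to the base point
  obtain ⟨j, k, hj, -, -⟩ := h.tri (pt (π 0) (π 1) (π 2) (π 3))
  obtain ⟨n, -, hn⟩ := h.trans _ j hj i
  rw [isConj_iff]
  refine ⟨n⁻¹ * x * m, ?_⟩
  show n⁻¹ * x * m * y (π 0) (π 1) * (n⁻¹ * x * m)⁻¹ = z (pt (π 0) (π 1) (π 2) (π 3))
  calc n⁻¹ * x * m * y (π 0) (π 1) * (n⁻¹ * x * m)⁻¹ = n⁻¹ * (x * (m * y (π 0) (π 1) * m⁻¹) * x⁻¹) * n := by group
    _ = n⁻¹ * z i * n := by rw [h3, e]
    _ = z (pt (π 0) (π 1) (π 2) (π 3)) := by rw [← hn]; group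

/-- the form used in section (5) -/
theorem ly [Finite G] {S : Sylow 2 G} {P V T : Subgroup G} {z : ι → G} {opp : ι → ι → Prop}
    {C Q QF Qs : ι → Subgroup G} {y : Fin 5 → Fin 5 → G} {pt : Fin 5 → Fin 5 → Fin 5 → Fin 5 → ι}
    {i₀ : ι} (h : Base S P V T z opp C Q QF Qs i₀) (L : Lab h.toConf y pt) :
    ∀ a b, a ≠ b → ∀ x : G, x * y a b * x⁻¹ ≠ y 0 1 * y 2 3 := by
  intro a b hab x
  rw [← L.z_eq 0 1 2 3 (by decide)]
  exact not_conj h L hab _ x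

end Cfsg.Agent.Omega.NOne.AG.LabY
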