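import Cfsg.Agent.Omega.NOne.AG.FiveEnd
import Cfsg.Agent.Omega.NOne.AG.FiveOf
import Cfsg.Agent.Omega.NOne.AG.GOf
import Cfsg.Agent.Omega.NOne.AG.LabY

/-!
# THEOREM D0ag (bb #15001), section (5): `T₀ = Δ` from `Conf`, `Lab` and LEMMA Y

`FivePlug.T0_eq : Lab h y pt → LEMMA Y → h.T0 = h.Dl`, `FivePlug.T0_le` : the same from `Base`.
-/

set_option autoImplicit false

namespace Cfsg.Agent.Omega.NOne.AG.FivePlug

open Subgroup Cfsg Cfsg.Agent.ZN
open Cfsg.Agent.Omega.NOne.AG.FiveDl (Ys ph ac par Yt)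
open Cfsg.Agent.Omega.NOne.AG.GData (GD comm_of_odd)

universe u

variable {G : Type u} [Group G] {ι : Type*}

/-- three classes of three: `E` of order 8 cannot be covered by two cosets of `{1, z}` -/
theorem exists_over [Finite G] {E : Subgroup G} {z : G} (hE : Nat.card E = 8)
    (ov : Equiv.Perm (Fin 5) → G → Prop) (σ₁ σ₂ σ₃ : Equiv.Perm (Fin 5))
    (hov : ∀ e ∈ E, ov 1 e ∨ ov σ₁ e ∨ ov σ₂ e ∨ ov σ₃ e)
    (hmul : ∀ σ τ e f, ov σ e → ov τ f → ov (σ * τ) (e * f))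
    (hinv : ∀ σ e, ov σ e → ov σ⁻¹ e⁻¹)
    (h23 : σ₂ * σ₃ = σ₁) (hker : ∀ e ∈ E, ov 1 e → e = 1 ∨ e = z) : ∃ e ∈ E, ov σ₁ e := by
  by_contra hcon
  push Not at hcon
  -- all elements of `E` are over `1` or over one `τ`
  obtain ⟨a, ha⟩ : ∃ a : G, ∀ e ∈ E, (e = 1 ∨ e = z) ∨ (a⁻¹ * e = 1 ∨ a⁻¹ * e = z) := by
    have key : ∀ (τ : Equiv.Perm (Fin 5)) (a : G), a ∈ E → ov τ a → (∀ e ∈ E, ov 1 e ∨ ov τ e) →
        ∀ e ∈ E, (e = 1 ∨ e = z) ∨ (a⁻¹ * e = 1 ∨ a⁻¹ * e = z) := by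
      intro τ a ha haτ hall e he
      rcases hall e he with h1 | h1
      · exact Or.inl (hker e he h1)
      · right
        refine hker _ (mul_mem (inv_mem ha) he) ?_
        have h2 := hmul _ _ _ _ (hinv _ _ haτ) h1
        rwa [inv_mul_cancel] at h2
    by_cases h2 : ∃ a ∈ E, ov σ₂ a
    · obtain ⟨a, ha, h2⟩ := h2
      refine ⟨a, key σ₂ a ha h2 fun e he => ?_⟩
      rcases hov e he with h1 | h1 | h1 | h1
      · exact Or.inl h1
      · exact absurd h1 (hcon e he)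
      · exact Or.inr h1
      · exfalso
        have h3 := hmul _ _ _ _ h2 h1
        rw [h23] at h3
        exact hcon _ (mul_mem ha he) h3
    · push Not at h2
      by_cases h3 : ∃ a ∈ E, ov σ₃ a
      · obtain ⟨a, ha, h3⟩ := h3
        refine ⟨a, key σ₃ a ha h3 fun e he => ?_⟩
        rcases hov e he with h1 | h1 | h1 | h1
        · exact Or.inl h1
        · exact absurd h1 (hcon e he)
        · exact absurd h1 (h2 e he)
        · exact Or.inr h1
      · push Not at h3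
        refine ⟨1, fun e he => ?_⟩
        rcases hov e he with h1 | h1 | h1 | h1
        · exact Or.inl (hker e he h1)
        · exact absurd h1 (hcon e he)
        · exact absurd h1 (h2 e he)
        · exact absurd h1 (h3 e he)
  have hsub : (E : Set G) ⊆ {1, z, a, a * z} := by
    intro e he
    rcases ha e he with (h1 | h1) | (h1 | h1)
    · exact Or.inl h1
    · exact Or.inr (Or.inl h1)
    · right; right; left
      exact (inv_mul_eq_one.1 h1).symm
    · right; right; right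
      rw [Set.mem_singleton_iff, ← h1]; group
  have h1 := Set.ncard_le_ncard hsub (Set.toFinite _)
  have h2 : (E : Set G).ncard = 8 := by rw [← Nat.card_coe_set_eq]; exact hE
  have h3 : ({1, z, a, a * z} : Set G).ncard ≤ 4 := by
    refine (Set.ncard_insert_le _ _).trans ?_
    have h4 := Set.ncard_insert_le z ({a, a * z} : Set G)
    have h5 := Set.ncard_insert_le a ({a * z} : Set G)
    rw [Set.ncard_singleton] at h5
    omega
  omega

variable {P V T : Subgroup G} {z : ι → G} {opp : ι → ι → Prop} {C Q QF Qs : ι → Subgroup G}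
variable {h : Conf P V T z opp C Q QF Qs} {y : Fin 5 → Fin 5 → G}
  {pt : Fin 5 → Fin 5 → Fin 5 → Fin 5 → ι}

theorem Ecode : ∀ w < 32, w ∈ [0, 5, 29, 24, 12, 9, 20, 17] →
    ∃ b1 b2 b3 : Bool, w = (bif b1 then 5 else 0) ^^^ (bif b2 then 12 else 0) ^^^ (bif b3 then 20 else 0) := by
  decide

/-- `E = V ∩ Q` -/
theorem EE_eq (L : Lab h y pt) : FiveGrp.EE y = V ⊓ Q (pt 0 1 2 3) := by
  have hD : D4 (0 : Fin 5) 1 2 3 := by decide
  have e5 : y 0 1 * y 2 3 = ph y 5 := by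
    rw [← L.ys.yt (a := 0) (b := 1) (by decide), ← L.ys.yt (a := 2) (b := 3) (by decide), L.ys.mul]
    rfl
  have e12 : y 0 1 * y 2 4 = ph y 12 := by
    rw [← L.ys.yt (a := 0) (b := 1) (by decide), ← L.ys.yt (a := 2) (b := 4) (by decide), L.ys.mul]
    rfl
  have e20 : y 2 3 * y 0 4 = ph y 20 := by
    rw [← L.ys.yt (a := 2) (b := 3) (by decide), ← L.ys.yt (a := 0) (b := 4) (by decide), L.ys.mul]
    rfl
  apply le_antisymm
  · rw [FiveGrp.EE, closure_le]
    rintro x (rfl | rfl | rfl)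
    · rw [e5]
      exact ⟨L.ph_V (by norm_num) (by decide), LabY.mem_Q L (by norm_num) (by decide)⟩
    · rw [e12]
      exact ⟨L.ph_V (by norm_num) (by decide), LabY.mem_Q L (by norm_num) (by decide)⟩
    · rw [e20]
      exact ⟨L.ph_V (by norm_num) (by decide), LabY.mem_Q L (by norm_num) (by decide)⟩
  · intro v hv
    obtain ⟨hv1, hv2⟩ := mem_inf.1 hv
    obtain ⟨w, hw, hp, rfl⟩ := L.V_code hv1
    obtain ⟨b1, b2, b3, rfl⟩ := Ecode w hw ((LabY.mem_Q_iff L hw hp).1 hv2)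
    rw [← L.ys.mul, ← L.ys.mul]
    have g5 : ph y 5 ∈ FiveGrp.EE y := by rw [← e5]; exact FiveGrp.FiveE.zE
    have g12 : ph y 12 ∈ FiveGrp.EE y := by rw [← e12]; exact FiveGrp.FiveE.e1E
    have g20 : ph y 20 ∈ FiveGrp.EE y := by rw [← e20]; exact FiveGrp.FiveE.e2E
    have g0 : ph y 0 ∈ FiveGrp.EE y := by rw [FiveDl.ph_zero]; exact one_mem _
    refine mul_mem (mul_mem ?_ ?_) ?_
    · cases b1 <;> assumption
    · cases b2 <;> assumption
    · cases b3 <;> assumption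

/-- **(5)**: `T₀ = Δ` -/
theorem T0_eq [Finite G] (L : Lab h y pt)
    (ly : ∀ a b, a ≠ b → ∀ x : G, x * y a b * x⁻¹ ≠ z (pt 0 1 2 3)) : h.T0 = h.Dl := by
  have hD : D4 (0 : Fin 5) 1 2 3 := by decide
  have hzy := L.z_eq 0 1 2 3 hD
  obtain ⟨j, k, hij, -, -⟩ := h.tri (pt 0 1 2 3)
  have hjQ : z j ∉ Q (pt 0 1 2 3) := (h.opp_iff _ j).1 hij
  obtain ⟨g, hgC, hg⟩ := h.exists_g _ (h.zV j) hjQ
  have hEE := EE_eq L
  have hcon : ∀ e ∈ V ⊓ Q (pt 0 1 2 3), g * e * g⁻¹ ∈ Qs (pt 0 1 2 3) := fun e he =>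
    norm_conj (h.nQs _) hgC (h.VQs _ e (mem_inf.1 he).1 (mem_inf.1 he).2)
  have hker : ∀ e ∈ V ⊓ Q (pt 0 1 2 3), FiveDl.Ov y (g * e * g⁻¹) 1 →
      e = 1 ∨ e = z (pt 0 1 2 3) := by
    intro e he ho
    exact hg.ff e he fun e' he' => (L.comm_V ho e' (mem_inf.1 he').1).symm
  have hov : ∀ e ∈ V ⊓ Q (pt 0 1 2 3), FiveDl.Ov y (g * e * g⁻¹) 1 ∨
      FiveDl.Ov y (g * e * g⁻¹) (Equiv.swap 0 1) ∨ FiveDl.Ov y (g * e * g⁻¹) (Equiv.swap 2 3) ∨
      FiveDl.Ov y (g * e * g⁻¹) (Equiv.swap 0 1 * Equiv.swap 2 3) := by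
    intro e he
    rcases L.Qs_ov 0 1 2 3 hD _ (hcon e he) with h1 | h1 | h1 | h1
    · exact Or.inl h1.2
    · exact Or.inr (Or.inl h1.2)
    · exact Or.inr (Or.inr (Or.inl h1.2))
    · exact Or.inr (Or.inr (Or.inr h1.2))
  have hmul : ∀ (σ τ : Equiv.Perm (Fin 5)) (e f : G), FiveDl.Ov y (g * e * g⁻¹) σ →
      FiveDl.Ov y (g * f * g⁻¹) τ → FiveDl.Ov y (g * (e * f) * g⁻¹) (σ * τ) := by
    intro σ τ e f h1 h2
    have h3 := h1.mul h2
    have e1 : g * (e * f) * g⁻¹ = g * e * g⁻¹ * (g * f * g⁻¹) := by group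
    rwa [e1]
  have hinv : ∀ (σ : Equiv.Perm (Fin 5)) (e : G), FiveDl.Ov y (g * e * g⁻¹) σ →
      FiveDl.Ov y (g * e⁻¹ * g⁻¹) σ⁻¹ := by
    intro σ e h1
    have h3 := h1.inv
    have e1 : g * e⁻¹ * g⁻¹ = (g * e * g⁻¹)⁻¹ := by group
    rwa [e1]
  obtain ⟨α, hα, oα⟩ := exists_over hg.cardE (fun σ e => FiveDl.Ov y (g * e * g⁻¹) σ)
    (Equiv.swap 0 1) (Equiv.swap 2 3) (Equiv.swap 0 1 * Equiv.swap 2 3) hov hmul hinv (by decide) hker
  obtain ⟨β, hβ, oβ⟩ := exists_over hg.cardE (fun σ e => FiveDl.Ov y (g * e * g⁻¹) σ)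
    (Equiv.swap 2 3) (Equiv.swap 0 1) (Equiv.swap 0 1 * Equiv.swap 2 3)
    (fun e he => by rcases hov e he with h1 | h1 | h1 | h1 <;> tauto) hmul hinv (by decide) hker
  -- `g` commutes with `y 0 1`, `y 2 3`
  have s1 := L.sq 0 1 (by decide)
  have s2 := L.sq 2 3 (by decide)
  have c1 := L.comm 0 1 2 3 (by decide) (by decide)
  have hgz : g * (y 0 1 * y 2 3) * g⁻¹ = y 0 1 * y 2 3 := by rw [← hzy, hg.gz]; group
  have hprod : (g * y 0 1 * g⁻¹) * (g * y 2 3 * g⁻¹) = y 0 1 * y 2 3 := by rw [← hgz]; group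
  have g01 : g * y 0 1 = y 0 1 * g := by
    have hB := norm_conj (h.B_norm _) hgC (L.y_mem_B hD)
    rcases (L.B_eq hD).1 hB with h1 | h1 | h1 | h1
    · exfalso
      apply L.ne_one 0 1 (by decide)
      have : y 0 1 = g⁻¹ * (g * y 0 1 * g⁻¹) * g := by group
      rw [this, h1]; group
    · exfalso
      apply L.ne_one 2 3 (by decide)
      rw [hzy] at h1
      have h4 : g * y 0 1 * g⁻¹ = g * (y 0 1 * y 2 3) * g⁻¹ := by rw [h1, hgz]
      have h6 := mul_right_cancel h4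
      exact (mul_eq_left.1 (mul_left_cancel h6).symm)
    · calc g * y 0 1 = g * y 0 1 * g⁻¹ * g := by group
        _ = y 0 1 * g := by rw [h1]
    · refine comm_of_odd hg.odd ?_
      have h2 : g * y 2 3 * g⁻¹ = y 0 1 := by
        rw [h1, c1] at hprod
        exact mul_left_cancel hprod
      calc g * g * y 0 1 = g * (g * y 0 1 * g⁻¹) * g := by group
        _ = g * y 2 3 * g⁻¹ * (g * g) := by rw [h1]; group
        _ = y 0 1 * (g * g) := by rw [h2]
  have g23 : g * y 2 3 = y 2 3 * g := by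
    have h1 : g * y 0 1 * g⁻¹ = y 0 1 := by rw [g01]; group
    rw [h1] at hprod
    have h2 := mul_left_cancel hprod
    calc g * y 2 3 = g * y 2 3 * g⁻¹ * g := by group
      _ = _ := by rw [h2]
  have hfin : FiveGrp.FiveE P h.T0 y (QG h) g α β :=
    { L.five with
      EQ := by
        rw [L.QG' hD, hEE]
        exact fun e he => h.VQs _ e (mem_inf.1 he).1 (mem_inf.1 he).2
      gQ := fun q hq => by
        rw [L.QG' hD] at hq ⊢
        exact norm_conj (h.nQs _) hgC hq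
      gQ' := fun q hq => by
        rw [L.QG' hD] at hq ⊢
        have h1 := norm_conj (h.nQs _) (inv_mem hgC) hq
        rwa [inv_inv] at h1
      g01 := g01
      g23 := g23
      αE := by rw [hEE]; exact hα
      βE := by rw [hEE]; exact hβ
      oα := oα
      oβ := oβ
      cap := fun x hx hT => by
        rw [hEE] at hx
        have h1 := hg.ff x hx fun e' he' => (h.TV _ (h.T0_le_T hT) e' (mem_inf.1 he').1).symm
        rcases h1 with rfl | rfl
        · left; group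
        · right; rw [hzy, hgz]
      ly := fun a b hab x => by rw [← hzy]; exact ly a b hab x }
  rw [hfin.T0_eq, L.Dl_eq]

/-- **(5)** for `Base`. -/
theorem T0_le [Finite G] {S : Sylow 2 G} {i₀ : ι} (hb : Base S P V T z opp C Q QF Qs i₀)
    (L : Lab hb.toConf y pt) : hb.toConf.T0 ≤ hb.toConf.Dl :=
  (T0_eq L fun _ _ hab x => LabY.not_conj hb L hab _ x).le

end Cfsg.Agent.Omega.NOne.AG.FivePlug
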