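import Cfsg.Agent.Omega.NOne.AG.Frame
import Cfsg.Agent.Omega.NOne.AG.Base
import Cfsg.Agent.Omega.NO1.EndMinus

/-!
# THEOREM D0ag (bb #15001): the frame (0) from `NO1.Cfg` (helper537)

`exists_base`: `Cfg S P`, `Z = ⟨z⟩`, `|V| = 16`, `|V/E| = 2`, `Facts`, `hstab`, `hind` give `Base` at the point `z`
(and `hgen`, the minimality of `C`).
-/

set_option autoImplicit false

namespace Cfsg.Agent.Omega.NOne.AG

open Subgroup Cfsg Cfsg.Agent.ZN Cfsg.Agent.Omega.MinPar Cfsg.Agent.Omega.Frame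
open Cfsg.Agent.Omega.NoFF.LinesPlug (CC)
open Cfsg.Agent.Omega.NO1 (Cfg EE)

universe u

variable {G : Type u} [Group G]

/-- **The frame in `Cfg`.** -/
theorem exists_base [Finite G] {S : Sylow 2 G} {P : Subgroup G} (h : Cfg S P) {z : G}
    (hz : zc (S : Subgroup G) = zpowers z) (hz1 : z ≠ 1)
    (hV : Nat.card (zl (S : Subgroup G) P) = 16)
    (hE : (EE (S : Subgroup G) P).relIndex (zl (S : Subgroup G) P) = 2)
    (hf : Facts P (zl (S : Subgroup G) P)
      (zl (S : Subgroup G) P ⊓ o2 (centralizer ({z} : Set G))) z)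
    (hstab : ∀ m ∈ P, m * z = z * m →
      ∃ s ∈ (S : Subgroup G), ∃ c ∈ P, (∀ v ∈ zl (S : Subgroup G) P, c * v = v * c) ∧ m = s * c)
    (hind : ((S : Subgroup G) ⊓ centralizer (zl (S : Subgroup G) P : Set G)).relIndex
      (S : Subgroup G) = 8) :
    ∃ (C QF Qs : Subgroup G) (hp : Pt P (zl (S : Subgroup G) P)
        ((S : Subgroup G) ⊓ centralizer (zl (S : Subgroup G) P : Set G)) z C (o2 C) QF Qs),
      (∀ v ∈ zl (S : Subgroup G) P, ∀ d ∈ C, d ≠ 1 → Odd (orderOf d) → v * d * v⁻¹ = d⁻¹ →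
        C ≤ closure ({m | m ∈ P ∧ m * z = z * m} ∪ {d})) ∧
      Base S P (zl (S : Subgroup G) P)
        ((S : Subgroup G) ⊓ centralizer (zl (S : Subgroup G) P : Set G))
        (fun i : Pts P z => i.val) hp.opp (tr P z C) (tr P z (o2 C)) (tr P z QF) (tr P z Qs)
        (Pts.base P z) := by
  have hCC : CC (S : Subgroup G) = centralizer ({z} : Set G) := NO1.CC_eq_of_zpowers hz
  have hzZ : z ∈ zc (S : Subgroup G) := by rw [hz]; exact mem_zpowers z
  have hzS := (mem_zc.1 hzZ).2.1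
  have hzz : z * z = 1 := by
    have := (mem_zc.1 hzZ).2.2
    rwa [pow_two] at this
  have hzV := h.Z_le_V hzZ
  have Vsq : ∀ v ∈ zl (S : Subgroup G) P, v * v = 1 := fun v hv => by
    have := h.V_sq v hv
    rwa [pow_two] at this
  have hZ : ∀ x ∈ (S : Subgroup G), (∀ s ∈ (S : Subgroup G), x * s = s * x) → x * x = 1 →
      x = 1 ∨ x = z := by
    intro x hx hxs hxx
    have h1 : x ∈ zc (S : Subgroup G) :=
      mem_zc.2 ⟨hx, fun s hs => (hxs s hs).symm, by rw [pow_two]; exact hxx⟩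
    rw [hz, mem_zpowers_iff] at h1
    obtain ⟨k, rfl⟩ := h1
    have h2 : z ^ (2 : ℤ) = 1 := by rw [zpow_two]; exact hzz
    rcases Int.even_or_odd' k with ⟨m, rfl | rfl⟩
    · left
      rw [zpow_mul, h2, one_zpow]
    · right
      rw [zpow_add, zpow_mul, h2, one_zpow, one_mul, zpow_one]
  have hchar : ∀ c, c * z = z * c → (∀ x ∈ o2 (centralizer ({z} : Set G)), c * x = x * c) →
      c ∈ o2 (centralizer ({z} : Set G)) := by
    intro c hc hx
    have h1 := h.char2C
    rw [hCC] at h1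
    exact h1 (mem_inf.2 ⟨mem_centralizer_singleton_iff.2 hc,
      mem_centralizer_iff.2 fun x hxo => (hx x hxo).symm⟩)
  have nT : P ≤ normalizer (((S : Subgroup G) ⊓
      centralizer (zl (S : Subgroup G) P : Set G) : Subgroup G) : Set G) := by
    rw [h.S_inf_centralizer]
    exact le_normalizer_o2 P
  have h8 : Nat.card ↥(zl (S : Subgroup G) P ⊓ o2 (centralizer ({z} : Set G))) = 8 := by
    have h1 := relIndex_mul_relIndex ⊥ (EE (S : Subgroup G) P) (zl (S : Subgroup G) P) bot_le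
      inf_le_left
    simp only [relIndex_bot_left] at h1
    rw [hE, hV] at h1
    have h2 : Nat.card (EE (S : Subgroup G) P) = 8 := by omega
    rwa [EE, hCC] at h2
  obtain ⟨C, QF, Qs, hp, -, h3, -, -, -, -, h7⟩ := exists_pt_gen S h.S_le (Cfg.P_norm_V S P) h.V_le_S
    (fun v hv w hw => mem_centralizer_iff.1 (h.V_comm hw) v hv) Vsq hV hz1 hzV
    (fun s hs => hzS s hs) hZ hchar nT h8 hf
  exact ⟨C, QF, Qs, hp, h7, Base.of h hz rfl hp h3 hE hstab hind⟩

end Cfsg.Agent.Omega.NOne.AG
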