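import Cfsg.Agent.Omega.NOne.AG.LabTab
import Cfsg.Agent.Omega.NOne.AG.Core

/-!
# D0ag (bb #15001) (1.4), type (α): the labels if `Δ > V`

`exists_lab` : `Conf`, `AW P V W` and `¬ Δ ≤ V` give `Lab h y pt`.
-/

set_option autoImplicit false
set_option linter.unusedSectionVars false

namespace Cfsg.Agent.Omega.NOne.AG.LabOf

open Subgroup Cfsg Cfsg.Agent.ZN
open Cfsg.Agent.Omega.NOne.AG.Tab
open Cfsg.Agent.Omega.NOne.AG.FactsNat (comm_of_one one_of_comm ovz_unique z_fix sA_one')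

universe u

variable {G : Type u} [Group G] {ι : Type*}

theorem ad_self (x : B4) : ad x x = b0 := by
  obtain ⟨a, b, c, d⟩ := x
  simp [ad]

section

variable {P V T : Subgroup G} {z : ι → G} {opp : ι → ι → Prop} {C Q QF Qs : ι → Subgroup G}
  {W : B4 → G} (h : Conf P V T z opp C Q QF Qs) (A : AW P V W)
include h A

theorem exists_idx [Nonempty ι] {x : B4} (hx : x ≠ b0) : ∃ i, z i = W x := by
  let i₁ := Classical.arbitrary ι
  obtain ⟨u, hu⟩ := A.surj _ (h.zV i₁)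
  have hu0 : u ≠ b0 := by
    rintro rfl
    exact h.ne_one i₁ (hu.trans A.zero)
  obtain ⟨a, b, c, d, hD, e1⟩ := Tab.exists_pt u hu0
  obtain ⟨a', b', c', d', hD', e2⟩ := Tab.exists_pt x hx
  obtain ⟨σ, p0, p1, p2, p3⟩ := exists_perm hD
  obtain ⟨τ, q0, q1, q2, q3⟩ := exists_perm hD'
  obtain ⟨m, hm, hσ⟩ := A.full (τ * σ⁻¹)
  obtain ⟨j, hj⟩ := h.perm m hm i₁
  refine ⟨j, ?_⟩
  rw [← hj, hu, e1, hσ a b c d hD, e2]
  have hi : ∀ i, (τ * σ⁻¹) (σ i) = τ i := fun i => by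
    rw [← Equiv.Perm.mul_apply]; congr 1; group
  rw [← p0, ← p1, ← p2, ← p3, hi, hi, hi, hi, q0, q1, q2, q3]

/-- `E = z^⊥` -/
theorem mem_Q {i : ι} (hi : z i = W z0) (x : B4) : W x ∈ Q i ↔ f0 x = false := by
  obtain ⟨j, k, hj, -, -⟩ := h.tri i
  have hne : ¬ ∀ v ∈ V, v ∈ Q i := fun hall => (h.opp_iff i j).1 hj (hall _ (h.zV j))
  -- no `x` with `f0 x = true` is in `E`
  have key : ∀ x, f0 x = true → W x ∉ Q i := by
    intro x hx hxE
    have hall : ∀ y, f0 y = true → W y ∈ Q i := by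
      intro y hy
      obtain ⟨a, b, c, e⟩ := st_trans x y hx hy
      obtain ⟨m, hm, hσ⟩ := A.full (st a b c)
      have h1 := A.conj_eq hσ
      have h2 : m * z i * m⁻¹ = z i := by
        have := h1 z0
        rwa [st_z0, ← hi] at this
      have h3 := h.eqQ m hm i i h2 _ hxE
      rwa [h1, ← e] at h3
    refine hne fun v hv => ?_
    obtain ⟨y, rfl⟩ := A.surj v hv
    by_cases hy : f0 y = true
    · exact hall y hy
    · rw [Bool.not_eq_true] at hy
      obtain ⟨u, hu, h1, h2⟩ := f0_split y hy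
      rw [← h2, A.mul]
      exact mul_mem (hall _ h1) (hall _ hu)
  constructor
  · intro h
    by_contra hcon
    rw [Bool.not_eq_false] at hcon
    exact key x hcon h
  · intro hx
    obtain ⟨u, hu, h1, h2⟩ := f0_split x hx
    rw [← h2, A.mul]
    exact h.VQ2 i _ (A.mem _) _ (A.mem _) (key _ h1) (key _ hu)

/-- `Qs` induces at most `F` -/
theorem Qs_F {i : ι} (hi : z i = W z0) {x : G} (hx : x ∈ Qs i) {σ : Equiv.Perm (Fin 5)}
    (hσ : Ovz W x σ) : isF σ := by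
  apply F_code
  intro y hy
  have hyQ := (mem_Q h A hi y).2 hy
  have h1 := h.com i _ (h.VQs i _ (A.mem y) hyQ) x (h.QsQF i hx)
  have h2 := A.conj_eq hσ y
  rcases h1 with h1 | h1
  · left
    apply A.inj
    rw [← h2, ← h1, mul_inv_cancel_right]
  · right
    apply A.inj
    rw [A.mul, ← h2, ← hi]
    have h3 : z i * (W y * x) = x * W y := by
      rw [h1, ← mul_assoc, h.sq, one_mul]
    rw [← h3]
    group

/-- `Qs` induces `F` -/
theorem Qs_ex {i : ι} (hi : z i = W z0) {τ : Equiv.Perm (Fin 5)} (hτ : isF τ) :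
    ∃ x ∈ Qs i, Ovz W x τ := by
  have hv : W (dec 1) ∉ Q i := by
    rw [mem_Q h A hi]
    decide
  have he : W (ad (sA τ (dec 1)) (dec 1)) ∈ Q i := (mem_Q h A hi _).2 (F_E τ hτ)
  obtain ⟨x, hx, h1⟩ := h.ev i _ (A.mem _) he _ (A.mem _) hv
  obtain ⟨σ, hσ⟩ := A.act x (h.QsP i hx)
  have hF := Qs_F h A hi hx hσ
  have h2 := A.conj_eq hσ (dec 1)
  have hinv : (W (dec 1))⁻¹ = W (dec 1) := inv_eq_of_mul_eq_one_left (A.sq _ (A.mem _))
  have h4 : σ = τ := by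
    apply F_sep σ τ hF hτ
    rcases h1 with h1 | h1
    · left
      apply A.inj
      rw [A.mul, ← h2, ← h1, hinv]
    · right
      apply A.inj
      rw [A.mul, ← h2, A.mul z0, ← hi, ← h1, hinv]
  exact ⟨x, hx, h4 ▸ hσ⟩

/-- `Qs i` contains an element over `(ab)`, `i = ab|cd` -/
theorem Qs_swap [Nonempty ι] {a b c d : Fin 5} (hD : D4 a b c d) :
    ∃ i, ∃ x ∈ Qs i, Ovz W x (Equiv.swap a b) := by
  obtain ⟨i₀, hi⟩ := exists_idx h A (x := z0) (by decide)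
  obtain ⟨σ, p0, p1, p2, p3⟩ := exists_perm hD
  obtain ⟨m, hm, hσ⟩ := A.full σ
  obtain ⟨x, hx, h1⟩ := Qs_ex h A hi (τ := s0) (Or.inr (Or.inl rfl))
  obtain ⟨j, hj⟩ := h.perm m hm i₀
  refine ⟨j, m * x * m⁻¹, h.eqQs m hm i₀ j hj x hx, ?_⟩
  have h2 := (Ovz.mul hσ h1).mul (Ovz.inv hσ)
  have h3 : σ * s0 * σ⁻¹ = Equiv.swap a b := by
    rw [← p0, ← p1, Equiv.swap_apply_apply]
  rwa [h3] at h2

/-- `P = ⟨Qs⟩ C_P(V)` -/
theorem exists_xc [Nonempty ι] {m : G} (hm : m ∈ P) :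
    ∃ x ∈ ⨆ i, Qs i, ∃ c ∈ P, (∀ v ∈ V, c * v = v * c) ∧ m = x * c := by
  let H : Submonoid (Equiv.Perm (Fin 5)) :=
    { carrier := {τ | ∃ x ∈ ⨆ i, Qs i, Ovz W x τ}
      mul_mem' := by
        rintro τ τ' ⟨x, hx, h1⟩ ⟨y, hy, h2⟩
        exact ⟨x * y, mul_mem hx hy, h1.mul h2⟩
      one_mem' := ⟨1, one_mem _, Ovz.one⟩ }
  have hs : ∀ a b c d : Fin 5, D4 a b c d → Equiv.swap a b ∈ H := by
    intro a b c d hD
    obtain ⟨i, x, hx, h1⟩ := Qs_swap h A hD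
    exact ⟨x, (le_iSup Qs i) hx, h1⟩
  have hH : H = ⊤ := ind5 (hs 0 1 2 3 (by decide)) (hs 1 2 3 4 (by decide)) (hs 2 3 0 1 (by decide))
    (hs 3 4 0 1 (by decide))
  obtain ⟨σ, hσ⟩ := A.act m hm
  have hσH : σ ∈ H := by rw [hH]; trivial
  obtain ⟨x, hx, h1⟩ := hσH
  have hxP : x ∈ P := (iSup_le fun i => h.QsP i : ⨆ i, Qs i ≤ P) hx
  refine ⟨x, hx, x⁻¹ * m, mul_mem (inv_mem hxP) hm, ?_, by group⟩
  apply comm_of_one A
  have h2 : Ovz W (x⁻¹ * m) (σ⁻¹ * σ) := h1.inv.mul hσ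
  rwa [inv_mul_cancel] at h2

/-- `[P, Δ] ≤ V` -/
theorem comm_Dl_P [Nonempty ι] {m d : G} (hm : m ∈ P) (hd : d ∈ h.Dl) : d⁻¹ * (m * d * m⁻¹) ∈ V := by
  let K : Subgroup G :=
    { carrier := {x | x ∈ P ∧ ∀ d ∈ h.Dl, d⁻¹ * (x * d * x⁻¹) ∈ V}
      one_mem' := ⟨one_mem _, fun d _ => by simp⟩
      mul_mem' := by
        rintro a b ⟨ha0, ha⟩ ⟨hb0, hb⟩
        refine ⟨mul_mem ha0 hb0, fun d hd => ?_⟩
        have e : d⁻¹ * (a * b * d * (a * b)⁻¹) =
            d⁻¹ * (a * d * a⁻¹) * (a * (d⁻¹ * (b * d * b⁻¹)) * a⁻¹) := by group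
        rw [e]
        exact mul_mem (ha d hd) (h.conj_V ha0 (hb d hd))
      inv_mem' := by
        rintro a ⟨ha0, ha⟩
        refine ⟨inv_mem ha0, fun d hd => ?_⟩
        have e : d⁻¹ * (a⁻¹ * d * a⁻¹⁻¹) = a⁻¹ * ((a * d * a⁻¹)⁻¹ * d) * a⁻¹⁻¹ := by group
        rw [e]
        refine h.conj_V (inv_mem ha0) ?_
        have h1 := inv_mem (ha d hd)
        have e2 : (a * d * a⁻¹)⁻¹ * d = (d⁻¹ * (a * d * a⁻¹))⁻¹ := by group
        rw [e2]; exact h1 }
  obtain ⟨x, hx, c, hc, hcV, rfl⟩ := exists_xc h A hm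
  have hle : ⨆ i, Qs i ≤ K := iSup_le fun i y hy => ⟨h.QsP i hy, fun d hd => h.comm_Dl hy hd⟩
  have h1 := (hle hx).2 d hd
  have h2 := h.Dl_comm hc hcV hd
  have e : x * c * d * (x * c)⁻¹ = x * d * x⁻¹ := by
    calc x * c * d * (x * c)⁻¹ = x * (c * d) * c⁻¹ * x⁻¹ := by group
      _ = x * d * x⁻¹ := by rw [h2]; group
  rwa [e]

/-- `B ∩ V = ⟨z⟩` -/
theorem BV {i : ι} {e : G} (he : e ∈ h.B i) (heV : e ∈ V) : e = 1 ∨ e = z i :=
  h.fixE i e heV fun x hx => ((h.mem_B.1 he).2 x hx).symm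

theorem z_mem_B (i : ι) : z i ∈ h.B i :=
  h.mem_B.2 ⟨h.QsQF i (h.z_mem_Qs i), fun _ hy => (h.Qcomm_z (h.QsQ i hy)).symm⟩

end

/-- The situation: `b ∈ B ∩ Δ - V`. -/
structure Bs {P V T : Subgroup G} {z : ι → G} {opp : ι → ι → Prop} {C Q QF Qs : ι → Subgroup G}
    (h : Conf P V T z opp C Q QF Qs) (i : ι) (b : G) : Prop where
  B : b ∈ h.B i
  D : b ∈ h.Dl
  V : b ∉ V

section

variable {P V T : Subgroup G} {z : ι → G} {opp : ι → ι → Prop} {C Q QF Qs : ι → Subgroup G}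
  {W : B4 → G} (h : Conf P V T z opp C Q QF Qs) (A : AW P V W)
include h A

theorem exists_bs [Nonempty ι] {d : G} (hd : d ∈ h.Dl) (hdV : d ∉ V) (i : ι) :
    ∃ b v, Bs h i b ∧ v ∈ V ∧ d = b * v := by
  obtain ⟨b, hb, v, hv, rfl⟩ := h.mem_BV.1 (h.mem_Dl.1 hd i)
  refine ⟨b, v, ⟨hb, ?_, fun hbV => hdV (mul_mem hbV hv)⟩, hv, rfl⟩
  have h1 := mul_mem hd (inv_mem (h.V_le_Dl hv))
  rwa [mul_inv_cancel_right] at h1

theorem Dl_z [Nonempty ι] {b : G} (hb : b ∈ h.Dl) (i : ι) : b * z i = z i * b :=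
  h.TV b (h.Dl_le_T hb) _ (h.zV i)

theorem Bs.mul_z [Nonempty ι] {i : ι} {b : G} (H : Bs h i b) : Bs h i (b * z i) :=
  ⟨mul_mem H.B (z_mem_B h A i), mul_mem H.D (h.V_le_Dl (h.zV i)), fun hc => H.V (by
    have h1 := mul_mem hc (inv_mem (h.zV i))
    rwa [mul_inv_cancel_right] at h1)⟩

/-- `P ∩ C(z)` acts on `{b, bz}` -/
theorem Bs.conj [Nonempty ι] {i : ι} {b : G} (H : Bs h i b) {m : G} (hm : m ∈ P)
    (hz : m * z i = z i * m) : m * b * m⁻¹ = b ∨ m * b * m⁻¹ = b * z i := by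
  have h1 := comm_Dl_P h A hm H.D
  have h2 : b⁻¹ * (m * b * m⁻¹) ∈ h.B i :=
    mul_mem (inv_mem H.B) (norm_conj (h.B_norm i) (h.PC i m hm hz) H.B)
  rcases BV h A h2 h1 with h3 | h3
  · left
    rwa [inv_mul_eq_one, eq_comm] at h3
  · right
    rwa [inv_mul_eq_iff_eq_mul] at h3

/-- the elements over `F` centralise `b` -/
theorem Bs.F [Nonempty ι] {i : ι} {b : G} (H : Bs h i b) (hi : z i = W z0) {m : G} (hm : m ∈ P)
    {σ : Equiv.Perm (Fin 5)} (hσ : Ovz W m σ) (hF : isF σ) : m * b * m⁻¹ = b := by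
  obtain ⟨x, hx, h1⟩ := Qs_ex h A hi hF
  have hc : Ovz W (x⁻¹ * m) 1 := by
    have := h1.inv.mul hσ
    rwa [inv_mul_cancel] at this
  have h2 := h.Dl_comm (mul_mem (inv_mem (h.QsP i hx)) hm) (comm_of_one A hc) H.D
  have h3 := (h.mem_B.1 H.B).2 x hx
  calc m * b * m⁻¹ = x * ((x⁻¹ * m) * b) * (x⁻¹ * m)⁻¹ * x⁻¹ := by group
    _ = x * b * x⁻¹ := by rw [h2]; group
    _ = b := by rw [← h3]; group

/-- some element of `P ∩ C(z)` moves `b` -/
theorem Bs.moved [Nonempty ι] {i : ι} {b : G} (H : Bs h i b) :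
    ∃ m ∈ P, m * z i = z i * m ∧ m * b * m⁻¹ = b * z i := by
  by_contra hc
  push Not at hc
  have hfix : ∀ m ∈ P, m * z i = z i * m → m * b * m⁻¹ = b := by
    intro m hm hmz
    rcases Bs.conj h A H hm hmz with h1 | h1
    · exact h1
    · exact absurd h1 (hc m hm hmz)
  have hbb := h.Dl_sq H.D
  have h1 := h.min i (zpowers b) (by
    rw [zpowers_le]; exact h.Dl_le_T H.D) (fun m hm hmz x hx => by
      obtain ⟨n, rfl⟩ := mem_zpowers_iff.1 hx
      rw [← conj_zpow, hfix m hm hmz]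
      exact zpow_mem (mem_zpowers b) n) (by
      rw [Ne, zpowers_eq_bot]
      rintro rfl
      exact H.V (one_mem _))
  obtain ⟨n, hn⟩ := mem_zpowers_iff.1 h1
  rcases Int.even_or_odd' n with ⟨k, rfl | rfl⟩
  · rw [zpow_mul, zpow_two, hbb, one_zpow] at hn
    exact h.ne_one i hn.symm
  · rw [zpow_add, zpow_mul, zpow_two, hbb, one_zpow, one_mul, zpow_one] at hn
    exact H.V (hn ▸ h.zV i)

/-- the elements over `(02)(13)` map `b` to `bz` -/
theorem Bs.tt [Nonempty ι] {i : ι} {b : G} (H : Bs h i b) (hi : z i = W z0) {m : G} (hm : m ∈ P)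
    (hσ : Ovz W m LabOf.tt) : m * b * m⁻¹ = b * z i := by
  obtain ⟨n, hn, hnz, h1⟩ := Bs.moved h A H
  obtain ⟨τ, hτ⟩ := A.act n hn
  have hτz : sA τ z0 = z0 := z_fix A hτ (by rwa [← hi])
  rcases F_or τ hτz with hF | hF
  · exfalso
    have h2 := Bs.F h A H hi hn hτ hF
    rw [h2] at h1
    exact h.ne_one i (left_eq_mul.1 h1)
  · have h2 := Bs.F h A H hi (mul_mem hn (inv_mem hm)) (Ovz.mul hτ (Ovz.inv hσ)) hF
    have h3 : (n * m⁻¹) * z i * (n * m⁻¹)⁻¹ = z i := by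
      have h4 : m * z i * m⁻¹ = z i := by
        have := A.conj_eq hσ z0
        rwa [sA_tt, ← hi] at this
      have h5 : m⁻¹ * z i * m = z i := by
        calc m⁻¹ * z i * m = m⁻¹ * (m * z i * m⁻¹) * m := by rw [h4]
          _ = z i := by group
      calc (n * m⁻¹) * z i * (n * m⁻¹)⁻¹ = n * (m⁻¹ * z i * m) * n⁻¹ := by group
        _ = z i := by rw [h5, hnz, mul_inv_cancel_right]
    calc m * b * m⁻¹ = (n * m⁻¹)⁻¹ * (n * b * n⁻¹) * (n * m⁻¹) := by group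
      _ = (n * m⁻¹)⁻¹ * (b * z i) * (n * m⁻¹) := by rw [h1]
      _ = (n * m⁻¹)⁻¹ * (((n * m⁻¹) * b * (n * m⁻¹)⁻¹) * ((n * m⁻¹) * z i * (n * m⁻¹)⁻¹)) * (n * m⁻¹) := by
        rw [h2, h3]
      _ = b * z i := by group

/-- `|Δ : V| = 2` -/
theorem Bs.two [Nonempty ι] {i : ι} {b : G} (H : Bs h i b) (hi : z i = W z0) {d : G} (hd : d ∈ h.Dl)
    (hdV : d ∉ V) : d * b ∈ V := by
  obtain ⟨b', v, H', hv, rfl⟩ := exists_bs h A hd hdV i
  have hvb : v * b = b * v := (h.TV b (h.Dl_le_T H.D) v hv).symm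
  by_contra hc
  have hbb : Bs h i (b' * b) := by
    refine ⟨mul_mem H'.B H.B, mul_mem H'.D H.D, fun h1 => hc ?_⟩
    rw [mul_assoc, hvb, ← mul_assoc]
    exact mul_mem h1 hv
  obtain ⟨m, hm, hσ⟩ := A.full LabOf.tt
  have h1 := Bs.tt h A H hi hm hσ
  have h2 := Bs.tt h A H' hi hm hσ
  have h3 := Bs.tt h A hbb hi hm hσ
  have h4 : m * (b' * b) * m⁻¹ = b' * b := by
    calc m * (b' * b) * m⁻¹ = (m * b' * m⁻¹) * (m * b * m⁻¹) := by group
      _ = (b' * z i) * (b * z i) := by rw [h1, h2]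
      _ = b' * (z i * b) * z i := by group
      _ = b' * b * (z i * z i) := by rw [← Dl_z h A H.D i]; group
      _ = b' * b := by rw [h.sq, mul_one]
  rw [h4] at h3
  exact h.ne_one i (left_eq_mul.1 h3)

/-- the cocycle -/
theorem Bs.coc [Nonempty ι] {i : ι} {b : G} (H : Bs h i b) : ∃ c : Equiv.Perm (Fin 5) → B4,
    ∀ m ∈ P, ∀ σ, Ovz W m σ → m * b * m⁻¹ = b * W (c σ) := by
  have hex : ∀ σ : Equiv.Perm (Fin 5), ∃ x : B4, ∀ m ∈ P, Ovz W m σ → m * b * m⁻¹ = b * W x := by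
    intro σ
    obtain ⟨m, hm, hσ⟩ := A.full σ
    obtain ⟨x, hx⟩ := A.surj _ (comm_Dl_P h A hm H.D)
    refine ⟨x, fun n hn hτ => ?_⟩
    have hc : Ovz W (m⁻¹ * n) 1 := by
      have := (Ovz.inv hσ).mul hτ
      rwa [inv_mul_cancel] at this
    have h2 := h.Dl_comm (mul_mem (inv_mem hm) hn) (comm_of_one A hc) H.D
    calc n * b * n⁻¹ = m * ((m⁻¹ * n) * b) * (m⁻¹ * n)⁻¹ * m⁻¹ := by group
      _ = m * b * m⁻¹ := by rw [h2]; group
      _ = b * W x := by rw [← hx]; group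
  choose c hc using hex
  exact ⟨c, fun m hm σ hσ => hc σ m hm hσ⟩

/-- **the choice of `b = y₀₁`** -/
theorem exists_b [Nonempty ι] (hDl : ¬ h.Dl ≤ V) {i : ι} (hi : z i = W z0) : ∃ b, Bs h i b ∧
    (∀ m ∈ P, Ovz W m s0 → m * b * m⁻¹ = b) ∧ (∀ m ∈ P, Ovz W m s1 → m * b * m⁻¹ = b * W (dec 1)) ∧
    (∀ m ∈ P, Ovz W m s2 → m * b * m⁻¹ = b) ∧ ∀ m ∈ P, Ovz W m s3 → m * b * m⁻¹ = b := by
  obtain ⟨d, hd, hdV⟩ := SetLike.not_le_iff_exists.1 hDl
  obtain ⟨b, v, H, hv, rfl⟩ := exists_bs h A hd hdV i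
  obtain ⟨c, hc⟩ := Bs.coc h A H
  have hcan : ∀ x y : B4, b * W x = b * W y → x = y := fun x y e => A.inj _ _ (mul_left_cancel e)
  have c0 : ∀ σ, isF σ → c σ = b0 := by
    intro σ hF
    obtain ⟨m, hm, hσ⟩ := A.full σ
    apply hcan
    rw [← hc m hm σ hσ, Bs.F h A H hi hm hσ hF, A.zero, mul_one]
  have cm : ∀ σ τ, c (σ * τ) = ad (c σ) (sA σ (c τ)) := by
    intro σ τ
    obtain ⟨m, hm, hσ⟩ := A.full σ
    obtain ⟨n, hn, hτ⟩ := A.full τ
    apply hcan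
    rw [← hc (m * n) (mul_mem hm hn) _ (Ovz.mul hσ hτ), A.mul]
    calc m * n * b * (m * n)⁻¹ = m * (n * b * n⁻¹) * m⁻¹ := by group
      _ = m * (b * W (c τ)) * m⁻¹ := by rw [hc n hn τ hτ]
      _ = (m * b * m⁻¹) * (m * W (c τ) * m⁻¹) := by group
      _ = b * (W (c σ) * W (sA σ (c τ))) := by rw [hc m hm σ hσ, A.conj_eq hσ, mul_assoc]
  have ct : c LabOf.tt = z0 := by
    obtain ⟨m, hm, hσ⟩ := A.full LabOf.tt
    apply hcan
    rw [← hc m hm _ hσ, Bs.tt h A H hi hm hσ, hi]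
  have hs0 := c0 s0 (Or.inr (Or.inl rfl))
  have hs2 := c0 s2 (Or.inr (Or.inr (Or.inl rfl)))
  have had : ∀ x, ad b0 x = x := by decide
  have had' : ∀ x, ad x b0 = x := by decide
  have hsA0 : ∀ σ, sA σ b0 = b0 := fun σ => by
    rw [sA, lin]; rfl
  have e1 : sA s0 (c s3) = c s3 := by
    have h1 := cm s0 s3
    rw [s03, cm, hs0, had, hsA0, had'] at h1
    exact h1.symm
  have e2 : ad (c s1) (sA s1 (c s3)) = ad (c s3) (sA s3 (c s1)) := by
    rw [← cm, ← cm, s13]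
  have e3 : ad (c s1) (sA s1 (sA s0 (sA s2 (c s1)))) = z0 := by
    rw [← ct, ← tt_eq, cm, cm, cm, hs0, hs2, had, had]
  rcases code _ _ e1 e2 e3 with ⟨h1, h2⟩ | ⟨h1, h2⟩
  · refine ⟨b, H, ?_, ?_, ?_, ?_⟩
    · intro m hm hσ
      rw [hc m hm _ hσ, hs0, A.zero, mul_one]
    · intro m hm hσ
      rw [hc m hm _ hσ, h1]
    · intro m hm hσ
      rw [hc m hm _ hσ, hs2, A.zero, mul_one]
    · intro m hm hσ
      rw [hc m hm _ hσ, h2, A.zero, mul_one]
  · have key : ∀ m ∈ P, ∀ σ, Ovz W m σ →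
        m * (b * z i) * m⁻¹ = b * z i * W (ad z0 (ad (c σ) (sA σ z0))) := by
      intro m hm σ hσ
      calc m * (b * z i) * m⁻¹ = (m * b * m⁻¹) * (m * z i * m⁻¹) := by group
        _ = b * W (c σ) * W (sA σ z0) := by rw [hc m hm σ hσ, hi, A.conj_eq hσ]
        _ = b * z i * W (ad z0 (ad (c σ) (sA σ z0))) := by
          rw [A.mul, A.mul, ← hi]
          calc b * W (c σ) * W (sA σ z0) = b * (z i * z i) * (W (c σ) * W (sA σ z0)) := by
                rw [h.sq, mul_one, mul_assoc]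
            _ = _ := by group
    refine ⟨b * z i, Bs.mul_z h A H, ?_, ?_, ?_, ?_⟩
    · intro m hm hσ
      rw [key m hm _ hσ, hs0, had, sA_s0, ad_self, A.zero, mul_one]
    · intro m hm hσ
      rw [key m hm _ hσ, h1]
    · intro m hm hσ
      rw [key m hm _ hσ, hs2, had, sA_s2, ad_self, A.zero, mul_one]
    · intro m hm hσ
      rw [key m hm _ hσ, h2, A.zero, mul_one]

/-- the elements `y a b` are permuted by `P` -/
theorem ov_of [Nonempty ι] {i : ι} {b : G} (H : Bs h i b)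
    (hb0 : ∀ m ∈ P, Ovz W m s0 → m * b * m⁻¹ = b)
    (hb1 : ∀ m ∈ P, Ovz W m s1 → m * b * m⁻¹ = b * W (dec 1))
    (hb2 : ∀ m ∈ P, Ovz W m s2 → m * b * m⁻¹ = b)
    (hb3 : ∀ m ∈ P, Ovz W m s3 → m * b * m⁻¹ = b) (σ : Equiv.Perm (Fin 5)) :
    ∀ m ∈ P, Ovz W m σ → ∀ p q, p ≠ q →
      m * (b * W (kk p q)) * m⁻¹ = b * W (kk (σ p) (σ q)) := by
  let K : Submonoid (Equiv.Perm (Fin 5)) :=
    { carrier := {σ | ∀ m ∈ P, Ovz W m σ → ∀ p q, p ≠ q →
        m * (b * W (kk p q)) * m⁻¹ = b * W (kk (σ p) (σ q))}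
      mul_mem' := by
        intro σ τ hσ hτ m hm h1 p q hpq
        obtain ⟨n, hn, h2⟩ := A.full τ
        have h3 : Ovz W (m * n⁻¹) σ := by
          have := Ovz.mul h1 (Ovz.inv h2)
          rwa [mul_inv_cancel_right] at this
        have h4 := hτ n hn h2 p q hpq
        have h5 := hσ _ (mul_mem hm (inv_mem hn)) h3 (τ p) (τ q) (τ.injective.ne hpq)
        rw [← h4] at h5
        calc m * (b * W (kk p q)) * m⁻¹ =
            m * n⁻¹ * (n * (b * W (kk p q)) * n⁻¹) * (m * n⁻¹)⁻¹ := by group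
          _ = _ := h5
      one_mem' := by
        intro m hm h1 p q _
        have h2 := h.Dl_comm hm (comm_of_one A h1) (mul_mem H.D (h.V_le_Dl (A.mem (kk p q))))
        rw [h2, mul_inv_cancel_right]
        rfl }
  have hc : ∀ m (x y : B4) (u : G), m * b * m⁻¹ = u → m * W x * m⁻¹ = W y →
      m * (b * W x) * m⁻¹ = u * W y := by
    intro m x y u h1 h2
    rw [← h1, ← h2]; group
  have hK : K = ⊤ := by
    apply ind5
    · intro m hm h1 p q hpq
      rw [hc m _ _ _ (hb0 m hm h1) (A.conj_eq h1 _), kk_s0 p q hpq]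
    · intro m hm h1 p q hpq
      rw [hc m _ _ _ (hb1 m hm h1) (A.conj_eq h1 _), mul_assoc, ← A.mul, kk_s1 p q hpq]
    · intro m hm h1 p q hpq
      rw [hc m _ _ _ (hb2 m hm h1) (A.conj_eq h1 _), kk_s2 p q hpq]
    · intro m hm h1 p q hpq
      rw [hc m _ _ _ (hb3 m hm h1) (A.conj_eq h1 _), kk_s3 p q hpq]
  have hσ : σ ∈ K := by rw [hK]; trivial
  exact hσ

/-- **The labels** if `Δ > V`. -/
theorem exists_lab [Nonempty ι] (hinj : Function.Injective z) (hDl : ¬ h.Dl ≤ V) :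
    ∃ (y : Fin 5 → Fin 5 → G) (pt : Fin 5 → Fin 5 → Fin 5 → Fin 5 → ι), Lab h y pt := by
  classical
  obtain ⟨i, hi⟩ := exists_idx h A (x := z0) (by decide)
  obtain ⟨b, H, hb0, hb1, hb2, hb3⟩ := exists_b h A hDl hi
  have hov := ov_of h A H hb0 hb1 hb2 hb3
  -- the points
  obtain ⟨f, hf⟩ : ∃ f : B4 → ι, ∀ x, x ≠ b0 → z (f x) = W x := by
    have h1 : ∀ x : B4, ∃ i, x ≠ b0 → z i = W x := by
      intro x
      by_cases hx : x = b0
      · exact ⟨i, fun h' => absurd hx h'⟩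
      · obtain ⟨j, hj⟩ := exists_idx h A hx
        exact ⟨j, fun _ => hj⟩
    choose f hf using h1
    exact ⟨f, hf⟩
  have hpt : ∀ a b c d, D4 a b c d → z (f (tb a b c d)) = W (tb a b c d) :=
    fun a b c d hD => hf _ (tb_ne a b c d hD)
  have hi0 : f (tb 0 1 2 3) = i := hinj (by rw [hpt 0 1 2 3 (by decide), hi])
  set y : Fin 5 → Fin 5 → G := fun p q => b * W (kk p q) with hy
  have hyD : ∀ p q, y p q ∈ h.Dl := fun p q => mul_mem H.D (h.V_le_Dl (A.mem _))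
  have hyV : ∀ p q, y p q ∉ V := fun p q hc => H.V (by
    have h1 := mul_mem hc (inv_mem (A.mem (kk p q)))
    rwa [hy, mul_inv_cancel_right] at h1)
  have hb01 : y 0 1 = b := by
    rw [hy]; show b * W (kk 0 1) = b
    rw [kk_01, A.zero, mul_one]
  have hb23 : y 2 3 = b * z i := by
    rw [hy]; show b * W (kk 2 3) = b * z i
    rw [kk_23, hi]
  have hOv : ∀ m ∈ P, ∀ σ, Ovz W m σ → Ov P y σ m := fun m hm σ hσ =>
    ⟨hm, fun p q hpq => hov σ m hm hσ p q hpq⟩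
  have hbV : ∀ x, b * W x = W x * b := fun x => h.TV b (h.Dl_le_T H.D) _ (A.mem x)
  have hbb : b * b = 1 := h.Dl_sq H.D
  have hyy : ∀ p q r s, y p q * y r s = W (ad (kk p q) (kk r s)) := by
    intro p q r s
    rw [A.mul]
    show b * W (kk p q) * (b * W (kk r s)) = _
    calc b * W (kk p q) * (b * W (kk r s)) = (b * W (kk p q)) * b * W (kk r s) := by group
      _ = W (kk p q) * (b * b) * W (kk r s) := by rw [hbV]; group
      _ = _ := by rw [hbb, mul_one]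
  -- transport
  have htr : ∀ a b c d m, D5 a b c d m → ∃ g ∈ P, ∃ σ : Equiv.Perm (Fin 5), Ovz W g σ ∧ Ov P y σ g ∧
      σ 0 = a ∧ σ 1 = b ∧ σ 2 = c ∧ σ 3 = d ∧ σ 4 = m ∧ g * z i * g⁻¹ = z (f (tb a b c d)) := by
    intro a b c d m hD
    obtain ⟨σ, h0, h1, h2, h3, h4⟩ := exists_perm5 hD
    obtain ⟨g, hg, hσ⟩ := A.full σ
    refine ⟨g, hg, σ, hσ, hOv g hg σ hσ, h0, h1, h2, h3, h4, ?_⟩
    rw [hpt a b c d hD.1, hi]
    have := hσ 0 1 2 3 (by decide)
    rwa [h0, h1, h2, h3] at this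
  have hB0 : ∀ x ∈ h.Dl, (x ∈ h.B i ↔ x = 1 ∨ x = z i ∨ x = y 0 1 ∨ x = y 2 3) := by
    intro x hx
    rw [hb01, hb23]
    constructor
    · intro hxB
      by_cases hxV : x ∈ V
      · rcases BV h A hxB hxV with h1 | h1
        · exact Or.inl h1
        · exact Or.inr (Or.inl h1)
      · have h1 := Bs.two h A H hi hx hxV
        have hbi : b⁻¹ = b := inv_eq_of_mul_eq_one_left hbb
        rcases BV h A (mul_mem hxB H.B) h1 with h2 | h2
        · right; right; left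
          rw [mul_eq_one_iff_eq_inv] at h2
          rw [h2, hbi]
        · right; right; right
          rw [Dl_z h A H.D i, ← h2, mul_assoc, hbb, mul_one]
    · rintro (rfl | rfl | rfl | rfl)
      · exact one_mem _
      · exact z_mem_B h A i
      · exact H.B
      · exact mul_mem H.B (z_mem_B h A i)
  have hconjDl : ∀ g ∈ P, ∀ x ∈ h.Dl, g⁻¹ * x * g ∈ h.Dl := by
    intro g hg x hx
    have := norm_conj h.Dl_norm (inv_mem hg) hx
    rwa [inv_inv] at this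
  have hBiff : ∀ a b c d, D4 a b c d → ∀ x ∈ h.Dl,
      (x ∈ h.B (f (tb a b c d)) ↔ x = 1 ∨ x = z (f (tb a b c d)) ∨ x = y a b ∨ x = y c d) := by
    intro a b' c d hD x hx
    obtain ⟨m, hD5⟩ := exists_fifth a b' c d hD
    obtain ⟨g, hg, σ, -, hσ, h0, h1, h2, h3, h4, hz⟩ := htr a b' c d m hD5
    have e1 := hσ.2 0 1 (by decide)
    have e2 := hσ.2 2 3 (by decide)
    rw [h0, h1] at e1
    rw [h2, h3] at e2
    have h5 : x ∈ h.B (f (tb a b' c d)) ↔ g⁻¹ * x * g ∈ h.B i := by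
      constructor
      · intro h6
        have := h.eqB (inv_mem hg) (Conf.back hz) h6
        rwa [inv_inv] at this
      · intro h6
        have := h.eqB hg hz h6
        have e : g * (g⁻¹ * x * g) * g⁻¹ = x := by group
        rwa [e] at this
    rw [h5, hB0 _ (hconjDl g hg x hx), ← e1, ← e2, ← hz]
    have h6 : ∀ u, g⁻¹ * x * g = u ↔ x = g * u * g⁻¹ := by
      intro u
      constructor
      · rintro rfl; group
      · intro e; rw [e]; group
    rw [h6, h6, h6, h6, mul_one, mul_inv_cancel]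
  have hconjQ : ∀ {a b c d m} (_ : D5 a b c d m) {g : G}, g ∈ P → g * z i * g⁻¹ = z (f (tb a b c d)) →
      ∀ x, x ∈ Q i ↔ g * x * g⁻¹ ∈ Q (f (tb a b c d)) := by
    intro a b c d m _ g hg hz x
    constructor
    · exact h.eqQ g hg i _ hz x
    · intro h6
      have := h.eqQ _ (inv_mem hg) _ _ (Conf.back hz) _ h6
      have e : g⁻¹ * (g * x * g⁻¹) * g⁻¹⁻¹ = x := by group
      rwa [e] at this
  have hbQ : b ∈ Q i := h.B_Q i H.B
  refine ⟨y, fun a b c d => f (tb a b c d), ?_⟩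
  exact
  { symm := fun p q => by
      show b * W (kk p q) = b * W (kk q p)
      rw [kk_symm]
    ne_one := fun p q _ h1 => hyV p q (h1 ▸ one_mem _)
    sq := fun p q _ => h.Dl_sq (hyD p q)
    comm := fun p q r s _ _ => h.T_Dl (h.Dl_le_T (hyD p q)) (hyD r s)
    inj := fun p q r s hpq hrs e => kk_inj p q r s hpq hrs (A.inj _ _ (mul_left_cancel e))
    z_eq := fun p q r s hD => by rw [hpt p q r s hD, hyy, kk_tb p q r s hD]
    surj := by
      intro j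
      obtain ⟨x, hx⟩ := A.surj _ (h.zV j)
      have hx0 : x ≠ b0 := by
        rintro rfl
        exact h.ne_one j (hx.trans A.zero)
      obtain ⟨p, q, r, s, hD, rfl⟩ := Tab.exists_pt x hx0
      exact ⟨p, q, r, s, hD, hinj (by rw [hx, hpt p q r s hD])⟩
    rel := fun p q r s m hD => by rw [hyy, hyy, kk_rel p q r s m hD]
    notV := fun p q _ => hyV p q
    mem_iff := by
      intro p q _ x
      constructor
      · intro hx
        by_cases hxV : x ∈ V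
        · exact Or.inl hxV
        · right
          have h1 := Bs.two h A H hi hx hxV
          show x * (b * W (kk p q)) ∈ V
          rw [← mul_assoc]
          exact mul_mem h1 (A.mem _)
      · rintro (hx | hx)
        · exact h.V_le_Dl hx
        · have h1 := mul_mem (h.V_le_Dl hx) (inv_mem (hyD p q))
          rwa [mul_inv_cancel_right] at h1
    B_iff := hBiff
    yQ := by
      intro p q r s m hD
      refine ⟨h.B_Q _ ((hBiff p q r s hD.1 _ (hyD p q)).2 (Or.inr (Or.inr (Or.inl rfl)))), ?_⟩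
      obtain ⟨g, hg, σ, -, hσ, h0, h1, h2, h3, h4, hz⟩ := htr p q r s m hD
      have e1 := hσ.2 0 4 (by decide)
      rw [h0, h4] at e1
      rw [← e1]
      exact (hconjQ hD hg hz _).1 (mul_mem hbQ ((mem_Q h A hi _).2 (by decide +kernel)))
    yQ' := by
      intro p q r s m hD
      obtain ⟨g, hg, σ, -, hσ, h0, h1, h2, h3, h4, hz⟩ := htr p q r s m hD
      have e1 := hσ.2 0 2 (by decide)
      rw [h0, h2] at e1
      rw [← e1, ← hconjQ hD hg hz]
      intro hc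
      have h5 := mul_mem (inv_mem hbQ) hc
      have h6 : b⁻¹ * y 0 2 = W (kk 0 2) := by
        show b⁻¹ * (b * W (kk 0 2)) = _
        group
      rw [h6, mem_Q h A hi] at h5
      exact absurd h5 (by decide +kernel)
    act := by
      intro m hm
      obtain ⟨σ, hσ⟩ := A.act m hm
      exact ⟨σ, hOv m hm σ hσ⟩
    full := by
      intro σ
      obtain ⟨m, hm, hσ⟩ := A.full σ
      exact ⟨m, hOv m hm σ hσ⟩
    Qs_ov := by
      intro p q r s hD x hx
      obtain ⟨m, hD5⟩ := exists_fifth p q r s hD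
      obtain ⟨g, hg, σ, hσ, -, h0, h1, h2, h3, h4, hz⟩ := htr p q r s m hD5
      have hx' : g⁻¹ * x * g⁻¹⁻¹ ∈ Qs i := h.eqQs _ (inv_mem hg) _ _ (Conf.back hz) x hx
      obtain ⟨τ, hτ⟩ := A.act _ (h.QsP i hx')
      have hF := Qs_F h A hi hx' hτ
      have hxo : Ovz W x (σ * τ * σ⁻¹) := by
        have h5 := (Ovz.mul hσ hτ).mul (Ovz.inv hσ)
        have e : g * (g⁻¹ * x * g⁻¹⁻¹) * g⁻¹ = x := by group
        rwa [e] at h5
      have hO := hOv x (h.QsP _ hx) _ hxo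
      have hc0 : σ * s0 * σ⁻¹ = Equiv.swap p q := by
        rw [← h0, ← h1, Equiv.swap_apply_apply]
      have hc2 : σ * s2 * σ⁻¹ = Equiv.swap r s := by
        rw [← h2, ← h3, Equiv.swap_apply_apply]
      rcases hF with rfl | rfl | rfl | rfl
      · left
        rwa [mul_one, mul_inv_cancel] at hO
      · right; left
        rwa [hc0] at hO
      · right; right; left
        rwa [hc2] at hO
      · right; right; right
        have e : σ * (s0 * s2) * σ⁻¹ = (σ * s0 * σ⁻¹) * (σ * s2 * σ⁻¹) := by group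
        rwa [e, hc0, hc2] at hO
    Qs_ex := by
      intro p q r s hD
      obtain ⟨m, hD5⟩ := exists_fifth p q r s hD
      obtain ⟨g, hg, σ, hσ, -, h0, h1, h2, h3, h4, hz⟩ := htr p q r s m hD5
      obtain ⟨x, hx, h5⟩ := Qs_ex h A hi (τ := s0) (Or.inr (Or.inl rfl))
      refine ⟨g * x * g⁻¹, h.eqQs g hg i _ hz x hx, ?_⟩
      have hc0 : σ * s0 * σ⁻¹ = Equiv.swap p q := by
        rw [← h0, ← h1, Equiv.swap_apply_apply]
      rw [← hc0]
      exact hOv _ (mul_mem (mul_mem hg (h.QsP i hx)) (inv_mem hg)) _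
        ((Ovz.mul hσ h5).mul (Ovz.inv hσ))
    opp_iff := by
      intro p q r s m hD j
      obtain ⟨g, hg, σ, hσ, -, h0, h1, h2, h3, h4, hz⟩ := htr p q r s m hD
      obtain ⟨x, hx⟩ := A.surj _ (h.conj_V (inv_mem hg) (h.zV j))
      have hzj : z j = g * W x * g⁻¹ := by
        rw [← hx]; group
      have hpe : ∀ p' q' r' s', D4 p' q' r' s' → (j = f (tb (σ p') (σ q') (σ r') (σ s')) ↔
          x = tb p' q' r' s') := by
        intro p' q' r' s' hD'
        have h5 := hpt _ _ _ _ (Tab.D4.map hD' σ)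
        have h6 := hσ p' q' r' s' hD'
        constructor
        · intro e
          apply A.inj
          have h7 : g * W x * g⁻¹ = g * W (tb p' q' r' s') * g⁻¹ := by
            rw [← hzj, h6, ← h5, ← e]
          exact mul_left_cancel (mul_right_cancel h7)
        · rintro rfl
          apply hinj
          rw [hzj, h6, h5]
      show opp (f (tb p q r s)) j ↔ _
      rw [h.opp_iff, hzj, ← hconjQ hD hg hz, mem_Q h A hi, Bool.not_eq_false, opp_code,
        ← hpe 0 2 1 4 (by decide), ← hpe 0 3 1 4 (by decide), ← hpe 1 2 0 4 (by decide),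
        ← hpe 1 3 0 4 (by decide), ← hpe 0 2 3 4 (by decide), ← hpe 1 2 3 4 (by decide),
        ← hpe 0 3 2 4 (by decide), ← hpe 1 3 2 4 (by decide), h0, h1, h2, h3, h4]
    pt1 := fun p q r s hD => by
      show f (tb p q r s) = f (tb q p r s)
      rw [tb_swap1 p q r s hD]
    pt2 := fun p q r s hD => by
      show f (tb p q r s) = f (tb r s p q)
      rw [tb_swap2 p q r s hD] }

end

end Cfsg.Agent.Omega.NOne.AG.LabOf
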