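import Cfsg.Agent.Omega.NOne.AG.Conf

/-!
# THEOREM D0ag (bb #15001), type (α): labels

* `D4 a b c d`, `D5 a b c d m` : the indices (in `Fin 5`) are distinct;
* `Alp P V Z` : the 15 points of the natural `SL₂(4)`-module `V` for `S₅ = SL₂(4).2`, labelled as
  `Z a b c d = z_{ab|cd}` (`a, b, c, d` distinct);
* `Lab h y pt` : the case `Δ > V`: ten elements `y a b = y b a` of `Δ - V`, `z (pt a b c d) = y a b * y c d`.

`Ov P y σ m` : `m ∈ P` acts as `σ` on the `y a b`.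
-/

set_option autoImplicit false

namespace Cfsg.Agent.Omega.NOne.AG

open Subgroup Cfsg Cfsg.Agent.ZN

universe u

/-- the indices are distinct -/
def D4 (a b c d : Fin 5) : Prop := a ≠ b ∧ a ≠ c ∧ a ≠ d ∧ b ≠ c ∧ b ≠ d ∧ c ≠ d

/-- the indices are distinct -/
def D5 (a b c d m : Fin 5) : Prop := D4 a b c d ∧ m ≠ a ∧ m ≠ b ∧ m ≠ c ∧ m ≠ d

instance (a b c d : Fin 5) : Decidable (D4 a b c d) := by unfold D4; infer_instance

instance (a b c d m : Fin 5) : Decidable (D5 a b c d m) := by unfold D5; infer_instance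

variable {G : Type u} [Group G] {ι : Type*}

/-- **(α)**: the 15 points of `V`, labelled: `Z a b c d = z_{ab|cd}`. -/
structure Alp (P V : Subgroup G) (Z : Fin 5 → Fin 5 → Fin 5 → Fin 5 → G) : Prop where
  swap1 : ∀ a b c d, D4 a b c d → Z a b c d = Z b a c d
  swap2 : ∀ a b c d, D4 a b c d → Z a b c d = Z c d a b
  ne_one : ∀ a b c d, D4 a b c d → Z a b c d ≠ 1
  mem : ∀ a b c d, D4 a b c d → Z a b c d ∈ V
  sq : ∀ v ∈ V, v * v = 1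
  comm : ∀ v ∈ V, ∀ w ∈ V, v * w = w * v
  card : Nat.card V = 16
  surj : ∀ v ∈ V, v ≠ 1 → ∃ a b c d, D4 a b c d ∧ v = Z a b c d
  /-- the `F₄`-line of `z_{ab|cd}` -/
  line4 : ∀ a b c d, D4 a b c d → Z a b c d * Z a c b d = Z a d b c
  /-- `C_V((ab))` -/
  line2 : ∀ a b c d m, D5 a b c d m → Z a b c d * Z a b c m = Z a b d m
  /-- a hyperbolic line -/
  hyp : ∀ a b c d m, D5 a b c d m → Z a b c d * Z b c d m = Z b m a d
  act : ∀ m ∈ P, ∃ σ : Equiv.Perm (Fin 5), ∀ a b c d, D4 a b c d →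
    m * Z a b c d * m⁻¹ = Z (σ a) (σ b) (σ c) (σ d)
  full : ∀ σ : Equiv.Perm (Fin 5), ∃ m ∈ P, ∀ a b c d, D4 a b c d →
    m * Z a b c d * m⁻¹ = Z (σ a) (σ b) (σ c) (σ d)

/-- `m ∈ P` acts as `σ` on the `y a b` -/
def Ov (P : Subgroup G) (y : Fin 5 → Fin 5 → G) (σ : Equiv.Perm (Fin 5)) (m : G) : Prop :=
  m ∈ P ∧ ∀ a b, a ≠ b → m * y a b * m⁻¹ = y (σ a) (σ b)

/-- **The case `Δ > V`** (type (α)): the ten elements `y a b`. -/
structure Lab {P V T : Subgroup G} {z : ι → G} {opp : ι → ι → Prop} {C Q QF Qs : ι → Subgroup G}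
    (h : Conf P V T z opp C Q QF Qs) (y : Fin 5 → Fin 5 → G)
    (pt : Fin 5 → Fin 5 → Fin 5 → Fin 5 → ι) : Prop where
  symm : ∀ a b, y a b = y b a
  ne_one : ∀ a b, a ≠ b → y a b ≠ 1
  sq : ∀ a b, a ≠ b → y a b * y a b = 1
  comm : ∀ a b c d, a ≠ b → c ≠ d → y a b * y c d = y c d * y a b
  inj : ∀ a b c d, a ≠ b → c ≠ d → y a b = y c d → (a = c ∧ b = d) ∨ (a = d ∧ b = c)
  z_eq : ∀ a b c d, D4 a b c d → z (pt a b c d) = y a b * y c d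
  surj : ∀ i, ∃ a b c d, D4 a b c d ∧ i = pt a b c d
  /-- `y_{ab} y_{am} = z_{cd|bm}` -/
  rel : ∀ a b c d m, D5 a b c d m → y a b * y a m = y c d * y b m
  notV : ∀ a b, a ≠ b → y a b ∉ V
  /-- `Δ = V ∪ y V` -/
  mem_iff : ∀ a b, a ≠ b → ∀ x, x ∈ h.Dl ↔ x ∈ V ∨ x * y a b ∈ V
  /-- `Y_i = B_i ∩ Δ` -/
  B_iff : ∀ a b c d, D4 a b c d → ∀ x ∈ h.Dl,
    (x ∈ h.B (pt a b c d) ↔ x = 1 ∨ x = z (pt a b c d) ∨ x = y a b ∨ x = y c d)
  /-- `y_e ∈ Q_i` for `e ∈ {ab, am}` -/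
  yQ : ∀ a b c d m, D5 a b c d m → y a b ∈ Q (pt a b c d) ∧ y a m ∈ Q (pt a b c d)
  /-- `y_e ∉ Q_i` for `e = ac` -/
  yQ' : ∀ a b c d m, D5 a b c d m → y a c ∉ Q (pt a b c d)
  /-- `P / C_P(Δ) = S₅` -/
  act : ∀ m ∈ P, ∃ σ : Equiv.Perm (Fin 5), Ov P y σ m
  full : ∀ σ : Equiv.Perm (Fin 5), ∃ m, Ov P y σ m
  /-- `Qs i` induces `⟨(ab), (cd)⟩` -/
  Qs_ov : ∀ a b c d, D4 a b c d → ∀ x ∈ Qs (pt a b c d), Ov P y 1 x ∨ Ov P y (Equiv.swap a b) x ∨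
    Ov P y (Equiv.swap c d) x ∨ Ov P y (Equiv.swap a b * Equiv.swap c d) x
  Qs_ex : ∀ a b c d, D4 a b c d → ∃ x ∈ Qs (pt a b c d), Ov P y (Equiv.swap a b) x
  /-- the points opposite to `ab|cd` -/
  opp_iff : ∀ a b c d m, D5 a b c d m → ∀ i, opp (pt a b c d) i ↔
    i = pt a c b m ∨ i = pt a d b m ∨ i = pt b c a m ∨ i = pt b d a m ∨
    i = pt a c d m ∨ i = pt b c d m ∨ i = pt a d c m ∨ i = pt b d c m
  /-- `pt` depends only on the point -/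
  pt1 : ∀ a b c d, D4 a b c d → pt a b c d = pt b a c d
  pt2 : ∀ a b c d, D4 a b c d → pt a b c d = pt c d a b

end Cfsg.Agent.Omega.NOne.AG
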