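import Cfsg.Agent.Omega.NOne.AG.SevenOf
import Cfsg.Agent.Omega.NOne.AG.TransY

/-!
# THEOREM D0ag (#15001), section (7): `Δ > V`, image `D₈` is impossible; helper950

`Seven.seven` : `Base` + `Lab` + (5) (`Tt i ≤ Δ`) + `Q i₀ ≠ QF i₀` is a contradiction.
-/

set_option autoImplicit false

namespace Cfsg.Agent.Omega.NOne.AG.Seven

open Subgroup Cfsg Cfsg.Agent.ZN Cfsg.Agent.Omega.NOne.AG Cfsg.Agent.Omega.NOne.AG.GData
open Cfsg.Agent.Omega.NOne.AG.FiveDl (Ys Yt ac ph par)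
open Cfsg.Agent.Omega.NOne.AG.LabY (tt)

universe u

/-! ### fixed points on `Δ` -/

/-- the seven nontrivial elements of `D₈` -/
def L7 : List (Equiv.Perm (Fin 5)) :=
  [Equiv.swap 0 1, Equiv.swap 2 3, Equiv.swap 0 1 * Equiv.swap 2 3,
    tt, tt * Equiv.swap 0 1, tt * Equiv.swap 2 3, tt * (Equiv.swap 0 1 * Equiv.swap 2 3)]

/-- the codes fixed by `σ` -/
def F (σ : Equiv.Perm (Fin 5)) : Finset ℕ := (Finset.range 32).filter fun w => ac σ w = w

set_option maxRecDepth 100000 in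
theorem F_le : ∀ σ ∈ L7, (F σ).card ≤ 8 := by decide

set_option maxRecDepth 100000 in
theorem FF_le : ∀ σ ∈ L7, ∀ τ ∈ L7, σ ≠ τ → (F σ ∩ F τ).card ≤ 4 := by decide

/-- the elements of order at most 2 -/
def L6 : List (Equiv.Perm (Fin 5)) :=
  [1, Equiv.swap 0 1, Equiv.swap 2 3, Equiv.swap 0 1 * Equiv.swap 2 3, tt,
    tt * (Equiv.swap 0 1 * Equiv.swap 2 3)]

set_option maxRecDepth 100000 in
theorem L6_of : ∀ σ ∈ L7, σ * σ = 1 → σ ∈ L6 := by decide

theorem L6_card : L6.toFinset.card ≤ 6 := (List.toFinset_card_le _).trans (by decide)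

theorem L7_of {σ : Equiv.Perm (Fin 5)}
    (h : (σ = 1 ∨ σ = Equiv.swap 0 1 ∨ σ = Equiv.swap 2 3 ∨ σ = Equiv.swap 0 1 * Equiv.swap 2 3) ∨
      (σ = tt ∨ σ = tt * Equiv.swap 0 1 ∨ σ = tt * Equiv.swap 2 3 ∨
        σ = tt * (Equiv.swap 0 1 * Equiv.swap 2 3))) : σ = 1 ∨ σ ∈ L7 := by
  simp only [L7, List.mem_cons, List.not_mem_nil, or_false]
  tauto

theorem two_others : ∀ a : Fin 5, ∃ b c, a ≠ b ∧ a ≠ c ∧ b ≠ c := by decide

variable {G : Type u} [Group G] {ι : Type*}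

section

variable {P V T : Subgroup G} {z : ι → G} {opp : ι → ι → Prop}
  {C Q QF Qs : ι → Subgroup G} {y : Fin 5 → Fin 5 → G} {pt : Fin 5 → Fin 5 → Fin 5 → Fin 5 → ι}
  {h : Conf P V T z opp C Q QF Qs} (L : Lab h y pt)
include L

theorem ov_one {σ : Equiv.Perm (Fin 5)} (hσ : Ov P y σ 1) : σ = 1 := by
  ext a
  obtain ⟨b, c, hab, hac, hbc⟩ := two_others a
  have h1 := hσ.2 a b hab
  have h2 := hσ.2 a c hac
  rw [one_mul, inv_one, mul_one] at h1 h2
  have n1 : σ a ≠ σ b := fun e => hab (σ.injective e)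
  have n2 : σ a ≠ σ c := fun e => hac (σ.injective e)
  rcases L.inj _ _ _ _ hab n1 h1 with h3 | h3
  · rw [← h3.1]; rfl
  · rcases L.inj _ _ _ _ hac n2 h2 with h4 | h4
    · rw [← h4.1]; rfl
    · exact absurd (h3.2.trans h4.2.symm) hbc

theorem ov_eq {σ τ : Equiv.Perm (Fin 5)} {x : G} (h1 : Ov P y σ x) (h2 : Ov P y τ x) : σ = τ := by
  have h3 := ov_one L (σ := σ * τ⁻¹) ⟨by
    have := mul_mem h1.1 (inv_mem h1.1)
    rwa [mul_inv_cancel] at this, by
    have := FiveDl.Ov.mul h1.2 (FiveDl.Ov.inv h2.2)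
    rwa [mul_inv_cancel] at this⟩
  exact mul_inv_eq_one.1 h3

/-- `Qs` over `⟨(01), (23)⟩` -/
theorem Qs_over {σ : Equiv.Perm (Fin 5)}
    (h4 : σ = 1 ∨ σ = Equiv.swap 0 1 ∨ σ = Equiv.swap 2 3 ∨ σ = Equiv.swap 0 1 * Equiv.swap 2 3) :
    ∃ x' ∈ Qs (pt 0 1 2 3), Ov P y σ x' := by
  obtain ⟨a, ha, ha'⟩ := L.Qs_ex 0 1 2 3 (by decide)
  obtain ⟨b, hb, hb'⟩ := L.Qs_ex 2 3 0 1 (by decide)
  rw [← L.pt2 0 1 2 3 (by decide)] at hb
  rcases h4 with rfl | rfl | rfl | rfl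
  · exact ⟨1, one_mem _, one_mem _, fun a b _ => by simp⟩
  · exact ⟨a, ha, ha'⟩
  · exact ⟨b, hb, hb'⟩
  · exact ⟨a * b, mul_mem ha hb, mul_mem ha'.1 hb'.1, FiveDl.Ov.mul ha'.2 hb'.2⟩

end

section

variable [Finite G] {S : Sylow 2 G} {P V T : Subgroup G} {z : ι → G} {opp : ι → ι → Prop}
  {C Q QF Qs : ι → Subgroup G} {y : Fin 5 → Fin 5 → G} {pt : Fin 5 → Fin 5 → Fin 5 → Fin 5 → ι}
variable (h : Base S P V T z opp C Q QF Qs (pt 0 1 2 3)) (L : Lab h.toConf y pt)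
include h L

theorem ov_S {x : G} (hx : x ∈ (S : Subgroup G)) : ∃ σ, Ov P y σ x ∧ (σ = 1 ∨ σ ∈ L7) := by
  obtain ⟨σ, hσ, h5⟩ := LabY.ov_z L (h.S_le_P hx) (h.Cz _ x (h.S_le_C hx))
  exact ⟨σ, hσ, L7_of (LabY.d8 h5)⟩

/-- an elementary abelian subgroup of `S` of order `> 24` lies in `T` -/
theorem elem_le (hV : ∀ c ∈ P, (∀ v ∈ V, c * v = v * c) → c ∈ T) (hTD : T ≤ h.toConf.Dl)
    {A : Subgroup G} (hAS : A ≤ (S : Subgroup G)) (hA2 : ∀ a ∈ A, a * a = 1)
    (hAc : ∀ a ∈ A, ∀ b ∈ A, a * b = b * a) (hcard : 24 < Nat.card A) : A ≤ T := by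
  classical
  by_contra hcon
  obtain ⟨x, hxA, hxT⟩ := SetLike.not_le_iff_exists.1 hcon
  have hσ : ∀ a ∈ A, ∃ σ, Ov P y σ a ∧ (σ = 1 ∨ σ ∈ L7) := fun a ha => ov_S h L (hAS ha)
  have hT1 : ∀ a ∈ A, Ov P y 1 a → a ∈ T := fun a _ ho => hV a ho.1 (L.comm_V (Lab.ov ho))
  let f : G → Equiv.Perm (Fin 5) := fun a => if ha : a ∈ A then Classical.choose (hσ a ha) else 1
  have hf : ∀ a ∈ A, Ov P y (f a) a ∧ (f a = 1 ∨ f a ∈ L7) := by
    intro a ha
    have h1 := Classical.choose_spec (hσ a ha)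
    have h2 : f a = Classical.choose (hσ a ha) := dif_pos ha
    rw [h2]
    exact h1
  let s : Finset G := (Set.toFinite (A : Set G)).toFinset
  have hms : ∀ a, a ∈ s ↔ a ∈ A := fun a => by rw [Set.Finite.mem_toFinset]; exact Iff.rfl
  have hs : s.card = Nat.card A := by
    rw [← Set.ncard_eq_toFinset_card]; rfl
  let t : Finset G := (Set.toFinite ((A ⊓ T : Subgroup G) : Set G)).toFinset
  have hmt : ∀ a, a ∈ t ↔ a ∈ A ∧ a ∈ T := fun a => by
    rw [Set.Finite.mem_toFinset]; exact mem_inf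
  -- fibres
  have hfib : ∀ σ ∈ s.image f, (s.filter fun a => f a = σ).card ≤ t.card := by
    intro σ hσ
    obtain ⟨x₀, hx₀, hx₀σ⟩ := Finset.mem_image.1 hσ
    rw [hms] at hx₀
    refine Finset.card_le_card_of_injOn (fun a => a * x₀⁻¹) ?_ (fun a _ b _ hab => mul_right_cancel hab)
    intro a ha
    obtain ⟨ha, haσ⟩ := Finset.mem_filter.1 (Finset.mem_coe.1 ha)
    rw [hms] at ha
    rw [Finset.mem_coe, hmt]
    have h1 := (hf a ha).1
    have h2 := (hf x₀ hx₀).1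
    rw [haσ] at h1
    rw [hx₀σ] at h2
    obtain ⟨h3, h4⟩ := LabY.same_act L h1 h2
    exact ⟨mul_mem ha (inv_mem hx₀), hV _ h3 h4⟩
  have hle := Finset.card_le_mul_card_image s t.card hfib
  rw [hs] at hle
  -- the image
  have him : s.image f ⊆ L6.toFinset := by
    intro σ hσ
    obtain ⟨a, ha, rfl⟩ := Finset.mem_image.1 hσ
    rw [hms] at ha
    rw [List.mem_toFinset]
    obtain ⟨h1, h2⟩ := hf a ha
    rcases h2 with h2 | h2
    · rw [h2]; exact List.mem_cons_self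
    · refine L6_of _ h2 (ov_one L ?_)
      have h3 := FiveDl.Ov.mul h1.2 h1.2
      rw [hA2 a ha] at h3
      exact ⟨one_mem _, h3⟩
  have h6 : (s.image f).card ≤ 6 := (Finset.card_le_card him).trans L6_card
  -- fixed points
  have hfx : ∀ a ∈ A, a ∉ T → f a ∈ L7 ∧ t ⊆ (F (f a)).image (ph y) := by
    intro a ha haT
    obtain ⟨h1, h2⟩ := hf a ha
    refine ⟨h2.resolve_left fun h3 => haT (hT1 a ha (h3 ▸ h1)), fun u hu => ?_⟩
    obtain ⟨huA, huT⟩ := (hmt u).1 hu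
    have huD := hTD huT
    rw [L.Dl_eq] at huD
    obtain ⟨w, hw, rfl⟩ := L.ys.mem_iff.1 huD
    refine Finset.mem_image.2 ⟨w, Finset.mem_filter.2 ⟨Finset.mem_range.2 hw, ?_⟩, rfl⟩
    refine L.ph_inj (ac_lt _ _) hw ?_
    rw [← L.ys.conj (Lab.ov h1), hAc a ha _ huA, mul_inv_cancel_right]
  obtain ⟨hx7, hxF⟩ := hfx x hxA hxT
  have ht8 : t.card ≤ 8 := (Finset.card_le_card hxF).trans (Finset.card_image_le.trans (F_le _ hx7))
  by_cases hall : ∀ a ∈ A, a ∈ T ∨ f a = f x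
  · have h2 : s.image f ⊆ {1, f x} := by
      intro σ hσ
      obtain ⟨a, ha, rfl⟩ := Finset.mem_image.1 hσ
      rw [hms] at ha
      rcases hall a ha with h1 | h1
      · rw [Finset.mem_insert]
        left
        have h3 : Ov P y 1 a := by
          refine ⟨h.TP h1, fun p q hpq => ?_⟩
          have h4 := L.y_T hpq h1
          rw [h4, mul_inv_cancel_right]; rfl
        exact ov_eq L (hf a ha).1 h3
      · rw [h1]; exact Finset.mem_insert_of_mem (Finset.mem_singleton_self _)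
    have h3 : (s.image f).card ≤ 2 := (Finset.card_le_card h2).trans Finset.card_le_two
    have h4 : t.card * (s.image f).card ≤ 8 * 2 := Nat.mul_le_mul ht8 h3
    omega
  · push Not at hall
    obtain ⟨x', hx'A, hx'T, hne⟩ := hall
    obtain ⟨hx7', hxF'⟩ := hfx x' hx'A hx'T
    have h2 : t ⊆ (F (f x) ∩ F (f x')).image (ph y) := by
      intro u hu
      obtain ⟨w, hw, hwu⟩ := Finset.mem_image.1 (hxF hu)
      obtain ⟨w', hw', hwu'⟩ := Finset.mem_image.1 (hxF' hu)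
      have h3 : w = w' := L.ph_inj (Finset.mem_range.1 (Finset.mem_filter.1 hw).1)
        (Finset.mem_range.1 (Finset.mem_filter.1 hw').1) (hwu.trans hwu'.symm)
      subst h3
      exact Finset.mem_image.2 ⟨w, Finset.mem_inter.2 ⟨hw, hw'⟩, hwu⟩
    have h3 : t.card ≤ 4 := (Finset.card_le_card h2).trans
      (Finset.card_image_le.trans (FF_le _ hx7 _ hx7' (fun e => hne e.symm)))
    have h4 : t.card * (s.image f).card ≤ 4 * 6 := Nat.mul_le_mul h3 h6
    omega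

theorem seven0 (hT : ∀ i, h.toConf.Tt i ≤ h.toConf.Dl) {s : G} (hs : s ∈ Q (pt 0 1 2 3))
    (hs' : s ∉ QF (pt 0 1 2 3)) : False := by
  classical
  obtain ⟨g, D⟩ := sevD h L hT hs hs'
  haveI : Nonempty ι := L.nonempty
  have hD : D4 0 1 2 3 := by decide
  have hvV : ph y 30 ∈ V := L.ph_V (by norm_num) (by decide)
  have haV : ph y 29 ∈ V := L.ph_V (by norm_num) (by decide)
  have key : ∀ c ∈ C (pt 0 1 2 3), (∀ u ∈ V, c * u = u * c) →
      c ∈ Q (pt 0 1 2 3) ∨ ph y 30 * c ∈ Q (pt 0 1 2 3) := by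
    intro c hc hcV
    refine D.fix_a hc ?_
    rw [hcV _ haV, mul_inv_cancel_right, mul_inv_cancel]
    exact one_mem _
  have hV : ∀ c ∈ P, (∀ u ∈ V, c * u = u * c) → c ∈ T := by
    intro c hc hcV
    rcases key c (h.PC _ c hc (hcV _ (h.zV _))) hcV with h1 | h1
    · exact h.cT _ c h1 hcV
    · have h2 : ph y 30 * c ∈ T := by
        refine h.cT _ _ h1 fun u hu => ?_
        rw [mul_assoc, hcV u hu, ← mul_assoc, h.Vab _ hvV u hu, mul_assoc]
      have h3 := mul_mem (inv_mem (h.VT hvV)) h2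
      rwa [inv_mul_cancel_left] at h3
  have hTD : T ≤ h.toConf.Dl := by
    intro t ht
    rcases key t (h.TC _ ht) (h.TV t ht) with h1 | h1
    · exact hT _ (h.mem_Tt.2 ⟨ht, h1⟩)
    · have h2 := hT _ (h.mem_Tt.2 ⟨mul_mem (h.VT hvV) ht, h1⟩)
      have h3 := mul_mem (inv_mem (h.V_le_Dl hvV)) h2
      rwa [inv_mul_cancel_left] at h3
  have gen : Qs (pt 0 1 2 3) ≤ closure {x | ∃ c ∈ C (pt 0 1 2 3), ∃ e ∈ V ⊓ Q (pt 0 1 2 3), x = c * e * c⁻¹} := by
    refine (h.QsGen _).trans (closure_mono ?_)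
    rintro _ ⟨c, hc, e, he, heQ, rfl⟩
    exact ⟨c, hc, e, mem_inf.2 ⟨he, heQ⟩, rfl⟩
  have hQsT : ∀ x ∈ Qs (pt 0 1 2 3), x ∈ T → x ∈ V := fun x hx hxT =>
    (mem_inf.1 (D.Qs_cent gen hx fun e he => h.TV x hxT e (mem_inf.1 he).1)).1
  -- `y = y 0 1`
  have hyT : y 0 1 ∈ T := L.y_mem_T (by decide)
  have hyB := L.y_mem_B hD
  have hTS := h.T_le
  have hySS := hTS hyT
  have hy2 := L.sq 0 1 (by decide)
  have hyV := L.notV 0 1 (by decide)
  -- the element `s'`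
  obtain ⟨s', hs'S, hov, hss⟩ : ∃ s' ∈ (S : Subgroup G), Ov P y tt s' ∧ s' * s' ∈ V := by
    obtain ⟨x, hx, hx'⟩ := L.Qs_ex 0 2 1 3 (by decide)
    obtain ⟨x', hx1, hx1'⟩ := L.Qs_ex 1 3 0 2 (by decide)
    rw [← L.pt2 0 2 1 3 (by decide)] at hx1
    have hov : Ov P y tt (x * x') := ⟨mul_mem hx'.1 hx1'.1, FiveDl.Ov.mul hx'.2 hx1'.2⟩
    have hmz : (x * x') * z (pt 0 1 2 3) * (x * x')⁻¹ = z (pt 0 1 2 3) := by
      rw [L.z_eq 0 1 2 3 hD]
      calc (x * x') * (y 0 1 * y 2 3) * (x * x')⁻¹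
          = ((x * x') * y 0 1 * (x * x')⁻¹) * ((x * x') * y 2 3 * (x * x')⁻¹) := by group
        _ = y 2 3 * y 0 1 := by
          rw [hov.2 0 1 (by decide), hov.2 2 3 (by decide)]
          rfl
        _ = y 0 1 * y 2 3 := L.comm _ _ _ _ (by decide) (by decide)
    obtain ⟨s₁, hs₁, c, hc, hcV, hsc⟩ := h.stab _ hov.1 (mul_inv_eq_iff_eq_mul.1 hmz)
    refine ⟨x * x', by rw [hsc]; exact mul_mem hs₁ (hTS (hV c hc hcV)), hov, ?_⟩
    rcases h.sq_Qs (mul_mem hx hx1) with h1 | h1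
    · rw [h1]; exact one_mem V
    · rw [h1]; exact h.zV _
  have hs'P := h.S_le_P hs'S
  have hs'C := h.S_le_C hs'S
  have hs'y : s' * y 0 1 * s'⁻¹ = y 2 3 := hov.2 0 1 (by decide)
  have hS1 : ∀ x ∈ (S : Subgroup G), ∀ q ∈ Qs (pt 0 1 2 3), x * q * x⁻¹ ∈ Qs (pt 0 1 2 3) := fun x hx q hq =>
    norm_conj (h.nQs _) (h.S_le_C hx) hq
  have hS2 : ∀ x ∈ (S : Subgroup G), ∀ q ∈ V, x * q * x⁻¹ ∈ V := fun x hx q hq => h.conj_V (h.S_le_P hx) hq
  -- `N = Qs V`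
  set N : Subgroup G := Qs (pt 0 1 2 3) ⊔ V with hN
  have hmN : ∀ x, x ∈ N ↔ ∃ q ∈ Qs (pt 0 1 2 3), ∃ u ∈ V, x = q * u := fun x => by
    rw [hN]
    exact mem_sup_iff fun a ha b hb => h.conj_V (h.QsP _ ha) hb
  have hNn : ∀ x ∈ (S : Subgroup G), ∀ n ∈ N, x * n * x⁻¹ ∈ N := by
    intro x hx n hn
    obtain ⟨q, hq, u, hu, rfl⟩ := (hmN n).1 hn
    exact (hmN _).2 ⟨_, hS1 x hx q hq, _, hS2 x hx u hu, by group⟩
  have hVN : V ≤ N := le_sup_right
  have hNS : N ≤ (S : Subgroup G) := sup_le ((h.QsQ _).trans h.Q_le) h.V_le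
  have hNy : ∀ n ∈ N, n * y 0 1 = y 0 1 * n := by
    intro n hn
    obtain ⟨q, hq, u, hu, rfl⟩ := (hmN n).1 hn
    have h1 : q * y 0 1 = y 0 1 * q := ((h.mem_B.1 hyB).2 q hq).symm
    have h2 : u * y 0 1 = y 0 1 * u := L.y_T (by decide) (h.VT hu)
    rw [mul_assoc, h2, ← mul_assoc, h1, mul_assoc]
  have hNT : ∀ n ∈ N, n ∈ T → n ∈ V := by
    intro n hn hnT
    obtain ⟨q, hq, u, hu, rfl⟩ := (hmN n).1 hn
    have h1 : q ∈ T := by
      have := mul_mem hnT (inv_mem (h.VT hu))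
      rwa [mul_inv_cancel_right] at this
    exact mul_mem (hQsT q hq h1) hu
  -- `K = N ⟨s'⟩`
  let K : Subgroup G :=
    { carrier := {x | x ∈ (S : Subgroup G) ∧ (x ∈ N ∨ s' * x ∈ N)}
      one_mem' := ⟨one_mem _, Or.inl (one_mem _)⟩
      mul_mem' := by
        rintro a b ⟨ha, ha'⟩ ⟨hb, hb'⟩
        refine ⟨mul_mem ha hb, ?_⟩
        rcases ha' with ha' | ha' <;> rcases hb' with hb' | hb'
        · exact Or.inl (mul_mem ha' hb')
        · right
          have e : s' * (a * b) = (s' * a * s'⁻¹) * (s' * b) := by group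
          rw [e]; exact mul_mem (hNn s' hs'S a ha') hb'
        · right
          rw [← mul_assoc]; exact mul_mem ha' hb'
        · left
          have e : a * b = (s'⁻¹ * (s' * a) * s'⁻¹⁻¹) * (s' * s')⁻¹ * (s' * b) := by group
          rw [e]
          exact mul_mem (mul_mem (hNn _ (inv_mem hs'S) _ ha') (inv_mem (hVN hss))) hb'
      inv_mem' := by
        rintro a ⟨ha, ha'⟩
        refine ⟨inv_mem ha, ?_⟩
        rcases ha' with ha' | ha'
        · exact Or.inl (inv_mem ha')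
        · right
          have e : s' * a⁻¹ = (s' * (s' * a)⁻¹ * s'⁻¹) * (s' * s') := by group
          rw [e]; exact mul_mem (hNn s' hs'S _ (inv_mem ha')) (hVN hss) }
  have hmK : ∀ x, x ∈ K ↔ x ∈ (S : Subgroup G) ∧ (x ∈ N ∨ s' * x ∈ N) := fun x => Iff.rfl
  have hNK : N ≤ K := fun x hx => (hmK x).2 ⟨hNS hx, Or.inl hx⟩
  have hKT : ∀ x ∈ K, x ∈ T → x ∈ V := by
    intro x hx hxT
    rcases ((hmK x).1 hx).2 with h1 | h1
    · exact hNT x h1 hxT
    · exfalso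
      have h2 := hNy _ h1
      have h3 : x * y 0 1 = y 0 1 * x := L.y_T (by decide) hxT
      have h4 : s' * y 0 1 = y 0 1 * s' := by
        have h5 : s' * y 0 1 * x = y 0 1 * s' * x := by
          rw [mul_assoc, ← h3, ← mul_assoc, h2, mul_assoc]
        exact mul_right_cancel h5
      rw [h4, mul_inv_cancel_right] at hs'y
      exact L.y_ne hD hs'y
  have hyK : y 0 1 ∉ K := fun hc => hyV (hKT _ hc hyT)
  -- elements over `⟨(01), (23)⟩`
  have hT2 : ∀ c ∈ T, c ∈ V ∨ c * y 0 1 ∈ V := fun c hc => (L.mem_iff 0 1 (by decide) c).1 (hTD hc)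
  have hN4 : ∀ x, ∀ σ, Ov P y σ x → (σ = 1 ∨ σ = Equiv.swap 0 1 ∨ σ = Equiv.swap 2 3 ∨
      σ = Equiv.swap 0 1 * Equiv.swap 2 3) → x ∈ N ∨ x * y 0 1 ∈ N := by
    intro x σ hσ h4
    obtain ⟨q, hq, hqσ⟩ := Qs_over L h4
    obtain ⟨h1, h2⟩ := LabY.same_act L hσ hqσ
    have h3 := hV _ h1 h2
    have hqN : q ∈ N := (hmN q).2 ⟨q, hq, 1, one_mem _, (mul_one q).symm⟩
    rcases hT2 _ h3 with h5 | h5
    · left
      have e : x = (x * q⁻¹) * q := by group
      rw [e]; exact mul_mem (hVN h5) hqN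
    · right
      have hqy := hNy q hqN
      have e : x * y 0 1 = (x * q⁻¹ * y 0 1) * q := by
        calc x * y 0 1 = x * q⁻¹ * (q * y 0 1) := by group
          _ = _ := by rw [hqy]; group
      rw [e]; exact mul_mem (hVN h5) hqN
  have hK2 : ∀ x ∈ (S : Subgroup G), x ∈ K ∨ x * y 0 1 ∈ K := by
    intro x hx
    obtain ⟨σ, hσ, h5⟩ := LabY.ov_z L (h.S_le_P hx) (h.Cz _ x (h.S_le_C hx))
    rcases LabY.d8 h5 with h6 | h6
    · rcases hN4 x σ hσ h6 with h7 | h7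
      · exact Or.inl (hNK h7)
      · exact Or.inr (hNK h7)
    · have h8 : Ov P y (tt * σ) (s' * x) := ⟨mul_mem hs'P (h.S_le_P hx), FiveDl.Ov.mul hov.2 hσ.2⟩
      have htt : tt * tt = 1 := by decide
      have h9 : tt * σ = 1 ∨ tt * σ = Equiv.swap 0 1 ∨ tt * σ = Equiv.swap 2 3 ∨
          tt * σ = Equiv.swap 0 1 * Equiv.swap 2 3 := by
        rcases h6 with rfl | rfl | rfl | rfl
        · exact Or.inl htt
        · rw [← mul_assoc, htt, one_mul]; exact Or.inr (Or.inl rfl)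
        · rw [← mul_assoc, htt, one_mul]; exact Or.inr (Or.inr (Or.inl rfl))
        · rw [← mul_assoc, htt, one_mul]; exact Or.inr (Or.inr (Or.inr rfl))
      rcases hN4 _ _ h8 h9 with h7 | h7
      · exact Or.inl ((hmK x).2 ⟨hx, Or.inr h7⟩)
      · right
        rw [mul_assoc] at h7
        exact (hmK _).2 ⟨mul_mem hx hySS, Or.inr h7⟩
  have hBS : ∀ b ∈ (S : Subgroup G), b⁻¹ * y 0 1 * b * y 0 1 ∈ V := by
    intro b hb
    have h1 := norm_conj (h.B_norm (pt 0 1 2 3)) (inv_mem (h.S_le_C hb)) hyB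
    rw [inv_inv] at h1
    have hbV : b⁻¹ * y 0 1 * b ∉ V := by
      intro hc
      apply hyV
      have := hS2 b hb _ hc
      rwa [show b * (b⁻¹ * y 0 1 * b) * b⁻¹ = y 0 1 by group] at this
    rcases (L.B_eq hD).1 h1 with h2 | h2 | h2 | h2
    · exact absurd (by rw [h2]; exact one_mem V) hbV
    · exact absurd (by rw [h2]; exact h.zV _) hbV
    · rw [h2, hy2]; exact one_mem V
    · rw [h2, ← L.comm _ _ _ _ (by decide) (by decide), ← L.z_eq 0 1 2 3 hD]; exact h.zV _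
  have hK : ∀ a ∈ (S : Subgroup G), ∀ b ∈ (S : Subgroup G), (a * b ∈ K ↔ (a ∈ K ↔ b ∈ K)) := by
    intro a ha b hb
    constructor
    · intro hab
      constructor
      · intro haK
        have := mul_mem (inv_mem haK) hab
        rwa [inv_mul_cancel_left] at this
      · intro hbK
        have := mul_mem hab (inv_mem hbK)
        rwa [mul_inv_cancel_right] at this
    · intro hiff
      by_cases haK : a ∈ K
      · exact mul_mem haK (hiff.1 haK)
      · have hbK : b ∉ K := fun hc => haK (hiff.2 hc)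
        have h1 := (hK2 a ha).resolve_left haK
        have h2 := (hK2 b hb).resolve_left hbK
        have h3 := mul_mem h1 h2
        have h4 := hNK (hVN (hBS b hb))
        have e : a * b = (a * y 0 1 * (b * y 0 1)) * (b⁻¹ * y 0 1 * b * y 0 1)⁻¹ := by group
        rw [e]
        exact mul_mem h3 (inv_mem h4)
  -- `T` is weakly closed
  have hwc : ∀ g : G, (∀ t ∈ T, g * t * g⁻¹ ∈ (S : Subgroup G)) → ∀ t ∈ T, g * t * g⁻¹ ∈ T := by
    intro g hg t ht
    refine elem_le h L hV hTD (A := T.map (MulAut.conj g).toMonoidHom) ?_ ?_ ?_ ?_ ⟨t, ht, rfl⟩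
    · rintro _ ⟨u, hu, rfl⟩; exact hg u hu
    · rintro _ ⟨u, hu, rfl⟩
      show g * u * g⁻¹ * (g * u * g⁻¹) = 1
      have : g * u * g⁻¹ * (g * u * g⁻¹) = g * (u * u) * g⁻¹ := by group
      rw [this, h.Dl_sq (hTD hu)]; group
    · rintro _ ⟨u, hu, rfl⟩ _ ⟨w, hw, rfl⟩
      show g * u * g⁻¹ * (g * w * g⁻¹) = g * w * g⁻¹ * (g * u * g⁻¹)
      have h1 : u * w = w * u := h.T_Dl hu (hTD hw)
      calc g * u * g⁻¹ * (g * w * g⁻¹) = g * (u * w) * g⁻¹ := by group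
        _ = _ := by rw [h1]; group
    · have h1 : Nat.card ↥(T.map (MulAut.conj g).toMonoidHom) = Nat.card T :=
        Subgroup.card_map_of_injective (MulAut.conj g).injective
      rw [h1]
      have h2 : (((Finset.range 32).image (ph y) : Finset G) : Set G) ⊆ (T : Set G) := by
        intro x hx
        rw [Finset.mem_coe, Finset.mem_image] at hx
        obtain ⟨w, hw, rfl⟩ := hx
        refine h.Dl_le_T ?_
        rw [L.Dl_eq]
        exact L.ys.ph_mem (Finset.mem_range.1 hw)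
      have h3 := Set.ncard_le_ncard h2 (Set.toFinite _)
      rw [Set.ncard_coe_finset, Finset.card_image_of_injOn (fun w hw w' hw' e => L.ph_inj
        (Finset.mem_range.1 (Finset.mem_coe.1 hw)) (Finset.mem_range.1 (Finset.mem_coe.1 hw')) e),
        Finset.card_range] at h3
      have h4 : (T : Set G).ncard = Nat.card T := rfl
      omega
  obtain ⟨f, hf⟩ := TransY.exists_hom S hTS hK hyT hy2 (fun t ht => L.y_T (by decide) ht) hwc (by
    intro g hg hgK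
    have h1 := hKT _ hgK hg
    have h2 : g * y 0 1 * g⁻¹ ≠ 1 := fun hc => L.ne_one 0 1 (by decide) (conj_eq_one_iff.1 hc)
    obtain ⟨a, b, c, d, hD', h3⟩ := LabY.exists_pt L h1 h2
    exact LabY.not_conj h L (by decide) _ g h3)
  -- no homomorphism onto `{± 1}`
  haveI := h.ctx.simple
  rcases (f.normal_ker).eq_bot_or_eq_top with h1 | h1
  · apply h.ctx.nonComm
    refine ⟨⟨fun a b => ?_⟩⟩
    apply (MonoidHom.ker_eq_bot_iff f).1 h1
    rw [map_mul, map_mul, mul_comm]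
  · have h2 : y 0 1 ∈ f.ker := by rw [h1]; exact mem_top _
    rw [MonoidHom.mem_ker, hf] at h2
    exact absurd h2 (by decide)

end

/-- **(7)**: `Δ > V`, `T₀ = Δ`: `Q i₀ = QF i₀`. -/
theorem seven [Finite G] {S : Sylow 2 G} {P V T : Subgroup G} {z : ι → G} {opp : ι → ι → Prop}
    {C Q QF Qs : ι → Subgroup G} {y : Fin 5 → Fin 5 → G} {pt : Fin 5 → Fin 5 → Fin 5 → Fin 5 → ι}
    {i₀ : ι} (h : Base S P V T z opp C Q QF Qs i₀) (L : Lab h.toConf y pt)
    (hT : ∀ i, h.toConf.Tt i ≤ h.toConf.Dl) : Q i₀ ≤ QF i₀ := by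
  intro s hs
  by_contra hs'
  obtain ⟨π, L', rfl⟩ := L.exists_base i₀
  exact seven0 (y := fun a b => y (π a) (π b)) (pt := fun a b c d => pt (π a) (π b) (π c) (π d)) h L' hT hs hs'

end Cfsg.Agent.Omega.NOne.AG.Seven
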