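import Cfsg.Agent.Omega.NOne.AG.Two
import Cfsg.Agent.Omega.NOne.AG.Lab

/-!
# THEOREM D0ag (bb #15001): (2) in the case `Δ > V`

`Lab.two : Lab h y pt → h.Two`; `B i = {1, z_i, y_ab, y_cd}`; `QF i = Qs i ⟨y_ab⟩`.
-/

set_option autoImplicit false

namespace Cfsg.Agent.Omega.NOne.AG

open Subgroup Cfsg Cfsg.Agent.ZN

universe u

variable {G : Type u} [Group G] {ι : Type*}

namespace Lab

variable {P V T : Subgroup G} {z : ι → G} {opp : ι → ι → Prop} {C Q QF Qs : ι → Subgroup G}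
variable {h : Conf P V T z opp C Q QF Qs} {y : Fin 5 → Fin 5 → G}
  {pt : Fin 5 → Fin 5 → Fin 5 → Fin 5 → ι}
variable (L : Lab h y pt)
include L

theorem y_mem_Dl {a b : Fin 5} (hab : a ≠ b) : y a b ∈ h.Dl := by
  rw [L.mem_iff a b hab]
  exact Or.inr (by rw [L.sq a b hab]; exact one_mem _)

omit L in
theorem nonempty (_L : Lab h y pt) : Nonempty ι := ⟨pt 0 1 2 3⟩

theorem y_T {a b : Fin 5} (hab : a ≠ b) {t : G} (ht : t ∈ T) : t * y a b = y a b * t := by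
  haveI := L.nonempty
  exact h.T_Dl ht (L.y_mem_Dl hab)

theorem y_mem_T {a b : Fin 5} (hab : a ≠ b) : y a b ∈ T := by
  haveI := L.nonempty
  exact h.Dl_le_T (L.y_mem_Dl hab)

/-- `B i ∩ Q j ≤ ⟨y_ab⟩` if `y_ab ∈ Q j` -/
theorem B_inf_Q [Finite G] {a b c d : Fin 5} (hD : D4 a b c d) {j : ι}
    (hj : opp (pt a b c d) j) (hy : y a b ∈ Q j) {x : G} (hx : x ∈ h.B (pt a b c d))
    (hxj : x ∈ Q j) : x = 1 ∨ x = y a b := by
  have hD' : a ≠ b ∧ c ≠ d := ⟨hD.1, hD.2.2.2.2.2⟩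
  have hxD := h.inter_Dl hj (h.B_Tt _ hx) (h.mem_Tt.2 ⟨h.B_T _ hx, hxj⟩)
  have hzj : z (pt a b c d) ∉ Q j := (h.opp_iff j _).1 (h.symm hj)
  rcases (L.B_iff a b c d hD x hxD).1 hx with h1 | h1 | h1 | h1
  · exact Or.inl h1
  · exact absurd (h1 ▸ hxj) hzj
  · exact Or.inr h1
  · exfalso
    apply hzj
    rw [L.z_eq a b c d hD, ← h1]
    exact mul_mem hy hxj

theorem y_ne {a b c d : Fin 5} (hD : D4 a b c d) : y a b ≠ y c d := by
  intro he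
  apply h.ne_one (pt a b c d)
  rw [L.z_eq a b c d hD, ← he]
  exact L.sq a b hD.1

/-- all rewritings -/
theorem pt' {a b c d : Fin 5} (hD : D4 a b c d) :
    pt b a c d = pt a b c d ∧ pt a b d c = pt a b c d ∧ pt c d a b = pt a b c d := by
  obtain ⟨h1, h2, h3, h4, h5, h6⟩ := hD
  refine ⟨(L.pt1 a b c d ⟨h1, h2, h3, h4, h5, h6⟩).symm, ?_,
    (L.pt2 a b c d ⟨h1, h2, h3, h4, h5, h6⟩).symm⟩
  rw [L.pt2 a b c d ⟨h1, h2, h3, h4, h5, h6⟩, L.pt2 a b d c ⟨h1, h3, h2, h5, h4, h6.symm⟩,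
    L.pt1 c d a b ⟨h6, h2.symm, h4.symm, h3.symm, h5.symm, h1⟩]

theorem good1 [Finite G] {a b c d m : Fin 5} (hD : D5 a b c d m) : h.Good (pt a b c d) (y a b) := by
  obtain ⟨hD4, m1, m2, m3, m4⟩ := hD
  obtain ⟨h1, h2, h3, h4, h5, h6⟩ := hD4
  have hD4 : D4 a b c d := ⟨h1, h2, h3, h4, h5, h6⟩
  have hD5 : D5 a b c d m := ⟨hD4, m1, m2, m3, m4⟩
  have e1 : pt c m d a = pt a d c m := by
    have hd : D4 c m d a := ⟨m3.symm, h6, h2.symm, m4, m1, h3.symm⟩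
    rw [← (L.pt' hd).2.2, ← (L.pt' ⟨h3.symm, h6.symm, m4.symm, h2, m1.symm, m3.symm⟩).1]
  have o1 : opp (pt a b c d) (pt b c d m) := by
    rw [L.opp_iff a b c d m hD5]; tauto
  have o2 : opp (pt a b c d) (pt a d c m) := by
    rw [L.opp_iff a b c d m hD5]; tauto
  have o3 : opp (pt b c d m) (pt a d c m) := by
    rw [L.opp_iff b c d m a ⟨⟨h4, h5, m2.symm, h6, m3.symm, m4.symm⟩, h1, h2, h3, m1.symm⟩, ← e1]
    tauto
  have y1 : y a b ∈ Q (pt b c d m) := by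
    rw [L.symm a b]
    exact (L.yQ b c d m a ⟨⟨h4, h5, m2.symm, h6, m3.symm, m4.symm⟩, h1, h2, h3, m1.symm⟩).2
  have y2 : y a b ∈ Q (pt a d c m) :=
    (L.yQ a d c m b ⟨⟨h3, h2, m1.symm, h6.symm, m4.symm, m3.symm⟩, h1.symm, h5, h4, m2.symm⟩).2
  exact ⟨fun t ht => L.y_T h1 ht, L.sq a b h1, _, _, o1, o2, o3,
    fun x hx hxj => L.B_inf_Q hD4 o1 y1 hx hxj, fun x hx hxj => L.B_inf_Q hD4 o2 y2 hx hxj⟩

omit L in
theorem ex_fifth : ∀ a b c d : Fin 5, D4 a b c d → ∃ m, D5 a b c d m := by decide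

theorem good2 [Finite G] {a b c d : Fin 5} (hD : D4 a b c d) : h.Good (pt a b c d) (y c d) := by
  have hD' : D4 c d a b := ⟨hD.2.2.2.2.2, hD.2.1.symm, hD.2.2.2.1.symm, hD.2.2.1.symm,
    hD.2.2.2.2.1.symm, hD.1⟩
  obtain ⟨m, hm⟩ := ex_fifth c d a b hD'
  have h1 := L.good1 hm
  rwa [(L.pt' hD).2.2] at h1

/-- **the hypothesis `Two` if `Δ > V`** -/
theorem two [Finite G] : h.Two := by
  intro i
  obtain ⟨a, b, c, d, hD, rfl⟩ := L.surj i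
  obtain ⟨m, hm⟩ := ex_fifth a b c d hD
  refine ⟨y a b, y c d, L.good1 hm, L.good2 hD, ?_⟩
  rintro x (rfl | rfl) hx
  · rfl
  · rcases hx with h1 | h1
    · exact h1
    · exact absurd h1 (L.y_ne hD)

theorem y_mem_B {a b c d : Fin 5} (hD : D4 a b c d) : y a b ∈ h.B (pt a b c d) :=
  (L.B_iff a b c d hD _ (L.y_mem_Dl hD.1)).2 (Or.inr (Or.inr (Or.inl rfl)))

theorem y_mem_B' {a b c d : Fin 5} (hD : D4 a b c d) : y c d ∈ h.B (pt a b c d) :=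
  (L.B_iff a b c d hD _ (L.y_mem_Dl hD.2.2.2.2.2)).2 (Or.inr (Or.inr (Or.inr rfl)))

/-- **(2)**, `Δ > V`: `B i = {1, z_i, y_ab, y_cd}` -/
theorem B_eq [Finite G] {a b c d : Fin 5} (hD : D4 a b c d) {x : G} :
    x ∈ h.B (pt a b c d) ↔ x = 1 ∨ x = z (pt a b c d) ∨ x = y a b ∨ x = y c d := by
  constructor
  · intro hx
    obtain ⟨-, -, j, k, hij, -, -, -, -⟩ := L.good2 hD
    refine (L.B_iff a b c d hD x ?_).1 hx
    rcases h.B_or L.two hij hx with h1 | h1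
    · exact h.inter_Dl hij (h.B_Tt _ hx) (h.mem_Tt.2 ⟨h.B_T _ hx, h1⟩)
    · have hz := h.Zs_B _ (h.z_mem_Zs (pt a b c d))
      have h2 := h.inter_Dl hij (h.B_Tt _ (mul_mem hx hz)) (h.mem_Tt.2 ⟨h.B_T _ (mul_mem hx hz), h1⟩)
      have h3 := mul_mem h2 (inv_mem (h.V_le_Dl (h.zV (pt a b c d))))
      rwa [mul_inv_cancel_right] at h3
  · rintro (rfl | rfl | rfl | rfl)
    · exact one_mem _
    · exact h.Zs_B _ (h.z_mem_Zs _)
    · exact L.y_mem_B hD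
    · exact L.y_mem_B' hD

/-- **(2)**, `Δ > V`: `QF i = Qs i ⟨y_ab⟩` -/
theorem QF_eq [Finite G] {a b c d : Fin 5} (hD : D4 a b c d) {x : G} (hx : x ∈ QF (pt a b c d)) :
    ∃ w ∈ Qs (pt a b c d), x = w ∨ x = w * y a b := by
  obtain ⟨w, hw, b', hb, rfl⟩ := h.QF_eq L.two hx
  rcases (L.B_eq hD).1 hb with rfl | rfl | rfl | rfl
  · exact ⟨w, hw, Or.inl (mul_one _)⟩
  · exact ⟨w * z (pt a b c d), mul_mem hw (h.z_mem_Qs _), Or.inl rfl⟩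
  · exact ⟨w, hw, Or.inr rfl⟩
  · refine ⟨w * z (pt a b c d), mul_mem hw (h.z_mem_Qs _), Or.inr ?_⟩
    rw [L.z_eq a b c d hD, L.comm a b c d hD.1 hD.2.2.2.2.2, mul_assoc w, mul_assoc (y c d),
      L.sq a b hD.1, mul_one]

end Lab

end Cfsg.Agent.Omega.NOne.AG
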