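import Cfsg.Agent.Omega.NOne.AG.SixCore
import Cfsg.Agent.Omega.NOne.AG.TwoLab
import Cfsg.Agent.Omega.NOne.AG.GOf

/-!
# THEOREM D0ag (bb #15001), (6): `Δ > V`, `T₀ = Δ`, image `F` (`Q i = QF i`) is impossible

The hypothesis `hgen` is the minimality of `C i`: `C i = ⟨P ∩ C, d⟩` for every element `d ≠ 1` of odd order
inverted by an element of `V - Q i`.
-/

set_option autoImplicit false

namespace Cfsg.Agent.Omega.NOne.AG

open Subgroup Cfsg Cfsg.Agent.ZN Cfsg.Agent.Omega.NOne.AG.GData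

universe u

variable {G : Type u} [Group G] {ι : Type*}

namespace Lab

variable {P V T : Subgroup G} {z : ι → G} {opp : ι → ι → Prop} {C Q QF Qs : ι → Subgroup G}
  {h : Conf P V T z opp C Q QF Qs} {y : Fin 5 → Fin 5 → G} {pt : Fin 5 → Fin 5 → Fin 5 → Fin 5 → ι}
  (L : Lab h y pt)
include L

/-- the six `y_e` in `Q i` -/
theorem y_mem_Q {p q r s m : Fin 5} (hD : D5 p q r s m) :
    y p q ∈ Q (pt p q r s) ∧ y r s ∈ Q (pt p q r s) ∧ y p m ∈ Q (pt p q r s) ∧
      y q m ∈ Q (pt p q r s) ∧ y r m ∈ Q (pt p q r s) ∧ y s m ∈ Q (pt p q r s) := by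
  obtain ⟨⟨h1, h2, h3, h4, h5, h6⟩, m1, m2, m3, m4⟩ := hD
  have hD4 : D4 p q r s := ⟨h1, h2, h3, h4, h5, h6⟩
  obtain ⟨e1, e2, e3⟩ := L.pt' hD4
  have hD4' : D4 r s p q := ⟨h6, h2.symm, h4.symm, h3.symm, h5.symm, h1⟩
  obtain ⟨f1, f2, f3⟩ := L.pt' hD4'
  have a1 := L.yQ p q r s m ⟨hD4, m1, m2, m3, m4⟩
  have a2 := L.yQ q p r s m ⟨⟨h1.symm, h4, h5, h2, h3, h6⟩, m2, m1, m3, m4⟩
  have a3 := L.yQ r s p q m ⟨hD4', m3, m4, m1, m2⟩
  have a4 := L.yQ s r p q m ⟨⟨h6.symm, h3.symm, h5.symm, h2.symm, h4.symm, h1⟩, m4, m3, m1, m2⟩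
  rw [e1] at a2
  rw [e3] at a3
  rw [f1, e3] at a4
  exact ⟨a1.1, a3.1, a1.2, a2.2, a3.2, a4.2⟩

/-- `z_{pr|qs} = y_{mp} y_{mr}` -/
theorem z_pr {p q r s m : Fin 5} (hD : D5 p q r s m) :
    z (pt p r q s) = y m p * y m r := by
  obtain ⟨⟨h1, h2, h3, h4, h5, h6⟩, m1, m2, m3, m4⟩ := hD
  rw [L.rel m p q s r ⟨⟨m1, m2, m4, h1, h3, h5⟩, m3.symm, h2.symm, h4.symm, h6⟩,
    L.z_eq p r q s ⟨h2, h1, h3, h4.symm, h6, h5⟩]
  exact L.comm p r q s h2 h5

/-- `z_{pq|rs} = y_{mp} y_{mq}` -/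
theorem z_pq {p q r s m : Fin 5} (hD : D5 p q r s m) :
    z (pt p q r s) = y m p * y m q := by
  obtain ⟨⟨h1, h2, h3, h4, h5, h6⟩, m1, m2, m3, m4⟩ := hD
  rw [L.rel m p r s q ⟨⟨m1, m3, m4, h2, h3, h6⟩, m2.symm, h1.symm, h4, h5⟩,
    L.z_eq p q r s ⟨h1, h2, h3, h4, h5, h6⟩]
  exact L.comm p q r s h1 h6

/-- `z_{pq|rs} ≠ z_{pr|qs}` -/
theorem z_ne {p q r s m : Fin 5} (hD : D5 p q r s m) : z (pt p r q s) ≠ z (pt p q r s) := by
  intro he
  rw [L.z_pq hD, L.z_pr hD] at he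
  obtain ⟨⟨h1, h2, h3, h4, h5, h6⟩, m1, m2, m3, m4⟩ := hD
  rcases L.inj m r m q m3 m2 (mul_left_cancel he) with ⟨-, h7⟩ | ⟨h7, -⟩
  · exact h4 h7.symm
  · exact m2 h7

/-- `z_{ps|qr} = z_{pq|rs} z_{pr|qs}` -/
theorem z_ps {p q r s m : Fin 5} (hD : D5 p q r s m) :
    z (pt p s q r) = z (pt p q r s) * z (pt p r q s) := by
  have hD' := hD
  obtain ⟨⟨h1, h2, h3, h4, h5, h6⟩, m1, m2, m3, m4⟩ := hD'
  have hp : D5 p q s r m := ⟨⟨h1, h3, h2, h5, h4, h6.symm⟩, m1, m2, m4, m3⟩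
  rw [L.z_pr hp, L.z_pq hD, L.z_pr hD]
  -- `y_mp y_mq y_mp y_mr = y_mq y_mr = y_ps y_qr`
  have e1 : y m q * y m r = y p s * y q r :=
    L.rel m q p s r ⟨⟨m2, m1, m4, h1.symm, h5, h3⟩, m3.symm, h4.symm, h2.symm, h6⟩
  have e2 : y m p * y m s = y q r * y p s :=
    L.rel m p q r s ⟨⟨m1, m2, m3, h1, h2, h4⟩, m4.symm, h3.symm, h5.symm, h6.symm⟩
  have e3 : y m p * y m q * (y m p * y m r) = y m q * y m r := by
    have h7 := L.comm m p m q m1 m2
    calc y m p * y m q * (y m p * y m r) = (y m p * y m q) * y m p * y m r := by group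
      _ = y m q * (y m p * y m p) * y m r := by rw [h7]; group
      _ = y m q * y m r := by rw [L.sq m p m1, mul_one]
  rw [e3, e1, e2]
  exact L.comm q r p s h4 h3

/-- elements of `P ∩ C(z i)` fix `z_{pr|qs}` modulo `z i` -/
theorem Ma [Finite G] {p q r s m : Fin 5} (hD : D5 p q r s m) {k : G} (hk : k ∈ P)
    (hkz : k * z (pt p q r s) = z (pt p q r s) * k) :
    Eqz (z (pt p q r s)) (k * z (pt p r q s) * k⁻¹) (z (pt p r q s)) := by
  have hD' := hD
  obtain ⟨⟨h1, h2, h3, h4, h5, h6⟩, m1, m2, m3, m4⟩ := hD'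
  have hD4 : D4 p q r s := ⟨h1, h2, h3, h4, h5, h6⟩
  obtain ⟨σ, -, hσ⟩ := L.act k hk
  have hkC := h.PC _ k hk hkz
  have hinj : ∀ {x : G}, x ≠ 1 → k * x * k⁻¹ ≠ 1 := by
    intro x hx hc
    apply hx
    calc x = k⁻¹ * (k * x * k⁻¹) * k := by group
      _ = 1 := by rw [hc]; group
  have hkz' : k * z (pt p q r s) * k⁻¹ = z (pt p q r s) := comm_conj' hkz
  have hB : ∀ {x : G}, x ∈ h.B (pt p q r s) → x ≠ 1 → x ≠ z (pt p q r s) →
      k * x * k⁻¹ = y p q ∨ k * x * k⁻¹ = y r s := by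
    intro x hx hx1 hxz
    have h7 := norm_conj (h.B_norm _) hkC hx
    rcases (L.B_eq hD4).1 h7 with h8 | h8 | h8 | h8
    · exact absurd h8 (hinj hx1)
    · exfalso
      apply hxz
      calc x = k⁻¹ * (k * x * k⁻¹) * k := by group
        _ = k⁻¹ * (k * z (pt p q r s) * k⁻¹) * k := by rw [h8, hkz']
        _ = z (pt p q r s) := by group
    · exact Or.inl h8
    · exact Or.inr h8
  have hz := L.z_eq p q r s hD4
  have hzy : ∀ {a b c d : Fin 5}, a ≠ b → c ≠ d → y a b ≠ y a b * y c d := by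
    intro a b c d _ hcd hc
    exact L.ne_one c d hcd (mul_left_cancel (a := y a b) (by rw [mul_one]; exact hc.symm))
  have hy1 : k * y p q * k⁻¹ = y p q ∨ k * y p q * k⁻¹ = y r s :=
    hB (L.y_mem_B hD4) (L.ne_one p q h1) (by rw [hz]; exact hzy h1 h6)
  have hy2 : k * y r s * k⁻¹ = y p q ∨ k * y r s * k⁻¹ = y r s :=
    hB (L.y_mem_B' hD4) (L.ne_one r s h6) (by
      rw [hz, L.comm p q r s h1 h6]; exact hzy h6 h1)
  rw [hσ p q h1] at hy1
  rw [hσ r s h6] at hy2
  have hs : ∀ {a b : Fin 5}, a ≠ b → σ a ≠ σ b := fun hab hc => hab (σ.injective hc)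
  have hpq : (σ p = p ∧ σ q = q) ∨ (σ p = q ∧ σ q = p) ∨ (σ p = r ∧ σ q = s) ∨
      (σ p = s ∧ σ q = r) := by
    rcases hy1 with h7 | h7
    · rcases L.inj _ _ _ _ (hs h1) h1 h7 with h8 | h8
      · exact Or.inl h8
      · exact Or.inr (Or.inl h8)
    · rcases L.inj _ _ _ _ (hs h1) h6 h7 with h8 | h8
      · exact Or.inr (Or.inr (Or.inl h8))
      · exact Or.inr (Or.inr (Or.inr h8))
  have hrs : (σ r = p ∧ σ s = q) ∨ (σ r = q ∧ σ s = p) ∨ (σ r = r ∧ σ s = s) ∨
      (σ r = s ∧ σ s = r) := by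
    rcases hy2 with h7 | h7
    · rcases L.inj _ _ _ _ (hs h6) h1 h7 with h8 | h8
      · exact Or.inl h8
      · exact Or.inr (Or.inl h8)
    · rcases L.inj _ _ _ _ (hs h6) h6 h7 with h8 | h8
      · exact Or.inr (Or.inr (Or.inl h8))
      · exact Or.inr (Or.inr (Or.inr h8))
  -- the two values
  have hpr : z (pt p r q s) = y p r * y q s := L.z_eq p r q s ⟨h2, h1, h3, h4.symm, h6, h5⟩
  have hps : z (pt p q r s) * z (pt p r q s) = y p s * y q r := by
    rw [← L.z_ps hD]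
    exact L.z_eq p s q r ⟨h3, h1, h2, h5.symm, h6.symm, h4⟩
  have hval : k * z (pt p r q s) * k⁻¹ = y (σ p) (σ r) * y (σ q) (σ s) := by
    rw [hpr, ← hσ p r h2, ← hσ q s h5]; group
  have c1 : y q s * y p r = y p r * y q s := L.comm q s p r h5 h2
  have c2 : y q r * y p s = y p s * y q r := L.comm q r p s h4 h3
  rw [Eqz, hval, hps, hpr]
  have n1 := hs h2
  have n2 := hs h3
  rcases hpq with ⟨a1, a2⟩ | ⟨a1, a2⟩ | ⟨a1, a2⟩ | ⟨a1, a2⟩ <;>
    rcases hrs with ⟨b1, b2⟩ | ⟨b1, b2⟩ | ⟨b1, b2⟩ | ⟨b1, b2⟩ <;>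
    rw [a1, b1] at n1 <;> rw [a1, b2] at n2 <;> rw [a1, a2, b1, b2] <;>
    first
    | exact absurd rfl n1
    | exact absurd rfl n2
    | exact Or.inl rfl
    | exact Or.inr rfl
    | exact Or.inl c1
    | exact Or.inr c2
    | (left; rw [L.symm r p, L.symm s q]; exact c1)
    | (left; rw [L.symm r p, L.symm s q]; done)
    | (right; rw [L.symm r q, L.symm s p]; exact c2)
    | (right; rw [L.symm s p, L.symm r q]; done)

/-- **(6)**, for a given `g` -/
theorem six [Finite G] (hT : h.T0 ≤ h.Dl) {p q r s m : Fin 5} (hD : D5 p q r s m)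
    (hQF : ∀ x ∈ Q (pt p q r s), x ∈ QF (pt p q r s)) {v g : G} (hv : v ∈ V)
    (hvQ : v ∉ Q (pt p q r s)) (hgC : g ∈ C (pt p q r s))
    (hg : GD (V ⊓ Q (pt p q r s)) (z (pt p q r s)) v g)
    (hgen : g ≠ 1 →
      C (pt p q r s) ≤ closure ({k | k ∈ P ∧ k * z (pt p q r s) = z (pt p q r s) * k} ∪ {g})) :
    False := by
  have hD' := hD
  obtain ⟨⟨h1, h2, h3, h4, h5, h6⟩, m1, m2, m3, m4⟩ := hD'
  have hD4 : D4 p q r s := ⟨h1, h2, h3, h4, h5, h6⟩
  have := L.nonempty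
  obtain ⟨q1, q2, q3, q4, q5, q6⟩ := L.y_mem_Q hD
  set i := pt p q r s with hi
  have hzz := h.sq i
  have hzB : z i ∈ h.B i := h.Zs_B i (h.z_mem_Zs i)
  have hyB : y p q ∈ h.B i := L.y_mem_B hD4
  have hyT : y p q ∈ T := L.y_mem_T h1
  have hQz : ∀ {x : G}, x ∈ Q i → x * z i = z i * x := fun hx => h.Qcomm_z hx
  -- `B` is central
  have hBZ : ∀ b ∈ h.B i, ∀ x ∈ Q i, b * x = x * b := by
    intro b hb x hx
    obtain ⟨w, hw, hxw⟩ := L.QF_eq hD4 (hQF x hx)
    have hbw := (h.mem_B.1 hb).2 w hw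
    have hby := L.y_T h1 (h.B_T i hb)
    rcases hxw with rfl | rfl
    · exact hbw
    · calc b * (w * y p q) = (b * w) * y p q := by group
        _ = w * (b * y p q) := by rw [hbw]; group
        _ = w * y p q * b := by rw [hby]; group
  -- `x = w` or `w y_pq`
  have hyQ : ∀ {x : G}, x ∈ Q i → ∃ w ∈ Qs i, ∃ b ∈ h.B i, x = w * b := by
    intro x hx
    obtain ⟨w, hw, hxw⟩ := L.QF_eq hD4 (hQF x hx)
    rcases hxw with rfl | rfl
    · exact ⟨x, hw, 1, one_mem _, (mul_one _).symm⟩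
    · exact ⟨w, hw, _, hyB, rfl⟩
  have hQQ : ∀ x ∈ Q i, ∀ x' ∈ Q i, Eqz (z i) (x * x') (x' * x) := by
    intro x hx x' hx'
    obtain ⟨w, hw, b, hb, rfl⟩ := hyQ hx
    obtain ⟨w', hw', b', hb', rfl⟩ := hyQ hx'
    have e1 : w * b * (w' * b') = w * w' * (b * b') := by
      calc w * b * (w' * b') = w * (b * w') * b' := by group
        _ = w * w' * (b * b') := by rw [hBZ b hb w' (h.QsQ i hw')]; group
    have e2 : w' * b' * (w * b) = w' * w * (b * b') := by
      calc w' * b' * (w * b) = w' * (b' * (w * b)) := by group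
        _ = w' * ((w * b) * b') := by rw [hBZ b' hb' _ hx]
        _ = w' * w * (b * b') := by group
    rw [e1, e2]
    exact Eqz.mul_right _ (h.Qs_comm hw hw')
  -- `T ∩ Q = E B`
  have hTE : ∀ {x : G}, x ∈ Q i → x ∈ T → ∃ e ∈ V ⊓ Q i, ∃ b ∈ h.B i, x = e * b := by
    intro x hx hxT
    have h7 : x ∈ h.Dl := hT (h.Tt_le_T0 i (h.mem_Tt.2 ⟨hxT, hx⟩))
    rcases (L.mem_iff p q h1 x).1 h7 with h8 | h8
    · exact ⟨x, ⟨h8, hx⟩, 1, one_mem _, (mul_one _).symm⟩
    · refine ⟨x * y p q, ⟨h8, mul_mem hx q1⟩, y p q, hyB, ?_⟩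
      rw [mul_assoc, L.sq p q h1, mul_one]
  have hTQ : ∀ x ∈ Q i, Eqz (z i) (x * v) (v * x) → ∃ e ∈ V ⊓ Q i, ∃ b ∈ h.B i, x = e * b := by
    intro x hx hxv
    refine hTE hx ?_
    obtain ⟨w, hw, b, hb, rfl⟩ := hyQ hx
    refine mul_mem (h.kv i w hw v hv hvQ ?_) (h.B_T i hb)
    have hbv := h.B_V hb v hv
    have e1 : w * b * v = w * v * b := by
      calc w * b * v = w * (b * v) := by group
        _ = w * v * b := by rw [hbv]; group
    rw [e1, ← mul_assoc] at hxv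
    rcases hxv with h7 | h7
    · exact Or.inl (mul_right_cancel h7)
    · rw [← mul_assoc] at h7
      exact Or.inr (mul_right_cancel h7)
  have hvC := h.VC i hv
  have hwz := L.z_ne hD
  have haE : z (pt p r q s) ∈ V ⊓ Q i := by
    refine mem_inf.2 ⟨h.zV _, ?_⟩
    rw [L.z_pr hD, L.symm m p, L.symm m r]
    exact mul_mem q3 q5
  have hg1 : g ≠ 1 := by
    intro hg1
    have h7 : ∀ e' ∈ V ⊓ Q i, e' * (g * z (pt p r q s) * g⁻¹) = g * z (pt p r q s) * g⁻¹ * e' := by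
      intro e' he'
      have e1 : g * z (pt p r q s) * g⁻¹ = z (pt p r q s) := by rw [hg1]; group
      rw [e1]
      exact h.Vab e' (mem_inf.1 he').1 _ (mem_inf.1 haE).1
    rcases hg.ff _ haE h7 with h8 | h8
    · exact h.ne_one _ h8
    · exact hwz h8
  have hDt : SixD (C i) (Q i) (V ⊓ Q i) (h.B i)
      {k | k ∈ P ∧ k * z i = z i * k} (z i) v (z (pt p r q s)) g := by
    refine
      { Qo2 := h.Qo2 i
        char2 := h.char2 i
        Cz := h.Cz i
        z2 := hzz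
        zB := hzB
        BQ := h.B_Q i
        BZ := hBZ
        Bv := fun b hb => h.B_V hb v hv
        B2 := fun b hb => h.B_sq L.two hb
        CB := ?_
        QQ := hQQ
        EQ := inf_le_right
        E2 := fun e he => h.Vsq e he.1
        EE := fun e he f hf => h.Vab e he.1 f hf.1
        Ev := fun e he => h.Vab e he.1 v hv
        vC := hvC
        gC := hgC
        vg := hg.vg
        gd1 := ?_
        gd2 := ?_
        QvE := ?_
        TQ := hTQ
        MC := fun k hk => h.PC i k hk.1 hk.2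
        Mv := ?_
        ME := ?_
        Ma := fun k hk => L.Ma hD hk.1 hk.2
        aE := haE
        a1 := ?_
        gen := hgen hg1 }
    · -- `CB`
      intro c hc b hb
      have h7 := norm_conj (h.B_norm i) hc hb
      have hcz : c * z i * c⁻¹ = z i := comm_conj' (h.Cz i c hc)
      have hzy : z i = y p q * y r s := L.z_eq p q r s hD4
      have hy2 := L.sq p q h1
      have hy3 : z i * y p q = y r s := by
        rw [hzy, L.comm p q r s h1 h6, mul_assoc, hy2, mul_one]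
      have hy4 : z i * y r s = y p q := by
        rw [hzy, mul_assoc, L.sq r s h6, mul_one]
      have hback : ∀ {x x' : G}, c * x * c⁻¹ = x' → x = c⁻¹ * x' * c := by
        rintro x _ rfl; group
      have hne : ∀ {x : G}, c * x * c⁻¹ = z i → x = z i := by
        intro x hx
        exact mul_left_cancel (mul_right_cancel (hx.trans hcz.symm))
      rcases (L.B_eq hD4).1 hb with h8 | h8 | h8 | h8
      · rw [h8]; left; group
      · rw [h8]; left; exact hcz
      · rcases (L.B_eq hD4).1 h7 with h9 | h9 | h9 | h9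
        · exfalso
          have := hback h9
          rw [mul_one, inv_mul_cancel] at this
          exact L.ne_one p q h1 (h8 ▸ this)
        · exfalso
          have := hne h9
          rw [h8] at this
          rw [this] at hy3
          rw [hzz] at hy3
          exact L.ne_one r s h6 hy3.symm
        · left; rw [h9, h8]
        · right; rw [h9, h8, hy3]
      · rcases (L.B_eq hD4).1 h7 with h9 | h9 | h9 | h9
        · exfalso
          have := hback h9
          rw [mul_one, inv_mul_cancel] at this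
          exact L.ne_one r s h6 (h8 ▸ this)
        · exfalso
          have := hne h9
          rw [h8] at this
          rw [this] at hy4
          rw [hzz] at hy4
          exact L.ne_one p q h1 hy4.symm
        · right; rw [h9, h8, hy4]
        · left; rw [h9, h8]
    · -- `gd1`
      intro e he f hf hc
      by_cases he1 : e = 1
      · exact Or.inl (Or.inl he1)
      by_cases hez : e = z i
      · exact Or.inl (Or.inr (by rw [mul_one]; exact hez))
      rcases (hg.perp he he1 hez hf).1 hc with h7 | h7 | h7 | h7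
      · exact Or.inr (Or.inl (Or.inl h7))
      · exact Or.inr (Or.inl (Or.inr (by rw [mul_one]; exact h7)))
      · exact Or.inr (Or.inr (Or.inl h7))
      · exact Or.inr (Or.inr (Or.inr (by rw [h7]; exact hQz he.2)))
    · -- `gd2`
      intro e he
      by_cases he1 : e = 1
      · rw [he1]; left; group
      by_cases hez : e = z i
      · rw [hez]
        have hgz := hg.gz
        have e1 : g⁻¹ * z i * g = z i := by rw [mul_assoc, ← hgz]; group
        have e2 : g * z i * g⁻¹ = z i := by rw [hgz]; group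
        rw [e1, e2]
        right; rw [hzz, mul_one]
      rcases hg.third he he1 hez with h7 | h7
      · exact Or.inl h7
      · right
        rw [h7]
        exact hQz (mul_mem (norm_conj (h.nQ i) hgC he.2) he.2)
    · -- `QvE`
      intro x hx
      exact mem_inf.2 ⟨mul_mem (h.conj_V (h.QP i hx) hv) (inv_mem hv), h.VQc i x hx v hv⟩
    · -- `Mv`
      rintro k ⟨hk, hkz⟩
      have hkC := h.PC i k hk hkz
      have h7 : k * v * k⁻¹ ∈ V := h.conj_V hk hv
      refine mem_inf.2 ⟨mul_mem h7 (inv_mem hv), ?_⟩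
      refine h.VQ2 i _ h7 _ (inv_mem hv) (fun hc => hvQ ?_) (fun hc => hvQ ((inv_mem_iff).1 hc))
      have h8 := norm_conj (h.nQ i) (inv_mem hkC) hc
      have e1 : k⁻¹ * (k * v * k⁻¹) * k⁻¹⁻¹ = v := by group
      rwa [e1] at h8
    · -- `ME`
      rintro k ⟨hk, hkz⟩ e he
      exact mem_inf.2 ⟨h.conj_V hk he.1, norm_conj (h.nQ i) (h.PC i k hk hkz) he.2⟩
    · -- `a1`
      rintro (h7 | h7)
      · exact h.ne_one _ h7
      · rw [mul_one] at h7
        exact hwz h7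
  -- the transposition
  obtain ⟨k, hkP, hk⟩ := L.full (Equiv.swap p r * Equiv.swap q s)
  have s1 : (Equiv.swap p r * Equiv.swap q s) p = r := by
    rw [Equiv.Perm.mul_apply, Equiv.swap_apply_of_ne_of_ne h1 h3, Equiv.swap_apply_left]
  have s2 : (Equiv.swap p r * Equiv.swap q s) q = s := by
    rw [Equiv.Perm.mul_apply, Equiv.swap_apply_left, Equiv.swap_apply_of_ne_of_ne h3.symm h6.symm]
  have s3 : (Equiv.swap p r * Equiv.swap q s) r = p := by
    rw [Equiv.Perm.mul_apply, Equiv.swap_apply_of_ne_of_ne h4.symm h6, Equiv.swap_apply_right]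
  have s4 : (Equiv.swap p r * Equiv.swap q s) s = q := by
    rw [Equiv.Perm.mul_apply, Equiv.swap_apply_right, Equiv.swap_apply_of_ne_of_ne h1.symm h4]
  have s5 : (Equiv.swap p r * Equiv.swap q s) m = m := by
    rw [Equiv.Perm.mul_apply, Equiv.swap_apply_of_ne_of_ne m2 m4,
      Equiv.swap_apply_of_ne_of_ne m1 m3]
  have hzy : z i = y p q * y r s := L.z_eq p q r s hD4
  have hkz : k * z i = z i * k := by
    apply conj_comm'
    have e1 : k * z i * k⁻¹ = (k * y p q * k⁻¹) * (k * y r s * k⁻¹) := by rw [hzy]; group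
    rw [e1, hk p q h1, hk r s h6, s1, s2, s3, s4, hzy]
    exact L.comm r s p q h6 h1
  have hem : y p q * y r m = z (pt p q r m) :=
    (L.z_eq p q r m ⟨h1, h2, m1.symm, h4, m2.symm, m3.symm⟩).symm
  have heE : y p q * y r m ∈ V ⊓ Q i := ⟨by rw [hem]; exact h.zV _, mul_mem q1 q5⟩
  have h7 := hDt.main (s := k) (e := y p q * y r m) ⟨hkP, hkz⟩ heE
  have e1 : k * (y p q * y r m) * k⁻¹ = y r s * y p m := by
    have e2 : k * (y p q * y r m) * k⁻¹ = (k * y p q * k⁻¹) * (k * y r m * k⁻¹) := by group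
    rw [e2, hk p q h1, hk r m m3.symm, s1, s2, s3, s5]
  rw [e1] at h7
  rcases h7 with h7 | h7
  · -- `y_rs y_pm = y_pq y_rm`: then `z_{pq|rs} = z_{pr|qs}`
    apply hwz
    have hc := L.comm p m r m m1.symm m3.symm
    rw [L.z_pr hD, hzy, L.symm m p, L.symm m r, hc]
    -- `y_rm y_pm = y_pq y_rs`
    have e3 : y p q * (y r s * y p m) = y r m := by
      rw [h7, ← mul_assoc, L.sq p q h1, one_mul]
    have e4 : y r m * y p m = y p q * y r s := by
      rw [← e3]
      calc y p q * (y r s * y p m) * y p m = y p q * y r s * (y p m * y p m) := by group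
        _ = y p q * y r s := by rw [L.sq p m m1.symm, mul_one]
    exact e4
  · -- `y_rs y_pm = y_rs y_rm`
    have e3 : z i * (y p q * y r m) = y r s * y r m := by
      rw [hzy, L.comm p q r s h1 h6]
      calc y r s * y p q * (y p q * y r m) = y r s * (y p q * y p q) * y r m := by group
        _ = y r s * y r m := by rw [L.sq p q h1, mul_one]
    rw [e3] at h7
    rcases L.inj p m r m m1.symm m3.symm (mul_left_cancel h7) with ⟨h8, -⟩ | ⟨h8, -⟩
    · exact h2 h8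
    · exact m1 h8.symm

/-- **(6)**: `Δ > V`, `T₀ = Δ` and `Q i = QF i` is impossible. -/
theorem six_false [Finite G] (hT : h.T0 ≤ h.Dl) (i : ι) (hQF : ∀ x ∈ Q i, x ∈ QF i)
    (hgen : ∀ v ∈ V, v ∉ Q i → ∀ d ∈ C i, d ≠ 1 → Odd (orderOf d) → v * d * v⁻¹ = d⁻¹ →
      C i ≤ closure ({m | m ∈ P ∧ m * z i = z i * m} ∪ {d})) : False := by
  obtain ⟨j, k, hij, -, -⟩ := h.tri i
  have hjQ : z j ∉ Q i := (h.opp_iff i j).1 hij
  obtain ⟨g, hgC, hg⟩ := h.exists_g i (h.zV j) hjQ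
  obtain ⟨p, q, r, s, hD, rfl⟩ := L.surj i
  obtain ⟨m, hm⟩ := ex_fifth p q r s hD
  exact L.six hT hm hQF (h.zV j) hjQ hgC hg fun hg1 =>
    hgen _ (h.zV j) hjQ g hgC hg1 hg.odd hg.vg

end Lab

end Cfsg.Agent.Omega.NOne.AG
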