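import Cfsg.Agent.Omega.NOne.AG.End
import Cfsg.Agent.Omega.NOne.AG.FrameCfg
import Cfsg.Agent.Omega.NOne.AG.FactsNat
import Cfsg.Agent.Omega.NOne.AG.Rank
import Cfsg.Agent.Omega.NOne.AG.FivePlug
import Cfsg.Agent.Omega.NOne.AG.Six
import Cfsg.Agent.Omega.NOne.AG.Seven
import Cfsg.Agent.Omega.NOne.AG.LabOf

/-!
# THEOREM D0ag (bb #15001): the leaf `EndNat4` of N1

`exists_baseA` : the frame of type (α); `false_of_lab` : no labelling, i.e. (5), (6), (7);
**`endNat4`** : the leaf.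
-/

set_option autoImplicit false

namespace Cfsg.Agent.Omega.NOne.AG.End

open Subgroup Cfsg Cfsg.Agent.ZN Cfsg.Agent.Omega.MinPar Cfsg.Agent.Omega.Frame
open Cfsg.Agent.Omega.NO1 (Cfg Plus2 Nat4 Sympl EE)

universe u

/-- **The frame of type (α).** -/
theorem exists_baseA {G : Type u} [Group G] [Finite G] {S : Sylow 2 G} {P : Subgroup G} {W : Tab.B4 → G}
    (h : Cfg S P) (A : Tab.AW P (zl (S : Subgroup G) P) W)
    (hz : zc (S : Subgroup G) = zpowers (W Tab.z0))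
    (hE : (EE (S : Subgroup G) P).relIndex (zl (S : Subgroup G) P) = 2) :
    ∃ (C QF Qs : Subgroup G) (hp : Pt P (zl (S : Subgroup G) P)
        ((S : Subgroup G) ⊓ centralizer (zl (S : Subgroup G) P : Set G)) (W Tab.z0) C (o2 C) QF Qs),
      (∀ v ∈ zl (S : Subgroup G) P, ∀ d ∈ C, d ≠ 1 → Odd (orderOf d) → v * d * v⁻¹ = d⁻¹ →
        C ≤ closure ({m | m ∈ P ∧ m * W Tab.z0 = W Tab.z0 * m} ∪ {d})) ∧
      Base S P (zl (S : Subgroup G) P)
        ((S : Subgroup G) ⊓ centralizer (zl (S : Subgroup G) P : Set G))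
        (fun i : Pts P (W Tab.z0) => i.val) hp.opp (tr P (W Tab.z0) C) (tr P (W Tab.z0) (o2 C))
        (tr P (W Tab.z0) QF) (tr P (W Tab.z0) Qs) (Pts.base P (W Tab.z0)) := by
  refine exists_base h hz (fun e => ?_) A.card hE (FactsNat.facts h A hz hE) (FactsNat.stab h A hz)
    (FactsNat.ind h A hz)
  rw [← A.zero] at e
  exact absurd (A.inj _ _ e) (by decide)

/-- **No labelling** : (5), (6), (7). -/
theorem false_of_lab {G : Type u} [Group G] [Finite G] {ι : Type*} {S : Sylow 2 G} {P V T : Subgroup G}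
    {z : ι → G} {opp : ι → ι → Prop} {C Q QF Qs : ι → Subgroup G} {i₀ : ι}
    (hB : Base S P V T z opp C Q QF Qs i₀) {y : Fin 5 → Fin 5 → G}
    {pt : Fin 5 → Fin 5 → Fin 5 → Fin 5 → ι} (L : Lab hB.toConf y pt)
    (hgen : ∀ v ∈ V, ∀ d ∈ C i₀, d ≠ 1 → Odd (orderOf d) → v * d * v⁻¹ = d⁻¹ →
      C i₀ ≤ closure ({m | m ∈ P ∧ m * z i₀ = z i₀ * m} ∪ {d})) : False := by
  have hT := FivePlug.T0_le hB L
  exact L.six_false hT i₀ (Seven.seven hB L fun i => (hB.toConf.Tt_le_T0 i).trans hT)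
    fun v hv _ d hd hd1 hdo hvd => hgen v hv d hd hd1 hdo hvd

/-- Type (α): the configuration, `Δ ≤ V`. -/
theorem natBase : NatBase.{u} := by
  intro G _ _ S P h hN
  obtain ⟨W, A, hz⟩ := exists_aw h hN
  obtain ⟨C, QF, Qs, hp, hgen, hB⟩ := exists_baseA h A hz hN.ind
  refine ⟨_, _, _, _, _, _, _, _, hB, ?_⟩
  by_contra hD
  have : Nonempty (Pts P (W Tab.z0)) := ⟨Pts.base P (W Tab.z0)⟩
  obtain ⟨y, pt, L⟩ := LabOf.exists_lab hB.toConf A (fun _ _ e => Subtype.ext e) hD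
  refine false_of_lab hB L ?_
  rw [hp.trC_base]
  exact hgen

/-- Type (α): `T = V` is impossible. -/
theorem natRank : NatRank.{u} := by
  intro G _ _ S P h hN _ h5
  obtain ⟨ι, ζ, opp, C, Q, QF, Qs, i₀, hB, -⟩ := natBase G S P h hN
  obtain ⟨W, A, hz⟩ := exists_aw h hN
  exact hB.false_of_alp h5 A.alp

/-- **The leaf `EndNat4` of N1.** -/
theorem endNat4 : NO1.EndNat4.{u} := endNat4_of natBase natRank

end Cfsg.Agent.Omega.NOne.AG.End
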