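import Cfsg.Agent.Omega.NOne.AG.PlusEnd

/-!
# THEOREM D0ag (bb #15001): the leaf `EndPlus2` of N1

See `AG/PlusEnd.lean` (`PlusEnd.plusBase`, `PlusEnd.endPlus2_of_idx`).
-/

set_option autoImplicit false

namespace Cfsg.Agent.Omega.NOne.AG.End

universe u

/-- **`EndPlus2`** from `|V / E| = 2`. -/
theorem endPlus2 (h1 : PlusIdx.{u}) : NO1.EndPlus2.{u} := PlusEnd.endPlus2_of_idx h1

end Cfsg.Agent.Omega.NOne.AG.End
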