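import Cfsg.Agent.Omega.NOne.AG.Point
import Cfsg.Agent.Omega.NOne.NearFF

/-!
# THEOREM D0ag (bb #15001): the frame (0) (helper537)

`Facts P V E z`: what is used of the pair `(P/C_P(V), V)`, `E = z^⊥`.
`exists_pt`: the configuration `Pt` at the point `z`.
-/

set_option autoImplicit false

namespace Cfsg.Agent.Omega.NOne.AG

open Subgroup Cfsg Cfsg.Agent.ZN
open Cfsg.Agent.MinSimple.VModule (o2_isPGroup)
open Cfsg.Agent.Omega.NOne.NearFF (Near Fin V1 c)
open Cfsg.Agent.Omega.NOne.Frame (X Fr comm_of_le_centralizer)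
open scoped Pointwise

universe u

variable {G : Type u} [Group G]

/-- Facts on the pair `(P/C_P(V), V)`, `E = z^⊥` (a hyperplane of `V`). -/
structure Facts (P V E : Subgroup G) (z : G) : Prop where
  faith : ∀ x ∈ P, (∀ e ∈ E, x * e = e * x) → ∀ v ∈ V, x * v = v * x
  symm : ∀ m ∈ P, m * z * m⁻¹ ∉ E → m⁻¹ * z * m ∉ E
  trans : ∀ m ∈ P, m * z * m⁻¹ ∉ E → ∀ A : Subgroup G, A ≤ P →
    (∀ x ∈ P, (∀ e ∈ E, x * e = e * x ∨ x * e = z * (e * x)) →
      ∃ a ∈ A, ∀ v ∈ V, a * v * a⁻¹ = x * v * x⁻¹) →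
    ∀ n ∈ P, ∃ x ∈ A ⊔ A.map (MulAut.conj m).toMonoidHom, x * z * x⁻¹ = n * z * n⁻¹
  tri : ∃ m ∈ P, ∃ n ∈ P, m * z * m⁻¹ ∉ E ∧ n * z * n⁻¹ ∉ E ∧ (m⁻¹ * n) * z * (m⁻¹ * n)⁻¹ ∉ E

theorem conj_eq_of {x y : G} (h : x * y = y * x) : x * y * x⁻¹ = y := by rw [h]; group

theorem comm_of_conj {x y : G} (h : x * y * x⁻¹ = y) : x * y = y * x := by
  calc x * y = x * y * x⁻¹ * x := by group
    _ = y * x := by rw [h]

/-- The elements of `Q` centralising `E/⟨z⟩`. -/
def QFz (Q E : Subgroup G) (z : G) (hz : ∀ x ∈ Q, x * z = z * x) (hzz : z * z = 1) : Subgroup G where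
  carrier := {x | x ∈ Q ∧ ∀ e ∈ E, x * e = e * x ∨ x * e = z * (e * x)}
  one_mem' := ⟨one_mem _, fun e _ => Or.inl (by simp)⟩
  mul_mem' := by
    rintro x y ⟨hx, hx'⟩ ⟨hy, hy'⟩
    refine ⟨mul_mem hx hy, fun e he => ?_⟩
    rcases hy' e he with h1 | h1 <;> rcases hx' e he with h2 | h2
    · left
      calc x * y * e = x * (y * e) := by group
        _ = (x * e) * y := by rw [h1]; group
        _ = e * (x * y) := by rw [h2]; group
    · right
      calc x * y * e = x * (y * e) := by group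
        _ = (x * e) * y := by rw [h1]; group
        _ = z * (e * (x * y)) := by rw [h2]; group
    · right
      calc x * y * e = x * (y * e) := by group
        _ = (x * z) * e * y := by rw [h1]; group
        _ = z * (x * e) * y := by rw [hz x hx]; group
        _ = z * (e * (x * y)) := by rw [h2]; group
    · left
      calc x * y * e = x * (y * e) := by group
        _ = (x * z) * e * y := by rw [h1]; group
        _ = z * (x * e) * y := by rw [hz x hx]; group
        _ = (z * z) * (e * (x * y)) := by rw [h2]; group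
        _ = e * (x * y) := by rw [hzz, one_mul]
  inv_mem' := by
    rintro x ⟨hx, hx'⟩
    refine ⟨inv_mem hx, fun e he => ?_⟩
    have hzi : x⁻¹ * z = z * x⁻¹ := by
      have h := hz x hx
      calc x⁻¹ * z = x⁻¹ * (z * x) * x⁻¹ := by group
        _ = z * x⁻¹ := by rw [← h]; group
    rcases hx' e he with h1 | h1
    · left
      calc x⁻¹ * e = x⁻¹ * (e * x) * x⁻¹ := by group
        _ = e * x⁻¹ := by rw [← h1]; group
    · right
      have h2 : e * x = z * (x * e) := by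
        rw [h1, ← mul_assoc, hzz, one_mul]
      calc x⁻¹ * e = x⁻¹ * (e * x) * x⁻¹ := by group
        _ = (x⁻¹ * z) * x * e * x⁻¹ := by rw [h2]; group
        _ = z * (e * x⁻¹) := by rw [hzi]; group

/-- A subgroup with at least 5 elements of a group of order 8 is everything. -/
theorem eq_of_five {E H : Subgroup G} (hHE : H ≤ E) (h8 : Nat.card E = 8) (h5 : 4 < Nat.card H) :
    H = E := by
  have : Finite E := Nat.finite_of_card_ne_zero (by omega)
  have h1 : Nat.card H ∣ 8 := by rw [← h8]; exact card_dvd_of_le hHE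
  have h2 : Nat.card H = 8 := by
    have h3 : Nat.card H ≤ 8 := Nat.le_of_dvd (by norm_num) h1
    interval_cases h4 : Nat.card H <;> omega
  exact eq_of_le_of_card_ge hHE (by omega)

theorem card_le_two [Finite G] {F F₁ : Subgroup G} (hF : F₁ ≤ F)
    (h : ∀ a ∈ F, ∀ b ∈ F, a ∉ F₁ → b ∉ F₁ → a * b ∈ F₁) : Nat.card F ≤ 2 * Nat.card F₁ := by
  by_cases hle : F ≤ F₁
  · have : F = F₁ := le_antisymm hle hF
    rw [this]; omega
  obtain ⟨a, ha, ha'⟩ := SetLike.not_le_iff_exists.1 hle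
  have hsub : (F : Set G) ⊆ (F₁ : Set G) ∪ (fun x => a⁻¹ * x) '' (F₁ : Set G) := by
    intro b hb
    by_cases hb' : b ∈ F₁
    · exact Or.inl hb'
    · exact Or.inr ⟨a * b, h a ha b hb ha' hb', by simp⟩
  have h1 := Set.ncard_le_ncard hsub (Set.toFinite _)
  have h2 := Set.ncard_union_le (F₁ : Set G) ((fun x => a⁻¹ * x) '' (F₁ : Set G))
  have h3 := Set.ncard_image_le (f := fun x => a⁻¹ * x) (Set.toFinite (F₁ : Set G))
  have e1 : Nat.card F = (F : Set G).ncard := Nat.card_coe_set_eq (F : Set G)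
  have e2 : Nat.card F₁ = (F₁ : Set G).ncard := Nat.card_coe_set_eq (F₁ : Set G)
  omega

section near

variable [Finite G] {P V E D F : Subgroup G} {v z : G}

theorem card_eq_sub (h : Near V E D F v) : Nat.card F = Nat.card E := by
  have h1 := relIndex_mul_relIndex ⊥ D F bot_le h.DF
  have h2 := relIndex_mul_relIndex ⊥ D E bot_le h.DE
  simp only [relIndex_bot_left] at h1 h2
  rw [← h1, ← h2, h.card]

/-- `D = ⟨z⟩` -/
theorem D_two (h : Near V E D F v) (h8 : Nat.card E = 8) (hD : D ≠ E) (hz : z ∈ D) (hz1 : z ≠ 1)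
    (hFP : F ≤ P) (faith : ∀ x ∈ P, (∀ e ∈ E, x * e = e * x) → ∀ v ∈ V, x * v = v * x) :
    ∀ d ∈ D, d = 1 ∨ d = z := by
  have hd1 : Nat.card D ∣ 8 := by rw [← h8]; exact card_dvd_of_le h.DE
  have hd8 : Nat.card D ≠ 8 := fun e => hD (eq_of_le_of_card_ge h.DE (by omega))
  have hle : Nat.card D ≤ 8 := Nat.le_of_dvd (by norm_num) hd1
  -- a `w ∈ F - D`
  obtain ⟨w, hwF, hwD⟩ : ∃ w ∈ F, w ∉ D := by
    by_contra hcon
    push Not at hcon
    have h1 : D = F := le_antisymm h.DF hcon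
    apply hD
    have h2 := card_eq_sub h
    rw [← h1] at h2
    exact eq_of_le_of_card_ge h.DE (by omega)
  have hww : w⁻¹ = w := h.inv_F hwF
  set H := E ⊓ centralizer ({w} : Set G) with hH
  have hDH : D ≤ H := fun d hd => mem_inf.2 ⟨h.DE hd, mem_centralizer_singleton_iff.2 (h.Dcent hd hwF)⟩
  have hHD : Nat.card D = 4 → H ≤ D := by
    intro h4 x hx
    by_contra hxD
    have h5 : 4 < Nat.card H := by
      have h6 : D < H := lt_of_le_of_ne hDH (fun e => hxD (e ▸ hx))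
      have h7 : Nat.card D < Nat.card H := by
        by_contra hlt
        exact h6.ne (eq_of_le_of_card_ge hDH (by omega))
      omega
    have h6 := eq_of_five inf_le_left h8 h5
    apply hwD
    rw [← h.F_inf_cent]
    refine mem_inf.2 ⟨hwF, mem_centralizer_iff.2 fun y hy => ?_⟩
    refine (faith w (hFP hwF) (fun e he => ?_) y hy).symm
    rw [← h6] at he
    exact (mem_centralizer_singleton_iff.1 (mem_inf.1 he).2).symm
  have h4 : Nat.card D ≠ 4 := by
    intro h4
    have hcE := h.c_mem h.vV hwF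
    have hcc : c v w * w = w * c v w := by
      have e1 : (c v w)⁻¹ = c v w := h.inv_V (h.EV hcE)
      have e2 : w * c v w * w⁻¹ = (c v w)⁻¹ := by
        rw [c]
        have e3 : (v * w * v⁻¹ * w⁻¹)⁻¹ = w * v * w⁻¹ * v⁻¹ := by group
        rw [e3, hww]
        have e4 : w * w = 1 := by
          nth_rewrite 1 [← hww]
          exact inv_mul_cancel w
        calc w * (v * w * v⁻¹ * w) * w = w * v * w * v⁻¹ * (w * w) := by group
          _ = w * v * w * v⁻¹ := by rw [e4, mul_one]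
      rw [e1] at e2
      exact (comm_of_conj e2).symm
    exact hwD (h.inj w hwF (hHD h4 (mem_inf.2 ⟨hcE, mem_centralizer_singleton_iff.2 hcc⟩)))
  -- `|D| ≤ 2`
  intro d hd
  by_contra hcon
  push Not at hcon
  have h3 : 3 ≤ Nat.card D := by
    classical
    have hsub : (({1, z, d} : Finset G) : Set G) ⊆ (D : Set G) := by
      intro x hx
      simp only [Finset.coe_insert, Finset.coe_singleton, Set.mem_insert_iff,
        Set.mem_singleton_iff] at hx
      rcases hx with rfl | rfl | rfl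
      · exact one_mem _
      · exact hz
      · exact hd
    have hc := Set.ncard_le_ncard hsub (Set.toFinite _)
    rw [Set.ncard_coe_finset, Finset.card_insert_of_notMem (by simp [hz1.symm, hcon.1.symm]),
      Finset.card_insert_of_notMem (by simp [hcon.2.symm]), Finset.card_singleton] at hc
    rw [← SetLike.coe_sort_coe, Nat.card_coe_set_eq]
    exact hc
  interval_cases h9 : Nat.card D <;> omega

/-- every `x ∈ P` centralising `E/⟨z⟩` acts on `V` like an element of `F` -/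
theorem exists_agree (h : Near V E D F v) (h8 : Nat.card E = 8) (hz : z ∈ D) (hz1 : z ≠ 1)
    (hD : ∀ d ∈ D, d = 1 ∨ d = z) (hFP : F ≤ P)
    (faith : ∀ x ∈ P, (∀ e ∈ E, x * e = e * x) → ∀ v ∈ V, x * v = v * x) {x : G} (hx : x ∈ P)
    (hxz : x * z = z * x) (hxE : ∀ e ∈ E, x * e = e * x ∨ x * e = z * (e * x)) :
    ∃ f ∈ F, ∀ v ∈ V, (x * f⁻¹) * v = v * (x * f⁻¹) := by
  have hzz : z * z = 1 := by
    have := h.Vsq z (h.DV hz)
    rwa [pow_two] at this
  have hzi : z⁻¹ = z := inv_eq_of_mul_eq_one_left hzz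
  have hzE : z ∈ E := h.DE hz
  have hF8 : Nat.card F = 8 := by rw [card_eq_sub h, h8]
  -- `e₁`, `e₂`
  have ex : ∀ A : Finset G, A.card ≤ 4 → ∃ e ∈ E, e ∉ A := by
    intro A hA
    by_contra hcon
    push Not at hcon
    have h1 := Set.ncard_le_ncard (show (E : Set G) ⊆ (A : Set G) from hcon) (Set.toFinite _)
    rw [Set.ncard_coe_finset, ← Nat.card_coe_set_eq, SetLike.coe_sort_coe, h8] at h1
    omega
  classical
  obtain ⟨e₁, he₁, hn₁⟩ := ex {1, z} (by
    refine (Finset.card_insert_le _ _).trans ?_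
    simp)
  obtain ⟨e₂, he₂, hn₂⟩ := ex {1, z, e₁, e₁ * z} (by
    refine (Finset.card_insert_le _ _).trans ?_
    have := Finset.card_insert_le z ({e₁, e₁ * z} : Finset G)
    have := Finset.card_insert_le e₁ ({e₁ * z} : Finset G)
    simp only [Finset.card_singleton] at *
    omega)
  simp only [Finset.mem_insert, Finset.mem_singleton, not_or] at hn₁ hn₂
  obtain ⟨n1, n2⟩ := hn₁
  obtain ⟨m1, m2, m3, m4⟩ := hn₂
  -- an element of `P` commuting with `z`, `e₁`, `e₂` centralises `V`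
  have three : ∀ y ∈ P, y * z = z * y → y * e₁ = e₁ * y → y * e₂ = e₂ * y →
      ∀ w ∈ V, y * w = w * y := by
    intro y hy hyz hy1 hy2
    refine faith y hy fun e he => ?_
    have h5 : 4 < Nat.card ↥(E ⊓ centralizer ({y} : Set G)) := by
      have hsub : (({1, z, e₁, e₂, e₁ * z} : Finset G) : Set G) ⊆
          ((E ⊓ centralizer ({y} : Set G) : Subgroup G) : Set G) := by
        intro x hx
        simp only [Finset.coe_insert, Finset.coe_singleton, Set.mem_insert_iff,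
          Set.mem_singleton_iff] at hx
        have mz : z ∈ E ⊓ centralizer ({y} : Set G) :=
          mem_inf.2 ⟨hzE, mem_centralizer_singleton_iff.2 hyz.symm⟩
        have m1 : e₁ ∈ E ⊓ centralizer ({y} : Set G) :=
          mem_inf.2 ⟨he₁, mem_centralizer_singleton_iff.2 hy1.symm⟩
        rcases hx with rfl | rfl | rfl | rfl | rfl
        · exact one_mem _
        · exact mz
        · exact m1
        · exact mem_inf.2 ⟨he₂, mem_centralizer_singleton_iff.2 hy2.symm⟩
        · exact mul_mem m1 mz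
      have hc := Set.ncard_le_ncard hsub (Set.toFinite _)
      have k1 : e₁ * z ≠ 1 := fun e => n2 (by rw [eq_inv_of_mul_eq_one_left e, hzi])
      have k2 : e₁ * z ≠ z := fun e => n1 (mul_eq_right.1 e)
      have k3 : e₁ * z ≠ e₁ := fun e => hz1 (mul_eq_left.1 e)
      rw [Set.ncard_coe_finset, Finset.card_insert_of_notMem (by
          simp [hz1.symm, Ne.symm n1, Ne.symm m1, Ne.symm k1]),
        Finset.card_insert_of_notMem (by simp [Ne.symm n2, Ne.symm m2, Ne.symm k2]),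
        Finset.card_insert_of_notMem (by simp [Ne.symm m3, Ne.symm k3]),
        Finset.card_insert_of_notMem (by simp [m4]), Finset.card_singleton] at hc
      rw [← SetLike.coe_sort_coe, Nat.card_coe_set_eq]
      omega
    have h6 := eq_of_five inf_le_left h8 h5
    rw [← h6] at he
    exact (mem_centralizer_singleton_iff.1 (mem_inf.1 he).2).symm
  -- `[e, f] ∈ {1, z}`
  have cEF : ∀ e ∈ E, ∀ f ∈ F, f * e = e * f ∨ f * e = z * (e * f) := by
    intro e he f hf
    rcases hD _ (h.ED e he f hf) with h1 | h1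
    · left
      calc f * e = (e * f * e⁻¹ * f⁻¹)⁻¹ * (e * f) := by group
        _ = e * f := by rw [h1]; group
    · right
      calc f * e = (e * f * e⁻¹ * f⁻¹)⁻¹ * (e * f) := by group
        _ = z * (e * f) := by rw [h1, hzi]
  have Fz : ∀ f ∈ F, f * z = z * f := fun f hf => (h.Dcent hz hf).symm
  -- the elements of `F` not commuting with `e`
  have two : ∀ e ∈ E, ∀ a ∈ F, ∀ b ∈ F, a * e = z * (e * a) → b * e = z * (e * b) →
      a * b * e = e * (a * b) := by
    intro e _ a ha b _ h1 h2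
    calc a * b * e = a * (b * e) := by group
      _ = (a * z) * e * b := by rw [h2]; group
      _ = z * (a * e) * b := by rw [Fz a ha]; group
      _ = (z * z) * (e * (a * b)) := by rw [h1]; group
      _ = e * (a * b) := by rw [hzz, one_mul]
  have hF1 : ∀ e ∈ E, 4 ≤ Nat.card ↥(F ⊓ centralizer ({e} : Set G)) := by
    intro e he
    have h1 := card_le_two (F := F) (F₁ := F ⊓ centralizer ({e} : Set G)) inf_le_left (by
      intro a ha b hb ha' hb'
      refine mem_inf.2 ⟨mul_mem ha hb, mem_centralizer_singleton_iff.2 (two e he a ha b hb ?_ ?_)⟩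
      · rcases cEF e he a ha with h1 | h1
        · exact absurd (mem_inf.2 ⟨ha, mem_centralizer_singleton_iff.2 h1⟩) ha'
        · exact h1
      · rcases cEF e he b hb with h1 | h1
        · exact absurd (mem_inf.2 ⟨hb, mem_centralizer_singleton_iff.2 h1⟩) hb'
        · exact h1)
    omega
  have hDc : Nat.card D ≤ 2 := by
    have hsub : (D : Set G) ⊆ (({1, z} : Finset G) : Set G) := by
      intro d hd
      simpa using hD d hd
    have h1 := Set.ncard_le_ncard hsub (Set.toFinite _)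
    rw [Set.ncard_coe_finset, ← Nat.card_coe_set_eq, SetLike.coe_sort_coe] at h1
    exact h1.trans Finset.card_le_two
  -- `f` commuting with `a` but not with `b`
  have sep : ∀ a ∈ E, ∀ b ∈ E, (∀ y ∈ P, y * z = z * y → y * a = a * y → y * b = b * y →
      ∀ w ∈ V, y * w = w * y) → ∃ f ∈ F, f * a = a * f ∧ f * b = z * (b * f) := by
    intro a ha b hb hab
    by_contra hcon
    push Not at hcon
    have hle : F ⊓ centralizer ({a} : Set G) ≤ D := by
      intro f hf
      obtain ⟨hf1, hf2⟩ := mem_inf.1 hf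
      have hf3 := mem_centralizer_singleton_iff.1 hf2
      rw [← h.F_inf_cent]
      refine mem_inf.2 ⟨hf1, mem_centralizer_iff.2 fun w hw => ?_⟩
      have hf4 : f * b = b * f := by
        rcases cEF b hb f hf1 with h1 | h1
        · exact h1
        · exact absurd h1 (hcon f hf1 hf3)
      exact (hab f (hFP hf1) (Fz f hf1) hf3 hf4 w hw).symm
    have h1 := hF1 a ha
    have h2 : Nat.card ↥(F ⊓ centralizer ({a} : Set G)) ≤ Nat.card D := by
      exact Nat.card_le_card_of_injective _ (inclusion_injective hle)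
    omega
  obtain ⟨f₁, hf₁, f11, f12⟩ := sep e₁ he₁ e₂ he₂ three
  obtain ⟨f₂, hf₂, f22, f21⟩ := sep e₂ he₂ e₁ he₁ (fun y hy hyz h1 h2 => three y hy hyz h2 h1)
  -- conclusion
  have fin : ∀ f ∈ F, x * f⁻¹ * e₁ = e₁ * (x * f⁻¹) → x * f⁻¹ * e₂ = e₂ * (x * f⁻¹) →
      ∃ f ∈ F, ∀ v ∈ V, (x * f⁻¹) * v = v * (x * f⁻¹) := by
    intro f hf h1 h2
    refine ⟨f, hf, three _ (mul_mem hx (inv_mem (hFP hf))) ?_ h1 h2⟩
    have h3 := Fz f⁻¹ (inv_mem hf)
    calc x * f⁻¹ * z = x * (f⁻¹ * z) := by group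
      _ = (x * z) * f⁻¹ := by rw [h3]; group
      _ = z * (x * f⁻¹) := by rw [hxz]; group
  -- `x` and `f` agree on `e`
  have ag : ∀ e ∈ E, ∀ f ∈ F, ((x * e = e * x ∧ f * e = e * f) ∨
      (x * e = z * (e * x) ∧ f * e = z * (e * f))) → x * f⁻¹ * e = e * (x * f⁻¹) := by
    intro e _ f hf h1
    rcases h1 with ⟨h1, h2⟩ | ⟨h1, h2⟩
    · have h3 : f⁻¹ * e = e * f⁻¹ := by
        calc f⁻¹ * e = f⁻¹ * (e * f) * f⁻¹ := by group
          _ = e * f⁻¹ := by rw [← h2]; group
      calc x * f⁻¹ * e = x * (f⁻¹ * e) := by group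
        _ = (x * e) * f⁻¹ := by rw [h3]; group
        _ = e * (x * f⁻¹) := by rw [h1]; group
    · have h3 : f⁻¹ * e = z * (e * f⁻¹) := by
        have h4 : e * f = z * (f * e) := by rw [h2, ← mul_assoc, hzz, one_mul]
        have h5 : f⁻¹ * z = z * f⁻¹ := Fz f⁻¹ (inv_mem hf)
        calc f⁻¹ * e = f⁻¹ * (e * f) * f⁻¹ := by group
          _ = (f⁻¹ * z) * f * e * f⁻¹ := by rw [h4]; group
          _ = z * (e * f⁻¹) := by rw [h5]; group
      calc x * f⁻¹ * e = x * (f⁻¹ * e) := by group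
        _ = (x * z) * e * f⁻¹ := by rw [h3]; group
        _ = z * (x * e) * f⁻¹ := by rw [hxz]; group
        _ = (z * z) * (e * (x * f⁻¹)) := by rw [h1]; group
        _ = e * (x * f⁻¹) := by rw [hzz, one_mul]
  have pr : ∀ e ∈ E, ∀ a ∈ F, ∀ b ∈ F, a * e = e * a → b * e = z * (e * b) →
      a * b * e = z * (e * (a * b)) := by
    intro e _ a ha b _ h1 h2
    calc a * b * e = a * (b * e) := by group
      _ = (a * z) * e * b := by rw [h2]; group
      _ = z * (a * e) * b := by rw [Fz a ha]; group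
      _ = z * (e * (a * b)) := by rw [h1]; group
  have pr' : ∀ e ∈ E, ∀ a ∈ F, ∀ b ∈ F, a * e = z * (e * a) → b * e = e * b →
      a * b * e = z * (e * (a * b)) := by
    intro e _ a _ b _ h1 h2
    calc a * b * e = a * (b * e) := by group
      _ = (a * e) * b := by rw [h2]; group
      _ = z * (e * (a * b)) := by rw [h1]; group
  rcases hxE e₁ he₁ with x1 | x1 <;> rcases hxE e₂ he₂ with x2 | x2
  · exact fin 1 (one_mem _) (ag e₁ he₁ 1 (one_mem _) (Or.inl ⟨x1, by simp⟩))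
      (ag e₂ he₂ 1 (one_mem _) (Or.inl ⟨x2, by simp⟩))
  · exact fin f₁ hf₁ (ag e₁ he₁ f₁ hf₁ (Or.inl ⟨x1, f11⟩)) (ag e₂ he₂ f₁ hf₁ (Or.inr ⟨x2, f12⟩))
  · exact fin f₂ hf₂ (ag e₁ he₁ f₂ hf₂ (Or.inr ⟨x1, f21⟩)) (ag e₂ he₂ f₂ hf₂ (Or.inl ⟨x2, f22⟩))
  · exact fin (f₁ * f₂) (mul_mem hf₁ hf₂)
      (ag e₁ he₁ _ (mul_mem hf₁ hf₂) (Or.inr ⟨x1, pr e₁ he₁ f₁ hf₁ f₂ hf₂ f11 f21⟩))
      (ag e₂ he₂ _ (mul_mem hf₁ hf₂) (Or.inr ⟨x2, pr' e₂ he₂ f₁ hf₁ f₂ hf₂ f12 f22⟩))

end near

/-- An involution of the centre of `S` in every nontrivial `S`-invariant subgroup of `S`. -/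
theorem exists_central [Finite G] {S N : Subgroup G} (hS : IsPGroup 2 S) (hN : N ≤ S)
    (hn : ∀ s ∈ S, ∀ x ∈ N, s * x * s⁻¹ ∈ N) (hne : N ≠ ⊥) :
    ∃ x ∈ N, x ≠ 1 ∧ x * x = 1 ∧ ∀ s ∈ S, x * s = s * x := by
  have : Fact (Nat.Prime 2) := ⟨Nat.prime_two⟩
  have : Group.IsNilpotent S := hS.isNilpotent
  have hNn : (N.subgroupOf S).Normal := ⟨fun y hy t => by
    rw [mem_subgroupOf] at hy ⊢
    exact hn t t.2 y hy⟩
  have hNb : N.subgroupOf S ≠ ⊥ := by
    intro h1
    apply hne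
    rw [eq_bot_iff]
    intro y hy
    have h2 : (⟨y, hN hy⟩ : S) ∈ N.subgroupOf S := mem_subgroupOf.2 hy
    rw [h1, mem_bot] at h2
    exact mem_bot.2 (congrArg Subtype.val h2)
  have h1 := Cfsg.Agent.Lib.NormalAbelian.normal_inf_center_ne_bot (N.subgroupOf S) hNb
  obtain ⟨⟨x, hxT⟩, hx, hx1⟩ : ∃ x : S, x ∈ N.subgroupOf S ⊓ center S ∧ x ≠ 1 := by
    by_contra hcon
    push Not at hcon
    exact h1 (eq_bot_iff.2 fun x hx => mem_bot.2 (hcon x hx))
  have hx1' : x ≠ 1 := fun h => hx1 (Subtype.ext h)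
  obtain ⟨hxY, hxZ⟩ := mem_inf.1 hx
  rw [mem_subgroupOf] at hxY
  have hxc : ∀ s ∈ S, x * s = s * x := by
    intro s hs
    have := mem_center_iff.1 hxZ ⟨s, hs⟩
    exact (congrArg Subtype.val this).symm
  obtain ⟨k, hk⟩ := (IsPGroup.iff_orderOf.1 hS) ⟨x, hxT⟩
  have hk' : orderOf x = 2 ^ k := by
    rw [← hk, ← orderOf_submonoid]
  have hk0 : k ≠ 0 := by
    rintro rfl
    rw [pow_zero, orderOf_eq_one_iff] at hk'
    exact hx1' hk'
  obtain ⟨k, rfl⟩ := Nat.exists_eq_succ_of_ne_zero hk0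
  refine ⟨x ^ 2 ^ k, pow_mem hxY _, ?_, ?_, fun s hs => (show Commute x s from hxc s hs).pow_left _⟩
  · intro h5
    have h6 := orderOf_dvd_of_pow_eq_one h5
    rw [hk', Nat.succ_eq_add_one, Nat.pow_dvd_pow_iff_le_right (by norm_num)] at h6
    omega
  · rw [← pow_add, ← two_mul, ← pow_succ', ← Nat.succ_eq_add_one, ← hk']
    exact pow_orderOf_eq_one x

/-- A nontrivial fixed point modulo `Z`. -/
theorem exists_central_mod [Finite G] {S N Z : Subgroup G} (hS : IsPGroup 2 S) (hN : N ≤ S)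
    (hn : ∀ s ∈ S, ∀ x ∈ N, s * x * s⁻¹ ∈ N) (hz : ∀ s ∈ S, ∀ x ∈ Z, s * x * s⁻¹ ∈ Z)
    (hne : ¬ N ≤ Z) : ∃ x ∈ N, x ∉ Z ∧ ∀ s ∈ S, s * x * s⁻¹ * x⁻¹ ∈ Z := by
  have : Fact (Nat.Prime 2) := ⟨Nat.prime_two⟩
  have hNn : (N.subgroupOf S).Normal := ⟨fun y hy t => by
    rw [mem_subgroupOf] at hy ⊢
    exact hn t t.2 y hy⟩
  have hZn : (Z.subgroupOf S).Normal := ⟨fun y hy t => by
    rw [mem_subgroupOf] at hy ⊢
    exact hz t t.2 y hy⟩
  have : Group.IsNilpotent (S ⧸ Z.subgroupOf S) :=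
    (hS.to_quotient (Z.subgroupOf S)).isNilpotent
  have hMn : ((N.subgroupOf S).map (QuotientGroup.mk' (Z.subgroupOf S))).Normal :=
    hNn.map _ (QuotientGroup.mk'_surjective _)
  have hMb : (N.subgroupOf S).map (QuotientGroup.mk' (Z.subgroupOf S)) ≠ ⊥ := by
    intro h1
    apply hne
    intro y hy
    have h2 : QuotientGroup.mk' (Z.subgroupOf S) (⟨y, hN hy⟩ : S) ∈
        (N.subgroupOf S).map (QuotientGroup.mk' (Z.subgroupOf S)) :=
      mem_map_of_mem _ (mem_subgroupOf.2 hy)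
    rw [h1, mem_bot, QuotientGroup.mk'_apply, QuotientGroup.eq_one_iff, mem_subgroupOf] at h2
    exact h2
  have h1 := Cfsg.Agent.Lib.NormalAbelian.normal_inf_center_ne_bot _ hMb
  obtain ⟨q, hq, hq1⟩ : ∃ q : S ⧸ Z.subgroupOf S,
      q ∈ (N.subgroupOf S).map (QuotientGroup.mk' (Z.subgroupOf S)) ⊓ center _ ∧ q ≠ 1 := by
    by_contra hcon
    push Not at hcon
    exact h1 (eq_bot_iff.2 fun x hx => mem_bot.2 (hcon x hx))
  obtain ⟨hq2, hq3⟩ := mem_inf.1 hq
  obtain ⟨⟨x, hxS⟩, hx, rfl⟩ := hq2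
  rw [SetLike.mem_coe, mem_subgroupOf] at hx
  refine ⟨x, hx, fun hxZ => hq1 ?_, fun s hs => ?_⟩
  · rw [QuotientGroup.mk'_apply, QuotientGroup.eq_one_iff, mem_subgroupOf]
    exact hxZ
  · have h2 := mem_center_iff.1 hq3 (QuotientGroup.mk' (Z.subgroupOf S) ⟨s, hs⟩)
    have h3 : QuotientGroup.mk' (Z.subgroupOf S)
        ((⟨s, hs⟩ : S) * ⟨x, hxS⟩ * (⟨s, hs⟩ : S)⁻¹ * (⟨x, hxS⟩ : S)⁻¹) = 1 := by
      rw [map_mul, map_mul, map_mul, map_inv, map_inv, h2]
      group
    rw [QuotientGroup.mk'_apply, QuotientGroup.eq_one_iff, mem_subgroupOf] at h3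
    exact h3

theorem mul_mem_of_card [Finite G] {A B : Subgroup G} (hAB : A ≤ B)
    (h : Nat.card B = 2 * Nat.card A) {a b : G} (ha : a ∈ B) (hb : b ∈ B) (ha' : a ∉ A)
    (hb' : b ∉ A) : a * b ∈ A := by
  have h1 : (A.subgroupOf B).index = 2 := by
    have h2 := relIndex_mul_relIndex ⊥ A B bot_le hAB
    simp only [relIndex_bot_left] at h2
    have h3 : 0 < Nat.card A := Nat.card_pos
    have h4 : Nat.card A * A.relIndex B = Nat.card A * 2 := by rw [h2, h, mul_comm]
    exact Nat.eq_of_mul_eq_mul_left h3 h4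
  have h5 := (mul_mem_iff_of_index_two h1 (a := ⟨a, ha⟩) (b := ⟨b, hb⟩)).2
    (by simp [mem_subgroupOf, ha', hb'])
  exact mem_subgroupOf.1 h5

/-- Two elements of a 2-group acting nontrivially on the four-group `E/Z` have the same
action. -/
theorem two_mod [Finite G] {Q E Z : Subgroup G} (hQ : IsPGroup 2 Q) (hEQ : E ≤ Q)
    (hE : Nat.card E = 8) (hZE : Z ≤ E) (hZ : Nat.card Z = 2)
    (hEc : ∀ a ∈ E, ∀ b ∈ E, a * b = b * a)
    (hn : ∀ x ∈ Q, ∀ e ∈ E, x * e * x⁻¹ ∈ E) (hZn : ∀ x ∈ Q, ∀ e ∈ Z, x * e * x⁻¹ ∈ Z) {x y : G}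
    (hx : x ∈ Q) (hy : y ∈ Q) (hx' : ¬ ∀ e ∈ E, x * e * x⁻¹ * e⁻¹ ∈ Z)
    (hy' : ¬ ∀ e ∈ E, y * e * y⁻¹ * e⁻¹ ∈ Z) :
    ∀ e ∈ E, (x * y) * e * (x * y)⁻¹ * e⁻¹ ∈ Z := by
  have mulE : ∀ x ∈ Q, ∀ a ∈ E, ∀ b ∈ E,
      x * (a * b) * x⁻¹ * (a * b)⁻¹ = (x * a * x⁻¹ * a⁻¹) * (x * b * x⁻¹ * b⁻¹) := by
    intro x hx a ha b hb
    have h1 : x * b * x⁻¹ * b⁻¹ ∈ E := mul_mem (hn x hx b hb) (inv_mem hb)
    have h2 := hEc _ h1 a⁻¹ (inv_mem ha)
    calc x * (a * b) * x⁻¹ * (a * b)⁻¹ = (x * a * x⁻¹) * ((x * b * x⁻¹ * b⁻¹) * a⁻¹) := by group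
      _ = _ := by rw [h2]; group
  let H : Subgroup G :=
    { carrier := {e | e ∈ E ∧ ∀ x ∈ Q, x * e * x⁻¹ * e⁻¹ ∈ Z}
      one_mem' := ⟨one_mem _, fun x _ => by simp⟩
      mul_mem' := by
        rintro a b ⟨ha, ha'⟩ ⟨hb, hb'⟩
        refine ⟨mul_mem ha hb, fun x hx => ?_⟩
        rw [mulE x hx a ha b hb]
        exact mul_mem (ha' x hx) (hb' x hx)
      inv_mem' := by
        rintro a ⟨ha, ha'⟩
        refine ⟨inv_mem ha, fun x hx => ?_⟩
        have h1 := mulE x hx a ha a⁻¹ (inv_mem ha)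
        have h2 : x * (a * a⁻¹) * x⁻¹ * (a * a⁻¹)⁻¹ = 1 := by group
        rw [h2] at h1
        have h3 : x * a⁻¹ * x⁻¹ * a⁻¹⁻¹ = (x * a * x⁻¹ * a⁻¹)⁻¹ := eq_inv_of_mul_eq_one_right h1.symm
        rw [h3]
        exact inv_mem (ha' x hx) }
  have memH : ∀ {e}, e ∈ H ↔ e ∈ E ∧ ∀ x ∈ Q, x * e * x⁻¹ * e⁻¹ ∈ Z := Iff.rfl
  have hHE : H ≤ E := fun e he => (memH.1 he).1
  have hZH : Z ≤ H := fun e he => memH.2 ⟨hZE he, fun x hx => mul_mem (hZn x hx e he) (inv_mem he)⟩
  have hEZ : ¬ E ≤ Z := by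
    intro h1
    have h2 := card_dvd_of_le h1
    rw [hE, hZ] at h2
    omega
  obtain ⟨e₁, he₁, hn₁, hc₁⟩ := exists_central_mod hQ hEQ hn hZn hEZ
  have he₁H : e₁ ∈ H := memH.2 ⟨he₁, hc₁⟩
  have hHneE : H ≠ E := fun h => hx' fun e he => (memH.1 (h ▸ he : e ∈ H)).2 x hx
  have hcard : Nat.card H = 4 := by
    have h1 : Nat.card H ∣ 8 := by rw [← hE]; exact card_dvd_of_le hHE
    have h2 : 2 ∣ Nat.card H := by rw [← hZ]; exact card_dvd_of_le hZH
    have h3 : Nat.card H ≤ 8 := Nat.le_of_dvd (by norm_num) h1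
    have h4 : Nat.card H ≠ 8 := fun h => hHneE (eq_of_le_of_card_ge hHE (by omega))
    have h5 : Nat.card H ≠ 2 := by
      intro h
      have h6 : Z = H := eq_of_le_of_card_ge hZH (by omega)
      exact hn₁ (h6 ▸ he₁H)
    have h6 : 0 < Nat.card H := Nat.card_pos
    generalize Nat.card H = k at *
    have h7 : k = 1 ∨ k = 2 ∨ k = 3 ∨ k = 4 ∨ k = 5 ∨ k = 6 ∨ k = 7 ∨ k = 8 := by omega
    rcases h7 with rfl | rfl | rfl | rfl | rfl | rfl | rfl | rfl <;> omega
  -- `H` is `Q`-invariant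
  have hHn : ∀ x ∈ Q, ∀ e ∈ H, x * e * x⁻¹ ∈ H := by
    intro x hx e he
    have h1 : x * e * x⁻¹ = (x * e * x⁻¹ * e⁻¹) * e := by group
    rw [h1]
    exact mul_mem (hZH ((memH.1 he).2 x hx)) he
  have hHn' : ∀ x ∈ Q, ∀ e ∈ E, e ∉ H → x * e * x⁻¹ ∉ H := by
    intro x hx e _ he' h1
    apply he'
    have h2 := hHn x⁻¹ (inv_mem hx) _ h1
    have h3 : x⁻¹ * (x * e * x⁻¹) * x⁻¹⁻¹ = e := by group
    rwa [h3] at h2
  have hEH : ∀ x ∈ Q, ∀ e ∈ E, e ∉ H → x * e * x⁻¹ * e⁻¹ ∈ H := fun x hx e he he' =>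
    mul_mem_of_card hHE (by omega) (hn x hx e he) (inv_mem he) (hHn' x hx e he he')
      (fun h => he' (inv_mem_iff.1 h))
  have key : ∀ x ∈ Q, (¬ ∀ e ∈ E, x * e * x⁻¹ * e⁻¹ ∈ Z) → ∀ e ∈ E, e ∉ H →
      x * e * x⁻¹ * e⁻¹ ∉ Z := by
    intro x hx hx' e he he' h1
    apply hx'
    intro a ha
    by_cases haH : a ∈ H
    · exact (memH.1 haH).2 x hx
    · have h2 : a * e⁻¹ ∈ H := mul_mem_of_card hHE (by omega) ha (inv_mem he) haH
        (fun h => he' (inv_mem_iff.1 h))
      have h3 : a = (a * e⁻¹) * e := by group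
      rw [h3, mulE x hx _ (hHE h2) e he]
      exact mul_mem ((memH.1 h2).2 x hx) h1
  intro e he
  have h1 : (x * y) * e * (x * y)⁻¹ * e⁻¹ =
      (x * (y * e * y⁻¹ * e⁻¹) * x⁻¹ * (y * e * y⁻¹ * e⁻¹)⁻¹) *
        ((y * e * y⁻¹ * e⁻¹) * (x * e * x⁻¹ * e⁻¹)) := by
    have h2 := mulE x hx (y * e * y⁻¹ * e⁻¹) (mul_mem (hn y hy e he) (inv_mem he)) e he
    calc (x * y) * e * (x * y)⁻¹ * e⁻¹ =
        (x * (y * e * y⁻¹ * e⁻¹ * e) * x⁻¹ * (y * e * y⁻¹ * e⁻¹ * e)⁻¹) * (y * e * y⁻¹ * e⁻¹) := by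
          group
      _ = _ := by
        rw [h2]
        have h3 := hEc (x * e * x⁻¹ * e⁻¹) (mul_mem (hn x hx e he) (inv_mem he))
          (y * e * y⁻¹ * e⁻¹) (mul_mem (hn y hy e he) (inv_mem he))
        rw [mul_assoc, h3]
  rw [h1]
  by_cases heH : e ∈ H
  · have h2 := (memH.1 heH).2 y hy
    have h3 := (memH.1 heH).2 x hx
    exact mul_mem (mul_mem (hZn x hx _ h2) (inv_mem h2)) (mul_mem h2 h3)
  · have h2 := hEH y hy e he heH
    have h3 := hEH x hx e he heH
    exact mul_mem ((memH.1 h2).2 x hx) (mul_mem_of_card hZH (by omega) h2 h3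
      (key y hy hy' e he heH) (key x hx hx' e he heH))

/-- `⟨E^C⟩` -/
def QsOf (C E : Subgroup G) : Subgroup G := closure {y | ∃ c ∈ C, ∃ e ∈ E, y = c * e * c⁻¹}

theorem QsOf_norm {C E : Subgroup G} : C ≤ normalizer (QsOf C E : Set G) := by
  have key : ∀ c ∈ C, ∀ x ∈ QsOf C E, c * x * c⁻¹ ∈ QsOf C E := by
    intro c hc x hx
    unfold QsOf at hx ⊢
    induction hx using closure_induction with
    | mem y hy =>
      obtain ⟨d, hd, e, he, rfl⟩ := hy
      exact subset_closure ⟨c * d, mul_mem hc hd, e, he, by group⟩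
    | one => simp
    | mul a b _ _ ha hb =>
      have e : c * (a * b) * c⁻¹ = (c * a * c⁻¹) * (c * b * c⁻¹) := by group
      rw [e]; exact mul_mem ha hb
    | inv a _ ha =>
      have e : c * a⁻¹ * c⁻¹ = (c * a * c⁻¹)⁻¹ := by group
      rw [e]; exact inv_mem ha
  intro c hc
  rw [mem_normalizer_iff]
  intro x
  refine ⟨key c hc x, fun hx => ?_⟩
  have h6 := key c⁻¹ (inv_mem hc) _ hx
  have e : c⁻¹ * (c * x * c⁻¹) * c⁻¹⁻¹ = x := by group
  rwa [e] at h6

theorem QsOf_le {C E Q : Subgroup G} (hE : E ≤ Q) (hQ : C ≤ normalizer (Q : Set G)) :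
    QsOf C E ≤ Q := by
  unfold QsOf
  rw [closure_le]
  rintro y ⟨c, hc, e, he, rfl⟩
  exact (mem_normalizer_iff.1 (hQ hc) e).1 (hE he)

theorem mem_QsOf {C E : Subgroup G} {c e : G} (hc : c ∈ C) (he : e ∈ E) : c * e * c⁻¹ ∈ QsOf C E :=
  subset_closure ⟨c, hc, e, he, rfl⟩

theorem le_QsOf (C E : Subgroup G) : E ≤ QsOf C E := fun e he =>
  subset_closure ⟨1, one_mem _, e, he, by group⟩

/-- `O₂(C) ≤ S` for `S ≤ C`. -/
theorem o2_le_S [Finite G] (S : Sylow 2 G) {C : Subgroup G} (hSC : (S : Subgroup G) ≤ C) :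
    o2 C ≤ (S : Subgroup G) := by
  have h1 : IsPGroup 2 ((S : Subgroup G) ⊔ o2 C : Subgroup G) :=
    IsPGroup.to_sup_of_normal_right' S.isPGroup' (o2_isPGroup _) (hSC.trans (le_normalizer_o2 C))
  exact le_sup_right.trans (S.is_maximal' h1 le_sup_left).le

/-- **The frame (0)** with the minimality of `C`. -/
theorem exists_pt_min [Finite G] (S : Sylow 2 G) {P V : Subgroup G} {z : G}
    (hSP : (S : Subgroup G) ≤ P) (hPV : P ≤ normalizer (V : Set G)) (hVS : V ≤ (S : Subgroup G))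
    (Vab : ∀ v ∈ V, ∀ w ∈ V, v * w = w * v) (Vsq : ∀ v ∈ V, v * v = 1) (cardV : Nat.card V = 16)
    (hz1 : z ≠ 1) (hzV : z ∈ V) (hzS : ∀ s ∈ (S : Subgroup G), s * z = z * s)
    (hZ : ∀ x ∈ (S : Subgroup G), (∀ s ∈ (S : Subgroup G), x * s = s * x) → x * x = 1 →
      x = 1 ∨ x = z)
    (char2 : ∀ c, c * z = z * c → (∀ x ∈ o2 (centralizer ({z} : Set G)), c * x = x * c) →
      c ∈ o2 (centralizer ({z} : Set G)))
    (nT : P ≤ normalizer (((S : Subgroup G) ⊓ centralizer (V : Set G) : Subgroup G) : Set G))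
    (card8 : Nat.card ↥(V ⊓ o2 (centralizer ({z} : Set G))) = 8)
    (hf : Facts P V (V ⊓ o2 (centralizer ({z} : Set G))) z) :
    ∃ C QF Qs : Subgroup G, Pt P V ((S : Subgroup G) ⊓ centralizer (V : Set G)) z C (o2 C) QF Qs ∧
      C ≤ centralizer ({z} : Set G) ∧ (S : Subgroup G) ≤ C ∧ o2 C ≤ (S : Subgroup G) ∧
      o2 (centralizer ({z} : Set G)) ≤ o2 C ∧ Qs ≤ o2 (centralizer ({z} : Set G)) ∧
      V ⊓ o2 C = V ⊓ o2 (centralizer ({z} : Set G)) ∧
      ∀ Y : Subgroup G, P ⊓ centralizer ({z} : Set G) ≤ Y → Y ≤ C → ¬ V ≤ o2 Y → C ≤ Y := by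
  classical
  set CG := centralizer ({z} : Set G) with hCG
  set E := V ⊓ o2 CG with hE
  have memCG : ∀ {c : G}, c ∈ CG ↔ c * z = z * c := by
    intro c
    rw [hCG, mem_centralizer_singleton_iff]
  have hzz : z * z = 1 := Vsq z hzV
  have hSC : (S : Subgroup G) ≤ CG := fun s hs => memCG.2 (hzS s hs)
  -- the minimal `C₁`
  let 𝒮 : Set (Subgroup G) := {Y | P ⊓ CG ≤ Y ∧ Y ≤ CG ∧ ¬ V ≤ o2 Y}
  have hne : 𝒮.Nonempty := by
    refine ⟨CG, inf_le_right, le_rfl, fun h => ?_⟩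
    have h1 : E = V := inf_eq_left.2 h
    rw [h1] at card8
    omega
  obtain ⟨C, ⟨hPC, hCC, hVQ⟩, hmin⟩ := WellFounded.has_min (wellFounded_lt (α := Subgroup G)) 𝒮 hne
  have hSC1 : (S : Subgroup G) ≤ C := (le_inf hSP hSC).trans hPC
  have hQS : o2 C ≤ (S : Subgroup G) := o2_le_S S hSC1
  have hQC : o2 CG ≤ C := (o2_le_S S hSC).trans hSC1
  have hQQ : o2 CG ≤ o2 C :=
    le_o2 hQC (o2_isPGroup CG) (hCC.trans (le_normalizer_o2 CG))
  have hVC : V ≤ C := hVS.trans hSC1
  have hzQ : z ∈ o2 CG := by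
    have h1 : zpowers z ≤ o2 CG := by
      refine le_o2 ?_ ?_ ?_
      · rw [zpowers_le]; exact memCG.2 rfl
      · exact S.isPGroup'.to_le (by rw [zpowers_le]; exact hVS hzV)
      · rw [hCG]
        intro c hc
        rw [mem_centralizer_singleton_iff] at hc
        rw [mem_normalizer_iff]
        have hcn : ∀ n : ℤ, c * z ^ n * c⁻¹ = z ^ n := by
          intro n
          have h2 : Commute c z := hc
          rw [(h2.zpow_right n).eq]; group
        intro x
        constructor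
        · rintro ⟨n, rfl⟩
          exact ⟨n, (hcn n).symm⟩
        · rintro ⟨n, hn⟩
          refine ⟨n, ?_⟩
          have h3 : c⁻¹ * (c * x * c⁻¹) * c = c⁻¹ * (c * z ^ n * c⁻¹) * c := by
            rw [hcn]
            exact congrArg (fun y => c⁻¹ * y * c) hn.symm
          have h4 : x = z ^ n := by
            calc x = c⁻¹ * (c * x * c⁻¹) * c := by group
              _ = c⁻¹ * (c * z ^ n * c⁻¹) * c := h3
              _ = z ^ n := by group
          exact h4.symm
    exact h1 (mem_zpowers z)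
  have Cz : ∀ c ∈ C, c * z = z * c := fun c hc => memCG.1 (hCC hc)
  have nQC : C ≤ normalizer (o2 C : Set G) := le_normalizer_o2 C
  -- `V ∩ Q₁ = E`
  have hEV : E ≤ V := inf_le_left
  have hVE : V ⊓ o2 C = E := by
    have h1 : E ≤ V ⊓ o2 C := inf_le_inf_left _ hQQ
    have h2 : Nat.card ↥(V ⊓ o2 C) ∣ 16 := by rw [← cardV]; exact card_dvd_of_le inf_le_left
    have h3 : 8 ∣ Nat.card ↥(V ⊓ o2 C) := by rw [← card8]; exact card_dvd_of_le h1
    have h4 : Nat.card ↥(V ⊓ o2 C) ≠ 16 := by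
      intro h4
      apply hVQ
      have h5 : V ⊓ o2 C = V := eq_of_le_of_card_ge inf_le_left (by omega)
      exact inf_eq_left.1 h5
    have h5 : Nat.card ↥(V ⊓ o2 C) ≤ 16 := Nat.le_of_dvd (by norm_num) h2
    have h6 : Nat.card ↥(V ⊓ o2 C) = 8 := by
      obtain ⟨k, hk⟩ := h3
      have hk2 : k = 0 ∨ k = 1 ∨ k = 2 := by omega
      rcases hk2 with rfl | rfl | rfl
      · have : 0 < Nat.card ↥(V ⊓ o2 C) := Nat.card_pos
        omega
      · omega
      · omega
    exact (eq_of_le_of_card_ge h1 (by omega)).symm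
  have Vc : V ≤ centralizer (V : Set G) := fun v hv => mem_centralizer_iff.2 fun w hw => Vab w hw v hv
  have Vsq' : ∀ w ∈ V, w ^ 2 = 1 := fun w hw => by rw [pow_two]; exact Vsq w hw
  have hQP : o2 C ≤ P := hQS.trans hSP
  obtain ⟨v, hv, hvQ⟩ : ∃ v ∈ V, v ∉ o2 C := SetLike.not_le_iff_exists.1 hVQ
  have hchar : C ⊓ centralizer (o2 C : Set G) ≤ o2 C := by
    intro c hc
    obtain ⟨h1, h2⟩ := mem_inf.1 hc
    rw [mem_centralizer_iff] at h2
    exact hQQ (char2 c (Cz c h1) fun x hx => (h2 x (hQQ hx)).symm)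
  obtain ⟨g, hg, hfin, hX, -⟩ := NearFF.exists_near hchar hVC Vc Vsq' (hQP.trans hPV) hv hvQ
  have near := hfin.near
  have cent := hfin.cent
  have hne' := hfin.ne
  have near' := hfin.near'
  rw [hVE] at near cent hne' near'
  set F := MulAut.conj g • E with hF
  set D := E ⊓ F with hD
  have gz : g * z = z * g := Cz g hg
  have hzE : z ∈ E := mem_inf.2 ⟨hzV, hzQ⟩
  have hzF : z ∈ F := by
    rw [hF, NoFF.Basic.mem_conj]
    have : g⁻¹ * z * g = z := by
      calc g⁻¹ * z * g = g⁻¹ * (z * g) := by group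
        _ = z := by rw [← gz]; group
    rwa [this]
  have hzD : z ∈ D := mem_inf.2 ⟨hzE, hzF⟩
  have hEQ : E ≤ o2 C := by rw [← hVE]; exact inf_le_right
  have hFQ : F ≤ o2 C := by
    intro x hx
    rw [hF, NoFF.Basic.mem_conj] at hx
    have h1 := (mem_normalizer_iff.1 (nQC hg) _).1 (hEQ hx)
    have e : g * (g⁻¹ * x * g) * g⁻¹ = x := by group
    rwa [e] at h1
  have hFP : F ≤ P := hFQ.trans hQP
  have hDz : ∀ d ∈ D, d = 1 ∨ d = z := D_two near card8 hne' hzD hz1 hFP hf.faith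
  -- every element of `P` centralising `E/z` agrees with an element of `F`
  have agree : ∀ x ∈ P, x * z = z * x → (∀ e ∈ E, x * e = e * x ∨ x * e = z * (e * x)) →
      ∃ f ∈ F, ∀ v ∈ V, (x * f⁻¹) * v = v * (x * f⁻¹) := fun x hx hxz hxE =>
    exists_agree near card8 hzD hz1 hDz hFP hf.faith hx hxz hxE
  have FE : ∀ f ∈ F, ∀ e ∈ E, f * e = e * f ∨ f * e = z * (e * f) := by
    intro f hf e he
    have hzi : z⁻¹ = z := inv_eq_of_mul_eq_one_left hzz
    rcases hDz _ (near.ED e he f hf) with h1 | h1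
    · left
      calc f * e = (e * f * e⁻¹ * f⁻¹)⁻¹ * (e * f) := by group
        _ = e * f := by rw [h1]; group
    · right
      calc f * e = (e * f * e⁻¹ * f⁻¹)⁻¹ * (e * f) := by group
        _ = z * (e * f) := by rw [h1, hzi]
  -- `Q_F`
  have Qz : ∀ x ∈ o2 C, x * z = z * x := fun x hx => Cz x (o2_le C hx)
  set QF := QFz (o2 C) E z Qz hzz with hQF
  have memQF : ∀ {x}, x ∈ QF ↔ x ∈ o2 C ∧ ∀ e ∈ E, x * e = e * x ∨ x * e = z * (e * x) := Iff.rfl
  have QFsub : QF ≤ o2 C := fun x hx => (memQF.1 hx).1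
  have hEQF : E ≤ QF := fun e he => memQF.2 ⟨hEQ he, fun e' he' => Or.inl (Vab e (hEV he) e' (hEV he'))⟩
  have hFQF : F ≤ QF := fun f hf => memQF.2 ⟨hFQ hf, FE f hf⟩
  -- `Q_F = (T ∩ Q) F`
  have QFT : ∀ x ∈ QF, ∃ f ∈ F, ∀ v ∈ V, (x * f⁻¹) * v = v * (x * f⁻¹) := fun x hx =>
    agree x (hQP (QFsub hx)) (Qz x (QFsub hx)) (memQF.1 hx).2
  -- normalisers
  have nE : ∀ x ∈ P ⊓ C, ∀ e ∈ E, x * e * x⁻¹ ∈ E := by
    intro x hx e he
    rw [← hVE] at he ⊢
    exact mem_inf.2 ⟨(mem_normalizer_iff.1 (hPV (mem_inf.1 hx).1) e).1 (mem_inf.1 he).1,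
      (mem_normalizer_iff.1 (nQC (mem_inf.1 hx).2) e).1 (mem_inf.1 he).2⟩
  have nF : ∀ x ∈ o2 C, ∀ f ∈ F, x * f * x⁻¹ ∈ F := by
    intro x hx f hf
    rw [hF, NoFF.Basic.mem_conj] at hf ⊢
    have h1 : g⁻¹ * x * g ∈ o2 C := by
      have := (mem_normalizer_iff.1 (nQC (inv_mem hg)) x).1 hx
      rwa [inv_inv] at this
    have h2 := nE _ (mem_inf.2 ⟨hQP h1, o2_le C h1⟩) _ hf
    have e : g⁻¹ * (x * f * x⁻¹) * g = g⁻¹ * x * g * (g⁻¹ * f * g) * (g⁻¹ * x * g)⁻¹ := by group
    rwa [e]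
  -- `[Q_F, F] ≤ ⟨z⟩`
  have QFF : ∀ x ∈ QF, ∀ f ∈ F, x * f = f * x ∨ x * f = z * (f * x) := by
    intro x hx f hf
    obtain ⟨f', hf', ht⟩ := QFT x hx
    have hcomm : f' * f = f * f' := comm_of_le_centralizer near.Fcomm hf' hf
    have htQ : x * f'⁻¹ ∈ o2 C := mul_mem (QFsub hx) (inv_mem (hFQ hf'))
    have h1 : (x * f'⁻¹) * f * (x * f'⁻¹)⁻¹ * f⁻¹ ∈ D := by
      rw [← near.F_inf_cent]
      refine mem_inf.2 ⟨mul_mem (nF _ htQ f hf) (inv_mem hf), mem_centralizer_iff.2 fun w hw => ?_⟩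
      have hfw : f⁻¹ * w * f ∈ V := by
        have := (mem_normalizer_iff.1 (hPV (inv_mem (hFP hf))) w).1 hw
        rwa [inv_inv] at this
      have e1 := ht _ hfw
      have e2 := ht w hw
      have e3 : (x * f'⁻¹)⁻¹ * w = w * (x * f'⁻¹)⁻¹ := by
        calc (x * f'⁻¹)⁻¹ * w = (x * f'⁻¹)⁻¹ * (w * (x * f'⁻¹)) * (x * f'⁻¹)⁻¹ := by group
          _ = w * (x * f'⁻¹)⁻¹ := by rw [← e2]; group
      -- `t f t⁻¹ f⁻¹` centralises `w`
      set t := x * f'⁻¹ with htdef
      symm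
      calc t * f * t⁻¹ * f⁻¹ * w = t * f * (t⁻¹ * (f⁻¹ * w * f)) * f⁻¹ := by group
        _ = t * f * ((f⁻¹ * w * f) * t⁻¹) * f⁻¹ := by
            have e4 : t⁻¹ * (f⁻¹ * w * f) = (f⁻¹ * w * f) * t⁻¹ := by
              calc t⁻¹ * (f⁻¹ * w * f) = t⁻¹ * ((f⁻¹ * w * f) * t) * t⁻¹ := by group
                _ = (f⁻¹ * w * f) * t⁻¹ := by rw [← e1]; group
            rw [e4]
        _ = (t * w) * f * t⁻¹ * f⁻¹ := by group
        _ = w * (t * f * t⁻¹ * f⁻¹) := by rw [e2]; group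
    have hxf : x * f * x⁻¹ * f⁻¹ = (x * f'⁻¹) * f * (x * f'⁻¹)⁻¹ * f⁻¹ := by
      have e5 : f'⁻¹ * f * f' = f := by
        calc f'⁻¹ * f * f' = f'⁻¹ * (f * f') := by group
          _ = f := by rw [← hcomm]; group
      calc x * f * x⁻¹ * f⁻¹ = x * (f'⁻¹ * f * f') * x⁻¹ * f⁻¹ := by rw [e5]
        _ = _ := by group
    rw [← hxf] at h1
    rcases hDz _ h1 with h2 | h2
    · left
      calc x * f = x * f * x⁻¹ * f⁻¹ * (f * x) := by group
        _ = f * x := by rw [h2, one_mul]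
    · right
      calc x * f = x * f * x⁻¹ * f⁻¹ * (f * x) := by group
        _ = z * (f * x) := by rw [h2]
  -- `g` normalises `Q_F`
  have giz : g⁻¹ * z = z * g⁻¹ := by
    calc g⁻¹ * z = g⁻¹ * (z * g) * g⁻¹ := by group
      _ = z * g⁻¹ := by rw [← gz]; group
  have gQF' : ∀ x ∈ QF, g⁻¹ * x * g ∈ QF := by
    intro x hx
    have hxQ := QFsub hx
    refine memQF.2 ⟨?_, fun e he => ?_⟩
    · have := (mem_normalizer_iff.1 (nQC (inv_mem hg)) x).1 hxQ
      rwa [inv_inv] at this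
    · have hge : g * e * g⁻¹ ∈ F := by
        rw [hF, NoFF.Basic.mem_conj]
        have e1 : g⁻¹ * (g * e * g⁻¹) * g = e := by group
        rwa [e1]
      rcases QFF x hx _ hge with h1 | h1
      · left
        calc g⁻¹ * x * g * e = g⁻¹ * (x * (g * e * g⁻¹)) * g := by group
          _ = e * (g⁻¹ * x * g) := by rw [h1]; group
      · right
        calc g⁻¹ * x * g * e = g⁻¹ * (x * (g * e * g⁻¹)) * g := by group
          _ = (g⁻¹ * z) * g * (e * (g⁻¹ * x * g)) := by rw [h1]; group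
          _ = z * (e * (g⁻¹ * x * g)) := by rw [giz]; group
  have gQF : g ∈ normalizer (QF : Set G) := by
    have h1 : QF.map (MulAut.conj g⁻¹).toMonoidHom ≤ QF := by
      rintro _ ⟨x, hx, rfl⟩
      have := gQF' x hx
      change g⁻¹ * x * g⁻¹⁻¹ ∈ QF
      rwa [inv_inv]
    have h2 : QF.map (MulAut.conj g⁻¹).toMonoidHom = QF :=
      eq_of_le_of_card_ge h1 (le_of_eq (Subgroup.card_map_of_injective (MulAut.conj g⁻¹).injective).symm)
    rw [mem_normalizer_iff]
    intro x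
    constructor
    · intro hx
      have hx' : x ∈ QF.map (MulAut.conj g⁻¹).toMonoidHom := by rw [h2]; exact hx
      obtain ⟨y, hy, hyx⟩ := hx'
      have e : g * x * g⁻¹ = y := by
        have hyx' : g⁻¹ * y * g⁻¹⁻¹ = x := hyx
        rw [← hyx']; group
      rw [e]; exact hy
    · intro hx
      have := gQF' _ hx
      have e : g⁻¹ * (g * x * g⁻¹) * g = x := by group
      rwa [e] at this
  have PQF : P ⊓ C ≤ normalizer (QF : Set G) := by
    have key : ∀ m ∈ P ⊓ C, ∀ x ∈ QF, m * x * m⁻¹ ∈ QF := by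
      intro m hm x hx
      refine memQF.2 ⟨(mem_normalizer_iff.1 (nQC (mem_inf.1 hm).2) x).1 (QFsub hx), fun e he => ?_⟩
      have he' := nE m⁻¹ (inv_mem hm) e he
      have mz := Cz m (mem_inf.1 hm).2
      rcases (memQF.1 hx).2 _ he' with h1 | h1
      · left
        calc m * x * m⁻¹ * e = m * (x * (m⁻¹ * e * m⁻¹⁻¹)) * m⁻¹ := by group
          _ = e * (m * x * m⁻¹) := by rw [h1]; group
      · right
        calc m * x * m⁻¹ * e = m * (x * (m⁻¹ * e * m⁻¹⁻¹)) * m⁻¹ := by group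
          _ = (m * z) * m⁻¹ * (e * (m * x * m⁻¹)) := by rw [h1]; group
          _ = z * (e * (m * x * m⁻¹)) := by rw [mz]; group
    intro m hm
    rw [mem_normalizer_iff]
    intro x
    refine ⟨key m hm x, fun hx => ?_⟩
    have h6 := key m⁻¹ (inv_mem hm) _ hx
    have e : m⁻¹ * (m * x * m⁻¹) * m⁻¹⁻¹ = x := by group
    rwa [e] at h6
  -- `C₁ = ⟨P ∩ C, g⟩`
  have hK : C = (P ⊓ CG) ⊔ zpowers g := by
    have hKC : (P ⊓ CG) ⊔ zpowers g ≤ C := sup_le hPC (by rw [zpowers_le]; exact hg)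
    by_contra hne2
    have hlt : (P ⊓ CG) ⊔ zpowers g < C := lt_of_le_of_ne hKC (Ne.symm hne2)
    refine hmin _ ⟨le_sup_left, hKC.trans hCC, fun hVK => ?_⟩ hlt
    apply hX
    set K := (P ⊓ CG) ⊔ zpowers g with hKdef
    have hgK : g ∈ K := mem_sup_right (mem_zpowers g)
    have h1 : V1 V (o2 C) v ≤ o2 K := (NearFF.V1_le hv).trans hVK
    refine (o2_isPGroup K).to_le (sup_le h1 ?_)
    intro x hx
    rw [NoFF.Basic.mem_conj] at hx
    have h2 := (mem_normalizer_iff.1 (le_normalizer_o2 K hgK) _).1 (h1 hx)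
    have e : g * (g⁻¹ * x * g) * g⁻¹ = x := by group
    rwa [e] at h2
  have hPCC : P ⊓ CG ≤ P ⊓ C := le_inf inf_le_left hPC
  have nQF : C ≤ normalizer (QF : Set G) := by
    rw [hK]
    exact sup_le (hPCC.trans PQF) (by rw [zpowers_le]; exact gQF)
  have hQsQF : QsOf C E ≤ QF := QsOf_le hEQF nQF
  have hFQs : F ≤ QsOf C E := by
    intro x hx
    rw [hF, NoFF.Basic.mem_conj] at hx
    have := mem_QsOf hg hx
    have e : g * (g⁻¹ * x * g) * g⁻¹ = x := by group
    rwa [e] at this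
  have hEc : ∀ x ∈ V, x ∈ o2 C → x ∈ E := fun x hx hxQ => by
    rw [← hVE]; exact mem_inf.2 ⟨hx, hxQ⟩
  -- for `x ∈ V - Q`: the near-FF data
  have V2 : ∀ v ∈ V, ∀ w ∈ V, v ∉ o2 C → w ∉ o2 C → v * w ∈ o2 C := by
    intro a ha b hb ha' hb'
    exact hEQ (mul_mem_of_card hEV (by omega) ha hb (fun h => ha' (hEQ h)) (fun h => hb' (hEQ h)))
  have nearv : ∀ w ∈ V, w ∉ o2 C → Near V E D F w := by
    intro w hw hwQ
    have h1 : v * w ∈ E := hEc _ (mul_mem hv hw) (V2 v hv w hw hvQ hwQ)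
    have h2 := near.mul_right h1
    have e : v * (v * w) = w := by rw [← mul_assoc, Vsq v hv, one_mul]
    rwa [e] at h2
  have hPVm : ∀ x ∈ P, ∀ w ∈ V, x * w * x⁻¹ ∈ V := fun x hx w hw =>
    (mem_normalizer_iff.1 (hPV hx) w).1 hw
  have Vinv : ∀ w ∈ V, w⁻¹ = w := fun w hw => inv_eq_of_mul_eq_one_left (Vsq w hw)
  have hcT : ∀ x ∈ o2 C, (∀ v ∈ V, x * v = v * x) →
      x ∈ (S : Subgroup G) ⊓ centralizer (V : Set G) := fun x hx h =>
    mem_inf.2 ⟨hQS hx, mem_centralizer_iff.2 fun v hv => (h v hv).symm⟩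
  have hDE : D ≤ E := inf_le_left
  have hzi : z⁻¹ = z := Vinv z hzV
  -- `[f, v] = [v, f]`
  have cvf : ∀ w ∈ V, ∀ f ∈ F, f * w * f⁻¹ * w⁻¹ = c w f := by
    intro w hw f hf
    have h1 : f * w * f⁻¹ * w⁻¹ ∈ V := mul_mem (hPVm f (hFP hf) w hw) (inv_mem hw)
    rw [← Vinv _ h1, c]; group
  -- `x ∈ Q_F` acts as `f ∈ F`
  have act : ∀ x ∈ QF, ∃ f ∈ F, (x * f⁻¹) ∈ (S : Subgroup G) ⊓ centralizer (V : Set G) ∧
      ∀ w ∈ V, x * w * x⁻¹ = f * w * f⁻¹ := by
    intro x hx
    obtain ⟨f, hf, h1⟩ := QFT x hx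
    refine ⟨f, hf, hcT _ (mul_mem (QFsub hx) (inv_mem (hFQ hf))) h1, fun w hw => ?_⟩
    have h2 := h1 _ (hPVm f (hFP hf) w hw)
    calc x * w * x⁻¹ = ((x * f⁻¹) * (f * w * f⁻¹)) * (x * f⁻¹)⁻¹ := by group
      _ = f * w * f⁻¹ := by rw [h2]; group
  have hTn : (S : Subgroup G) ⊓ centralizer (V : Set G) ≤ (S : Subgroup G) := inf_le_left
  have nzE : ∀ m ∈ P, m * z * m⁻¹ ∉ o2 C → m * z * m⁻¹ ∉ E := fun m _ h1 h2 => h1 (hEQ h2)
  refine ⟨C, QF, QsOf C E, ?_, hCC, hSC1, hQS, hQQ, QsOf_le inf_le_right (hCC.trans (le_normalizer_o2 CG)),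
    hVE, fun Y h1 h2 h3 => ?_⟩
  swap
  · by_contra h4
    exact hmin Y ⟨h1, h2.trans hCC, h3⟩ (lt_of_le_not_ge h2 h4)
  exact
    { ne_one := hz1
      sq := hzz
      zV := hzV
      zQ := hQQ hzQ
      Vab := Vab
      Vsq := Vsq
      cardV := cardV
      VT := le_inf hVS Vc
      TP := hTn.trans hSP
      TV := fun t ht v hv => (mem_centralizer_iff.1 (mem_inf.1 ht).2 v hv).symm
      nT := nT
      nV := hPV
      pT := S.isPGroup'.to_le hTn
      Cz := Cz
      PC := fun m hm hmz => hPC (mem_inf.2 ⟨hm, memCG.2 hmz⟩)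
      gen := by
        have h1 : V1 V (o2 C) v ≤ closure ({m | m ∈ P ∧ m * z = z * m} ∪
            {x | ∃ c ∈ C, ∃ v ∈ V, x = c * v * c⁻¹}) := fun w hw =>
          subset_closure (Or.inr ⟨1, one_mem _, w, NearFF.V1_le hv hw, by group⟩)
        have h2 : MulAut.conj g • V1 V (o2 C) v ≤ closure ({m | m ∈ P ∧ m * z = z * m} ∪
            {x | ∃ c ∈ C, ∃ v ∈ V, x = c * v * c⁻¹}) := by
          intro w hw
          rw [NoFF.Basic.mem_conj] at hw
          exact subset_closure (Or.inr ⟨g, hg, _, NearFF.V1_le hv hw, by group⟩)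
        have h3 : (P ⊓ CG) ⊔ zpowers g ≤ closure ({m | m ∈ P ∧ m * z = z * m} ∪
            {x | ∃ c ∈ C, ∃ v ∈ V, x = c * v * c⁻¹}) := by
          refine sup_le (fun m hm => subset_closure (Or.inl ⟨(mem_inf.1 hm).1,
            memCG.1 (mem_inf.1 hm).2⟩)) ?_
          rw [zpowers_le]
          exact (sup_le h1 h2) hfin.fr.gX
        exact hK.le.trans h3
      Qo2 := rfl
      char2 := fun c hc h => hchar (mem_inf.2 ⟨hc, mem_centralizer_iff.2 fun x hx => (h x hx).symm⟩)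
      QP := hQP
      nQF := nQF
      nQs := QsOf_norm
      QFQ := QFsub
      QsQF := hQsQF
      com := by
        intro x hx y hy
        have h1 : ∀ y ∈ QF, x * y = y * x ∨ x * y = z * (y * x) := by
          unfold QsOf at hx
          induction hx using closure_induction with
          | mem x hx =>
            obtain ⟨c, hc, e, he, rfl⟩ := hx
            intro y hy
            have h2 : c⁻¹ * y * c⁻¹⁻¹ ∈ QF := (mem_normalizer_iff.1 (nQF (inv_mem hc)) y).1 hy
            have mz := Cz c hc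
            rcases (memQF.1 h2).2 e he with h3 | h3
            · left
              have h4 : e * (c⁻¹ * y * c) = (c⁻¹ * y * c) * e := by
                have : c⁻¹ * y * c⁻¹⁻¹ * e = e * (c⁻¹ * y * c⁻¹⁻¹) := h3
                rw [inv_inv] at this
                exact this.symm
              calc c * e * c⁻¹ * y = c * (e * (c⁻¹ * y * c)) * c⁻¹ := by group
                _ = y * (c * e * c⁻¹) := by rw [h4]; group
            · right
              have h4 : e * (c⁻¹ * y * c) = z * ((c⁻¹ * y * c) * e) := by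
                have : c⁻¹ * y * c⁻¹⁻¹ * e = z * (e * (c⁻¹ * y * c⁻¹⁻¹)) := h3
                rw [inv_inv] at this
                rw [this, ← mul_assoc z z, hzz, one_mul]
              calc c * e * c⁻¹ * y = c * (e * (c⁻¹ * y * c)) * c⁻¹ := by group
                _ = (c * z) * c⁻¹ * (y * (c * e * c⁻¹)) := by rw [h4]; group
                _ = z * (y * (c * e * c⁻¹)) := by rw [mz]; group
          | one => intro y _; left; simp
          | mul a b ha hb iha ihb =>
            intro y hy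
            have haz : a * z = z * a := Qz a (QFsub (hQsQF ha))
            rcases ihb y hy with h2 | h2 <;> rcases iha y hy with h3 | h3
            · left
              calc a * b * y = a * (b * y) := by group
                _ = (a * y) * b := by rw [h2]; group
                _ = y * (a * b) := by rw [h3]; group
            · right
              calc a * b * y = a * (b * y) := by group
                _ = (a * y) * b := by rw [h2]; group
                _ = z * (y * (a * b)) := by rw [h3]; group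
            · right
              calc a * b * y = a * (b * y) := by group
                _ = (a * z) * y * b := by rw [h2]; group
                _ = z * (a * y) * b := by rw [haz]; group
                _ = z * (y * (a * b)) := by rw [h3]; group
            · left
              calc a * b * y = a * (b * y) := by group
                _ = (a * z) * y * b := by rw [h2]; group
                _ = z * (a * y) * b := by rw [haz]; group
                _ = (z * z) * (y * (a * b)) := by rw [h3]; group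
                _ = y * (a * b) := by rw [hzz, one_mul]
          | inv a ha iha =>
            intro y hy
            have haz : a⁻¹ * z = z * a⁻¹ := Qz a⁻¹ (inv_mem (QFsub (hQsQF ha)))
            rcases iha y hy with h2 | h2
            · left
              calc a⁻¹ * y = a⁻¹ * (y * a) * a⁻¹ := by group
                _ = y * a⁻¹ := by rw [← h2]; group
            · right
              have h3 : y * a = z * (a * y) := by rw [h2, ← mul_assoc, hzz, one_mul]
              calc a⁻¹ * y = a⁻¹ * (y * a) * a⁻¹ := by group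
                _ = (a⁻¹ * z) * a * y * a⁻¹ := by rw [h3]; group
                _ = z * (y * a⁻¹) := by rw [haz]; group
        exact h1 y hy
      QsGen := by
        unfold QsOf
        rw [closure_le]
        rintro y ⟨c, hc, e, he, rfl⟩
        exact subset_closure ⟨c, hc, e, hEV he, hEQ he, rfl⟩
      VQs := fun v hv hvQ => le_QsOf C E (hEc v hv hvQ)
      VQ2 := V2
      VQc := by
        intro x hx w hw
        have h1 : w * x⁻¹ * w⁻¹ ∈ o2 C :=
          (mem_normalizer_iff.1 (nQC (hVC hw)) x⁻¹).1 (inv_mem hx)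
        have e : x * w * x⁻¹ * w⁻¹ = x * (w * x⁻¹ * w⁻¹) := by group
        rw [e]; exact mul_mem hx h1
      cT := hcT
      faith := fun x hx h => hf.faith x hx fun e he => h e (hEV he) (hEQ he)
      fixE := by
        intro e he h
        have hF1 : ∀ f ∈ F, f * e = e * f := fun f hf => h f (hFQs hf)
        by_cases heQ : e ∈ o2 C
        · have heE := hEc e he heQ
          -- `e ∈ E` commutes with `F`, hence with `V^g`
          have h1 : g⁻¹ * e * g ∈ o2 C := by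
            have := (mem_normalizer_iff.1 (nQC (inv_mem hg)) e).1 heQ
            rwa [inv_inv] at this
          have h2 : ∀ a ∈ E, (g⁻¹ * e * g) * a = a * (g⁻¹ * e * g) := by
            intro a ha
            have h3 : g * a * g⁻¹ ∈ F := by
              rw [hF, NoFF.Basic.mem_conj]
              have e1 : g⁻¹ * (g * a * g⁻¹) * g = a := by group
              rwa [e1]
            have h4 := hF1 _ h3
            calc g⁻¹ * e * g * a = g⁻¹ * (e * (g * a * g⁻¹)) * g := by group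
              _ = a * (g⁻¹ * e * g) := by rw [← h4]; group
          have h3 := hf.faith _ (hQP h1) h2
          have h4 : e ∈ D := by
            rw [← near'.F_inf_cent]
            refine mem_inf.2 ⟨heE, mem_centralizer_iff.2 fun w hw => ?_⟩
            rw [SetLike.mem_coe, NoFF.Basic.mem_conj] at hw
            have h5 := h3 _ hw
            calc w * e = g * ((g⁻¹ * w * g) * (g⁻¹ * e * g)) * g⁻¹ := by group
              _ = e * w := by rw [← h5]; group
          exact hDz e h4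
        · exfalso
          have h1 : F ≤ D := by
            intro f hf
            refine (nearv e he heQ).inj f hf ?_
            have : e * f * e⁻¹ * f⁻¹ = 1 := by rw [← hF1 f hf]; group
            rw [this]; exact one_mem _
          apply hne'
          have h2 : D = F := le_antisymm near.DF h1
          have h3 := card_eq_sub near
          rw [← h2] at h3
          exact eq_of_le_of_card_ge hDE (le_of_eq h3.symm)
      QFT := by
        intro x hx
        obtain ⟨f, hf, h1, -⟩ := act x hx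
        exact ⟨_, h1, f, hFQs hf, by group⟩
      QQF := fun x hx h => memQF.2 ⟨hx, fun e he => h e (hEV he) (hEQ he)⟩
      QF2 := by
        intro x hx y hy hx' hy'
        have hZ2 : Nat.card (zpowers z) = 2 := by
          rw [Nat.card_zpowers]
          exact orderOf_eq_prime (by rw [pow_two]; exact hzz) hz1
        have memZ : ∀ {w : G}, w ∈ zpowers z ↔ w = 1 ∨ w = z := by
          intro w
          constructor
          · rintro ⟨n, rfl⟩
            rcases Int.even_or_odd' n with ⟨k, rfl | rfl⟩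
            · left
              change z ^ (2 * k) = 1
              rw [zpow_mul, zpow_two, hzz, one_zpow]
            · right
              change z ^ (2 * k + 1) = z
              rw [zpow_add, zpow_mul, zpow_two, hzz, one_zpow, one_mul, zpow_one]
          · rintro (rfl | rfl)
            · exact one_mem _
            · exact mem_zpowers _
        have iffz : ∀ x e : G, x * e * x⁻¹ * e⁻¹ ∈ zpowers z ↔
            (x * e = e * x ∨ x * e = z * (e * x)) := by
          intro x e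
          rw [memZ]
          constructor
          · rintro (h | h)
            · left
              calc x * e = x * e * x⁻¹ * e⁻¹ * (e * x) := by group
                _ = e * x := by rw [h, one_mul]
            · right
              calc x * e = x * e * x⁻¹ * e⁻¹ * (e * x) := by group
                _ = z * (e * x) := by rw [h]
          · rintro (h | h)
            · left; rw [h]; group
            · right; rw [h]; group
        refine memQF.2 ⟨mul_mem hx hy, fun e he => ?_⟩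
        rw [← iffz]
        refine two_mod (S.isPGroup'.to_le hQS) hEQ card8 (by rw [zpowers_le]; exact hzE) hZ2
          (fun a ha b hb => Vab a (hEV ha) b (hEV hb))
          (fun x hx e he => nE x (mem_inf.2 ⟨hQP hx, o2_le C hx⟩) e he) ?_ hx hy ?_ ?_ e he
        · intro x hx e he
          have h1 : x * e * x⁻¹ = e := by
            rcases memZ.1 he with rfl | rfl
            · group
            · rw [Qz x hx]; group
          rw [h1]; exact he
        · exact fun h => hx' (memQF.2 ⟨hx, fun e he => (iffz x e).1 (h e he)⟩)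
        · exact fun h => hy' (memQF.2 ⟨hy, fun e he => (iffz y e).1 (h e he)⟩)
      kv := by
        intro x hx w hw hwQ h
        obtain ⟨f, hf, h1, h2⟩ := act x (hQsQF hx)
        have h3 : c w f ∈ D := by
          rw [← cvf w hw f hf, ← h2 w hw]
          rcases h with h | h
          · have : x * w * x⁻¹ * w⁻¹ = 1 := by rw [h]; group
            rw [this]; exact one_mem _
          · have : x * w * x⁻¹ * w⁻¹ = z := by rw [h]; group
            rw [this]; exact hzD
        have h4 := (nearv w hw hwQ).inj f hf h3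
        have h5 : f ∈ (S : Subgroup G) ⊓ centralizer (V : Set G) :=
          (le_inf hVS Vc) (hEV (hDE h4))
        have h6 : x = (x * f⁻¹) * f := by group
        rw [h6]
        exact mul_mem h1 h5
      ev := by
        intro e he heQ w hw hwQ
        obtain ⟨f, hf, h1⟩ := (nearv w hw hwQ).surj (hEc e he heQ)
        refine ⟨f, hFQs hf, ?_⟩
        rw [cvf w hw f hf]
        rcases hDz _ h1 with h2 | h2
        · left; exact mul_inv_eq_one.1 h2
        · right; exact mul_inv_eq_iff_eq_mul.1 h2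
      symm := by
        intro m hm h1 h2
        have h3 := hf.symm m hm (nzE m hm h1)
        have h4 := hPVm m⁻¹ (inv_mem hm) z hzV
        rw [inv_inv] at h4
        exact h3 (hEc _ h4 h2)
      trans := by
        intro m hm h1 n hn
        refine hf.trans m hm (nzE m hm h1) (QsOf C E) ((hQsQF.trans QFsub).trans hQP) ?_ n hn
        intro x hx h2
        have hxz : x * z = z * x := by
          rcases h2 z hzE with h3 | h3
          · exact h3
          · exfalso
            rw [← mul_assoc, hzz, one_mul] at h3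
            exact hz1 (mul_eq_left.1 h3)
        obtain ⟨f, hfF, h3⟩ := agree x hx hxz h2
        refine ⟨f, hFQs hfF, fun w hw => ?_⟩
        have h4 := h3 _ (hPVm f (hFP hfF) w hw)
        calc f * w * f⁻¹ = (f * w * f⁻¹) * (x * f⁻¹) * (x * f⁻¹)⁻¹ := by group
          _ = x * w * x⁻¹ := by rw [← h4]; group
      tri := by
        obtain ⟨m, hm, n, hn, h1, h2, h3⟩ := hf.tri
        have hin : ∀ k ∈ P, k * z * k⁻¹ ∉ E → k * z * k⁻¹ ∉ o2 C := fun k hk h h' =>
          h (hEc _ (hPVm k hk z hzV) h')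
        exact ⟨m, hm, n, hn, hin m hm h1, hin n hn h2, hin _ (mul_mem (inv_mem hm) hn) h3⟩
      min := by
        intro N hN hNn hN1
        obtain ⟨x, hx, hx1, hx2, hxS⟩ := exists_central S.isPGroup' (hN.trans hTn)
          (fun s hs x hx => hNn s (hSP hs) (hzS s hs) x hx) hN1
        rcases hZ x (hTn (hN hx)) hxS hx2 with h | h
        · exact absurd h hx1
        · rw [← h]; exact hx }

/-- The minimality of `C`: an element of odd order inverted by some `v ∈ V - Q`. -/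
theorem gen_of_min [Finite G] {P V C : Subgroup G} {z : G}
    (hmin : ∀ Y : Subgroup G, P ⊓ centralizer ({z} : Set G) ≤ Y → Y ≤ C → ¬ V ≤ o2 Y → C ≤ Y)
    (hPC : P ⊓ centralizer ({z} : Set G) ≤ C) :
    ∀ v ∈ V, ∀ d ∈ C, d ≠ 1 → Odd (orderOf d) → v * d * v⁻¹ = d⁻¹ →
      C ≤ closure ({m | m ∈ P ∧ m * z = z * m} ∪ {d}) := by
  intro v hv d hd hd1 hodd hvd
  set Y := closure ({m | m ∈ P ∧ m * z = z * m} ∪ {d}) with hY
  have hdY : d ∈ Y := subset_closure (Or.inr rfl)
  refine hmin Y ?_ ?_ ?_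
  · intro m hm
    obtain ⟨h1, h2⟩ := mem_inf.1 hm
    exact subset_closure (Or.inl ⟨h1, mem_centralizer_singleton_iff.1 h2⟩)
  · rw [hY, closure_le]
    rintro m (⟨h1, h2⟩ | h1)
    · exact hPC (mem_inf.2 ⟨h1, mem_centralizer_singleton_iff.2 h2⟩)
    · rw [Set.mem_singleton_iff] at h1
      rw [h1]; exact hd
  · intro h1
    have h2 : v ∈ o2 Y := h1 hv
    have h3 : d * v⁻¹ * d⁻¹ ∈ o2 Y :=
      (mem_normalizer_iff.1 (le_normalizer_o2 Y hdY) v⁻¹).1 (inv_mem h2)
    have h4 : d⁻¹ * d⁻¹ ∈ o2 Y := by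
      have e : d⁻¹ * d⁻¹ = v * (d * v⁻¹ * d⁻¹) := by
        nth_rewrite 1 [← hvd]
        group
      rw [e]; exact mul_mem h2 h3
    have h5 : d ^ 2 ∈ o2 Y := by
      have := inv_mem h4
      rwa [mul_inv_rev, inv_inv, ← pow_two] at this
    obtain ⟨k, hk⟩ := (IsPGroup.iff_orderOf.1 (o2_isPGroup Y)) ⟨d ^ 2, h5⟩
    have hk' : orderOf (d ^ 2) = 2 ^ k := by
      rw [← hk, ← orderOf_submonoid]
    have h6 : orderOf (d ^ 2) = orderOf d := by
      have h7 : Nat.Coprime (orderOf d) 2 := Nat.coprime_two_right.2 hodd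
      exact h7.orderOf_pow
    rw [h6] at hk'
    rcases Nat.eq_zero_or_pos k with h7 | h7
    · subst h7
      rw [pow_zero, orderOf_eq_one_iff] at hk'
      exact hd1 hk'
    · rw [hk'] at hodd
      have : Even (2 ^ k) := (Nat.even_pow.2 ⟨even_two, by omega⟩)
      exact (Nat.not_odd_iff_even.2 this) hodd

/-- **The frame (0)**: the configuration `Pt` at the point `z`. -/
theorem exists_pt [Finite G] (S : Sylow 2 G) {P V : Subgroup G} {z : G}
    (hSP : (S : Subgroup G) ≤ P) (hPV : P ≤ normalizer (V : Set G)) (hVS : V ≤ (S : Subgroup G))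
    (Vab : ∀ v ∈ V, ∀ w ∈ V, v * w = w * v) (Vsq : ∀ v ∈ V, v * v = 1) (cardV : Nat.card V = 16)
    (hz1 : z ≠ 1) (hzV : z ∈ V) (hzS : ∀ s ∈ (S : Subgroup G), s * z = z * s)
    (hZ : ∀ x ∈ (S : Subgroup G), (∀ s ∈ (S : Subgroup G), x * s = s * x) → x * x = 1 →
      x = 1 ∨ x = z)
    (char2 : ∀ c, c * z = z * c → (∀ x ∈ o2 (centralizer ({z} : Set G)), c * x = x * c) →
      c ∈ o2 (centralizer ({z} : Set G)))
    (nT : P ≤ normalizer (((S : Subgroup G) ⊓ centralizer (V : Set G) : Subgroup G) : Set G))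
    (card8 : Nat.card ↥(V ⊓ o2 (centralizer ({z} : Set G))) = 8)
    (hf : Facts P V (V ⊓ o2 (centralizer ({z} : Set G))) z) :
    ∃ C QF Qs : Subgroup G, Pt P V ((S : Subgroup G) ⊓ centralizer (V : Set G)) z C (o2 C) QF Qs ∧
      C ≤ centralizer ({z} : Set G) ∧ (S : Subgroup G) ≤ C ∧ o2 C ≤ (S : Subgroup G) ∧
      o2 (centralizer ({z} : Set G)) ≤ o2 C ∧ Qs ≤ o2 (centralizer ({z} : Set G)) ∧
      V ⊓ o2 C = V ⊓ o2 (centralizer ({z} : Set G)) := by
  obtain ⟨C, QF, Qs, h1, h2, h3, h4, h5, h6, h7, -⟩ :=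
    exists_pt_min S hSP hPV hVS Vab Vsq cardV hz1 hzV hzS hZ char2 nT card8 hf
  exact ⟨C, QF, Qs, h1, h2, h3, h4, h5, h6, h7⟩

/-- **The frame (0)** with `hgen`. -/
theorem exists_pt_gen [Finite G] (S : Sylow 2 G) {P V : Subgroup G} {z : G}
    (hSP : (S : Subgroup G) ≤ P) (hPV : P ≤ normalizer (V : Set G)) (hVS : V ≤ (S : Subgroup G))
    (Vab : ∀ v ∈ V, ∀ w ∈ V, v * w = w * v) (Vsq : ∀ v ∈ V, v * v = 1) (cardV : Nat.card V = 16)
    (hz1 : z ≠ 1) (hzV : z ∈ V) (hzS : ∀ s ∈ (S : Subgroup G), s * z = z * s)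
    (hZ : ∀ x ∈ (S : Subgroup G), (∀ s ∈ (S : Subgroup G), x * s = s * x) → x * x = 1 →
      x = 1 ∨ x = z)
    (char2 : ∀ c, c * z = z * c → (∀ x ∈ o2 (centralizer ({z} : Set G)), c * x = x * c) →
      c ∈ o2 (centralizer ({z} : Set G)))
    (nT : P ≤ normalizer (((S : Subgroup G) ⊓ centralizer (V : Set G) : Subgroup G) : Set G))
    (card8 : Nat.card ↥(V ⊓ o2 (centralizer ({z} : Set G))) = 8)
    (hf : Facts P V (V ⊓ o2 (centralizer ({z} : Set G))) z) :
    ∃ C QF Qs : Subgroup G, Pt P V ((S : Subgroup G) ⊓ centralizer (V : Set G)) z C (o2 C) QF Qs ∧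
      C ≤ centralizer ({z} : Set G) ∧ (S : Subgroup G) ≤ C ∧ o2 C ≤ (S : Subgroup G) ∧
      o2 (centralizer ({z} : Set G)) ≤ o2 C ∧ Qs ≤ o2 (centralizer ({z} : Set G)) ∧
      V ⊓ o2 C = V ⊓ o2 (centralizer ({z} : Set G)) ∧
      ∀ v ∈ V, ∀ d ∈ C, d ≠ 1 → Odd (orderOf d) → v * d * v⁻¹ = d⁻¹ →
        C ≤ closure ({m | m ∈ P ∧ m * z = z * m} ∪ {d}) := by
  obtain ⟨C, QF, Qs, h1, h2, h3, h4, h5, h6, h7, h8⟩ :=
    exists_pt_min S hSP hPV hVS Vab Vsq cardV hz1 hzV hzS hZ char2 nT card8 hf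
  exact ⟨C, QF, Qs, h1, h2, h3, h4, h5, h6, h7, gen_of_min h8 fun m hm =>
    h1.PC m (mem_inf.1 hm).1 (mem_centralizer_singleton_iff.1 (mem_inf.1 hm).2)⟩

end Cfsg.Agent.Omega.NOne.AG
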