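import Cfsg.Agent.Omega.NOne.AG.Alpha
import Cfsg.Agent.Omega.NOne.AG.Frame

/-!
# D0ag, type (α): the facts on `(P / C_P(V), V)`

`AW P V W` : coordinates `W : B4 → G` of `V` such that `P` acts on the points `W (tb a b c d)` as `S₅`.
`sA σ` : the action of `σ` on the coordinates, `f0` : the functional with kernel `z^⊥`.
-/

set_option autoImplicit false
set_option linter.unusedSectionVars false

namespace Cfsg.Agent.Omega.NOne.AG.Tab

open Subgroup Cfsg Cfsg.Agent.ZN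

universe u

/-- `0` -/
abbrev b0 : B4 := (false, false, false, false)

/-- the linear map with given images of the basis -/
def lin (c1 c2 c3 c4 x : B4) : B4 :=
  ad (if x.1 then c1 else b0) (ad (if x.2.1 then c2 else b0)
    (ad (if x.2.2.1 then c3 else b0) (if x.2.2.2 then c4 else b0)))

/-- the action of `σ` -/
def sA (σ : Equiv.Perm (Fin 5)) (x : B4) : B4 :=
  lin (tb (σ 1) (σ 2) (σ 3) (σ 4)) (tb (σ 1) (σ 4) (σ 2) (σ 3)) (tb (σ 0) (σ 2) (σ 3) (σ 4))
    (tb (σ 0) (σ 3) (σ 2) (σ 4)) x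

/-- the functional with kernel `z^⊥`, `z = z_{01|23}` -/
def f0 (x : B4) : Bool := xor x.1 (xor x.2.2.1 x.2.2.2)

/-- the coordinates of `z` -/
abbrev z0 : B4 := tb 0 1 2 3

/-- the stabiliser of `z` -/
def st (i j k : Bool) : Equiv.Perm (Fin 5) :=
  (if i then Equiv.swap 0 1 else 1) * (if j then Equiv.swap 2 3 else 1) *
    (if k then Equiv.swap 0 2 * Equiv.swap 1 3 else 1)

theorem st_z0 : ∀ i j k, sA (st i j k) z0 = z0 := by decide +kernel

theorem st_trans : ∀ x y : B4, f0 x = true → f0 y = true → ∃ i j k, y = sA (st i j k) x := by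
  decide +kernel

theorem sA_faith : ∀ σ : Equiv.Perm (Fin 5), (∀ x, f0 x = false → sA σ x = x) → σ = 1 := by
  decide +kernel

theorem sA_symm : ∀ σ : Equiv.Perm (Fin 5), f0 (sA σ z0) = true → f0 (sA σ⁻¹ z0) = true := by
  decide +kernel

theorem exists_pt : ∀ x : B4, x ≠ b0 → ∃ a b c d, D4 a b c d ∧ x = tb a b c d := tb_surj

theorem sA_swap : ∀ x, (f0 x = false → sA (Equiv.swap 0 1) x = x ∨ sA (Equiv.swap 0 1) x = ad z0 x) ∧
    (f0 x = false → sA (Equiv.swap 2 3) x = x ∨ sA (Equiv.swap 2 3) x = ad z0 x) := by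
  decide +kernel

/-- a 5-cycle from four transpositions -/
def cyc (σ : Equiv.Perm (Fin 5)) : Equiv.Perm (Fin 5) :=
  Equiv.swap 0 1 * Equiv.swap 2 3 * (Equiv.swap (σ 0) (σ 1) * Equiv.swap (σ 2) (σ 3))

theorem cyc_spec : ∀ σ : Equiv.Perm (Fin 5), f0 (sA σ z0) = true →
    (∀ y : Fin 5, ∃ n : Fin 5, ((cyc σ) ^ n.1) 0 = y) ∧ (cyc σ).support = Finset.univ := by
  decide +kernel

theorem sA_one : ∀ x, lin (tb 1 2 3 4) (tb 1 4 2 3) (tb 0 2 3 4) (tb 0 3 2 4) x = x := by decide +kernel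

theorem f0_split : ∀ x, f0 x = false → ∃ y, f0 y = true ∧ f0 (ad x y) = true ∧ ad (ad x y) y = x := by
  decide +kernel

theorem f0_one : f0 (true, false, false, false) = true := rfl

variable {G : Type u} [Group G] {P V : Subgroup G} {W : B4 → G}

theorem AW.W_lin (A : AW P V W) (c1 c2 c3 c4 x : B4) : W (lin c1 c2 c3 c4 x) =
    (if x.1 then W c1 else 1) * ((if x.2.1 then W c2 else 1) *
      ((if x.2.2.1 then W c3 else 1) * (if x.2.2.2 then W c4 else 1))) := by
  have h : ∀ (b : Bool) (c : B4), W (if b then c else b0) = if b then W c else 1 := by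
    intro b c
    cases b
    · simpa using A.zero
    · simp
  rw [lin, A.mul, A.mul, A.mul, h, h, h, h]

/-- an element over `σ` acts as `sA σ` -/
theorem AW.conj_eq (A : AW P V W) {m : G} {σ : Equiv.Perm (Fin 5)}
    (hσ : ∀ a b c d, D4 a b c d → m * W (tb a b c d) * m⁻¹ = W (tb (σ a) (σ b) (σ c) (σ d))) (x : B4) :
    m * W x * m⁻¹ = W (sA σ x) := by
  have hif : ∀ (b : Bool) (u v : G), m * u * m⁻¹ = v →
      m * (if b then u else 1) * m⁻¹ = if b then v else 1 := by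
    intro b u v h
    cases b
    · simp
    · simpa using h
  rw [sA, A.W_lin]
  nth_rewrite 1 [← sA_one x]
  rw [A.W_lin]
  rw [← hif x.1 _ _ (hσ 1 2 3 4 (by decide)), ← hif x.2.1 _ _ (hσ 1 4 2 3 (by decide)),
    ← hif x.2.2.1 _ _ (hσ 0 2 3 4 (by decide)), ← hif x.2.2.2 _ _ (hσ 0 3 2 4 (by decide))]
  group

/-- `m` acts as `σ` on the points -/
def Ovz (W : B4 → G) (m : G) (σ : Equiv.Perm (Fin 5)) : Prop := ∀ a b c d, D4 a b c d →
  m * W (tb a b c d) * m⁻¹ = W (tb (σ a) (σ b) (σ c) (σ d))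

theorem Ovz.one : Ovz W 1 1 := fun a b c d _ => by simp

theorem Ovz.mul {m n : G} {σ τ : Equiv.Perm (Fin 5)} (h1 : Ovz W m σ) (h2 : Ovz W n τ) :
    Ovz W (m * n) (σ * τ) := by
  intro a b c d hd
  have h3 := h2 a b c d hd
  have h4 := h1 _ _ _ _ (D4.map hd τ)
  rw [← h3] at h4
  rw [show (σ * τ) a = σ (τ a) from rfl, show (σ * τ) b = σ (τ b) from rfl,
    show (σ * τ) c = σ (τ c) from rfl, show (σ * τ) d = σ (τ d) from rfl, ← h4]
  group

theorem Ovz.inv {m : G} {σ : Equiv.Perm (Fin 5)} (h : Ovz W m σ) : Ovz W m⁻¹ σ⁻¹ := by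
  intro a b c d hd
  have h5 := h (σ⁻¹ a) (σ⁻¹ b) (σ⁻¹ c) (σ⁻¹ d) (D4.map hd σ⁻¹)
  have hσi : ∀ i, σ (σ⁻¹ i) = i := fun i => by
    rw [← Equiv.Perm.mul_apply, mul_inv_cancel]; rfl
  rw [hσi, hσi, hσi, hσi] at h5
  rw [← h5]; group

/-- the hyperplane `E = z^⊥` -/
theorem AW.mem_E (A : AW P V W) {E : Subgroup G} (_hE : E ≤ V) (hi : E.relIndex V = 2)
    (hn : ∀ m ∈ P, m * W z0 = W z0 * m → ∀ e ∈ E, m * e * m⁻¹ ∈ E) (x : B4) :
    W x ∈ E ↔ f0 x = false := by
  have hidx : ∀ u ∈ V, ∀ v ∈ V, u ∉ E → v ∉ E → u * v ∈ E := by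
    intro u hu v hv h1 h3
    have h4 : (E.subgroupOf V).index = 2 := hi
    have h5 := Subgroup.mul_mem_iff_of_index_two h4 (a := ⟨u, hu⟩) (b := ⟨v, hv⟩)
    rw [mem_subgroupOf, mem_subgroupOf, mem_subgroupOf] at h5
    exact h5.2 ⟨fun h => absurd h h1, fun h => absurd h h3⟩
  -- no `x` with `f0 x = true` is in `E`
  have key : ∀ x, f0 x = true → W x ∉ E := by
    intro x hx hxE
    have hall : ∀ y, f0 y = true → W y ∈ E := by
      intro y hy
      obtain ⟨i, j, k, e⟩ := st_trans x y hx hy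
      obtain ⟨m, hm, hσ⟩ := A.full (st i j k)
      have h1 := A.conj_eq hσ
      have h2 : m * W z0 = W z0 * m := by
        have := h1 z0
        rw [st_z0] at this
        rwa [mul_inv_eq_iff_eq_mul] at this
      have h3 := hn m hm h2 _ hxE
      rwa [h1, ← e] at h3
    have htop : V ≤ E := by
      intro v hv
      obtain ⟨y, rfl⟩ := A.surj v hv
      by_cases hy : f0 y = true
      · exact hall y hy
      · rw [Bool.not_eq_true] at hy
        obtain ⟨u, hu, h1, h2⟩ := f0_split y hy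
        rw [← h2, A.mul]
        exact mul_mem (hall _ h1) (hall _ hu)
    rw [relIndex_eq_one.2 htop] at hi
    omega
  constructor
  · intro h
    by_contra hcon
    rw [Bool.not_eq_false] at hcon
    exact key x hcon h
  · intro h
    obtain ⟨u, hu, h1, h2⟩ := f0_split x h
    rw [← h2, A.mul]
    exact hidx _ (A.mem _) _ (A.mem _) (key _ h1) (key _ hu)

end Cfsg.Agent.Omega.NOne.AG.Tab

namespace Cfsg.Agent.Omega.NOne.AG

open Subgroup Cfsg Cfsg.Agent.ZN Tab

universe u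

variable {G : Type u} [Group G] {P V : Subgroup G} {W : B4 → G}

theorem tri_aux : ∃ σ τ : Equiv.Perm (Fin 5), f0 (sA σ z0) = true ∧ f0 (sA τ z0) = true ∧
    f0 (sA (σ⁻¹ * τ) z0) = true := by
  refine ⟨Equiv.swap 0 2 * Equiv.swap 1 4, Equiv.swap 0 2 * Equiv.swap 3 4, ?_, ?_, ?_⟩
  all_goals decide +kernel

/-- **The facts for type (α).** -/
theorem Tab.AW.facts (A : AW P V W) {E : Subgroup G} (hE : E ≤ V) (hi : E.relIndex V = 2)
    (hn : ∀ m ∈ P, m * W z0 = W z0 * m → ∀ e ∈ E, m * e * m⁻¹ ∈ E) : Facts P V E (W z0) := by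
  have mE := A.mem_E hE hi hn
  refine ⟨?_, ?_, ?_, ?_⟩
  · intro x hx hc v hv
    obtain ⟨σ, hσ⟩ := A.act x hx
    have h1 := A.conj_eq hσ
    have h2 : σ = 1 := by
      apply sA_faith
      intro y hy
      apply A.inj
      rw [← h1, hc _ ((mE y).2 hy)]; group
    obtain ⟨y, rfl⟩ := A.surj v hv
    have h3 := h1 y
    have h4 : sA 1 y = y := sA_one y
    rw [h2, h4] at h3
    rwa [mul_inv_eq_iff_eq_mul] at h3
  · intro m hm h
    obtain ⟨σ, hσ⟩ := A.act m hm
    have h1 := A.conj_eq hσ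
    rw [h1, mE, Bool.not_eq_false] at h
    have h2 := A.conj_eq (Ovz.inv hσ) z0
    rw [inv_inv] at h2
    rw [h2, mE, Bool.not_eq_false]
    exact sA_symm σ h
  · intro m hm h B hB hcov n hn'
    obtain ⟨σ, hσ⟩ := A.act m hm
    rw [A.conj_eq hσ, mE, Bool.not_eq_false] at h
    -- the permutations induced by `B ⊔ B^m`
    let K : Subgroup (Equiv.Perm (Fin 5)) :=
      { carrier := {τ | ∃ x ∈ B ⊔ B.map (MulAut.conj m).toMonoidHom, Ovz W x τ}
        mul_mem' := by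
          rintro τ τ' ⟨x, hx, h1⟩ ⟨y, hy, h2⟩
          exact ⟨x * y, mul_mem hx hy, h1.mul h2⟩
        one_mem' := ⟨1, one_mem _, Ovz.one⟩
        inv_mem' := by
          rintro τ ⟨x, hx, h1⟩
          exact ⟨x⁻¹, inv_mem hx, h1.inv⟩ }
    have hsw : ∀ a b : Fin 5, (∀ x, f0 x = false → sA (Equiv.swap a b) x = x ∨
        sA (Equiv.swap a b) x = ad z0 x) → ∃ y ∈ B, Ovz W y (Equiv.swap a b) := by
      intro a b hab
      obtain ⟨x, hx, h1⟩ := A.full (Equiv.swap a b)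
      have h1' := A.conj_eq h1
      obtain ⟨y, hy, h2⟩ := hcov x hx (by
        intro e he
        obtain ⟨u, rfl⟩ := A.surj e (hE he)
        rcases hab u ((mE u).1 he) with h3 | h3
        · left
          have h4 := h1' u
          rw [h3] at h4
          rwa [mul_inv_eq_iff_eq_mul] at h4
        · right
          have h4 := h1' u
          rw [h3, A.mul] at h4
          rw [mul_inv_eq_iff_eq_mul] at h4
          rw [h4, mul_assoc])
      refine ⟨y, hy, fun a b c d hd => ?_⟩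
      rw [h2 _ (A.mem _), h1 a b c d hd]
    have hK : K = ⊤ := by
      obtain ⟨hc1, hc2⟩ := cyc_spec σ h
      obtain ⟨y1, hy1, h1⟩ := hsw 0 1 fun x hx => (sA_swap x).1 hx
      obtain ⟨y2, hy2, h2⟩ := hsw 2 3 fun x hx => (sA_swap x).2 hx
      have hk1 : Equiv.swap 0 1 ∈ K := ⟨y1, (le_sup_left : B ≤ _) hy1, h1⟩
      have hk2 : Equiv.swap 2 3 ∈ K := ⟨y2, (le_sup_left : B ≤ _) hy2, h2⟩
      have hconj : ∀ a b : Fin 5, (σ * Equiv.swap a b) * σ⁻¹ = Equiv.swap (σ a) (σ b) := by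
        intro a b
        rw [Equiv.mul_swap_eq_swap_mul, mul_assoc, mul_inv_cancel, mul_one]
      have hk3 : Equiv.swap (σ 0) (σ 1) ∈ K := by
        refine ⟨m * y1 * m⁻¹, (le_sup_right : B.map (MulAut.conj m).toMonoidHom ≤ _)
          ⟨y1, hy1, rfl⟩, ?_⟩
        rw [← hconj]
        exact (Ovz.mul hσ h1).mul (Ovz.inv hσ)
      have hk4 : Equiv.swap (σ 2) (σ 3) ∈ K := by
        refine ⟨m * y2 * m⁻¹, (le_sup_right : B.map (MulAut.conj m).toMonoidHom ≤ _)
          ⟨y2, hy2, rfl⟩, ?_⟩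
        rw [← hconj]
        exact (Ovz.mul hσ h2).mul (Ovz.inv hσ)
      have hcy : cyc σ ∈ K := mul_mem (mul_mem hk1 hk2) (mul_mem hk3 hk4)
      have hcl : Subgroup.closure ({cyc σ, Equiv.swap 0 1} : Set (Equiv.Perm (Fin 5))) = ⊤ := by
        apply Equiv.Perm.closure_prime_cycle_swap
        · rw [Fintype.card_fin]; norm_num
        · refine ⟨0, ?_, ?_⟩
          · have : (0 : Fin 5) ∈ (cyc σ).support := by rw [hc2]; exact Finset.mem_univ _
            exact Equiv.Perm.mem_support.1 this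
          · intro y _
            obtain ⟨n, hn⟩ := hc1 y
            exact ⟨n.1, by rw [zpow_natCast]; exact hn⟩
        · exact hc2
        · exact ⟨0, 1, by decide, rfl⟩
      rw [eq_top_iff, ← hcl, closure_le]
      rintro τ (rfl | hτ)
      · exact hcy
      · rw [Set.mem_singleton_iff] at hτ
        rw [hτ]; exact hk1
    obtain ⟨τ, hτ⟩ := A.act n hn'
    have hτK : τ ∈ K := by rw [hK]; trivial
    obtain ⟨x, hx, h1⟩ := hτK
    refine ⟨x, hx, ?_⟩
    rw [A.conj_eq h1, A.conj_eq hτ]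
  · obtain ⟨σ, τ, h1, h2, h3⟩ := tri_aux
    obtain ⟨m, hm, hσ⟩ := A.full σ
    obtain ⟨n, hn', hτ⟩ := A.full τ
    refine ⟨m, hm, n, hn', ?_, ?_, ?_⟩
    · rw [A.conj_eq hσ, mE, h1]; decide
    · rw [A.conj_eq hτ, mE, h2]; decide
    · rw [A.conj_eq ((Ovz.inv hσ).mul hτ), mE, h3]; decide

end Cfsg.Agent.Omega.NOne.AG
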