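import Cfsg.Agent.Omega.NOne.AG.FiveGrp
import Mathlib.GroupTheory.QuotientGroup.Defs
import Mathlib.Algebra.Group.Subgroup.Map

/-!
# THEOREM D0ag (#15001), section (5): `T₀ / Δ` as a module for `S₅`

`Five.same` = (5.1): elements over `(ab)` of the various `Q*_k`, `ab ∈ k`, agree modulo `T₀`.
`Md P T0 y Qs mk N X` : the module `M = T₀ / Δ` (`mk : T₀ → M`) with the data `MS M N X` of `FiveMod`.
`Five.exists_md` : it exists.
-/

set_option autoImplicit false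
set_option linter.unusedSectionVars false

namespace Cfsg.Agent.Omega.NOne.AG.FiveGrp

open Equiv Subgroup
open Cfsg.Agent.Omega.NOne.AG.FiveMod Cfsg.Agent.Omega.NOne.AG.FiveDl

universe u

variable {G : Type u} [Group G]

/-- every index is one of the five -/
theorem five_cases {a b c d e : Fin 5} (hd : D5 a b c d e) (x : Fin 5) :
    x = a ∨ x = b ∨ x = c ∨ x = d ∨ x = e := by
  obtain ⟨π, rfl, rfl, rfl, rfl, rfl⟩ := exists_perm hd
  obtain ⟨x, rfl⟩ := π.surjective x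
  fin_cases x <;> simp

/-- The module `M = T₀ / Δ`. -/
structure Md (T0 : Subgroup G) (y : Fin 5 → Fin 5 → G) (Qs : G → Subgroup G) {M : Type u}
    [AddCommGroup M] (mk : T0 → M) (N : Fin 5 → Fin 5 → Fin 5 → Fin 5 → AddSubgroup M)
    (X : Fin 5 → Fin 5 → M →+ M) : Prop where
  ms : MS M N X
  add : ∀ s t, mk (s * t) = mk s + mk t
  ker : ∀ t : T0, mk t = 0 ↔ (t : G) ∈ Dl y
  sur : Function.Surjective mk
  memN : ∀ a b c d, D4 a b c d → ∀ t : T0, mk t ∈ N a b c d ↔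
    ∃ q ∈ Qs (y a b * y c d), q⁻¹ * (t : G) ∈ Dl y
  actX : ∀ a b c d, D4 a b c d → ∀ x ∈ Qs (y a b * y c d), Ov y x (swap a b) →
    ∀ t t' : T0, (t' : G) = x * t * x⁻¹ → X a b (mk t) = mk t'

namespace Five

variable {P T0 : Subgroup G} {y : Fin 5 → Fin 5 → G} {Qs : G → Subgroup G} (h : Five P T0 y Qs)
include h

/-- two elements of `Q*_k` over the same permutation agree modulo `T₀` -/
theorem same0 {a b c d : Fin 5} (hd : D4 a b c d) {σ : Perm (Fin 5)} {x x' : G}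
    (hx : x ∈ Qs (y a b * y c d)) (ox : Ov y x σ)
    (hx' : x' ∈ Qs (y a b * y c d)) (ox' : Ov y x' σ) : x'⁻¹ * x ∈ T0 := by
  refine h.ker a b c d hd _ (mul_mem (inv_mem hx') hx) ?_
  have := ox'.inv.mul ox
  rwa [inv_mul_cancel] at this

theorem zs1 {a b c d : Fin 5} : Qs (y a b * y d c) = Qs (y a b * y c d) := by
  rw [h.ys.sym d c]

theorem zs2 {a b c d : Fin 5} (hd : D4 a b c d) : Qs (y c d * y a b) = Qs (y a b * y c d) := by
  rw [h.zcomm hd]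

/-- **(5.1)** -/
theorem shift {a b c d e : Fin 5} (hd : D5 a b c d e) {x x' : G}
    (hx : x ∈ Qs (y a b * y c d)) (ox : Ov y x (swap a b))
    (hx' : x' ∈ Qs (y a b * y c e)) (ox' : Ov y x' (swap a b)) : x'⁻¹ * x ∈ T0 := by
  obtain ⟨⟨h1, h2, h3, h4, h5, h6⟩, h7, h8, h9, h10⟩ := hd
  have dabcd : D4 a b c d := ⟨h1, h2, h3, h4, h5, h6⟩
  have dabce : D4 a b c e := ⟨h1, h2, h7, h4, h8, h9⟩
  have dabde : D4 a b d e := ⟨h1, h3, h7, h5, h8, h10⟩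
  have ddeab : D4 d e a b := ⟨h10, h3.symm, h5.symm, h7.symm, h8.symm, h1⟩
  obtain ⟨u, hu, ou⟩ := h.ex d e a b ddeab
  rw [h.zs2 dabde] at hu
  obtain ⟨v, hv, ov⟩ := h.ex a b d e dabde
  have uP := h.QP _ _ _ _ dabde hu
  have xP := h.QP _ _ _ _ dabcd hx
  have vP := h.QP _ _ _ _ dabde hv
  have xP' := h.QP _ _ _ _ dabce hx'
  -- `u x u⁻¹ ∈ Q*_{ab|ce}` over `(ab)`
  have m1 : u * x * u⁻¹ ∈ Qs (y a b * y c e) := by
    have := h.cj uP ou dabcd hx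
    rwa [swap_apply_of_ne_of_ne h3 h7, swap_apply_of_ne_of_ne h5 h8,
      swap_apply_of_ne_of_ne h6 h9, swap_apply_left] at this
  have m2 : Ov y (u * x * u⁻¹) (swap a b) := by
    have := (ou.mul ox).mul ou.inv
    have e1 : swap d e * swap a b * (swap d e)⁻¹ = swap a b := by
      rw [← Equiv.swap_apply_apply, swap_apply_of_ne_of_ne h3 h7, swap_apply_of_ne_of_ne h5 h8]
    rwa [e1] at this
  -- `u x u⁻¹ x⁻¹ ∈ T₀`
  have m3 : u * x * u⁻¹ * x⁻¹ ∈ T0 := by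
    have oc : Ov y (v⁻¹ * x) 1 := by
      have := ov.inv.mul ox
      rwa [inv_mul_cancel] at this
    have cP : v⁻¹ * x ∈ P := mul_mem (inv_mem vP) xP
    have k1 : u * v * u⁻¹ * v⁻¹ ∈ T0 := h.Dl_le (h.comm_Q dabde hu hv)
    have k2 : u * (v⁻¹ * x) * u⁻¹ * (v⁻¹ * x)⁻¹ ∈ T0 := by
      have q0 : u * (v⁻¹ * x) * u⁻¹ * (v⁻¹ * x)⁻¹ = u * ((v⁻¹ * x) * u⁻¹ * (v⁻¹ * x)⁻¹) := by group
      have q1 : u * (v⁻¹ * x) * u⁻¹ * (v⁻¹ * x)⁻¹ ∈ Qs (y a b * y d e) := by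
        rw [q0]
        exact mul_mem hu (h.cj_one cP oc dabde (inv_mem hu))
      refine h.ker _ _ _ _ dabde _ q1 ?_
      have := ((ou.mul oc).mul ou.inv).mul oc.inv
      have e2 : swap d e * 1 * (swap d e)⁻¹ * 1⁻¹ = 1 := by group
      rwa [e2] at this
    have q3 : u * x * u⁻¹ * x⁻¹ = (u * v * u⁻¹ * v⁻¹) *
        (v * (u * (v⁻¹ * x) * u⁻¹ * (v⁻¹ * x)⁻¹) * v⁻¹) := by group
    rw [q3]
    exact mul_mem k1 (h.T0_nor v vP _ k2)
  have m4 := h.same0 dabce m1 m2 hx' ox'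
  have q4 : x'⁻¹ * x = x'⁻¹ * (u * x * u⁻¹ * x⁻¹)⁻¹ * x'⁻¹⁻¹ * (x'⁻¹ * (u * x * u⁻¹)) := by group
  rw [q4]
  exact mul_mem (h.T0_nor _ (inv_mem xP') _ (inv_mem m3)) m4

/-- **(5.1)**: the elements over `(ab)` agree modulo `T₀`. -/
theorem same {a b c d c' d' : Fin 5} (hd : D4 a b c d) (hd' : D4 a b c' d') {x x' : G}
    (hx : x ∈ Qs (y a b * y c d)) (ox : Ov y x (swap a b))
    (hx' : x' ∈ Qs (y a b * y c' d')) (ox' : Ov y x' (swap a b)) : x'⁻¹ * x ∈ T0 := by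
  obtain ⟨e, he⟩ := exists_five hd
  obtain ⟨h1, h2, h3, h4, h5, h6⟩ := hd'
  have he' : D5 a b d c e := by
    obtain ⟨⟨g1, g2, g3, g4, g5, g6⟩, g7, g8, g9, g10⟩ := he
    exact ⟨⟨g1, g3, g2, g5, g4, g6.symm⟩, g7, g8, g10, g9⟩
  have hx2 : x ∈ Qs (y a b * y d c) := by rwa [h.zs1]
  have hx2' : x' ∈ Qs (y a b * y d' c') := by rwa [h.zs1]
  rcases five_cases he c' with rfl | rfl | rfl | rfl | rfl
  · exact absurd rfl h2
  · exact absurd rfl h4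
  · rcases five_cases he d' with rfl | rfl | rfl | rfl | rfl
    · exact absurd rfl h3
    · exact absurd rfl h5
    · exact absurd rfl h6
    · exact h.same0 he.1 hx ox hx' ox'
    · exact h.shift he hx ox hx' ox'
  · rcases five_cases he d' with rfl | rfl | rfl | rfl | rfl
    · exact absurd rfl h3
    · exact absurd rfl h5
    · exact h.same0 he.1 hx ox hx2' ox'
    · exact absurd rfl h6
    · exact h.shift he' hx2 ox hx' ox'
  · rcases five_cases he d' with rfl | rfl | rfl | rfl | rfl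
    · exact absurd rfl h3
    · exact absurd rfl h5
    · exact h.shift he hx ox hx2' ox'
    · exact h.shift he' hx2 ox hx2' ox'
    · exact absurd rfl h6

/-- conjugation on `T₀` -/
def cjm (x : G) (hx : x ∈ P) : T0 →* T0 where
  toFun t := ⟨x * t * x⁻¹, h.T0_nor x hx t t.2⟩
  map_one' := Subtype.ext (by simp)
  map_mul' s t := Subtype.ext (by
    show x * (s * t : T0) * x⁻¹ = x * s * x⁻¹ * (x * t * x⁻¹)
    push_cast
    group)

theorem exists_md : ∃ (M : Type u) (_ : AddCommGroup M) (mk : T0 → M)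
    (N : Fin 5 → Fin 5 → Fin 5 → Fin 5 → AddSubgroup M) (X : Fin 5 → Fin 5 → M →+ M),
    Md T0 y Qs mk N X := by
  have hN : (KK T0 y).Normal := h.KK_normal
  have eqi : ∀ s t : T0, ((s : T0) : T0 ⧸ KK T0 y) = ((t : T0) : T0 ⧸ KK T0 y) ↔ (s : G)⁻¹ * t ∈ Dl y := by
    intro s t
    rw [QuotientGroup.eq]
    exact Iff.rfl
  let cg : CommGroup (T0 ⧸ KK T0 y) :=
    { (inferInstance : Group (T0 ⧸ KK T0 y)) with
      mul_comm := by
        intro p q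
        induction p using QuotientGroup.induction_on with | _ s => ?_
        induction q using QuotientGroup.induction_on with | _ t => ?_
        show ((s * t : T0) : T0 ⧸ KK T0 y) = ((t * s : T0) : T0 ⧸ KK T0 y)
        rw [eqi]
        show (s * t : G)⁻¹ * (t * s) ∈ Dl y
        have e : (s * t : G)⁻¹ * (t * s) = (t : G)⁻¹ * (s : G)⁻¹ * ((t : G)⁻¹)⁻¹ * ((s : G)⁻¹)⁻¹ := by
          group
        rw [e]
        exact h.comm_T0 (inv_mem t.2) (inv_mem s.2) }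
  let mk : T0 → Additive (T0 ⧸ KK T0 y) := fun t => Additive.ofMul (QuotientGroup.mk t)
  have hadd : ∀ s t, mk (s * t) = mk s + mk t := fun s t => rfl
  have hsur : Function.Surjective mk := by
    intro m
    obtain ⟨t, ht⟩ := QuotientGroup.mk_surjective (Additive.toMul m)
    exact ⟨t, congrArg Additive.ofMul ht⟩
  have heq : ∀ s t : T0, mk s = mk t ↔ (s : G)⁻¹ * t ∈ Dl y := fun s t => by
    rw [← eqi]
    exact Additive.ofMul.injective.eq_iff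
  have hker : ∀ t : T0, mk t = 0 ↔ (t : G) ∈ Dl y := fun t => by
    have h1 : mk t = 0 ↔ mk 1 = mk t := eq_comm
    rw [h1, heq]
    simp
  let N : Fin 5 → Fin 5 → Fin 5 → Fin 5 → AddSubgroup (Additive (T0 ⧸ KK T0 y)) := fun a b c d =>
    Subgroup.toAddSubgroup (((Qs (y a b * y c d)).subgroupOf T0).map (QuotientGroup.mk' (KK T0 y)))
  have hN0 : ∀ a b c d, ∀ m : Additive (T0 ⧸ KK T0 y), m ∈ N a b c d ↔
      ∃ q : T0, (q : G) ∈ Qs (y a b * y c d) ∧ mk q = m := by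
    intro a b c d m
    constructor
    · rintro ⟨q, hq, e⟩
      exact ⟨q, hq, e⟩
    · rintro ⟨q, hq, e⟩
      exact ⟨q, hq, e⟩
  have hmemN : ∀ a b c d, D4 a b c d → ∀ t : T0, mk t ∈ N a b c d ↔
      ∃ q ∈ Qs (y a b * y c d), q⁻¹ * (t : G) ∈ Dl y := by
    intro a b c d hd t
    rw [hN0]
    constructor
    · rintro ⟨q, hq, e⟩
      exact ⟨q, hq, (heq _ _).1 e⟩
    · rintro ⟨q, hq, e⟩
      have h1 : q ∈ T0 := by
        have : q = t * (q⁻¹ * t)⁻¹ := by group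
        rw [this]
        exact mul_mem t.2 (inv_mem (h.Dl_le e))
      exact ⟨⟨q, h1⟩, hq, (heq _ _).2 e⟩
  -- the action
  have hX : ∀ a b : Fin 5, ∃ f : Additive (T0 ⧸ KK T0 y) →+ Additive (T0 ⧸ KK T0 y),
      ∀ c d, D4 a b c d → ∀ x ∈ Qs (y a b * y c d), Ov y x (swap a b) →
        ∀ t t' : T0, (t' : G) = x * t * x⁻¹ → f (mk t) = mk t' := by
    intro a b
    by_cases hab : a = b
    · exact ⟨0, fun c d hd => absurd hab hd.1⟩
    · obtain ⟨c, d, hd⟩ : ∃ c d, D4 a b c d := by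
        revert a b; decide
      obtain ⟨x0, hx0, ox0⟩ := h.ex a b c d hd
      have x0P := h.QP _ _ _ _ hd hx0
      let F : T0 ⧸ KK T0 y →* T0 ⧸ KK T0 y := QuotientGroup.map (KK T0 y) (KK T0 y) (h.cjm x0 x0P) (by
        intro t ht
        exact dl_conj ox0 (show (t : G) ∈ Dl y from ht))
      refine ⟨MonoidHom.toAdditive F, ?_⟩
      intro c' d' hd' x hx ox t t' ht'
      have e1 : (MonoidHom.toAdditive F) (mk t) = mk (h.cjm x0 x0P t) := rfl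
      rw [e1, heq]
      show (x0 * t * x0⁻¹)⁻¹ * (t' : G) ∈ Dl y
      rw [ht']
      have hs : x0⁻¹ * x ∈ T0 := h.same hd' hd hx ox hx0 ox0
      have e2 : (x0 * t * x0⁻¹)⁻¹ * (x * t * x⁻¹) =
          x0 * ((t : G)⁻¹ * (x0⁻¹ * x) * ((t : G)⁻¹)⁻¹ * (x0⁻¹ * x)⁻¹) * x0⁻¹ := by group
      rw [e2]
      exact dl_conj ox0 (h.comm_T0 (inv_mem t.2) hs)
  choose X hX using hX
  have h2 : ∀ m : Additive (T0 ⧸ KK T0 y), m + m = 0 := by
    intro m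
    obtain ⟨t, rfl⟩ := hsur m
    obtain ⟨u, hu, v, hv, δ, hδ, hu0, hv0, e⟩ := h.gen 0 1 2 3 4 (by decide) t t.2
    have e1 : mk t = mk ⟨u, hu0⟩ + mk ⟨v, hv0⟩ := by
      rw [← hadd, heq]
      show (t : G)⁻¹ * (u * v) ∈ Dl y
      rw [e]
      have : (u * v * δ)⁻¹ * (u * v) = δ⁻¹ := by group
      rw [this]
      exact inv_mem hδ
    have e2 : mk ⟨u, hu0⟩ + mk ⟨u, hu0⟩ = 0 := by
      rw [← hadd, hker]
      exact h.sq_Q (by decide) hu
    have e3 : mk ⟨v, hv0⟩ + mk ⟨v, hv0⟩ = 0 := by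
      rw [← hadd, hker]
      exact h.sq_Q (by decide) hv
    rw [e1]
    calc mk ⟨u, hu0⟩ + mk ⟨v, hv0⟩ + (mk ⟨u, hu0⟩ + mk ⟨v, hv0⟩)
        = (mk ⟨u, hu0⟩ + mk ⟨u, hu0⟩) + (mk ⟨v, hv0⟩ + mk ⟨v, hv0⟩) := by abel
      _ = 0 := by rw [e2, e3, add_zero]
  refine ⟨Additive (T0 ⧸ KK T0 y), inferInstance, mk, N, X, ?_⟩
  refine ⟨?_, hadd, hker, hsur, hmemN, fun a b c d hd => hX a b c d hd⟩
  refine ⟨h2, ?_, ?_, ?_, ?_, ?_, ?_, ?_, ?_⟩
  · -- sw1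
    intro a b c d hd
    show Subgroup.toAddSubgroup (((Qs (y b a * y c d)).subgroupOf T0).map (QuotientGroup.mk' (KK T0 y))) = _
    rw [h.ys.sym b a]
  · -- sw2
    intro a b c d hd
    show Subgroup.toAddSubgroup (((Qs (y c d * y a b)).subgroupOf T0).map (QuotientGroup.mk' (KK T0 y))) = _
    rw [h.zcomm hd]
  · -- xs
    intro a b hab
    refine AddMonoidHom.ext fun m => ?_
    obtain ⟨t, rfl⟩ := hsur m
    obtain ⟨c, d, hd⟩ : ∃ c d, D4 a b c d := by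
      revert a b; decide
    obtain ⟨x, hx, ox⟩ := h.ex a b c d hd
    have xP := h.QP _ _ _ _ hd hx
    have hd' : D4 b a c d := by
      obtain ⟨g1, g2, g3, g4, g5, g6⟩ := hd
      exact ⟨g1.symm, g4, g5, g2, g3, g6⟩
    rw [hX a b c d hd x hx ox t ⟨x * t * x⁻¹, h.T0_nor x xP t t.2⟩ rfl,
      hX b a c d hd' x (by rwa [h.ys.sym b a]) (by rwa [swap_comm]) t ⟨x * t * x⁻¹, h.T0_nor x xP t t.2⟩ rfl]
  · -- xN
    intro a b p q r s hab hd m hm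
    obtain ⟨t, ht, rfl⟩ := (hN0 _ _ _ _ _).1 hm
    obtain ⟨c, d, hd'⟩ : ∃ c d, D4 a b c d := by
      clear hm ht
      revert a b; decide
    obtain ⟨x, hx, ox⟩ := h.ex a b c d hd'
    have xP := h.QP _ _ _ _ hd' hx
    rw [hX a b c d hd' x hx ox t ⟨x * t * x⁻¹, h.T0_nor x xP t t.2⟩ rfl]
    exact (hN0 _ _ _ _ _).2 ⟨_, h.cj xP ox hd ht, rfl⟩
  · -- mem
    intro a b c d hd m
    obtain ⟨t, rfl⟩ := hsur m
    obtain ⟨x, hx, ox⟩ := h.ex a b c d hd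
    have xP := h.QP _ _ _ _ hd hx
    rw [hX a b c d hd x hx ox t ⟨x * t * x⁻¹, h.T0_nor x xP t t.2⟩ rfl, ← hadd]
    -- `t x t x⁻¹ = (t² ...)`; use `t⁻¹`
    have e0 : mk (t * ⟨x * t * x⁻¹, h.T0_nor x xP t t.2⟩) = mk (t⁻¹ * ⟨x * t * x⁻¹, h.T0_nor x xP t t.2⟩) := by
      have e1 : mk (t⁻¹) = mk t := by
        have : mk t⁻¹ + mk t = mk t + mk t := by rw [h2, ← hadd, inv_mul_cancel]; rfl
        exact add_right_cancel this
      rw [hadd, hadd, e1]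
    rw [e0]
    refine (hN0 _ _ _ _ _).2 ⟨_, ?_, rfl⟩
    show (t : G)⁻¹ * (x * t * x⁻¹) ∈ _
    have e2 : (t : G)⁻¹ * (x * t * x⁻¹) = ((t : G)⁻¹ * x * ((t : G)⁻¹)⁻¹) * x⁻¹ := by group
    rw [e2]
    exact mul_mem (h.cj_T0 (inv_mem t.2) hd hx) (inv_mem hx)
  · -- fix
    intro a b c d hd m hm
    obtain ⟨t, ht, rfl⟩ := (hN0 _ _ _ _ _).1 hm
    obtain ⟨x, hx, ox⟩ := h.ex a b c d hd
    have xP := h.QP _ _ _ _ hd hx
    rw [hX a b c d hd x hx ox t ⟨x * t * x⁻¹, h.T0_nor x xP t t.2⟩ rfl, heq]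
    show (x * t * x⁻¹)⁻¹ * (t : G) ∈ _
    have e2 : (x * t * x⁻¹)⁻¹ * (t : G) = x * (t : G)⁻¹ * x⁻¹ * ((t : G)⁻¹)⁻¹ := by group
    rw [e2]
    exact h.comm_Q hd hx (inv_mem ht)
  · -- gen
    intro a b c d e hd m
    obtain ⟨t, rfl⟩ := hsur m
    obtain ⟨u, hu, v, hv, δ, hδ, hu0, hv0, e⟩ := h.gen a b c d e hd t t.2
    refine ⟨mk ⟨u, hu0⟩, (hN0 _ _ _ _ _).2 ⟨_, hu, rfl⟩, mk ⟨v, hv0⟩, (hN0 _ _ _ _ _).2 ⟨_, hv, rfl⟩, ?_⟩
    rw [← hadd, heq]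
    show (t : G)⁻¹ * (u * v) ∈ Dl y
    rw [e]
    have : (u * v * δ)⁻¹ * (u * v) = δ⁻¹ := by group
    rw [this]
    exact inv_mem hδ
  · -- dis
    intro a b c d e hd m hm hm'
    obtain ⟨t, ht, rfl⟩ := (hN0 _ _ _ _ _).1 hm
    obtain ⟨t', ht', e'⟩ := (hN0 _ _ _ _ _).1 hm'
    rw [hker]
    refine h.dis a b c d e hd t ht t.2 t' ht' t'.2 ?_
    exact (heq _ _).1 e'.symm

end Five

end Cfsg.Agent.Omega.NOne.AG.FiveGrp
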