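import Mathlib.Algebra.Group.Subgroup.Basic
import Mathlib.GroupTheory.Perm.Basic
import Mathlib.Tactic.Abel
import Mathlib.Tactic.FinCases
import Mathlib.Data.Fin.VecNotation
import Mathlib.Data.Fintype.EquivFin

/-!
# THEOREM D0ag (#15001), section (5): the module `T₀ / Δ` for `S₅`

`M` an elementary abelian 2-group (additive), `N a b c d` = `M_{ab|cd}` (15 subgroups), `X a b` = the action of
the transposition `(ab)`.  Results, with `N2 a b c d e` = the intersection `M_ab` of the `M_k`, `ab ∈ k`: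
`dec` : `M_{ab|cd} = M_ab + M_cd`; `surj` : `M_ab = [M_be, (ab)]`; `inj` : `(ab)` has no fixed points on `M_bc`.
-/

set_option autoImplicit false

namespace Cfsg.Agent.Omega.NOne.AG.FiveMod

open Equiv

/-- four different indices -/
def D4 (a b c d : Fin 5) : Prop := a ≠ b ∧ a ≠ c ∧ a ≠ d ∧ b ≠ c ∧ b ≠ d ∧ c ≠ d

instance (a b c d : Fin 5) : Decidable (D4 a b c d) := by unfold D4; infer_instance

/-- five different indices -/
def D5 (a b c d e : Fin 5) : Prop := D4 a b c d ∧ a ≠ e ∧ b ≠ e ∧ c ≠ e ∧ d ≠ e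

instance (a b c d e : Fin 5) : Decidable (D5 a b c d e) := by unfold D5; infer_instance

theorem D4.map {a b c d : Fin 5} (h : D4 a b c d) (π : Perm (Fin 5)) : D4 (π a) (π b) (π c) (π d) := by
  obtain ⟨h1, h2, h3, h4, h5, h6⟩ := h
  refine ⟨?_, ?_, ?_, ?_, ?_, ?_⟩ <;> exact fun e => by simp_all

theorem D5.map {a b c d e : Fin 5} (h : D5 a b c d e) (π : Perm (Fin 5)) :
    D5 (π a) (π b) (π c) (π d) (π e) := by
  obtain ⟨h0, h1, h2, h3, h4⟩ := h
  refine ⟨h0.map π, ?_, ?_, ?_, ?_⟩ <;> exact fun e => by simp_all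

/-- The module data. -/
structure MS (M : Type*) [AddCommGroup M] (N : Fin 5 → Fin 5 → Fin 5 → Fin 5 → AddSubgroup M)
    (X : Fin 5 → Fin 5 → M →+ M) : Prop where
  two : ∀ m : M, m + m = 0
  sw1 : ∀ a b c d, D4 a b c d → N b a c d = N a b c d
  sw2 : ∀ a b c d, D4 a b c d → N c d a b = N a b c d
  xs : ∀ a b, a ≠ b → X b a = X a b
  xN : ∀ a b p q r s, a ≠ b → D4 p q r s → ∀ m ∈ N p q r s,
    X a b m ∈ N (swap a b p) (swap a b q) (swap a b r) (swap a b s)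
  mem : ∀ a b c d, D4 a b c d → ∀ m, m + X a b m ∈ N a b c d
  fix : ∀ a b c d, D4 a b c d → ∀ m ∈ N a b c d, X a b m = m
  gen : ∀ a b c d e, D5 a b c d e → ∀ m, ∃ u ∈ N a b c d, ∃ v ∈ N b c d e, m = u + v
  dis : ∀ a b c d e, D5 a b c d e → ∀ m ∈ N a b c d, m ∈ N b c d e → m = 0

namespace MS

variable {M : Type*} [AddCommGroup M] {N : Fin 5 → Fin 5 → Fin 5 → Fin 5 → AddSubgroup M}
  {X : Fin 5 → Fin 5 → M →+ M}

/-- Relabelling. -/
theorem relabel (h : MS M N X) (π : Perm (Fin 5)) :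
    MS M (fun a b c d => N (π a) (π b) (π c) (π d)) (fun a b => X (π a) (π b)) where
  two := h.two
  sw1 := fun a b c d hd => h.sw1 _ _ _ _ (hd.map π)
  sw2 := fun a b c d hd => h.sw2 _ _ _ _ (hd.map π)
  xs := fun a b hab => h.xs _ _ (fun e => hab (π.injective e))
  xN := fun a b p q r s hab hd m hm => by
    have h1 := h.xN (π a) (π b) _ _ _ _ (fun e => hab (π.injective e)) (hd.map π) m hm
    have h2 : ∀ x, swap (π a) (π b) (π x) = π (swap a b x) := fun x => by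
      have := congrArg (fun f : Perm (Fin 5) => f (π x)) (Equiv.swap_apply_apply π a b)
      simpa using this
    simpa only [h2] using h1
  mem := fun a b c d hd => h.mem _ _ _ _ (hd.map π)
  fix := fun a b c d hd => h.fix _ _ _ _ (hd.map π)
  gen := fun a b c d e hd => h.gen _ _ _ _ _ (hd.map π)
  dis := fun a b c d e hd => h.dis _ _ _ _ _ (hd.map π)

variable (h : MS M N X)
include h

/-- `x` lies in the three `M_k` with `ab ∈ k`; `c`, `d`, `e` the other indices. -/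
def N2 (N : Fin 5 → Fin 5 → Fin 5 → Fin 5 → AddSubgroup M) (a b c d e : Fin 5) : AddSubgroup M :=
  N a b c d ⊓ N a b c e ⊓ N a b d e

omit h in
theorem mem_N2 {a b c d e : Fin 5} {m : M} :
    m ∈ N2 N a b c d e ↔ (m ∈ N a b c d ∧ m ∈ N a b c e) ∧ m ∈ N a b d e := Iff.rfl

theorem eq_of_add {x y : M} (e : x + y = 0) : x = y := by
  calc x = x + y + y := by rw [add_assoc, h.two, add_zero]
    _ = y := by rw [e, zero_add]

theorem mem2 {a b c d e : Fin 5} (hd : D5 a b c d e) (m : M) : m + X a b m ∈ N2 N a b c d e := by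
  obtain ⟨⟨h1, h2, h3, h4, h5, h6⟩, h7, h8, h9, h10⟩ := hd
  exact ⟨⟨h.mem _ _ _ _ ⟨h1, h2, h3, h4, h5, h6⟩ m, h.mem _ _ _ _ ⟨h1, h2, h7, h4, h8, h9⟩ m⟩,
    h.mem _ _ _ _ ⟨h1, h3, h7, h5, h8, h10⟩ m⟩

/-- the action on a point, with the new labels -/
theorem xN' {a b p q r s p' q' r' s' : Fin 5} (hab : a ≠ b) (hd : D4 p q r s) {m : M} (hm : m ∈ N p q r s)
    (e1 : swap a b p = p') (e2 : swap a b q = q') (e3 : swap a b r = r') (e4 : swap a b s = s') :
    X a b m ∈ N p' q' r' s' := by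
  subst e1 e2 e3 e4
  exact h.xN a b p q r s hab hd m hm

theorem s1 {a b c d : Fin 5} (hd : D4 a b c d) {m : M} (hm : m ∈ N a b c d) : m ∈ N b a c d := by
  rwa [h.sw1 a b c d hd]

theorem s2 {a b c d : Fin 5} (hd : D4 a b c d) {m : M} (hm : m ∈ N a b c d) : m ∈ N c d a b := by
  rwa [h.sw2 a b c d hd]

/-- the kernel of `(01) - 1` on `M_12` -/
theorem inj0 {m : M} (hm : m ∈ N2 N 1 2 0 3 4) (hx : X 0 1 m = m) : m = 0 := by
  obtain ⟨⟨h1, h2⟩, h3⟩ := hm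
  -- `12|03` and `(01)` of `12|04`, i.e. `02|14`
  have h4 : m ∈ N 0 2 1 4 := by
    have := h.xN' (a := 0) (b := 1) (p' := 0) (q' := 2) (r' := 1) (s' := 4) (by decide) (by decide) h2
      (by decide) (by decide) (by decide) (by decide)
    rwa [hx] at this
  refine h.dis 3 0 2 1 4 (by decide) m ?_ h4
  exact h.s1 (by decide) (h.s2 (by decide) (h.s1 (by decide) h1))

/-- `M_{01|23}` : the decomposition together with its origin -/
theorem dec_aux {m : M} (hm : m ∈ N 0 1 2 3) :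
    ∃ α ∈ N 1 4 0 2, m = (X 2 3 α + X 0 1 (X 2 3 α)) + (α + X 2 3 α) := by
  obtain ⟨α, hα, β, hβ, rfl⟩ := h.gen 2 0 4 1 3 (by decide) m
  have e1 : X 2 3 (α + β) = α + β := h.fix 2 3 0 1 (by decide) _ (h.s2 (by decide) hm)
  have e2 : X 0 1 (α + β) = α + β := h.fix 0 1 2 3 (by decide) _ hm
  have e3 : X 0 1 (X 2 3 α) + X 0 1 (X 2 3 β) = α + β := by
    rw [← map_add, ← map_add, e1, e2]
  -- `X α ∈ N_{j'}`, `X β ∈ N_j`
  have hXα : X 0 1 (X 2 3 α) ∈ N 0 4 1 3 := by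
    have a1 := h.xN' (a := 2) (b := 3) (p' := 3) (q' := 0) (r' := 4) (s' := 1) (by decide) (by decide) hα
      (by decide) (by decide) (by decide) (by decide)
    have a2 := h.xN' (a := 0) (b := 1) (p' := 3) (q' := 1) (r' := 4) (s' := 0) (by decide) (by decide) a1
      (by decide) (by decide) (by decide) (by decide)
    exact h.s1 (by decide) (h.s2 (by decide) (h.s1 (by decide) a2))
  have hXβ : X 0 1 (X 2 3 β) ∈ N 2 0 4 1 := by
    have a1 := h.xN' (a := 2) (b := 3) (p' := 0) (q' := 4) (r' := 1) (s' := 2) (by decide) (by decide) hβ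
      (by decide) (by decide) (by decide) (by decide)
    have a2 := h.xN' (a := 0) (b := 1) (p' := 1) (q' := 4) (r' := 0) (s' := 2) (by decide) (by decide) a1
      (by decide) (by decide) (by decide) (by decide)
    exact h.s1 (by decide) (h.s2 (by decide) (h.s1 (by decide) a2))
  have e4 : α + X 0 1 (X 2 3 β) = β + X 0 1 (X 2 3 α) := by
    apply h.eq_of_add
    have t1 := h.two α
    have t2 := h.two β
    calc α + X 0 1 (X 2 3 β) + (β + X 0 1 (X 2 3 α))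
        = (α + β) + (X 0 1 (X 2 3 α) + X 0 1 (X 2 3 β)) := by abel
      _ = (α + α) + (β + β) := by rw [e3]; abel
      _ = 0 := by rw [t1, t2, add_zero]
  have e5 : β + X 0 1 (X 2 3 α) = 0 := by
    refine h.dis 2 0 4 1 3 (by decide) _ ?_ (add_mem hβ hXα)
    rw [← e4]
    exact add_mem hα hXβ
  have e6 : β = X 0 1 (X 2 3 α) := h.eq_of_add e5
  refine ⟨α, h.s1 (by decide) (h.s2 (by decide) (h.s1 (by decide) hα)), ?_⟩
  rw [e6]
  calc α + X 0 1 (X 2 3 α) = α + X 0 1 (X 2 3 α) + (X 2 3 α + X 2 3 α) := by rw [h.two, add_zero]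
    _ = _ := by abel

theorem dec0 {m : M} (hm : m ∈ N 0 1 2 3) : ∃ u ∈ N2 N 0 1 2 3 4, ∃ v ∈ N2 N 2 3 0 1 4, m = u + v := by
  obtain ⟨α, -, e⟩ := h.dec_aux hm
  exact ⟨_, h.mem2 (by decide) _, _, h.mem2 (by decide) _, e⟩

theorem surj0 {m : M} (hm : m ∈ N2 N 0 1 2 3 4) : ∃ α ∈ N2 N 1 4 0 2 3, m = α + X 0 1 α := by
  obtain ⟨α, hα, e⟩ := h.dec_aux hm.1.1
  have hu : X 2 3 α + X 0 1 (X 2 3 α) ∈ N2 N 0 1 2 3 4 := h.mem2 (by decide) _
  have hv : α + X 2 3 α ∈ N2 N 2 3 0 1 4 := h.mem2 (by decide) _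
  have hv' : α + X 2 3 α ∈ N2 N 0 1 2 3 4 := by
    have e1 : α + X 2 3 α = m + (X 2 3 α + X 0 1 (X 2 3 α)) := by
      rw [e]
      calc α + X 2 3 α = α + X 2 3 α + (X 2 3 α + X 2 3 α) + (X 0 1 (X 2 3 α) + X 0 1 (X 2 3 α)) := by
            rw [h.two, h.two, add_zero, add_zero]
        _ = _ := by abel
    rw [e1]
    exact add_mem hm hu
  have h0 : α + X 2 3 α = 0 := by
    refine h.dis 1 0 4 2 3 (by decide) _ (h.s1 (by decide) ?_) ?_
    · -- `01|42`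
      have := hv'.1.2
      exact h.s2 (by decide) (h.s1 (by decide) (h.s2 (by decide) this))
    · have := hv.1.2
      exact h.s2 (by decide) this
  have e1 : X 2 3 α = α := (h.eq_of_add h0).symm
  have m1 : α ∈ N 1 4 0 3 := by
    have := h.xN' (a := 2) (b := 3) (p' := 1) (q' := 4) (r' := 0) (s' := 3) (by decide) (by decide) hα
      (by decide) (by decide) (by decide) (by decide)
    rwa [e1] at this
  have m2 : α ∈ N 1 4 2 3 := by
    have e2 : X 0 2 α = α := h.fix 0 2 1 4 (by decide) _ (h.s2 (by decide) hα)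
    have := h.xN' (a := 0) (b := 2) (p' := 1) (q' := 4) (r' := 2) (s' := 3) (by decide) (by decide) m1
      (by decide) (by decide) (by decide) (by decide)
    rwa [e2] at this
  refine ⟨α, ⟨⟨hα, m1⟩, m2⟩, ?_⟩
  rw [e, e1, h.two, add_zero]

end MS

/-! ### Label-free forms -/

theorem exists_five {a b c d : Fin 5} (h : D4 a b c d) : ∃ e, D5 a b c d e := by
  revert a b c d; decide

theorem exists_five' {a b c : Fin 5} (h1 : a ≠ b) (h2 : a ≠ c) (h3 : b ≠ c) : ∃ d e, D5 a b d e c := by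
  revert a b c; decide

theorem exists_perm {a b c d e : Fin 5} (h : D5 a b c d e) :
    ∃ π : Perm (Fin 5), π 0 = a ∧ π 1 = b ∧ π 2 = c ∧ π 3 = d ∧ π 4 = e := by
  obtain ⟨⟨h1, h2, h3, h4, h5, h6⟩, h7, h8, h9, h10⟩ := h
  have hinj : Function.Injective ![a, b, c, d, e] := by
    intro i j hij
    fin_cases i <;> fin_cases j <;> simp_all
  exact ⟨Equiv.ofBijective _ (Finite.injective_iff_bijective.1 hinj), rfl, rfl, rfl, rfl, rfl⟩

namespace MS

variable {M : Type*} [AddCommGroup M] {N : Fin 5 → Fin 5 → Fin 5 → Fin 5 → AddSubgroup M}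
  {X : Fin 5 → Fin 5 → M →+ M}

/-- `m ∈ M_ab` -/
def In2 (N : Fin 5 → Fin 5 → Fin 5 → Fin 5 → AddSubgroup M) (a b : Fin 5) (m : M) : Prop :=
  ∀ c d, D4 a b c d → m ∈ N a b c d

variable (h : MS M N X)
include h

theorem in2_iff {a b c d e : Fin 5} (hd : D5 a b c d e) {m : M} : In2 N a b m ↔ m ∈ N2 N a b c d e := by
  constructor
  · intro hm
    obtain ⟨⟨h1, h2, h3, h4, h5, h6⟩, h7, h8, h9, h10⟩ := hd
    exact ⟨⟨hm _ _ ⟨h1, h2, h3, h4, h5, h6⟩, hm _ _ ⟨h1, h2, h7, h4, h8, h9⟩⟩,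
      hm _ _ ⟨h1, h3, h7, h5, h8, h10⟩⟩
  · rintro ⟨⟨m1, m2⟩, m3⟩ c' d' hd'
    have sw : ∀ {c d : Fin 5}, D4 a b c d → m ∈ N a b c d → m ∈ N a b d c := by
      intro c d hcd hm
      have h1 : D4 c d a b := by
        obtain ⟨q1, q2, q3, q4, q5, q6⟩ := hcd
        exact ⟨q6, q2.symm, q4.symm, q3.symm, q5.symm, q1⟩
      have h2 : D4 d c a b := by
        obtain ⟨q1, q2, q3, q4, q5, q6⟩ := h1
        exact ⟨q1.symm, q4, q5, q2, q3, q6⟩
      exact h.s2 h2 (h.s1 h1 (h.s2 hcd hm))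
    obtain ⟨π, rfl, rfl, rfl, rfl, rfl⟩ := exists_perm hd
    obtain ⟨x, rfl⟩ := π.surjective c'
    obtain ⟨y, rfl⟩ := π.surjective d'
    have hxy : D4 0 1 x y := by
      have := hd'.map π.symm
      simpa using this
    have key : ∀ x y : Fin 5, D4 0 1 x y → (x = 2 ∧ y = 3) ∨ (x = 3 ∧ y = 2) ∨ (x = 2 ∧ y = 4) ∨
        (x = 4 ∧ y = 2) ∨ (x = 3 ∧ y = 4) ∨ (x = 4 ∧ y = 3) := by decide
    rcases key x y hxy with ⟨rfl, rfl⟩ | ⟨rfl, rfl⟩ | ⟨rfl, rfl⟩ | ⟨rfl, rfl⟩ | ⟨rfl, rfl⟩ | ⟨rfl, rfl⟩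
    · exact m1
    · exact sw ((show D4 0 1 2 3 by decide).map π) m1
    · exact m2
    · exact sw ((show D4 0 1 2 4 by decide).map π) m2
    · exact m3
    · exact sw ((show D4 0 1 3 4 by decide).map π) m3

omit h in
theorem in2_add {a b : Fin 5} {m m' : M} (h1 : In2 N a b m) (h2 : In2 N a b m') : In2 N a b (m + m') :=
  fun c d hd => add_mem (h1 c d hd) (h2 c d hd)

/-- `[M, (ab)] ≤ M_ab` -/
theorem in2_mem {a b : Fin 5} (m : M) : In2 N a b (m + X a b m) := fun c d hd => h.mem a b c d hd m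

/-- **(5.2)**: `(ab)` has no fixed points on `M_bc`. -/
theorem inj {a b c : Fin 5} (hab : a ≠ b) (hac : a ≠ c) (hbc : b ≠ c) {m : M} (hm : In2 N b c m)
    (hx : X a b m = m) : m = 0 := by
  obtain ⟨d, e, hd⟩ := exists_five' hab hac hbc
  have hd' : D5 a b c d e := by
    obtain ⟨⟨h1, h2, h3, h4, h5, h6⟩, h7, h8, h9, h10⟩ := hd
    exact ⟨⟨h1, h7, h2, h8, h4, h9.symm⟩, h3, h5, h10.symm, h6⟩
  obtain ⟨π, rfl, rfl, rfl, rfl, rfl⟩ := exists_perm hd'
  refine (h.relabel π).inj0 ?_ hx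
  refine ⟨⟨hm _ _ ?_, hm _ _ ?_⟩, hm _ _ ?_⟩
  · exact (show D4 1 2 0 3 by decide).map π
  · exact (show D4 1 2 0 4 by decide).map π
  · exact (show D4 1 2 3 4 by decide).map π

/-- **(5.2)**: `M_{ab|cd} = M_ab + M_cd`. -/
theorem dec {a b c d : Fin 5} (hd : D4 a b c d) {m : M} (hm : m ∈ N a b c d) :
    ∃ u v, In2 N a b u ∧ In2 N c d v ∧ m = u + v := by
  obtain ⟨e, he⟩ := exists_five hd
  obtain ⟨π, rfl, rfl, rfl, rfl, rfl⟩ := exists_perm he
  obtain ⟨u, hu, v, hv, e⟩ := (h.relabel π).dec0 hm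
  refine ⟨u, v, (h.in2_iff ((show D5 0 1 2 3 4 by decide).map π)).2 hu,
    (h.in2_iff ((show D5 2 3 0 1 4 by decide).map π)).2 hv, e⟩

/-- **(5.2)**: `M_ab = [M_bc, (ab)]`. -/
theorem surj {a b c : Fin 5} (hab : a ≠ b) (hac : a ≠ c) (hbc : b ≠ c) {m : M} (hm : In2 N a b m) :
    ∃ α, In2 N b c α ∧ m = α + X a b α := by
  obtain ⟨d, e, hd⟩ := exists_five' hab hac hbc
  obtain ⟨π, rfl, rfl, rfl, rfl, rfl⟩ := exists_perm hd
  obtain ⟨α, hα, e⟩ := (h.relabel π).surj0 ((h.in2_iff hd).1 hm)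
  exact ⟨α, (h.in2_iff ((show D5 1 4 0 2 3 by decide).map π)).2 hα, e⟩

/-- If `M ≠ 0`, then `M_ab ≠ 0` for all `a ≠ b`. -/
theorem exists_ne {m : M} (hm : m ≠ 0) : ∃ m', In2 N 3 4 m' ∧ m' ≠ 0 := by
  by_contra hcon
  push Not at hcon
  have step : ∀ a b c : Fin 5, a ≠ b → a ≠ c → b ≠ c → (∀ m', In2 N b c m' → m' = 0) →
      ∀ m', In2 N a b m' → m' = 0 := by
    intro a b c hab hac hbc h0 m' hm'
    obtain ⟨α, hα, rfl⟩ := h.surj hab hac hbc hm'
    rw [h0 α hα, map_zero, add_zero]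
  have z34 : ∀ m', In2 N 3 4 m' → m' = 0 := hcon
  have z23 := step 2 3 4 (by decide) (by decide) (by decide) z34
  have z12 := step 1 2 3 (by decide) (by decide) (by decide) z23
  have z01 := step 0 1 2 (by decide) (by decide) (by decide) z12
  obtain ⟨u, hu, v, hv, rfl⟩ := h.gen 0 1 2 3 4 (by decide) m
  obtain ⟨u1, u2, a1, a2, rfl⟩ := h.dec (by decide) hu
  obtain ⟨v1, v2, b1, b2, rfl⟩ := h.dec (by decide) hv
  apply hm
  rw [z01 _ a1, z23 _ a2, z12 _ b1, z34 _ b2]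
  simp

end MS

end Cfsg.Agent.Omega.NOne.AG.FiveMod
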