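import Cfsg.Agent.Omega.NOne.AG.FiveMk

/-!
# THEOREM D0ag (#15001), section (5): group-level form of (5.2), and (5.3)

`I2 y Qs a b t` : `t` lies in `(Q*_k ∩ T₀) Δ` for all `k ∋ ab`.
`Five.pair` = (5.3): if `w ∈ T₀ - Δ`, `I2 2 3 w`, then `[t₁, w] = y 0 1` for some `t₁ ∈ T₀`.
-/

set_option autoImplicit false
set_option linter.unusedSectionVars false

namespace Cfsg.Agent.Omega.NOne.AG.FiveGrp

open Equiv Subgroup
open Cfsg.Agent.Omega.NOne.AG.FiveMod Cfsg.Agent.Omega.NOne.AG.FiveDl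

universe u

variable {G : Type u} [Group G]

/-- `t ∈ M_ab` (modulo `Δ`) -/
def I2 (y : Fin 5 → Fin 5 → G) (Qs : G → Subgroup G) (a b : Fin 5) (t : G) : Prop :=
  ∀ c d, D4 a b c d → ∃ q ∈ Qs (y a b * y c d), q⁻¹ * t ∈ Dl y

theorem Md.i2 {T0 : Subgroup G} {y : Fin 5 → Fin 5 → G} {Qs : G → Subgroup G} {M : Type u}
    [AddCommGroup M] {mk : T0 → M} {N : Fin 5 → Fin 5 → Fin 5 → Fin 5 → AddSubgroup M}
    {X : Fin 5 → Fin 5 → M →+ M} (hM : Md T0 y Qs mk N X) {a b : Fin 5} {t : T0} :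
    MS.In2 N a b (mk t) ↔ I2 y Qs a b t :=
  ⟨fun H c d hd => (hM.memN a b c d hd t).1 (H c d hd), fun H c d hd => (hM.memN a b c d hd t).2 (H c d hd)⟩

theorem Md.eq_iff {T0 : Subgroup G} {y : Fin 5 → Fin 5 → G} {Qs : G → Subgroup G} {M : Type u}
    [AddCommGroup M] {mk : T0 → M} {N : Fin 5 → Fin 5 → Fin 5 → Fin 5 → AddSubgroup M}
    {X : Fin 5 → Fin 5 → M →+ M} (hM : Md T0 y Qs mk N X) {s t : T0} :
    mk s = mk t ↔ (s : G)⁻¹ * t ∈ Dl y := by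
  have h1 : mk (s⁻¹ * t) = mk s + mk t := by
    have h2 : mk (s⁻¹) = mk s := by
      have h0 : mk s⁻¹ + mk s = 0 := by
        rw [← hM.add, hM.ker, inv_mul_cancel]; exact one_mem _
      have h3 := hM.ms.two (mk s)
      exact add_right_cancel (h0.trans h3.symm)
    rw [hM.add, h2]
  have h2 : mk (s⁻¹ * t) = 0 ↔ (s : G)⁻¹ * t ∈ Dl y := hM.ker _
  rw [← h2, h1]
  constructor
  · rintro e
    rw [e, hM.ms.two]
  · intro e
    exact hM.ms.eq_of_add e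

/-- commutator -/
def cm (s t : G) : G := s * t * s⁻¹ * t⁻¹

theorem cm_eq_one {s t : G} : cm s t = 1 ↔ s * t = t * s := by
  unfold cm
  constructor
  · intro e
    calc s * t = s * t * s⁻¹ * t⁻¹ * (t * s) := by group
      _ = t * s := by rw [e, one_mul]
  · intro e
    rw [e]; group

theorem conj_cm (x s t : G) : x * cm s t * x⁻¹ = cm (x * s * x⁻¹) (x * t * x⁻¹) := by
  unfold cm; group

namespace Five

variable {P T0 : Subgroup G} {y : Fin 5 → Fin 5 → G} {Qs : G → Subgroup G} (h : Five P T0 y Qs)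
include h

theorem cm_mem {s t : G} (hs : s ∈ T0) (ht : t ∈ T0) : cm s t ∈ Dl y := h.comm_T0 hs ht

theorem cm_mul_left {s s' t : G} (hs : s ∈ T0) (hs' : s' ∈ T0) (ht : t ∈ T0) :
    cm (s * s') t = cm s t * cm s' t := by
  have e : cm (s * s') t = s * cm s' t * (t * s⁻¹ * t⁻¹) := by unfold cm; group
  rw [e, h.comm_Dl hs (h.cm_mem hs' ht), h.ys.dl_comm (h.cm_mem hs ht) (h.cm_mem hs' ht)]
  unfold cm; group

theorem cm_mul_right {s t t' : G} (hs : s ∈ T0) (ht : t ∈ T0) (ht' : t' ∈ T0) :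
    cm s (t * t') = cm s t * cm s t' := by
  have e : cm s (t * t') = cm s t * (t * cm s t' * t⁻¹) := by unfold cm; group
  rw [e, h.comm_Dl ht (h.cm_mem hs ht'), mul_inv_cancel_right]

theorem cm_Dl_left {s t : G} (hs : s ∈ Dl y) (ht : t ∈ T0) : cm s t = 1 :=
  cm_eq_one.2 (h.comm_Dl ht hs).symm

theorem cm_Dl_right {s t : G} (hs : s ∈ T0) (ht : t ∈ Dl y) : cm s t = 1 :=
  cm_eq_one.2 (h.comm_Dl hs ht)

/-- `cm` only depends on the classes modulo `Δ` -/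
theorem cm_congr_left {s s' t : G} (hs : s ∈ T0) (ht : t ∈ T0) (e : s⁻¹ * s' ∈ Dl y) :
    cm s' t = cm s t := by
  have e1 : s' = s * (s⁻¹ * s') := by group
  rw [e1, h.cm_mul_left hs (h.Dl_le e) ht, h.cm_Dl_left e ht, mul_one]

theorem cm_congr_right {s t t' : G} (hs : s ∈ T0) (ht : t ∈ T0) (e : t⁻¹ * t' ∈ Dl y) :
    cm s t' = cm s t := by
  have e1 : t' = t * (t⁻¹ * t') := by group
  rw [e1, h.cm_mul_right hs ht (h.Dl_le e), h.cm_Dl_right hs e, mul_one]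

theorem cm_comm {s t : G} (hs : s ∈ T0) (ht : t ∈ T0) : cm t s = cm s t := by
  have e : cm t s * cm s t = 1 := by unfold cm; group
  have e2 := h.ys.dl_sq (h.cm_mem hs ht)
  exact mul_right_cancel (e.trans e2.symm)

/-- `q⁻¹ t ∈ Δ`, `t ∈ T₀` ⟹ `q ∈ T₀` -/
theorem mem_of {q t : G} (ht : t ∈ T0) (e : q⁻¹ * t ∈ Dl y) : q ∈ T0 := by
  have : q = t * (q⁻¹ * t)⁻¹ := by group
  rw [this]
  exact mul_mem ht (inv_mem (h.Dl_le e))

omit h in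
theorem codes_ne : ∀ c d e : Fin 5, d ≠ e → c ≠ d → c ≠ e → Yt c d ≠ Yt c e := by decide

/-- the points `z_k` are different -/
theorem z_ne {a b c d e : Fin 5} (hd : D5 a b c d e) : y a b * y c d ≠ y a b * y c e := by
  intro he
  have h1 : y c d = y c e := mul_left_cancel he
  obtain ⟨⟨g1, g2, g3, g4, g5, g6⟩, g7, g8, g9, g10⟩ := hd
  rw [← h.ys.yt g6, ← h.ys.yt g9] at h1
  exact codes_ne c d e g10 g6 g9 (h.ph_inj (Yt_lt _ _) (Yt_lt _ _) h1)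

/-- `κ(M_ab, M_ab) = 1` -/
theorem i2_comm {a b : Fin 5} (hab : a ≠ b) {s t : G} (hs : s ∈ T0) (ht : t ∈ T0)
    (is : I2 y Qs a b s) (it : I2 y Qs a b t) : cm s t = 1 := by
  obtain ⟨c, d, e, hd⟩ : ∃ c d e, D5 a b c d e := by
    clear is it
    revert a b; decide
  have key : ∀ c d, D4 a b c d → cm s t = 1 ∨ cm s t = y a b * y c d := by
    intro c d hd
    obtain ⟨q, hq, eq⟩ := is c d hd
    obtain ⟨r, hr, er⟩ := it c d hd
    have e1 : cm s t = cm q r := by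
      rw [h.cm_congr_left (h.mem_of hs eq) ht eq, h.cm_congr_right (h.mem_of hs eq) (h.mem_of ht er) er]
    rw [e1]
    exact h.comm a b c d hd q hq r hr
  have hd4 := hd.1
  have hd4' : D4 a b c e := by
    obtain ⟨⟨g1, g2, g3, g4, g5, g6⟩, g7, g8, g9, g10⟩ := hd
    exact ⟨g1, g2, g7, g4, g8, g9⟩
  rcases key c d hd4 with e1 | e1
  · exact e1
  · rcases key c e hd4' with e2 | e2
    · exact e2
    · exact absurd (e1.symm.trans e2) (h.z_ne hd)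

/-- `x` over `(ab)` centralises `M_ab` and `M_cd`, `{a, b} ∩ {c, d} = ∅`. -/
theorem i2_fix {a b c d a' b' : Fin 5} (hd : D4 a b c d) (hd' : D4 a b a' b') {x t : G}
    (hx : x ∈ Qs (y a b * y a' b')) (ox : Ov y x (swap a b)) (ht : t ∈ T0)
    (it : I2 y Qs a b t ∨ I2 y Qs c d t) : x * t * x⁻¹ * t⁻¹ ∈ Dl y := by
  obtain ⟨M, _, mk, N, X, hM⟩ := h.exists_md
  have xP := h.QP _ _ _ _ hd' hx
  have hxt := h.T0_nor x xP t ht
  have e1 := hM.actX a b a' b' hd' x hx ox ⟨t, ht⟩ ⟨x * t * x⁻¹, hxt⟩ rfl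
  have hcd : D4 c d a b := by
    obtain ⟨g1, g2, g3, g4, g5, g6⟩ := hd
    exact ⟨g6, g2.symm, g4.symm, g3.symm, g5.symm, g1⟩
  have hm : mk ⟨t, ht⟩ ∈ N a b c d := by
    rcases it with it | it
    · exact (hM.i2 (t := ⟨t, ht⟩)).2 it c d hd
    · have := (hM.i2 (t := ⟨t, ht⟩)).2 it a b hcd
      rwa [hM.ms.sw2 a b c d hd] at this
  have e2 := hM.ms.fix a b c d hd _ hm
  rw [e2] at e1
  have e3 : (t : G)⁻¹ * (x * t * x⁻¹) ∈ Dl y := hM.eq_iff.1 e1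
  have e4 : x * t * x⁻¹ * t⁻¹ = t * (t⁻¹ * (x * t * x⁻¹)) * t⁻¹ := by group
  rw [e4, h.comm_Dl ht e3, mul_inv_cancel_right]
  exact e3

/-- `[T₀, (ab)] ≤ M_ab` -/
theorem i2_br {a b a' b' : Fin 5} (hd' : D4 a b a' b') {x t : G}
    (hx : x ∈ Qs (y a b * y a' b')) (ox : Ov y x (swap a b)) (ht : t ∈ T0) :
    I2 y Qs a b (x * t * x⁻¹ * t⁻¹) := by
  obtain ⟨M, _, mk, N, X, hM⟩ := h.exists_md
  have xP := h.QP _ _ _ _ hd' hx
  have hxt := h.T0_nor x xP t ht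
  have e1 := hM.actX a b a' b' hd' x hx ox ⟨t, ht⟩ ⟨x * t * x⁻¹, hxt⟩ rfl
  have e2 := hM.ms.in2_mem (a := a) (b := b) (mk ⟨t, ht⟩)
  have hm : x * t * x⁻¹ * t⁻¹ ∈ T0 := mul_mem hxt (inv_mem ht)
  have e3 : mk ⟨x * t * x⁻¹ * t⁻¹, hm⟩ = mk ⟨t, ht⟩ + X a b (mk ⟨t, ht⟩) := by
    rw [e1, add_comm, ← hM.add, hM.eq_iff]
    show (x * t * x⁻¹ * t⁻¹)⁻¹ * (x * t * x⁻¹ * t) ∈ Dl y
    have e4 : (x * t * x⁻¹ * t⁻¹)⁻¹ * (x * t * x⁻¹ * t) = t * t := by group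
    rw [e4, ← hM.ker ⟨t * t, mul_mem ht ht⟩]
    have := hM.ms.two (mk ⟨t, ht⟩)
    rw [← hM.add] at this
    exact this
  rw [← e3] at e2
  exact hM.i2.1 e2

/-- **(5.2)** -/
theorem i2_inj {a b c a' b' : Fin 5} (hab : a ≠ b) (hac : a ≠ c) (hbc : b ≠ c) (hd' : D4 a b a' b') {x t : G}
    (hx : x ∈ Qs (y a b * y a' b')) (ox : Ov y x (swap a b)) (ht : t ∈ T0)
    (it : I2 y Qs b c t) (hxt : x * t * x⁻¹ * t⁻¹ ∈ Dl y) : t ∈ Dl y := by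
  obtain ⟨M, _, mk, N, X, hM⟩ := h.exists_md
  have xP := h.QP _ _ _ _ hd' hx
  have hxt' := h.T0_nor x xP t ht
  have e1 := hM.actX a b a' b' hd' x hx ox ⟨t, ht⟩ ⟨x * t * x⁻¹, hxt'⟩ rfl
  have e2 : mk ⟨x * t * x⁻¹, hxt'⟩ = mk ⟨t, ht⟩ := by
    rw [eq_comm, hM.eq_iff]
    show t⁻¹ * (x * t * x⁻¹) ∈ Dl y
    have e4 : t⁻¹ * (x * t * x⁻¹) = t⁻¹ * (x * t * x⁻¹ * t⁻¹) * t := by group
    rw [e4, mul_assoc, ← h.comm_Dl ht hxt, ← mul_assoc, inv_mul_cancel, one_mul]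
    exact hxt
  rw [e2] at e1
  have := hM.ms.inj hab hac hbc (hM.i2.2 it) e1
  exact (hM.ker ⟨t, ht⟩).1 this

/-- **(5.2)** -/
theorem i2_dec {a b c d : Fin 5} (hd : D4 a b c d) {t q : G} (ht : t ∈ T0)
    (hq : q ∈ Qs (y a b * y c d)) (e : q⁻¹ * t ∈ Dl y) :
    ∃ u ∈ T0, ∃ v ∈ T0, I2 y Qs a b u ∧ I2 y Qs c d v ∧ (u * v)⁻¹ * t ∈ Dl y := by
  obtain ⟨M, _, mk, N, X, hM⟩ := h.exists_md
  have hm : mk ⟨t, ht⟩ ∈ N a b c d := (hM.memN a b c d hd _).2 ⟨q, hq, e⟩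
  obtain ⟨u, v, hu, hv, e1⟩ := hM.ms.dec hd hm
  obtain ⟨⟨u, hu0⟩, rfl⟩ := hM.sur u
  obtain ⟨⟨v, hv0⟩, rfl⟩ := hM.sur v
  refine ⟨u, hu0, v, hv0, hM.i2.1 hu, hM.i2.1 hv, ?_⟩
  rw [← hM.add] at e1
  exact hM.eq_iff.1 e1.symm

/-- **(5.2)** -/
theorem i2_surj {a b c a' b' : Fin 5} (hab : a ≠ b) (hac : a ≠ c) (hbc : b ≠ c) (hd' : D4 a b a' b') {x t : G}
    (hx : x ∈ Qs (y a b * y a' b')) (ox : Ov y x (swap a b)) (ht : t ∈ T0)
    (it : I2 y Qs a b t) : ∃ s ∈ T0, I2 y Qs b c s ∧ (x * s * x⁻¹ * s⁻¹)⁻¹ * t ∈ Dl y := by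
  obtain ⟨M, _, mk, N, X, hM⟩ := h.exists_md
  have xP := h.QP _ _ _ _ hd' hx
  obtain ⟨α, hα, e⟩ := hM.ms.surj hab hac hbc ((hM.i2 (t := ⟨t, ht⟩)).2 it)
  obtain ⟨⟨s, hs⟩, rfl⟩ := hM.sur α
  refine ⟨s, hs, hM.i2.1 hα, ?_⟩
  have hxs := h.T0_nor x xP s hs
  have e1 := hM.actX a b a' b' hd' x hx ox ⟨s, hs⟩ ⟨x * s * x⁻¹, hxs⟩ rfl
  have e3 : mk ⟨x * s * x⁻¹ * s⁻¹, mul_mem hxs (inv_mem hs)⟩ = mk ⟨s, hs⟩ + X a b (mk ⟨s, hs⟩) := by
    rw [e1, add_comm, ← hM.add, hM.eq_iff]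
    show (x * s * x⁻¹ * s⁻¹)⁻¹ * (x * s * x⁻¹ * s) ∈ Dl y
    have e4 : (x * s * x⁻¹ * s⁻¹)⁻¹ * (x * s * x⁻¹ * s) = s * s := by group
    rw [e4, ← hM.ker ⟨s * s, mul_mem hs hs⟩]
    have := hM.ms.two (mk ⟨s, hs⟩)
    rw [← hM.add] at this
    exact this
  have e5 : mk ⟨x * s * x⁻¹ * s⁻¹, mul_mem hxs (inv_mem hs)⟩ = mk ⟨t, ht⟩ := e3.trans e.symm
  exact hM.eq_iff.1 e5

/-- if `T₀ > Δ`, then `M_34 ≠ 1` -/
theorem i2_exists (hne : ¬ T0 ≤ Dl y) : ∃ t ∈ T0, I2 y Qs 3 4 t ∧ t ∉ Dl y := by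
  obtain ⟨M, _, mk, N, X, hM⟩ := h.exists_md
  obtain ⟨t, ht, nt⟩ := SetLike.not_le_iff_exists.1 hne
  have h1 : mk ⟨t, ht⟩ ≠ 0 := fun e => nt ((hM.ker ⟨t, ht⟩).1 e)
  obtain ⟨m, hm, hm0⟩ := hM.ms.exists_ne h1
  obtain ⟨⟨s, hs⟩, rfl⟩ := hM.sur m
  exact ⟨s, hs, hM.i2.1 hm, fun e => hm0 ((hM.ker ⟨s, hs⟩).2 e)⟩

omit h in
theorem i2_symm {a b : Fin 5} (hs : ∀ a b, y a b = y b a) {t : G} (it : I2 y Qs a b t) : I2 y Qs b a t := by
  intro c d hd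
  have hd' : D4 a b c d := by
    obtain ⟨g1, g2, g3, g4, g5, g6⟩ := hd
    exact ⟨g1.symm, g4, g5, g2, g3, g6⟩
  obtain ⟨q, hq, e⟩ := it c d hd'
  exact ⟨q, by rwa [hs b a], e⟩

omit h in
theorem codes_fix : ∀ w < 32, ac (swap 2 3) w = w → ac (swap 3 4) w = w → ac (swap 0 1) w = w →
    w = 0 ∨ w = Yt 0 1 := by decide

omit h in
theorem ac_lt : ∀ (σ : Perm (Fin 5)) (w : ℕ), ac σ w < 32 := by
  intro σ w
  have key : ∀ (b : Bool) (i j : Fin 5), (bif b then Yt i j else 0) < 32 := by decide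
  exact Nat.xor_lt_two_pow (n := 5) (Nat.xor_lt_two_pow (n := 5) (Nat.xor_lt_two_pow (n := 5)
    (Nat.xor_lt_two_pow (n := 5) (key _ _ _) (key _ _ _)) (key _ _ _)) (key _ _ _)) (key _ _ _)

/-- an element of `Δ` commuting with `x` has a code fixed by `x` -/
theorem code_fix {x : G} {σ : Perm (Fin 5)} (ox : Ov y x σ) {w : ℕ} (hw : w < 32)
    (e : x * ph y w * x⁻¹ = ph y w) : ac σ w = w := by
  rw [h.ys.conj ox] at e
  exact h.ph_inj (ac_lt _ _) hw e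

/-- **(5.3)** -/
theorem pair {w : G} (hw : w ∈ T0) (iw : I2 y Qs 2 3 w) (nw : w ∉ Dl y) :
    ∃ t ∈ T0, t * w * t⁻¹ * w⁻¹ = y 0 1 := by
  -- a partner of `w` in `Q*_{23|04}`
  obtain ⟨q, hq, eq⟩ := iw 0 4 (by decide)
  have hq0 := h.mem_of hw eq
  have nq : q ∉ Dl y := by
    intro hqd
    apply nw
    have : w = q * (q⁻¹ * w) := by group
    rw [this]
    exact mul_mem hqd eq
  have hu : ∃ u ∈ Qs (y 2 3 * y 0 4), u ∈ T0 ∧ q * u ≠ u * q := by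
    by_contra hcon
    push Not at hcon
    exact nq (h.nd 2 3 0 4 (by decide) q hq hq0 (fun u' hu' hu0' => hcon u' hu' hu0'))
  obtain ⟨u, hu, hu0, hne⟩ := hu
  have c1 : cm w u ≠ 1 := by
    rw [h.cm_congr_left hq0 hu0 eq]
    exact fun e => hne (cm_eq_one.1 e)
  obtain ⟨s1, hs1, s2, hs2, is1, is2, e12⟩ := h.i2_dec (a := 2) (b := 3) (c := 0) (d := 4) (by decide) hu0 hu
    (by rw [inv_mul_cancel]; exact one_mem _)
  have c2 : cm w s2 ≠ 1 := by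
    intro e
    apply c1
    rw [h.cm_congr_right hw (mul_mem hs1 hs2) e12, h.cm_mul_right hw hs1 hs2,
      h.i2_comm (by decide) hw hs1 iw is1, e, one_mul]
  -- `s2 = [t', (04)]`
  obtain ⟨x, hx, ox⟩ := h.ex 0 4 2 3 (by decide)
  have xP := h.QP 0 4 2 3 (by decide) hx
  obtain ⟨t, ht, it, et⟩ := h.i2_surj (a := 0) (b := 4) (c := 3) (by decide) (by decide) (by decide)
    (by decide) hx ox hs2 is2
  have it' : I2 y Qs 3 4 t := i2_symm h.ys.sym it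
  have c3 : cm w t ≠ 1 := by
    intro e
    apply c2
    have hxt := h.T0_nor x xP t ht
    rw [h.cm_congr_right hw (mul_mem hxt (inv_mem ht)) et, h.cm_mul_right hw hxt (inv_mem ht)]
    have e1 : cm w t⁻¹ = 1 := by
      rw [cm_eq_one] at e ⊢
      have : Commute w t := e
      exact this.inv_right.eq
    have hxw := h.T0_nor x xP w hw
    have e2 : cm (x * w * x⁻¹) (x * t * x⁻¹) = 1 := by
      rw [← conj_cm, e]; group
    have e3 : x * w * x⁻¹ * w⁻¹ ∈ Dl y :=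
      h.i2_fix (a := 0) (b := 4) (c := 2) (d := 3) (by decide) (by decide) hx ox hw (Or.inr iw)
    have e4 : w⁻¹ * (x * w * x⁻¹) ∈ Dl y := by
      have e5 : w⁻¹ * (x * w * x⁻¹) = w⁻¹ * (x * w * x⁻¹ * w⁻¹) * w := by group
      rw [e5, mul_assoc, ← h.comm_Dl hw e3, ← mul_assoc, inv_mul_cancel, one_mul]
      exact e3
    rw [h.cm_congr_left hw hxt e4] at e2
    rw [e1, e2, one_mul]
  -- the value
  obtain ⟨k, hk, ek⟩ := h.ys.mem_iff.1 (h.cm_mem hw ht)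
  have gen : ∀ {x : G}, x ∈ P → cm (x * w * x⁻¹) (x * t * x⁻¹) = cm w t → x * ph y k * x⁻¹ = ph y k := by
    intro x _ e
    rw [ek, conj_cm, e]
  have fixl : ∀ {x s : G}, s ∈ T0 → x * s * x⁻¹ * s⁻¹ ∈ Dl y → s⁻¹ * (x * s * x⁻¹) ∈ Dl y := by
    intro x s hs e
    have e5 : s⁻¹ * (x * s * x⁻¹) = s⁻¹ * (x * s * x⁻¹ * s⁻¹) * s := by group
    rw [e5, mul_assoc, ← h.comm_Dl hs e, ← mul_assoc, inv_mul_cancel, one_mul]
    exact e
  have f23 : ac (swap 2 3) k = k := by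
    obtain ⟨x, hx, ox⟩ := h.ex 2 3 0 1 (by decide)
    have xP := h.QP 2 3 0 1 (by decide) hx
    refine h.code_fix ox hk (gen xP ?_)
    have hxw := h.T0_nor x xP w hw
    have hxt := h.T0_nor x xP t ht
    have e1 := fixl hw (h.i2_fix (a := 2) (b := 3) (c := 0) (d := 1) (by decide) (by decide) hx ox hw
      (Or.inl iw))
    rw [h.cm_congr_left hw hxt e1]
    have e2 := h.i2_br (a := 2) (b := 3) (a' := 0) (b' := 1) (by decide) hx ox ht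
    have e3 : x * t * x⁻¹ = (x * t * x⁻¹ * t⁻¹) * t := by group
    rw [e3, h.cm_mul_right hw (mul_mem hxt (inv_mem ht)) ht,
      h.i2_comm (by decide) hw (mul_mem hxt (inv_mem ht)) iw e2, one_mul]
  have f34 : ac (swap 3 4) k = k := by
    obtain ⟨x, hx, ox⟩ := h.ex 3 4 0 1 (by decide)
    have xP := h.QP 3 4 0 1 (by decide) hx
    refine h.code_fix ox hk (gen xP ?_)
    have hxw := h.T0_nor x xP w hw
    have hxt := h.T0_nor x xP t ht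
    have e1 := fixl ht (h.i2_fix (a := 3) (b := 4) (c := 0) (d := 1) (by decide) (by decide) hx ox ht
      (Or.inl it'))
    rw [h.cm_congr_right hxw ht e1]
    have e2 := h.i2_br (a := 3) (b := 4) (a' := 0) (b' := 1) (by decide) hx ox hw
    have e3 : x * w * x⁻¹ = (x * w * x⁻¹ * w⁻¹) * w := by group
    rw [e3, h.cm_mul_left (mul_mem hxw (inv_mem hw)) hw ht,
      h.i2_comm (by decide) (mul_mem hxw (inv_mem hw)) ht e2 it', one_mul]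
  have f01 : ac (swap 0 1) k = k := by
    obtain ⟨x, hx, ox⟩ := h.ex 0 1 2 3 (by decide)
    have xP := h.QP 0 1 2 3 (by decide) hx
    refine h.code_fix ox hk (gen xP ?_)
    have hxw := h.T0_nor x xP w hw
    have hxt := h.T0_nor x xP t ht
    have e1 := fixl ht (h.i2_fix (a := 0) (b := 1) (c := 3) (d := 4) (by decide) (by decide) hx ox ht
      (Or.inr it'))
    have e2 := fixl hw (h.i2_fix (a := 0) (b := 1) (c := 2) (d := 3) (by decide) (by decide) hx ox hw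
      (Or.inr iw))
    rw [h.cm_congr_right hxw ht e1, h.cm_congr_left hw ht e2]
  rcases codes_fix k hk f23 f34 f01 with rfl | rfl
  · exact absurd (by rw [← ek, ph_zero]) c3
  · refine ⟨t, ht, ?_⟩
    show cm t w = _
    rw [h.cm_comm hw ht, ← ek, h.ys.yt (by decide)]

end Five

end Cfsg.Agent.Omega.NOne.AG.FiveGrp
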