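import Cfsg.Agent.Omega.NOne.AG.FourMach

/-!
# NO-1, type (γ), `|V/E| = 4` (text #14731 (3)): the core contradiction

`C ≥ B, Y`, `z` central in `C`, `B`, `Y` normal in `C`, an element of `B` acting trivially on `Y/⟨z⟩` lies in
the 2-group `Q ≤ C(Y)`; `v₁, v₂ ∈ B` induce transvections with centre `c⟨z⟩` on `Y/⟨z⟩`, `|[Y, v_i]| = 2`,
`z ∈ [Y, v₁v₂]`.  Then `v₁v₂` inverts no element `≠ 1` of odd order of `C`.
-/

set_option autoImplicit false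
set_option linter.unusedSectionVars false
set_option linter.unusedVariables false

namespace Cfsg.Agent.Omega.NOne.AG.FourCore

open Subgroup
open Cfsg.Agent.Omega.NOne.PlusVec (pw)

universe u

variable {G : Type u} [Group G]

/-- conjugation by `u` on `Y` -/
def cjY (Y : Subgroup G) (u : G) (hu : ∀ y ∈ Y, u * y * u⁻¹ ∈ Y) : Y →* Y where
  toFun y := ⟨u * y * u⁻¹, hu y y.2⟩
  map_one' := Subtype.ext (by simp)
  map_mul' a b := Subtype.ext (by simp [mul_assoc])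

theorem coe_pw {Y : Subgroup G} (x : Y) (b : Bool) : ((pw x b : Y) : G) = pw (x : G) b := by
  cases b <;> rfl

theorem pw_mem {H : Subgroup G} {x : G} (hx : x ∈ H) (b : Bool) : pw x b ∈ H := by
  cases b
  · exact one_mem _
  · exact hx

/-- the data of the machine in `G` -/
structure Mach (Y : Subgroup G) (c e z u w : G) (m n : Bool) : Prop where
  Yab : ∀ a ∈ Y, ∀ b ∈ Y, a * b = b * a
  cY : c ∈ Y
  eY : e ∈ Y
  zY : z ∈ Y
  cc : c * c = 1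
  ee : e * e = 1
  zz : z * z = 1
  nu : ∀ y ∈ Y, u * y * u⁻¹ ∈ Y
  nw : ∀ y ∈ Y, w * y * w⁻¹ ∈ Y
  uc : u * c * u⁻¹ = c
  uz : u * z * u⁻¹ = z
  we : w * e * w⁻¹ = e
  wz : w * z * w⁻¹ = z
  ue : ∃ s, u * e * u⁻¹ = e * pw c m * pw z s
  wc : ∃ s, w * c * w⁻¹ = c * pw e n * pw z s
  uy : ∀ y ∈ Y, ∃ A s, u * y * u⁻¹ = y * pw c A * pw z s
  wy : ∀ y ∈ Y, ∃ B s, w * y * w⁻¹ = y * pw e B * pw z s

section

variable {Y : Subgroup G} {c e z u w : G} {m n : Bool} (h : Mach Y c e z u w m n)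
include h

theorem Mach.four (hmn : m = false ∨ n = false) {y : G} (hy : y ∈ Y) :
    ∃ s, (u * w * u * w * u * w * u * w) * y * (u * w * u * w * u * w * u * w)⁻¹ = y * pw z s := by
  let inst : CommGroup Y := { (inferInstance : Group Y) with
    mul_comm := fun a b => Subtype.ext (h.Yab a a.2 b b.2) }
  obtain ⟨s1, h1⟩ := h.ue
  obtain ⟨s2, h2⟩ := h.wc
  obtain ⟨A, s3, h3⟩ := h.uy y hy
  obtain ⟨B, s4, h4⟩ := h.wy y hy
  obtain ⟨s, hs⟩ := FourMach.four (Y := Y) (c := ⟨c, h.cY⟩) (e := ⟨e, h.eY⟩) (z := ⟨z, h.zY⟩)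
    (f := cjY Y u h.nu) (g := cjY Y w h.nw) (y := ⟨y, hy⟩) (m := m) (n := n) (A := A) (B := B)
    (Subtype.ext h.cc) (Subtype.ext h.ee) (Subtype.ext h.zz) (Subtype.ext h.uc) (Subtype.ext h.uz)
    (Subtype.ext h.we) (Subtype.ext h.wz)
    ⟨s1, Subtype.ext (by rw [coe_mul, coe_mul, coe_pw, coe_pw]; exact h1)⟩
    ⟨s2, Subtype.ext (by rw [coe_mul, coe_mul, coe_pw, coe_pw]; exact h2)⟩
    ⟨s3, Subtype.ext (by rw [coe_mul, coe_mul, coe_pw, coe_pw]; exact h3)⟩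
    ⟨s4, Subtype.ext (by rw [coe_mul, coe_mul, coe_pw, coe_pw]; exact h4)⟩ hmn
  refine ⟨s, ?_⟩
  have h5 := congrArg Subtype.val hs
  rw [coe_mul, coe_pw] at h5
  have h6 : u * (w * (u * (w * (u * (w * (u * (w * y * w⁻¹) * u⁻¹) * w⁻¹) * u⁻¹) * w⁻¹) * u⁻¹) * w⁻¹) * u⁻¹ =
      y * pw z s := h5
  rw [← h6]
  group

theorem Mach.braid (hm : m = true) (hn : n = true) {y : G} (hy : y ∈ Y) :
    ∃ s, (u * w * u * w * u * w) * y * (u * w * u * w * u * w)⁻¹ = y * pw z s := by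
  let inst : CommGroup Y := { (inferInstance : Group Y) with
    mul_comm := fun a b => Subtype.ext (h.Yab a a.2 b b.2) }
  obtain ⟨s1, h1⟩ := h.ue
  obtain ⟨s2, h2⟩ := h.wc
  obtain ⟨A, s3, h3⟩ := h.uy y hy
  obtain ⟨B, s4, h4⟩ := h.wy y hy
  obtain ⟨s, hs⟩ := FourMach.braid (Y := Y) (c := ⟨c, h.cY⟩) (e := ⟨e, h.eY⟩) (z := ⟨z, h.zY⟩)
    (f := cjY Y u h.nu) (g := cjY Y w h.nw) (y := ⟨y, hy⟩) (m := m) (n := n) (A := A) (B := B)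
    (Subtype.ext h.cc) (Subtype.ext h.ee) (Subtype.ext h.zz) (Subtype.ext h.uc) (Subtype.ext h.uz)
    (Subtype.ext h.we) (Subtype.ext h.wz)
    ⟨s1, Subtype.ext (by rw [coe_mul, coe_mul, coe_pw, coe_pw]; exact h1)⟩
    ⟨s2, Subtype.ext (by rw [coe_mul, coe_mul, coe_pw, coe_pw]; exact h2)⟩
    ⟨s3, Subtype.ext (by rw [coe_mul, coe_mul, coe_pw, coe_pw]; exact h3)⟩
    ⟨s4, Subtype.ext (by rw [coe_mul, coe_mul, coe_pw, coe_pw]; exact h4)⟩ hm hn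
  refine ⟨s, ?_⟩
  have h5 := congrArg Subtype.val hs
  rw [coe_mul, coe_pw] at h5
  have h6 : u * (w * (u * (w * (u * (w * y * w⁻¹) * u⁻¹) * w⁻¹) * u⁻¹) * w⁻¹) * u⁻¹ =
      y * pw z s := h5
  rw [← h6]
  group

end

/-- the configuration of (3) -/
structure Con (C B Y Q : Subgroup G) (z c v1 v2 : G) : Prop where
  Q2 : IsPGroup 2 Q
  Yab : ∀ a ∈ Y, ∀ b ∈ Y, a * b = b * a
  YQ : ∀ a ∈ Y, ∀ b ∈ Q, b * a = a * b
  zY : z ∈ Y
  cY : c ∈ Y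
  zz : z * z = 1
  cc : c * c = 1
  z1 : z ≠ 1
  c1 : c ≠ 1
  cz : c ≠ z
  BC : B ≤ C
  nB : ∀ g ∈ C, ∀ x ∈ B, g * x * g⁻¹ ∈ B
  nY : ∀ g ∈ C, ∀ y ∈ Y, g * y * g⁻¹ ∈ Y
  zC : ∀ g ∈ C, g * z * g⁻¹ = z
  hK : ∀ x ∈ B, (∀ y ∈ Y, ∃ s, x * y * x⁻¹ = y * pw z s) → x ∈ Q
  v1B : v1 ∈ B
  v2B : v2 ∈ B
  v11 : v1 * v1 = 1
  v22 : v2 * v2 = 1
  v12 : v1 * v2 = v2 * v1
  e1 : v1 * c * v1⁻¹ = c
  e2 : v2 * c * v2⁻¹ = c
  a1 : ∀ y ∈ Y, ∃ b, v1 * y * v1⁻¹ = y * pw (c * z) b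
  a2 : ∀ y ∈ Y, ∃ b, v2 * y * v2⁻¹ = y * pw c b
  y0 : ∃ y ∈ Y, (v1 * v2) * y * (v1 * v2)⁻¹ = y * z

namespace Con

variable {C B Y Q : Subgroup G} {z c v1 v2 : G} (h : Con C B Y Q z c v1 v2)
include h

theorem pw_cz (b : Bool) : pw (c * z) b = pw c b * pw z b := by
  cases b <;> simp [pw]

theorem pw_mul (b b' : Bool) : pw c b * pw c b' = pw c (b ^^ b') := by
  cases b <;> cases b' <;> simp [pw, h.cc]

/-- the action of `w = v₁ v₂` -/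
theorem aw {y : G} (hy : y ∈ Y) {b1 b2 : Bool} (h1 : v1 * y * v1⁻¹ = y * pw (c * z) b1)
    (h2 : v2 * y * v2⁻¹ = y * pw c b2) :
    (v1 * v2) * y * (v1 * v2)⁻¹ = y * pw c (b1 ^^ b2) * pw z b1 := by
  have e : v1 * pw c b2 * v1⁻¹ = pw c b2 := by
    cases b2
    · simp [pw]
    · simpa [pw] using h.e1
  calc (v1 * v2) * y * (v1 * v2)⁻¹ = v1 * (v2 * y * v2⁻¹) * v1⁻¹ := by group
    _ = (v1 * y * v1⁻¹) * (v1 * pw c b2 * v1⁻¹) := by rw [h2]; group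
    _ = y * (pw c b1 * pw z b1) * pw c b2 := by rw [h1, e, h.pw_cz]
    _ = y * pw c b1 * (pw z b1 * pw c b2) := by group
    _ = y * pw c b1 * (pw c b2 * pw z b1) := by
        rw [h.Yab _ (pw_mem h.zY b1) _ (pw_mem h.cY b2)]
    _ = y * (pw c b1 * pw c b2) * pw z b1 := by group
    _ = _ := by rw [h.pw_mul]

theorem aw' {y : G} (hy : y ∈ Y) : ∃ b s, (v1 * v2) * y * (v1 * v2)⁻¹ = y * pw c b * pw z s := by
  obtain ⟨b1, h1⟩ := h.a1 y hy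
  obtain ⟨b2, h2⟩ := h.a2 y hy
  exact ⟨_, _, h.aw hy h1 h2⟩

theorem wB : v1 * v2 ∈ B := mul_mem h.v1B h.v2B

/-- the action of `w' = d w d⁻¹` -/
theorem aw_conj {d : G} (hd : d ∈ C) {y : G} (hy : y ∈ Y) {b s : Bool}
    (hb : (v1 * v2) * (d⁻¹ * y * d) * (v1 * v2)⁻¹ = (d⁻¹ * y * d) * pw c b * pw z s) :
    (d * (v1 * v2) * d⁻¹) * y * (d * (v1 * v2) * d⁻¹)⁻¹ = y * pw (d * c * d⁻¹) b * pw z s := by
  have e1 : d * pw c b * d⁻¹ = pw (d * c * d⁻¹) b := PlusVec.conj_pw d c b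
  have e2 : d * pw z s * d⁻¹ = pw z s := by rw [PlusVec.conj_pw, h.zC d hd]
  calc (d * (v1 * v2) * d⁻¹) * y * (d * (v1 * v2) * d⁻¹)⁻¹ =
      d * ((v1 * v2) * (d⁻¹ * y * d) * (v1 * v2)⁻¹) * d⁻¹ := by group
    _ = y * (d * pw c b * d⁻¹) * (d * pw z s * d⁻¹) := by rw [hb]; group
    _ = _ := by rw [e1, e2]

/-- the machine for `u ∈ B` -/
theorem mach {d : G} (hd : d ∈ C) {u : G} (hu : u ∈ B) (uc : u * c * u⁻¹ = c) {m n s s' : Bool}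
    (ue : u * (d * c * d⁻¹) * u⁻¹ = (d * c * d⁻¹) * pw c m * pw z s)
    (uy : ∀ y ∈ Y, ∃ A s, u * y * u⁻¹ = y * pw c A * pw z s)
    (wc : (v1 * v2) * (d⁻¹ * c * d) * (v1 * v2)⁻¹ = (d⁻¹ * c * d) * pw c n * pw z s') :
    Mach Y c (d * c * d⁻¹) z u (d * (v1 * v2) * d⁻¹) m n where
  Yab := h.Yab
  cY := h.cY
  eY := h.nY d hd c h.cY
  zY := h.zY
  cc := h.cc
  ee := by
    calc d * c * d⁻¹ * (d * c * d⁻¹) = d * (c * c) * d⁻¹ := by group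
      _ = 1 := by rw [h.cc]; group
  zz := h.zz
  nu := h.nY u (h.BC hu)
  nw := h.nY _ (C.mul_mem (C.mul_mem hd (h.BC h.wB)) (C.inv_mem hd))
  uc := uc
  uz := h.zC u (h.BC hu)
  we := by
    have e : (v1 * v2) * c * (v1 * v2)⁻¹ = c := by
      calc (v1 * v2) * c * (v1 * v2)⁻¹ = v1 * (v2 * c * v2⁻¹) * v1⁻¹ := by group
        _ = c := by rw [h.e2, h.e1]
    calc d * (v1 * v2) * d⁻¹ * (d * c * d⁻¹) * (d * (v1 * v2) * d⁻¹)⁻¹ =
        d * ((v1 * v2) * c * (v1 * v2)⁻¹) * d⁻¹ := by group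
      _ = _ := by rw [e]
  wz := h.zC _ (C.mul_mem (C.mul_mem hd (h.BC h.wB)) (C.inv_mem hd))
  ue := ⟨s, ue⟩
  wc := ⟨s', h.aw_conj hd h.cY wc⟩
  uy := uy
  wy y hy := by
    have hy' : d⁻¹ * y * d ∈ Y := by
      have := h.nY d⁻¹ (C.inv_mem hd) y hy
      rwa [inv_inv] at this
    obtain ⟨b, s, hb⟩ := h.aw' hy'
    exact ⟨b, s, h.aw_conj hd hy hb⟩

/-- the final contradiction -/
theorem fin {d : G} (hd : d ∈ C) {v k : G} (hv : v ∈ B) (vv : v * v = 1) (kz : k ≠ z)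
    (ak : ∀ y ∈ Y, ∃ b, v * y * v⁻¹ = y * pw k b)
    (hx : ∀ y ∈ Y, ∃ s, (v * (d * (v1 * v2) * d⁻¹) * v * (d * (v1 * v2) * d⁻¹) * v *
      (d * (v1 * v2) * d⁻¹)) * y * (v * (d * (v1 * v2) * d⁻¹) * v * (d * (v1 * v2) * d⁻¹) * v *
      (d * (v1 * v2) * d⁻¹))⁻¹ = y * pw z s) : False := by
  set w' := d * (v1 * v2) * d⁻¹ with hw'
  have hw'B : w' ∈ B := h.nB d hd _ h.wB
  have hww : w' * w' = 1 := by
    calc w' * w' = d * ((v1 * v2) * (v1 * v2)) * d⁻¹ := by rw [hw']; group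
      _ = d * ((v1 * v2) * (v2 * v1)) * d⁻¹ := by rw [h.v12]
      _ = d * (v1 * (v2 * v2) * v1) * d⁻¹ := by group
      _ = d * (v1 * v1) * d⁻¹ := by rw [h.v22]; group
      _ = 1 := by rw [h.v11]; group
  have hwi : w'⁻¹ = w' := inv_eq_of_mul_eq_one_left hww
  have hvi : v⁻¹ = v := inv_eq_of_mul_eq_one_left vv
  set x := v * w' * v * w' * v * w' with hxdef
  have hxB : x ∈ B := by
    rw [hxdef]
    exact mul_mem (mul_mem (mul_mem (mul_mem (mul_mem hv hw'B) hv) hw'B) hv) hw'B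
  have hxQ : x ∈ Q := h.hK x hxB hx
  obtain ⟨y0, hy0, hz0⟩ := h.y0
  -- `y1 = d y0 d⁻¹`
  have hy1 : d * y0 * d⁻¹ ∈ Y := h.nY d hd y0 hy0
  have hw1 : w' * (d * y0 * d⁻¹) * w'⁻¹ = (d * y0 * d⁻¹) * z := by
    calc w' * (d * y0 * d⁻¹) * w'⁻¹ = d * ((v1 * v2) * y0 * (v1 * v2)⁻¹) * d⁻¹ := by rw [hw']; group
      _ = (d * y0 * d⁻¹) * (d * z * d⁻¹) := by rw [hz0]; group
      _ = _ := by rw [h.zC d hd]
  have hg : v * w' ∈ C := C.mul_mem (h.BC hv) (h.BC hw'B)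
  have hgv : (v * w') * v * (v * w')⁻¹ = x * w' := by
    rw [hxdef, mul_inv_rev, hwi, hvi]
    calc v * w' * v * (w' * v) = v * w' * v * w' * v * 1 := by group
      _ = v * w' * v * w' * v * (w' * w') := by rw [hww]
      _ = _ := by group
  have hy2 : (v * w')⁻¹ * (d * y0 * d⁻¹) * (v * w') ∈ Y := by
    have := h.nY _ (C.inv_mem hg) _ hy1
    rwa [inv_inv] at this
  have h1z : (d * y0 * d⁻¹) * z ∈ Y := mul_mem hy1 h.zY
  have h3 : v * ((v * w')⁻¹ * (d * y0 * d⁻¹) * (v * w')) * v⁻¹ =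
      ((v * w')⁻¹ * (d * y0 * d⁻¹) * (v * w')) * z := by
    calc v * ((v * w')⁻¹ * (d * y0 * d⁻¹) * (v * w')) * v⁻¹ =
        (v * w')⁻¹ * (((v * w') * v * (v * w')⁻¹) * (d * y0 * d⁻¹) * ((v * w') * v * (v * w')⁻¹)⁻¹) *
          (v * w') := by group
      _ = (v * w')⁻¹ * (x * (w' * (d * y0 * d⁻¹) * w'⁻¹) * x⁻¹) * (v * w') := by rw [hgv]; group
      _ = (v * w')⁻¹ * ((d * y0 * d⁻¹) * z) * (v * w') := by
          rw [hw1, h.YQ _ h1z x hxQ]; group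
      _ = ((v * w')⁻¹ * (d * y0 * d⁻¹) * (v * w')) * ((v * w')⁻¹ * z * (v * w')) := by group
      _ = _ := by
          have := h.zC _ (C.inv_mem hg)
          rw [inv_inv] at this
          rw [this]
  obtain ⟨b, hb⟩ := ak _ hy2
  rw [hb] at h3
  have h4 : pw k b = z := mul_left_cancel h3
  cases b
  · exact h.z1 h4.symm
  · exact kz h4

/-- **`v₁ v₂` inverts no element of odd order.** -/
theorem false_of_inverts [Finite G] {d : G} (hd : d ∈ C) (d1 : d ≠ 1) (hodd : Odd (orderOf d))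
    (hinv : (v1 * v2) * d * (v1 * v2)⁻¹ = d⁻¹) : False := by
  have heY : d * c * d⁻¹ ∈ Y := h.nY d hd c h.cY
  have hcY : d⁻¹ * c * d ∈ Y := by
    have := h.nY d⁻¹ (C.inv_mem hd) c h.cY
    rwa [inv_inv] at this
  obtain ⟨b1, h1⟩ := h.a1 _ heY
  obtain ⟨b2, h2⟩ := h.a2 _ heY
  obtain ⟨n, s', h3⟩ := h.aw' hcY
  have hww : (v1 * v2) * (v1 * v2) = 1 := by
    calc (v1 * v2) * (v1 * v2) = (v1 * v2) * (v2 * v1) := by rw [h.v12]
      _ = v1 * (v2 * v2) * v1 := by group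
      _ = 1 := by rw [h.v22, mul_one, h.v11]
  have hwi : (v1 * v2)⁻¹ = v1 * v2 := inv_eq_of_mul_eq_one_left hww
  have hwc : (v1 * v2) * c * (v1 * v2)⁻¹ = c := by
    calc (v1 * v2) * c * (v1 * v2)⁻¹ = v1 * (v2 * c * v2⁻¹) * v1⁻¹ := by group
      _ = c := by rw [h.e2, h.e1]
  have hw' : d * (v1 * v2) * d⁻¹ = (v1 * v2) * (d⁻¹ * d⁻¹) := by
    calc d * (v1 * v2) * d⁻¹ = ((v1 * v2) * (v1 * v2)) * d * (v1 * v2) * d⁻¹ := by rw [hww, one_mul]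
      _ = (v1 * v2) * ((v1 * v2) * d * (v1 * v2)) * d⁻¹ := by group
      _ = (v1 * v2) * ((v1 * v2) * d * (v1 * v2)⁻¹) * d⁻¹ := by rw [hwi]
      _ = _ := by rw [hinv]; group
  have hprod : (v1 * v2) * (d * (v1 * v2) * d⁻¹) = d⁻¹ * d⁻¹ := by
    rw [hw', ← mul_assoc, hww, one_mul]
  -- `m = n = true`
  have hmn : ¬ ((b1 ^^ b2) = false ∨ n = false) := by
    intro hmn
    have hM := h.mach hd h.wB hwc (h.aw heY h1 h2) (fun y hy => h.aw' hy) h3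
    set x := (v1 * v2) * (d * (v1 * v2) * d⁻¹) * (v1 * v2) * (d * (v1 * v2) * d⁻¹) * (v1 * v2) *
      (d * (v1 * v2) * d⁻¹) * (v1 * v2) * (d * (v1 * v2) * d⁻¹) with hxdef
    have hw'B : d * (v1 * v2) * d⁻¹ ∈ B := h.nB d hd _ h.wB
    have hxB : x ∈ B := by
      rw [hxdef]
      exact mul_mem (mul_mem (mul_mem (mul_mem (mul_mem (mul_mem (mul_mem h.wB hw'B) h.wB) hw'B)
        h.wB) hw'B) h.wB) hw'B
    have hxQ : x ∈ Q := h.hK x hxB fun y hy => hM.four hmn hy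
    have hxd : x = (d⁻¹) ^ 8 := by
      calc x = ((v1 * v2) * (d * (v1 * v2) * d⁻¹)) * ((v1 * v2) * (d * (v1 * v2) * d⁻¹)) *
            ((v1 * v2) * (d * (v1 * v2) * d⁻¹)) * ((v1 * v2) * (d * (v1 * v2) * d⁻¹)) := by
              rw [hxdef]; group
        _ = d⁻¹ ^ 8 := by rw [hprod]; group
    obtain ⟨k, hk⟩ := h.Q2 ⟨x, hxQ⟩
    have hk' : x ^ 2 ^ k = 1 := congrArg Subtype.val hk
    rw [hxd, ← pow_mul, inv_pow, inv_eq_one] at hk'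
    have h5 : orderOf d ∣ 2 ^ (3 + k) := by
      rw [pow_add]
      exact orderOf_dvd_of_pow_eq_one hk'
    have h6 : Nat.Coprime (orderOf d) (2 ^ (3 + k)) := Nat.Coprime.pow_right _ hodd.coprime_two_right
    exact d1 (orderOf_eq_one_iff.1 (Nat.eq_one_of_dvd_coprimes h6 dvd_rfl h5))
  push Not at hmn
  obtain ⟨hm, hn⟩ := hmn
  replace hm := Bool.eq_true_of_not_eq_false hm
  replace hn := Bool.eq_true_of_not_eq_false hn
  have h1' : v1 * (d * c * d⁻¹) * v1⁻¹ = (d * c * d⁻¹) * pw c b1 * pw z b1 := by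
    rw [h1, h.pw_cz, ← mul_assoc]
  have h2' : v2 * (d * c * d⁻¹) * v2⁻¹ = (d * c * d⁻¹) * pw c b2 * pw z false := by
    rw [h2]; simp [pw]
  cases hb : b1
  · -- `b2 = true`
    rw [hb, Bool.false_xor] at hm
    have hM := h.mach hd h.v2B h.e2 h2' (fun y hy => by
      obtain ⟨b, hb⟩ := h.a2 y hy
      exact ⟨b, false, by rw [hb]; simp [pw]⟩) h3
    exact h.fin hd h.v2B h.v22 h.cz h.a2 fun y hy => hM.braid hm hn hy
  · have hM := h.mach hd h.v1B h.e1 h1' (fun y hy => by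
      obtain ⟨b, hb⟩ := h.a1 y hy
      exact ⟨b, b, by rw [hb, h.pw_cz, ← mul_assoc]⟩) h3
    refine h.fin hd h.v1B h.v11 (k := c * z) ?_ h.a1 fun y hy => hM.braid hb hn hy
    intro e
    exact h.c1 (mul_eq_right.1 e)

end Con

end Cfsg.Agent.Omega.NOne.AG.FourCore
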