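import Cfsg.Agent.Omega.NOne.PlusVec

/-!
# NO-1, type (γ), `|V/E| = 4` (text #14731 (3)): the braid machine

`Y` a commutative group, `c, e, z ∈ Y` involutions, `f`, `g` endomorphisms of `Y` acting modulo `⟨z⟩` as
transvections with centres `c` and `e` at the elements `y`, `c`, `e`.
-/

set_option autoImplicit false

namespace Cfsg.Agent.Omega.NOne.AG.FourMach

open Cfsg.Agent.Omega.NOne.PlusVec (pw)

variable {Y : Type*} [CommGroup Y] {c e z : Y}

/-- the state `(p, q)` modulo `z` over `y` -/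
def St (y c e z : Y) (p : Bool × Bool) (x : Y) : Prop :=
  ∃ r : Bool, x = y * pw c p.1 * pw e p.2 * pw z r

theorem map_pw (f : Y →* Y) (x : Y) (b : Bool) : f (pw x b) = pw (f x) b := by
  cases b <;> simp [pw]

theorem mul_pw {x y : Y} (b : Bool) : pw (x * y) b = pw x b * pw y b := by
  cases b <;> simp [pw]

theorem pw_pw (x : Y) (a b : Bool) : pw (pw x a) b = pw x (b && a) := by
  cases a <;> cases b <;> simp [pw]

theorem pw_xor {x : Y} (hx : x * x = 1) (a b : Bool) : pw x (a ^^ b) = pw x a * pw x b := by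
  cases a <;> cases b <;> simp [pw, hx]

/-- the transvection with centre `c` -/
def F (A m : Bool) (p : Bool × Bool) : Bool × Bool := (p.1 ^^ A ^^ (p.2 && m), p.2)

/-- the transvection with centre `e` -/
def H (B n : Bool) (p : Bool × Bool) : Bool × Bool := (p.1, p.2 ^^ B ^^ (p.1 && n))

theorem St.f (hc : c * c = 1) (hz : z * z = 1) {f : Y →* Y} (fc : f c = c) (fz : f z = z)
    {m A : Bool} {y : Y} (fe : ∃ s, f e = e * pw c m * pw z s) (fy : ∃ s, f y = y * pw c A * pw z s)
    {p : Bool × Bool} {x : Y} (hx : St y c e z p x) : St y c e z (F A m p) (f x) := by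
  obtain ⟨r, rfl⟩ := hx
  obtain ⟨s, hs⟩ := fe
  obtain ⟨s', hs'⟩ := fy
  refine ⟨s' ^^ (p.2 && s) ^^ r, ?_⟩
  simp only [F, map_mul, map_pw, hs, hs', fc, fz, mul_pw, pw_pw, pw_xor hc, pw_xor hz]
  ac_rfl

theorem St.g (he : e * e = 1) (hz : z * z = 1) {g : Y →* Y} (ge : g e = e) (gz : g z = z)
    {n B : Bool} {y : Y} (gc : ∃ s, g c = c * pw e n * pw z s) (gy : ∃ s, g y = y * pw e B * pw z s)
    {p : Bool × Bool} {x : Y} (hx : St y c e z p x) : St y c e z (H B n p) (g x) := by
  obtain ⟨r, rfl⟩ := hx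
  obtain ⟨s, hs⟩ := gc
  obtain ⟨s', hs'⟩ := gy
  refine ⟨s' ^^ (p.1 && s) ^^ r, ?_⟩
  simp only [H, map_mul, map_pw, hs, hs', ge, gz, mul_pw, pw_pw, pw_xor he, pw_xor hz]
  ac_rfl

theorem four_code : ∀ A B m n : Bool, (m = false ∨ n = false) →
    F A m (H B n (F A m (H B n (F A m (H B n (F A m (H B n (false, false)))))))) = (false, false) := by
  decide

theorem braid_code : ∀ A B : Bool,
    F A true (H B true (F A true (H B true (F A true (H B true (false, false)))))) = (false, false) := by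
  decide

section

variable (hc : c * c = 1) (he : e * e = 1) (hz : z * z = 1) {f g : Y →* Y} (fc : f c = c) (fz : f z = z)
  (ge : g e = e) (gz : g z = z) {m n : Bool} (fe : ∃ s, f e = e * pw c m * pw z s)
  (gc : ∃ s, g c = c * pw e n * pw z s) {A B : Bool} {y : Y} (fy : ∃ s, f y = y * pw c A * pw z s)
  (gy : ∃ s, g y = y * pw e B * pw z s)
include hc he hz fc fz ge gz fe gc fy gy

theorem four (hmn : m = false ∨ n = false) : ∃ s, f (g (f (g (f (g (f (g y))))))) = y * pw z s := by
  have h0 : St y c e z (false, false) y := ⟨false, by simp [pw]⟩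
  have G : ∀ {p x}, St y c e z p x → St y c e z (H B n p) (g x) := fun hx => hx.g he hz ge gz gc gy
  have F' : ∀ {p x}, St y c e z p x → St y c e z (F A m p) (f x) := fun hx => hx.f hc hz fc fz fe fy
  have h1 := F' (G (F' (G (F' (G (F' (G h0)))))))
  rw [four_code A B m n hmn] at h1
  obtain ⟨r, hr⟩ := h1
  exact ⟨r, by rw [hr]; simp [pw]⟩

theorem braid (hm : m = true) (hn : n = true) : ∃ s, f (g (f (g (f (g y))))) = y * pw z s := by
  subst hm hn
  have h0 : St y c e z (false, false) y := ⟨false, by simp [pw]⟩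
  have G : ∀ {p x}, St y c e z p x → St y c e z (H B true p) (g x) := fun hx => hx.g he hz ge gz gc gy
  have F' : ∀ {p x}, St y c e z p x → St y c e z (F A true p) (f x) := fun hx => hx.f hc hz fc fz fe fy
  have h1 := F' (G (F' (G (F' (G h0)))))
  rw [braid_code A B] at h1
  obtain ⟨r, hr⟩ := h1
  exact ⟨r, by rw [hr]; simp [pw]⟩

end

end Cfsg.Agent.Omega.NOne.AG.FourMach
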