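import Cfsg.Agent.Omega.NOne.AG.FactsPlus
import Cfsg.Agent.Omega.NOne.AG.FourCore
import Cfsg.Agent.Involutions.BaerSuzuki

/-!
# NO-1, type (γ): `|V/E| = 2` (text #14731 (0)-(3), helper537)

`FourPlus.relIndex_EE`: in a configuration of N1 of type `(γ)` (`V = O₄⁺(2)`), `|V : V ∩ O₂(C)| = 2`.

`S` is uniserial on `V`: `E = ⟨z⟩` (impossible by Lemma T), `E = ⟨z, e₀⟩` (impossible by `FourCore`) or
`E = z^⊥`.
-/

set_option autoImplicit false
set_option linter.unusedSectionVars false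
set_option linter.unusedVariables false

namespace Cfsg.Agent.Omega.NOne.AG.FourPlus

open Subgroup Cfsg Cfsg.Agent.ZN Cfsg.Agent.Omega.MinPar Cfsg.Agent.Omega.Frame
open Cfsg.Agent.Omega.NoFF.LinesPlug (CC)
open Cfsg.Agent.Omega.NO1 (Cfg Plus2 EE)
open Cfsg.Agent.Omega.NOne.DPlus
open Cfsg.Agent.Omega.NOne.DZeroPts (QQ QS QS_norm QS_le mem_QS mem_CC)
open Cfsg.Agent.Omega.NOne.PlusVec
open Cfsg.Agent.Omega.NOne.AG.FactsPlus
open Cfsg.Agent.Omega.NOne.AG.FourCore (pw_mem)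

universe u

/-- a scalar multiple -/
def sc (b : Bool) (v : B4) : B4 := if b then v else o

theorem code1 : ∀ v : B4, v.2.2.2 = true →
    add (add v (lin (act8 false true false) v)) (sc v.2.2.1 z0) = vec (0, 1) := by decide
theorem code2 : ∀ v : B4, v.2.2.2 = true →
    add (add v (lin (act8 false false true) v)) (sc v.2.1 z0) = vec (1, 0) := by decide
theorem code3 : ∀ v : B4, v.2.2.2 = true →
    add (add (add v (sc v.1 z0)) (sc v.2.1 (vec (0, 1)))) (sc v.2.2.1 (vec (1, 0))) = vec (1, 1) := by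
  decide
theorem code4 : ∀ v : B4, v.2.2.2 = false → (v = o ∨ v = z0 ∨ v = e0 ∨ v = e1) ∨
    add v (sc v.1 z0) = vec (0, 1) ∨ add v (sc v.1 z0) = vec (1, 0) := by decide
theorem code10 : ∀ v : B4, Xor ((add v (vec (1, 1))).2.2.2 = false) (v.2.2.2 = false) := by
  unfold Xor
  decide
theorem code11 : ∀ b i, lin (act8 b i i) o = o := by decide
theorem code12 : ∀ b i, lin (act8 b i i) z0 = z0 := by decide
theorem code13 : ∀ b i, lin (act8 b i i) e1 = e1 := by decide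
theorem code14 : ∀ b1 b2 : Bool, (b1 ^^ b2) = false → b1 = b2 := by decide
theorem code5 : ∀ w : B4, add (add (add (sc w.1 z0) (sc w.2.1 (vec (0, 1)))) (sc w.2.2.1 (vec (1, 0))))
    (sc w.2.2.2 (vec (1, 1))) = w := by decide
theorem code6 : ∀ b i j, (add (lin (act8 b i j) (vec (1, 1))) (vec (1, 1)) = o ∨
    add (lin (act8 b i j) (vec (1, 1))) (vec (1, 1)) = z0 ∨
    add (lin (act8 b i j) (vec (1, 1))) (vec (1, 1)) = e0 ∨
    add (lin (act8 b i j) (vec (1, 1))) (vec (1, 1)) = e1) → i = j := by decide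
theorem code7 : ∀ b i, lin (act8 b i i) e0 = e0 := by decide
theorem code8 : ∀ b i, lin (act8 b i i) (vec (1, 1)) = add (vec (1, 1)) (sc i e1) := by decide
theorem code9 : ∀ b i, lin (act8 b i i) (vec (2, 1)) = add (vec (2, 1)) (sc (b ^^ i) e0) := by decide

section main

variable {G : Type u} [Group G] [Finite G] {S : Sylow 2 G} {P : Subgroup G} {z : Fin 3 → Fin 3 → G}

theorem phi_sc (b : Bool) (v : B4) : phi (zz z) (sc b v) = pw (phi (zz z) v) b := by
  cases b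
  · exact phi_o
  · rfl

theorem phi_z0 (hz : Plus2 (S : Subgroup G) P z) : phi (zz z) z0 = z 0 0 := phi_vec (grid hz) (0, 0)

theorem E_add (hz : Plus2 (S : Subgroup G) P z) {v w : B4} (hv : phi (zz z) v ∈ EE (S : Subgroup G) P)
    (hw : phi (zz z) w ∈ EE (S : Subgroup G) P) : phi (zz z) (add v w) ∈ EE (S : Subgroup G) P := by
  rw [phi_add (grid hz)]
  exact mul_mem hv hw

theorem E_sc (b : Bool) {v : B4} (hv : phi (zz z) v ∈ EE (S : Subgroup G) P) :
    phi (zz z) (sc b v) ∈ EE (S : Subgroup G) P := by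
  rw [phi_sc]
  exact pw_mem hv b

theorem E_act (h : Cfg S P) (hz : Plus2 (S : Subgroup G) P z) (b i j : Bool) {v : B4}
    (hv : phi (zz z) v ∈ EE (S : Subgroup G) P) :
    phi (zz z) (lin (act8 b i j) v) ∈ EE (S : Subgroup G) P := by
  obtain ⟨s, hs, h1⟩ := exists_S h hz b i j
  rw [← h1.conj_phi (grid hz)]
  exact conj_E h hs hv

theorem E_z0 (h : Cfg S P) (hz : Plus2 (S : Subgroup G) P z) : phi (zz z) z0 ∈ EE (S : Subgroup G) P := by
  rw [phi_z0 hz]
  exact h.Z_le_E (by rw [hz.Z]; exact mem_zpowers _)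

theorem top_of (hz : Plus2 (S : Subgroup G) P z) (h0 : phi (zz z) z0 ∈ EE (S : Subgroup G) P)
    (h1 : phi (zz z) (vec (0, 1)) ∈ EE (S : Subgroup G) P)
    (h2 : phi (zz z) (vec (1, 0)) ∈ EE (S : Subgroup G) P)
    (h3 : phi (zz z) (vec (1, 1)) ∈ EE (S : Subgroup G) P) :
    zl (S : Subgroup G) P ≤ EE (S : Subgroup G) P := by
  intro x hx
  obtain ⟨w, rfl⟩ := exists_phi (pts hz) hx
  rw [← code5 w]
  exact E_add hz (E_add hz (E_add hz (E_sc _ h0) (E_sc _ h1)) (E_sc _ h2)) (E_sc _ h3)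

theorem E_top (h : Cfg S P) (hz : Plus2 (S : Subgroup G) P z) {v : B4}
    (hv : phi (zz z) v ∈ EE (S : Subgroup G) P) : v.2.2.2 = false := by
  by_contra hne
  rw [Bool.not_eq_false] at hne
  have h0 := E_z0 h hz
  have h1 : phi (zz z) (vec (0, 1)) ∈ EE (S : Subgroup G) P := by
    rw [← code1 v hne]
    exact E_add hz (E_add hz hv (E_act h hz _ _ _ hv)) (E_sc _ h0)
  have h2 : phi (zz z) (vec (1, 0)) ∈ EE (S : Subgroup G) P := by
    rw [← code2 v hne]
    exact E_add hz (E_add hz hv (E_act h hz _ _ _ hv)) (E_sc _ h0)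
  have h3 : phi (zz z) (vec (1, 1)) ∈ EE (S : Subgroup G) P := by
    rw [← code3 v hne]
    exact E_add hz (E_add hz (E_add hz hv (E_sc _ h0)) (E_sc _ h1)) (E_sc _ h2)
  exact h.one.not_le ((top_of hz h0 h1 h2 h3).trans inf_le_right)

/-- `E = z^⊥` has index 2 -/
theorem relIndex_of (h : Cfg S P) (hz : Plus2 (S : Subgroup G) P z)
    (h1 : phi (zz z) (vec (0, 1)) ∈ EE (S : Subgroup G) P) :
    (EE (S : Subgroup G) P).relIndex (zl (S : Subgroup G) P) = 2 := by
  have h0 := E_z0 h hz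
  have h2 : phi (zz z) (vec (1, 0)) ∈ EE (S : Subgroup G) P := by
    have h3 := E_act h hz true false false h1
    rwa [show lin (act8 true false false) (vec (0, 1)) = vec (1, 0) from by decide] at h3
  have key : ∀ v : B4, phi (zz z) v ∈ EE (S : Subgroup G) P ↔ v.2.2.2 = false := by
    intro v
    refine ⟨E_top h hz, fun hv => ?_⟩
    rw [← code5 v, hv]
    refine E_add hz (E_add hz (E_add hz (E_sc _ h0) (E_sc _ h1)) (E_sc _ h2)) ?_
    show phi (zz z) o ∈ _
    rw [phi_o]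
    exact one_mem _
  rw [relIndex, index_eq_two_iff]
  refine ⟨⟨phi (zz z) (vec (1, 1)), phi_mem (pts hz) _⟩, ?_⟩
  rintro ⟨x, hx⟩
  obtain ⟨v, rfl⟩ := exists_phi (pts hz) hx
  rw [mem_subgroupOf, mem_subgroupOf]
  show Xor (phi (zz z) v * phi (zz z) (vec (1, 1)) ∈ EE (S : Subgroup G) P)
    (phi (zz z) v ∈ EE (S : Subgroup G) P)
  rw [← phi_add (grid hz), key, key]
  exact code10 v

/-- small `E` -/
theorem E_small (h : Cfg S P) (hz : Plus2 (S : Subgroup G) P z)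
    (h1 : phi (zz z) (vec (0, 1)) ∉ EE (S : Subgroup G) P) {v : B4}
    (hv : phi (zz z) v ∈ EE (S : Subgroup G) P) : v = o ∨ v = z0 ∨ v = e0 ∨ v = e1 := by
  by_contra hcon
  have h0 := E_z0 h hz
  have h2 := E_add hz hv (E_sc v.1 h0)
  rcases (code4 v (E_top h hz hv)).resolve_left hcon with h3 | h3
  · rw [h3] at h2
    exact h1 h2
  · rw [h3] at h2
    have h4 := E_act h hz true false false h2
    rw [show lin (act8 true false false) (vec (1, 0)) = vec (0, 1) from by decide] at h4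
    exact h1 h4

/-- `E > ⟨z⟩` by Lemma T -/
theorem e0_mem (h : Cfg S P) (hz : Plus2 (S : Subgroup G) P z)
    (h1 : phi (zz z) (vec (0, 1)) ∉ EE (S : Subgroup G) P) : phi (zz z) e0 ∈ EE (S : Subgroup G) P := by
  by_contra hne
  have h0 := E_z0 h hz
  have hle : EE (S : Subgroup G) P ≤ zc (S : Subgroup G) := by
    intro x hx
    obtain ⟨v, rfl⟩ := exists_phi (pts hz) hx.1
    rcases E_small h hz h1 hx with rfl | rfl | rfl | rfl
    · rw [phi_o]; exact one_mem _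
    · rw [phi_z0 hz, hz.Z]; exact mem_zpowers _
    · exact absurd hx hne
    · exfalso
      apply hne
      have h3 := E_add hz hx h0
      rwa [show add e1 z0 = e0 from by decide] at h3
  have hZ1 : zc (S : Subgroup G) ≠ ⊥ := by
    rw [hz.Z, Ne, zpowers_eq_bot]
    exact hz.ne_one 0 0
  have hSZ : (S : Subgroup G) ≤ normalizer (zc (S : Subgroup G) : Set G) :=
    (Cfg.S_le_CC S).trans (LemmaT.centralizer_le_normalizer' _)
  have hV : zl (S : Subgroup G) P ≤ zc (S : Subgroup G) :=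
    LemmaT.lemmaT S (LemmaT.char2_centralizer h.ctx.char2 (S.isPGroup'.to_le (zc_le _)) hZ1) h.Z_le_V
      h.V_le_S (h.S_le.trans (Cfg.P_norm_V S P)) hSZ h.V_comm hle
  obtain ⟨s, hs, h3⟩ := exists_S h hz false false true
  have h4 : zz z (0, 1) ∈ zc (S : Subgroup G) := hV ((pts hz).mem (0, 1))
  have h5 := (mem_zc.1 h4).2.1 s hs
  have h6 := h3 (0, 1)
  rw [h5, mul_inv_cancel_right] at h6
  have h7 := (grid hz).inj h6
  revert h7
  decide

end main

/-! ### the case `E = ⟨z, e₀⟩` -/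

section case

variable {G : Type u} [Group G] [Finite G] {S : Sylow 2 G} {P : Subgroup G} {z : Fin 3 → Fin 3 → G}

/-- `{g ∈ C(x) | [g, O₂(C(x))] ≤ Y}` -/
def BB (x : G) (Y : Subgroup G) (nY : ∀ c, c * x = x * c → ∀ y ∈ Y, c * y * c⁻¹ ∈ Y) : Subgroup G where
  carrier := {g | g * x = x * g ∧ ∀ q ∈ QQ x, g * q * g⁻¹ * q⁻¹ ∈ Y}
  one_mem' := ⟨by simp, fun q _ => by simp⟩
  mul_mem' := by
    rintro a b ⟨ha0, ha1⟩ ⟨hb0, hb1⟩
    refine ⟨?_, fun q hq => ?_⟩
    · calc a * b * x = a * (b * x) := by group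
        _ = (a * x) * b := by rw [hb0]; group
        _ = x * (a * b) := by rw [ha0]; group
    · have e : a * b * q * (a * b)⁻¹ * q⁻¹ =
          (a * (b * q * b⁻¹ * q⁻¹) * a⁻¹) * (a * q * a⁻¹ * q⁻¹) := by group
      rw [e]
      exact mul_mem (nY a ha0 _ (hb1 q hq)) (ha1 q hq)
  inv_mem' := by
    rintro a ⟨ha0, ha1⟩
    have hai := DPlusPts.inv_comm ha0
    refine ⟨hai, fun q hq => ?_⟩
    have e : a⁻¹ * q * a⁻¹⁻¹ * q⁻¹ = a⁻¹ * (a * q * a⁻¹ * q⁻¹)⁻¹ * a⁻¹⁻¹ := by group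
    rw [e]
    exact nY _ hai _ (inv_mem (ha1 q hq))

theorem CC_eq' (hz : Plus2 (S : Subgroup G) P z) : CC (S : Subgroup G) = DZeroPts.CC (z 0 0) := by
  show centralizer (zc (S : Subgroup G) : Set G) = _
  rw [hz.Z]

theorem QQ_eq (hz : Plus2 (S : Subgroup G) P z) : o2 (CC (S : Subgroup G)) = QQ (z 0 0) := by
  rw [CC_eq' hz]

variable (h : Cfg S P) (hz : Plus2 (S : Subgroup G) P z)
  (h1 : phi (zz z) (vec (0, 1)) ∉ EE (S : Subgroup G) P)
include h hz h1

/-- the action of `Q` on `V` -/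
theorem act_Q {q : G} (hq : q ∈ QQ (z 0 0)) : ∃ b i, Has (zz z) q (act8 b i i) := by
  rw [← QQ_eq hz] at hq
  have hqS := h.Q_le_S hq
  obtain ⟨b, i, j, h2⟩ := exists_act8 hz (h.S_le hqS) (S_comm hz hqS)
  have h3 : phi (zz z) (add (lin (act8 b i j) (vec (1, 1))) (vec (1, 1))) ∈ EE (S : Subgroup G) P := by
    rw [phi_add (grid hz), ← h2.conj_phi (grid hz)]
    have hv := phi_mem (pts hz) (vec (1, 1))
    have hvi := phi_inv (grid hz) (vec (1, 1))
    set v := phi (zz z) (vec (1, 1)) with hvdef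
    refine ⟨mul_mem ((mem_normalizer_iff.1 (Cfg.P_norm_V S P (h.S_le hqS)) v).1 hv) hv, ?_⟩
    have h4 : v ∈ normalizer (o2 (CC (S : Subgroup G)) : Set G) :=
      MinSimple.VModule.le_normalizer_o2 _ (h.V_le_CC hv)
    have h5 := (mem_normalizer_iff.1 h4 q⁻¹).1 (inv_mem hq)
    have e : q * v * q⁻¹ * v = q * (v * q⁻¹ * v⁻¹) := by rw [hvi]; group
    rw [e]
    exact mul_mem hq h5
  obtain rfl := code6 b i j (E_small h hz h1 h3)
  exact ⟨b, i, h2⟩

theorem comm_QE {q x : G} (hq : q ∈ QQ (z 0 0)) (hx : x ∈ EE (S : Subgroup G) P) : x * q = q * x := by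
  obtain ⟨b, i, h2⟩ := act_Q h hz h1 hq
  obtain ⟨v, rfl⟩ := exists_phi (pts hz) hx.1
  have h3 := h2.conj_phi (grid hz) v
  have h4 : lin (act8 b i i) v = v := by
    rcases E_small h hz h1 hx with rfl | rfl | rfl | rfl
    · exact code11 b i
    · exact code12 b i
    · exact code7 b i
    · exact code13 b i
  rw [h4] at h3
  calc phi (zz z) v * q = (q * phi (zz z) v * q⁻¹) * q := by rw [h3]
    _ = q * phi (zz z) v := by group

/-- `Y = ⟨E^C⟩` is centralised by `Q` -/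
theorem comm_QY {y q : G} (hy : y ∈ QS (zl (S : Subgroup G) P) (z 0 0)) (hq : q ∈ QQ (z 0 0)) :
    y * q = q * y := by
  unfold QS at hy
  induction hy using closure_induction with
  | mem y hy =>
    obtain ⟨c, hc, e, he, rfl⟩ := hy
    have hc' := mem_CC.1 hc
    have h2 := DZeroPts.QQ_norm (DPlusPts.inv_comm hc') hq
    rw [inv_inv] at h2
    have h3 : e ∈ EE (S : Subgroup G) P := ⟨he.1, by rw [QQ_eq hz]; exact he.2⟩
    have h4 := comm_QE h hz h1 h2 h3
    calc c * e * c⁻¹ * q = c * (e * (c⁻¹ * q * c)) * c⁻¹ := by group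
      _ = q * (c * e * c⁻¹) := by rw [h4]; group
  | one => simp
  | mul a b _ _ ha hb =>
    calc a * b * q = a * (b * q) := by group
      _ = (a * q) * b := by rw [hb]; group
      _ = q * (a * b) := by rw [ha]; group
  | inv a _ ha => exact DPlusPts.inv_comm ha

theorem false_of_small : False := by
  have hf : Fact (Nat.Prime 2) := ⟨Nat.prime_two⟩
  set V := zl (S : Subgroup G) P with hV
  set x := z 0 0 with hx
  have h0 := E_z0 h hz
  have hc := e0_mem h hz h1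
  set c := phi (zz z) e0 with hcdef
  have nY : ∀ g, g * x = x * g → ∀ y ∈ QS V x, g * y * g⁻¹ ∈ QS V x := fun g hg y hy => QS_norm hg hy
  have hEY : ∀ y ∈ EE (S : Subgroup G) P, y ∈ QS V x := fun y hy =>
    mem_QS hy.1 (by rw [← QQ_eq hz]; exact hy.2)
  have hz0 : phi (zz z) z0 = x := phi_z0 hz
  have hxE : x ∈ EE (S : Subgroup G) P := hz0 ▸ h0
  have hxx : x * x = 1 := hz.sq 0 0
  have hk : phi (zz z) e1 = c * x := by
    rw [← hz0, hcdef, ← phi_add (grid hz)]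
    congr 1
  have hcs : ∀ (b : Bool) (v : B4), phi (zz z) (sc b v) = pw (phi (zz z) v) b := phi_sc
  -- the elements of `Y` on `V`
  have actY : ∀ y ∈ QS V x, ∀ v : G, v ∈ V → v * v = 1 → ∀ k : G, (k * y = y * k) → k * k = 1 → ∀ b : Bool,
      y * v * y⁻¹ = v * pw k b → v * y * v⁻¹ = y * pw k b := by
    intro y hy v hv hvv k hky hkk b hb
    have hvi : v⁻¹ = v := inv_eq_of_mul_eq_one_left hvv
    have hp : pw k b * y = y * pw k b := by
      cases b
      · simp [pw]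
      · exact hky
    have hpp : (pw k b)⁻¹ = pw k b := by
      cases b
      · simp [pw]
      · exact inv_eq_of_mul_eq_one_left hkk
    calc v * y * v⁻¹ = v * (y * v * y⁻¹) * y := by rw [hvi]; group
      _ = v * (v * pw k b) * y := by rw [hb]
      _ = (v * v) * (pw k b * y) := by group
      _ = _ := by rw [hvv, one_mul, hp]
  have hYQ : ∀ y ∈ QS V x, y ∈ QQ x := fun y hy => QS_le V x hy
  have hYab : ∀ a ∈ QS V x, ∀ b ∈ QS V x, a * b = b * a := fun a ha b hb =>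
    comm_QY h hz h1 ha (hYQ b hb)
  have e11 : phi (zz z) (vec (1, 1)) = z 1 1 := phi_vec (grid hz) (1, 1)
  have e21 : phi (zz z) (vec (2, 1)) = z 2 1 := phi_vec (grid hz) (2, 1)
  have hcc : c * c = 1 := phi_sq (grid hz) e0
  have hkk : (c * x) * (c * x) = 1 := by rw [← hk]; exact phi_sq (grid hz) e1
  have hkE : c * x ∈ EE (S : Subgroup G) P := mul_mem hc hxE
  have a1 : ∀ y ∈ QS V x, ∃ b, z 1 1 * y * (z 1 1)⁻¹ = y * pw (c * x) b := by
    intro y hy
    obtain ⟨b, i, h2⟩ := act_Q h hz h1 (hYQ y hy)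
    have h3 := h2.conj_phi (grid hz) (vec (1, 1))
    rw [code8, phi_add (grid hz), hcs, e11, hk] at h3
    exact ⟨i, actY y hy _ ((pts hz).mem (1, 1)) (hz.sq 1 1) _ (hYab _ (hEY _ hkE) _ hy) hkk i h3⟩
  have a2 : ∀ y ∈ QS V x, ∃ b, z 2 1 * y * (z 2 1)⁻¹ = y * pw c b := by
    intro y hy
    obtain ⟨b, i, h2⟩ := act_Q h hz h1 (hYQ y hy)
    have h3 := h2.conj_phi (grid hz) (vec (2, 1))
    rw [code9, phi_add (grid hz), hcs, e21] at h3
    exact ⟨b ^^ i, actY y hy _ ((pts hz).mem (2, 1)) (hz.sq 2 1) _ (hYab _ (hEY _ hc) _ hy) hcc _ h3⟩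
  have hw : z 1 1 * z 2 1 = z 0 1 := (grid hz).col 1 1 2 (by decide)
  have hw0 : z 0 1 = phi (zz z) (vec (0, 1)) := (phi_vec (grid hz) (0, 1)).symm
  have hwQ : z 0 1 ∉ QQ x := by
    intro hq
    apply h1
    rw [← hw0]
    exact ⟨(pts hz).mem (0, 1), by rw [QQ_eq hz]; exact hq⟩
  have hVC : ∀ v ∈ V, v * x = x * v := fun v hv =>
    (mem_centralizer_iff.1 (h.V_comm hv) x hxE.1).symm
  -- `V ≤ BB`
  have hVB : ∀ v ∈ V, v ∈ BB x (QS V x) nY := by
    intro v hv
    refine ⟨hVC v hv, fun q hq => hEY _ ?_⟩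
    rw [← QQ_eq hz] at hq
    have h4 : v ∈ normalizer (o2 (CC (S : Subgroup G)) : Set G) :=
      MinSimple.VModule.le_normalizer_o2 _ (h.V_le_CC hv)
    refine ⟨?_, (o2 (CC (S : Subgroup G))).mul_mem ((mem_normalizer_iff.1 h4 q).1 hq)
      ((o2 (CC (S : Subgroup G))).inv_mem hq)⟩
    have e : v * q * v⁻¹ * q⁻¹ = v * (q * v⁻¹ * q⁻¹) := by group
    rw [e]
    exact mul_mem hv ((mem_normalizer_iff.1 (h.Q_norm_V hq) v⁻¹).1 (inv_mem hv))
  have hchar : ∀ g, g * x = x * g → (∀ y ∈ QQ x, g * y = y * g) → g ∈ QQ x := by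
    intro g hg hgy
    have h5 := h.char2C
    rw [CC_eq' hz] at h5
    exact h5 (mem_inf.2 ⟨mem_CC.2 hg, mem_centralizer_iff.2 fun y hy => (hgy y hy).symm⟩)
  -- (1)
  have hK : ∀ g ∈ BB x (QS V x) nY, (∀ y ∈ QS V x, ∃ s, g * y * g⁻¹ = y * pw x s) → g ∈ QQ x := by
    intro g hg hgy
    refine DPlusPts.chain3 (R := QS V x) (Z := zpowers x) hchar (QS_le V x) ?_ nY ?_ hg.1 hg.2 ?_ ?_
    · rw [zpowers_le]; exact hEY x hxE
    · rintro c' hc' y ⟨n, rfl⟩
      have e : c' * x ^ n * c'⁻¹ = x ^ n := by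
        have := ((show Commute c' x from hc').zpow_right n).eq
        rw [this]; group
      show c' * x ^ n * c'⁻¹ ∈ _
      rw [e]
      exact ⟨n, rfl⟩
    · intro u hu
      obtain ⟨s, hs⟩ := hgy u hu
      rw [hs]
      have e : u * pw x s * u⁻¹ = pw x s := by
        cases s
        · simp [pw]
        · have h6 := mem_CC.1 (DZeroPts.QQ_le x (hYQ u hu))
          show u * x * u⁻¹ = x
          rw [h6]; group
      rw [e]
      exact pw_mem (mem_zpowers x) s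
    · rintro y ⟨n, rfl⟩
      exact ((show Commute g x from hg.1).zpow_right n).eq
  -- (2)
  have hy0 : ∃ y ∈ QS V x, (z 1 1 * z 2 1) * y * (z 1 1 * z 2 1)⁻¹ = y * x := by
    have h6 : ¬ ∀ y ∈ QS V x, ∃ s, z 0 1 * y * (z 0 1)⁻¹ = y * pw x s := fun h7 =>
      hwQ (hK _ (hVB _ ((pts hz).mem (0, 1))) h7)
    push Not at h6
    obtain ⟨y, hy, h6⟩ := h6
    obtain ⟨b1, h7⟩ := a1 y hy
    obtain ⟨b2, h8⟩ := a2 y hy
    have hvc : z 1 1 * c * (z 1 1)⁻¹ = c := by
      have := mem_centralizer_iff.1 (h.V_comm hc.1) (z 1 1) ((pts hz).mem (1, 1))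
      rw [this]; group
    have hcx : c * x = x * c := hVC c hc.1
    have hb : (b1 ^^ b2) = true := by
      by_contra hne
      rw [Bool.not_eq_true] at hne
      have hb : b1 = b2 := code14 b1 b2 hne
      subst hb
      apply h6 b1
      calc z 0 1 * y * (z 0 1)⁻¹ = z 1 1 * (z 2 1 * y * (z 2 1)⁻¹) * (z 1 1)⁻¹ := by rw [← hw]; group
        _ = (z 1 1 * y * (z 1 1)⁻¹) * (z 1 1 * pw c b1 * (z 1 1)⁻¹) := by rw [h8]; group
        _ = y * (pw (c * x) b1 * pw c b1) := by rw [h7, conj_pw, hvc, mul_assoc]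
        _ = _ := by
          congr 1
          cases b1
          · simp [pw]
          · show c * x * c = x
            rw [hcx, mul_assoc, hcc, mul_one]
    -- `t`
    obtain ⟨t, ht, h9⟩ := exists_S h hz false true false
    have htx : t * x = x * t := S_comm hz ht
    have hty : t * y * t⁻¹ ∈ QS V x := nY t htx y hy
    have t11 : t⁻¹ * z 1 1 * t = z 2 1 := by
      have h10 : t * z 2 1 * t⁻¹ = z 1 1 := h9 (2, 1)
      rw [← h10]; group
    have t21 : t⁻¹ * z 2 1 * t = z 1 1 := by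
      have h10 : t * z 1 1 * t⁻¹ = z 2 1 := h9 (1, 1)
      rw [← h10]; group
    have tc : t * c * t⁻¹ = c * x := by
      rw [← hk, hcdef, h9.conj_phi (grid hz)]
      congr 1
    have tk : t * (c * x) * t⁻¹ = c := by
      calc t * (c * x) * t⁻¹ = (t * c * t⁻¹) * (t * x * t⁻¹) := by group
        _ = (c * x) * x := by rw [tc, htx]; group
        _ = c := by rw [mul_assoc, hxx, mul_one]
    have h11 : z 1 1 * (t * y * t⁻¹) * (z 1 1)⁻¹ = (t * y * t⁻¹) * pw (c * x) b2 := by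
      calc z 1 1 * (t * y * t⁻¹) * (z 1 1)⁻¹ =
          t * ((t⁻¹ * z 1 1 * t) * y * (t⁻¹ * z 1 1 * t)⁻¹) * t⁻¹ := by group
        _ = (t * y * t⁻¹) * (t * pw c b2 * t⁻¹) := by rw [t11, h8]; group
        _ = _ := by rw [conj_pw, tc]
    have h12 : z 2 1 * (t * y * t⁻¹) * (z 2 1)⁻¹ = (t * y * t⁻¹) * pw c b1 := by
      calc z 2 1 * (t * y * t⁻¹) * (z 2 1)⁻¹ =
          t * ((t⁻¹ * z 2 1 * t) * y * (t⁻¹ * z 2 1 * t)⁻¹) * t⁻¹ := by group
        _ = (t * y * t⁻¹) * (t * pw (c * x) b1 * t⁻¹) := by rw [t21, h7]; group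
        _ = _ := by rw [conj_pw, tk]
    have hpc : ∀ (k : G), k ∈ EE (S : Subgroup G) P → k * k = 1 →
        pw k b1 * pw k b2 = k := by
      intro k _ hkk'
      rw [← pw_xor hkk', hb]
      rfl
    refine ⟨y * (t * y * t⁻¹), mul_mem hy hty, ?_⟩
    have h13 : z 2 1 * (y * (t * y * t⁻¹)) * (z 2 1)⁻¹ = (y * (t * y * t⁻¹)) * c := by
      have hcomm := hYab _ (pw_mem (hEY _ hc) b2) _ hty
      calc z 2 1 * (y * (t * y * t⁻¹)) * (z 2 1)⁻¹ =
          (z 2 1 * y * (z 2 1)⁻¹) * (z 2 1 * (t * y * t⁻¹) * (z 2 1)⁻¹) := by group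
        _ = y * (pw c b2 * (t * y * t⁻¹)) * pw c b1 := by rw [h8, h12]; simp only [mul_assoc]
        _ = (y * (t * y * t⁻¹)) * (pw c b2 * pw c b1) := by rw [hcomm]; simp only [mul_assoc]
        _ = _ := by
          rw [show pw c b2 * pw c b1 = pw c b1 * pw c b2 from pw_comm rfl _ _, hpc c hc hcc]
    have h14 : z 1 1 * (y * (t * y * t⁻¹)) * (z 1 1)⁻¹ = (y * (t * y * t⁻¹)) * (c * x) := by
      have hcomm := hYab _ (pw_mem (hEY _ hkE) b1) _ hty
      calc z 1 1 * (y * (t * y * t⁻¹)) * (z 1 1)⁻¹ =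
          (z 1 1 * y * (z 1 1)⁻¹) * (z 1 1 * (t * y * t⁻¹) * (z 1 1)⁻¹) := by group
        _ = y * (pw (c * x) b1 * (t * y * t⁻¹)) * pw (c * x) b2 := by
            rw [h7, h11]; simp only [mul_assoc]
        _ = (y * (t * y * t⁻¹)) * (pw (c * x) b1 * pw (c * x) b2) := by
            rw [hcomm]; simp only [mul_assoc]
        _ = _ := by rw [hpc _ hkE hkk]
    calc (z 1 1 * z 2 1) * (y * (t * y * t⁻¹)) * (z 1 1 * z 2 1)⁻¹ =
        z 1 1 * (z 2 1 * (y * (t * y * t⁻¹)) * (z 2 1)⁻¹) * (z 1 1)⁻¹ := by group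
      _ = (z 1 1 * (y * (t * y * t⁻¹)) * (z 1 1)⁻¹) * (z 1 1 * c * (z 1 1)⁻¹) := by rw [h13]; group
      _ = (y * (t * y * t⁻¹)) * ((c * x) * c) := by rw [h14, hvc, mul_assoc]
      _ = _ := by rw [hcx, mul_assoc x, hcc, mul_one]
  -- the configuration
  have hcon : FourCore.Con (DZeroPts.CC x) (BB x (QS V x) nY) (QS V x) (QQ x) x c (z 1 1) (z 2 1) := {
    Q2 := MinSimple.VModule.o2_isPGroup _
    Yab := hYab
    YQ := fun a ha b hb => (comm_QY h hz h1 ha hb).symm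
    zY := hEY _ hxE
    cY := hEY _ hc
    zz := hxx
    cc := hcc
    z1 := hz.ne_one 0 0
    c1 := phi_ne (grid hz) (by decide)
    cz := by
      intro e
      rw [hcdef, ← hz0] at e
      have := phi_inj (grid hz) e
      revert this
      decide
    BC := fun g hg => mem_CC.2 hg.1
    nB := by
      rintro g hg y ⟨hy0, hy1⟩
      have hg' := mem_CC.1 hg
      have hgi := DPlusPts.inv_comm hg'
      refine ⟨?_, fun q hq => ?_⟩
      · exact mem_CC.1 (mul_mem (mul_mem hg (mem_CC.2 hy0)) (inv_mem hg))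
      · have h6 := hy1 _ (DZeroPts.QQ_norm hgi hq)
        have h7 := nY g hg' _ h6
        have e : g * y * g⁻¹ * q * (g * y * g⁻¹)⁻¹ * q⁻¹ =
            g * (y * (g⁻¹ * q * g⁻¹⁻¹) * y⁻¹ * (g⁻¹ * q * g⁻¹⁻¹)⁻¹) * g⁻¹ := by group
        rw [e]
        exact h7
    nY := fun g hg y hy => nY g (mem_CC.1 hg) y hy
    zC := fun g hg => by rw [mem_CC.1 hg]; group
    hK := hK
    v1B := hVB _ ((pts hz).mem (1, 1))
    v2B := hVB _ ((pts hz).mem (2, 1))
    v11 := hz.sq 1 1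
    v22 := hz.sq 2 1
    v12 := hz.comm 1 1 2 1
    e1 := by
      have := mem_centralizer_iff.1 (h.V_comm hc.1) (z 1 1) ((pts hz).mem (1, 1))
      rw [this]; group
    e2 := by
      have := mem_centralizer_iff.1 (h.V_comm hc.1) (z 2 1) ((pts hz).mem (2, 1))
      rw [this]; group
    a1 := a1
    a2 := a2
    y0 := hy0 }
  -- Baer–Suzuki
  have hwC : z 0 1 ∈ DZeroPts.CC x := mem_CC.2 (hVC _ ((pts hz).mem (0, 1)))
  have hnp : ¬ IsPGroup 2 (Subgroup.normalClosure {(⟨z 0 1, hwC⟩ : DZeroPts.CC x)} :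
      Subgroup (DZeroPts.CC x)) := by
    intro hp
    apply hwQ
    have h2 : (Subgroup.normalClosure {(⟨z 0 1, hwC⟩ : DZeroPts.CC x)} :
      Subgroup (DZeroPts.CC x)) ≤ pCore 2 (DZeroPts.CC x) := le_sSup ⟨normalClosure_normal, hp⟩
    have h3 := h2 (subset_normalClosure (Set.mem_singleton _))
    exact mem_map_of_mem (DZeroPts.CC x).subtype h3
  obtain ⟨d, hd1, hodd, hinv⟩ := Involutions.BaerSuzuki.exists_odd_inverted
    (⟨z 0 1, hwC⟩ : DZeroPts.CC x) (Subtype.ext (hz.sq 0 1)) hnp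
  refine hcon.false_of_inverts d.2 (fun e => hd1 (Subtype.ext e)) (by rwa [Subgroup.orderOf_coe]) ?_
  rw [hw]
  exact congrArg Subtype.val hinv

end case

/-- **`|V/E| = 2` in type (γ)** -/
theorem relIndex_EE {G : Type u} [Group G] [Finite G] {S : Sylow 2 G} {P : Subgroup G}
    {z : Fin 3 → Fin 3 → G} (h : Cfg S P) (hz : Plus2 (S : Subgroup G) P z) :
    (EE (S : Subgroup G) P).relIndex (zl (S : Subgroup G) P) = 2 := by
  by_cases h1 : phi (zz z) (vec (0, 1)) ∈ EE (S : Subgroup G) P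
  · exact relIndex_of h hz h1
  · exact (false_of_small h hz h1).elim

end Cfsg.Agent.Omega.NOne.AG.FourPlus
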