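import Cfsg.Agent.Omega.NOne.AG.IdxCore
import Cfsg.Agent.Omega.NOne.AG.End
import Cfsg.Agent.Omega.NOne.AG.FactsPlus
import Cfsg.Agent.Omega.NOne.LemmaT

/-!
# N1, type (γ): `|V / E| = 2` (`End.PlusIdx`; bb #14731, helper537)

The `S`-invariant subgroups of `V = N₁ ⊗ N₂` are `1 < ⟨z⟩ < ⟨z, e₀⟩ < z^⊥ < V`, and `E = V ∩ Q` is neither `⟨z⟩`
(Lemma T) nor `V`.  If `E = ⟨z, e₀⟩`, then `Q` induces on `V` a subgroup of `⟨s, s'⟩` (the transvections with
centres `e₀`, `z e₀`), so `Y = ⟨E^C⟩ ≤ Z(Q)`, and `Y` induces `s` and `s'` (otherwise `[Y, z₀₁] ≤ ⟨z⟩` and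
`z₀₁ ∈ Q`).  Now `IdxD.false` applies to `v₁ = z₁₁`, `v₂ = z₂₁`.
-/

set_option autoImplicit false
set_option linter.unusedSectionVars false

namespace Cfsg.Agent.Omega.NOne.AG.Idx

open Subgroup Cfsg Cfsg.Agent.ZN Cfsg.Agent.Omega.MinPar Cfsg.Agent.Omega.Frame
open Cfsg.Agent.Omega.NO1 (Cfg Plus2 EE)
open Cfsg.Agent.Omega.NoFF.LinesPlug (CC)
open Cfsg.Agent.Omega.NOne.DPlus
open Cfsg.Agent.Omega.NOne.DPlusPts
open Cfsg.Agent.Omega.NOne.PlusVec
open Cfsg.Agent.Omega.NOne.AG.FactsPlus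

universe u

/-! ### codes -/

theorem code_a : ∀ v : B4, v.2.2.2 = false → v ≠ o → v ≠ z0 → v ≠ e0 → v ≠ e1 →
    add v (lin (act8 true false false) v) = e0 := by decide +kernel

theorem code_b : ∀ v : B4, v.2.2.2 = true → (add v (lin (act8 false true false) v)).2.2.2 = false ∧
    (add v (lin (act8 false true false) v)) ≠ o ∧ (add v (lin (act8 false true false) v)) ≠ z0 ∧
    (add v (lin (act8 false true false) v)) ≠ e0 ∧ (add v (lin (act8 false true false) v)) ≠ e1 := by
  decide +kernel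

theorem code_perp1 : ∀ v : B4, v.2.2.2 = false → v ∉ [o, z0, e0, e1] → ∀ w : B4, w.2.2.2 = false →
    w ∈ [o, z0, e0, e1, v, add z0 v, add e0 v, add e1 v] := by
  decide +kernel

theorem code_perp (v w : B4) (hv : v.2.2.2 = false) (h1 : v ≠ o) (h2 : v ≠ z0) (h3 : v ≠ e0) (h4 : v ≠ e1)
    (hw : w.2.2.2 = false) :
    w = o ∨ w = z0 ∨ w = e0 ∨ w = e1 ∨ w = v ∨ w = add z0 v ∨ w = add e0 v ∨ w = add e1 v := by
  have h5 := code_perp1 v hv (by simp [h1, h2, h3, h4]) w hw
  simpa only [List.mem_cons, List.not_mem_nil, or_false] using h5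

/-- the elements of `D₈` that move `V` by elements of `⟨z, e₀⟩` -/
theorem code_F : ∀ b i j : Bool, (∀ v : B4, add (lin (act8 b i j) v) v = o ∨ add (lin (act8 b i j) v) v = z0 ∨
    add (lin (act8 b i j) v) v = e0 ∨ add (lin (act8 b i j) v) v = e1) → i = j := by decide +kernel

theorem code_fix : ∀ b i : Bool, lin (act8 b i i) z0 = z0 ∧ lin (act8 b i i) e0 = e0 ∧
    lin (act8 b i i) e1 = e1 := by decide +kernel

theorem z0_def : z0 = vec (0, 0) := by decide
theorem e0_e1 : add z0 e0 = e1 := by decide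
theorem e1_e0 : add z0 e1 = e0 := by decide

theorem code_11 : ∀ b i : Bool, lin (act8 b i i) (vec (1, 1)) = vec (1, 1) ∨
    lin (act8 b i i) (vec (1, 1)) = add e1 (vec (1, 1)) := by decide +kernel

theorem code_21 : ∀ b i : Bool, lin (act8 b i i) (vec (2, 1)) = vec (2, 1) ∨
    lin (act8 b i i) (vec (2, 1)) = add e0 (vec (2, 1)) := by decide +kernel

/-- `s = act8 true false false` -/
theorem code_s : lin (act8 true false false) (vec (1, 1)) = vec (1, 1) ∧
    lin (act8 true false false) (vec (2, 1)) = add e0 (vec (2, 1)) := by decide +kernel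

/-- `s' = act8 true true true` -/
theorem code_s' : lin (act8 true true true) (vec (1, 1)) = add e1 (vec (1, 1)) ∧
    lin (act8 true true true) (vec (2, 1)) = vec (2, 1) := by decide +kernel

/-- `s s' = act8 false true true` and `1` move `z₀₁` by elements of `⟨z⟩`. -/
theorem code_01 : ∀ i : Bool, lin (act8 false i i) (vec (0, 1)) = vec (0, 1) ∨
    lin (act8 false i i) (vec (0, 1)) = add z0 (vec (0, 1)) := by decide +kernel

/-- `s` and `s'` are conjugate under `act8 false true false` -/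
theorem code_conj : ∀ (i : Bool) (p : Fin 3 × Fin 3),
    act8 false true false (act8 true i i (act8 false true false p)) = act8 true (!i) (!i) p := by
  decide +kernel

theorem code_inv : ∀ p, act8 false true false (act8 false true false p) = p := by decide +kernel

section main

variable {G : Type u} [Group G] [Finite G] {S : Sylow 2 G} {P : Subgroup G} {z : Fin 3 → Fin 3 → G}

/-- `E < V` -/
theorem E_ne (h : Cfg S P) : ¬ zl (S : Subgroup G) P ≤ EE (S : Subgroup G) P := fun hle =>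
  h.one.not_le (hle.trans inf_le_right)

/-- `⟨z⟩ < E` (Lemma T) -/
theorem E_not_le (h : Cfg S P) (hz : Plus2 (S : Subgroup G) P z) :
    ¬ EE (S : Subgroup G) P ≤ zc (S : Subgroup G) := by
  intro hle
  have h1 := LemmaT.lemmaT S (F := zc (S : Subgroup G)) (V := zl (S : Subgroup G) P) h.char2C h.Z_le_V
    h.V_le_S (h.S_le.trans (Cfg.P_norm_V S P)) ?_ h.V_comm hle
  · have h2 := h1 ((pts hz).mem (0, 1))
    rw [hz.Z] at h2
    have h3 : ∀ x ∈ zpowers (z 0 0), x = phi (zz z) o ∨ x = phi (zz z) z0 := by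
      rintro x ⟨n, rfl⟩
      change z 0 0 ^ n = _ ∨ z 0 0 ^ n = _
      have h4 : phi (zz z) z0 = z 0 0 := phi_vec (grid hz) (0, 0)
      rw [phi_o, h4]
      have h5 : z 0 0 ^ (2 : ℤ) = 1 := by rw [zpow_two, hz.sq]
      rcases Int.even_or_odd' n with ⟨k, hk | hk⟩
      · left; rw [hk, zpow_mul, h5, one_zpow]
      · right; rw [hk, zpow_add, zpow_mul, h5, one_zpow, one_mul, zpow_one]
    rw [← phi_vec (grid hz) (0, 1)] at h2
    rcases h3 _ h2 with h4 | h4
    · exact absurd (phi_inj (grid hz) h4) (by decide)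
    · exact absurd (phi_inj (grid hz) h4) (by decide)
  · refine le_norm_of fun s hs x hx => ?_
    have h2 := (mem_zc.1 hx).2.1 s hs
    rw [h2, mul_inv_cancel_right]
    exact hx

theorem z0_mem (h : Cfg S P) (hz : Plus2 (S : Subgroup G) P z) : phi (zz z) z0 ∈ EE (S : Subgroup G) P := by
  have h1 : phi (zz z) z0 = z 0 0 := phi_vec (grid hz) (0, 0)
  rw [h1]
  apply h.Z_le_E
  rw [hz.Z]
  exact mem_zpowers _

theorem lin_mem (h : Cfg S P) (hz : Plus2 (S : Subgroup G) P z) {v : B4}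
    (hv : phi (zz z) v ∈ EE (S : Subgroup G) P) (b i j : Bool) :
    phi (zz z) (lin (act8 b i j) v) ∈ EE (S : Subgroup G) P := by
  obtain ⟨s, hs, h1⟩ := exists_S h hz b i j
  rw [← h1.conj_phi (grid hz)]
  exact conj_E h hs hv

theorem add_mem' (hz : Plus2 (S : Subgroup G) P z) {v w : B4}
    (hv : phi (zz z) v ∈ EE (S : Subgroup G) P) (hw : phi (zz z) w ∈ EE (S : Subgroup G) P) :
    phi (zz z) (add v w) ∈ EE (S : Subgroup G) P := by
  rw [phi_add (grid hz)]
  exact mul_mem hv hw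

/-- `e₀ ∈ E` -/
theorem e0_mem (h : Cfg S P) (hz : Plus2 (S : Subgroup G) P z) : phi (zz z) e0 ∈ EE (S : Subgroup G) P := by
  obtain ⟨x, hx, hxz⟩ := SetLike.not_le_iff_exists.1 (E_not_le h hz)
  obtain ⟨v, rfl⟩ := exists_phi (pts hz) hx.1
  have hvo : v ≠ o := by
    rintro rfl
    rw [phi_o] at hxz
    exact hxz (one_mem _)
  have hvz : v ≠ z0 := by
    rintro rfl
    apply hxz
    have h1 : phi (zz z) z0 = z 0 0 := phi_vec (grid hz) (0, 0)
    rw [h1, hz.Z]
    exact mem_zpowers _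
  have key : ∀ w : B4, w.2.2.2 = false → w ≠ o → w ≠ z0 → phi (zz z) w ∈ EE (S : Subgroup G) P →
      phi (zz z) e0 ∈ EE (S : Subgroup G) P := by
    intro w hw hwo hwz hwE
    by_cases hw0 : w = e0
    · rwa [← hw0]
    by_cases hw1 : w = e1
    · rw [hw1] at hwE
      have h1 := add_mem' hz (z0_mem h hz) hwE
      rwa [e1_e0] at h1
    · have h1 := add_mem' hz hwE (lin_mem h hz hwE true false false)
      rwa [code_a w hw hwo hwz hw0 hw1] at h1
  by_cases hd : v.2.2.2 = false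
  · exact key v hd hvo hvz hx
  · rw [Bool.not_eq_false] at hd
    obtain ⟨h1, h2, h3, -, -⟩ := code_b v hd
    exact key _ h1 h2 h3 (add_mem' hz hx (lin_mem h hz hx false true false))

theorem e1_mem (h : Cfg S P) (hz : Plus2 (S : Subgroup G) P z) : phi (zz z) e1 ∈ EE (S : Subgroup G) P := by
  have h1 := add_mem' hz (z0_mem h hz) (e0_mem h hz)
  rwa [e0_e1] at h1

/-- `|V / E| = 2` or `E = ⟨z, e₀⟩` -/
theorem two_cases (h : Cfg S P) (hz : Plus2 (S : Subgroup G) P z) :
    (EE (S : Subgroup G) P).relIndex (zl (S : Subgroup G) P) = 2 ∨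
      ∀ v, phi (zz z) v ∈ EE (S : Subgroup G) P → v = o ∨ v = z0 ∨ v = e0 ∨ v = e1 := by
  by_cases hcon : ∀ v, phi (zz z) v ∈ EE (S : Subgroup G) P → v = o ∨ v = z0 ∨ v = e0 ∨ v = e1
  · exact Or.inr hcon
  left
  push Not at hcon
  obtain ⟨v, hv, hvo, hvz, hv0, hv1⟩ := hcon
  obtain ⟨v, hv, hvo, hvz, hv0, hv1, hvd⟩ : ∃ v, phi (zz z) v ∈ EE (S : Subgroup G) P ∧ v ≠ o ∧ v ≠ z0 ∧
      v ≠ e0 ∧ v ≠ e1 ∧ v.2.2.2 = false := by
    by_cases hd : v.2.2.2 = false
    · exact ⟨v, hv, hvo, hvz, hv0, hv1, hd⟩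
    · rw [Bool.not_eq_false] at hd
      obtain ⟨h1, h2, h3, h4, h5⟩ := code_b v hd
      exact ⟨_, add_mem' hz hv (lin_mem h hz hv false true false), h2, h3, h4, h5, h1⟩
  have hperp : ∀ w : B4, w.2.2.2 = false → phi (zz z) w ∈ EE (S : Subgroup G) P := by
    intro w hw
    rcases code_perp v w hvd hvo hvz hv0 hv1 hw with h1 | h1 | h1 | h1 | h1 | h1 | h1 | h1 <;> rw [h1]
    · rw [phi_o]; exact one_mem _
    · exact z0_mem h hz
    · exact e0_mem h hz
    · exact e1_mem h hz
    · exact hv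
    · exact add_mem' hz (z0_mem h hz) hv
    · exact add_mem' hz (e0_mem h hz) hv
    · exact add_mem' hz (e1_mem h hz) hv
  have hiff : ∀ w : B4, phi (zz z) w ∈ EE (S : Subgroup G) P ↔ w.2.2.2 = false := by
    intro w
    refine ⟨fun hw => ?_, hperp w⟩
    by_contra hd
    rw [Bool.not_eq_false] at hd
    apply E_ne h
    intro x hx
    obtain ⟨u, rfl⟩ := exists_phi (pts hz) hx
    by_cases hu : u.2.2.2 = false
    · exact hperp u hu
    · rw [Bool.not_eq_false] at hu
      have h1 : phi (zz z) (add u w) ∈ EE (S : Subgroup G) P := by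
        apply hperp
        show (u.2.2.2 ^^ w.2.2.2) = false
        rw [hu, hd]; rfl
      rw [phi_add (grid hz)] at h1
      have h2 := mul_mem h1 (inv_mem hw)
      rwa [mul_inv_cancel_right] at h2
  rw [relIndex, index_eq_two_iff]
  refine ⟨⟨zz z (1, 1), (pts hz).mem _⟩, ?_⟩
  rintro ⟨b, hb⟩
  obtain ⟨u, rfl⟩ := exists_phi (pts hz) hb
  rw [mem_subgroupOf, mem_subgroupOf]
  change Xor (phi (zz z) u * zz z (1, 1) ∈ _) (phi (zz z) u ∈ _)
  rw [← phi_vec (grid hz) (1, 1), ← phi_add (grid hz), hiff, hiff]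
  have h3 : (add u (vec (1, 1))).2.2.2 = (u.2.2.2 ^^ true) := rfl
  rw [h3]
  cases u.2.2.2
  · right; simp
  · left; simp

/-! ### `E = ⟨z, e₀⟩` is impossible -/

/-- the normal closure of `E` in `C` -/
def YY (C E : Subgroup G) : Subgroup G := closure {y | ∃ c ∈ C, ∃ e ∈ E, y = c * e * c⁻¹}

omit [Finite G] in
theorem le_YY (C E : Subgroup G) : E ≤ YY C E := fun e he =>
  subset_closure ⟨1, one_mem _, e, he, by group⟩

omit [Finite G] in
theorem YY_norm (C E : Subgroup G) : C ≤ normalizer (YY C E : Set G) := by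
  refine le_norm_of fun c hc x hx => ?_
  induction hx using closure_induction with
  | mem x hx =>
    obtain ⟨d, hd, e, he, rfl⟩ := hx
    exact subset_closure ⟨c * d, mul_mem hc hd, e, he, by group⟩
  | one => simp
  | mul a b _ _ ha hb =>
    have e : c * (a * b) * c⁻¹ = (c * a * c⁻¹) * (c * b * c⁻¹) := by group
    rw [e]; exact mul_mem ha hb
  | inv a _ ha =>
    have e : c * a⁻¹ * c⁻¹ = (c * a * c⁻¹)⁻¹ := by group
    rw [e]; exact inv_mem ha

theorem false_of (h : Cfg S P) (hz : Plus2 (S : Subgroup G) P z)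
    (hE : ∀ v, phi (zz z) v ∈ EE (S : Subgroup G) P → v = o ∨ v = z0 ∨ v = e0 ∨ v = e1) : False := by
  set V := zl (S : Subgroup G) P with hV
  set C := centralizer ({z 0 0} : Set G) with hC
  have hCC : CC (S : Subgroup G) = C := CC_eq hz
  have hEE : EE (S : Subgroup G) P = V ⊓ o2 C := EE_eq hz
  have hg := grid hz
  have hp := pts hz
  have hzz : phi (zz z) z0 = z 0 0 := phi_vec hg (0, 0)
  have hchar2 : ∀ c ∈ C, (∀ x ∈ o2 C, c * x = x * c) → c ∈ o2 C := by
    intro c hc hcx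
    have h1 := h.char2C
    rw [hCC] at h1
    exact h1 ⟨hc, mem_centralizer_iff.2 fun x hx => (hcx x hx).symm⟩
  have hQS : o2 C ≤ (S : Subgroup G) := by
    have h1 := h.Q_le_S
    rwa [hCC] at h1
  have hSC : (S : Subgroup G) ≤ C := by
    have h1 := Cfg.S_le_CC S
    rwa [hCC] at h1
  have hVC : V ≤ C := h.V_le_S.trans hSC
  have hnQ : C ≤ normalizer (o2 C : Set G) := MinSimple.VModule.le_normalizer_o2 _
  have hVab : ∀ x ∈ V, ∀ y ∈ V, x * y = y * x := fun x hx y hy => hp.abel hx hy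
  have hCz : ∀ c ∈ C, c * z 0 0 = z 0 0 * c := fun c hc => mem_centralizer_singleton_iff.1 hc
  -- `[V, Q] ≤ E`
  have hVQ : ∀ v ∈ V, ∀ x ∈ o2 C, v * x * v⁻¹ * x⁻¹ ∈ EE (S : Subgroup G) P := by
    intro v hv x hx
    rw [hEE]
    refine ⟨?_, (o2 C).mul_mem (norm_conj hnQ (hVC hv) hx) ((o2 C).inv_mem hx)⟩
    have h1 := norm_conj (Cfg.P_norm_V S P) (h.S_le (hQS hx)) (inv_mem hv)
    have h2 := mul_mem hv h1
    have e : v * x * v⁻¹ * x⁻¹ = v * (x * v⁻¹ * x⁻¹) := by group
    rw [e]; exact h2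
  -- the action of `Q`
  have hQact : ∀ x ∈ o2 C, ∃ b i, Has (zz z) x (act8 b i i) := by
    intro x hx
    obtain ⟨b, i, j, h1⟩ := exists_act8 hz (h.S_le (hQS hx)) (hCz x (o2_le _ hx))
    have h2 : i = j := by
      apply code_F b i j
      intro v
      apply hE
      rw [phi_add hg, ← h1.conj_phi hg]
      have h3 := inv_mem (hVQ (phi (zz z) v) (phi_mem hp v) x hx)
      have e : (phi (zz z) v * x * (phi (zz z) v)⁻¹ * x⁻¹)⁻¹ = x * phi (zz z) v * x⁻¹ * (phi (zz z) v)⁻¹ := by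
        group
      rw [e, phi_inv hg] at h3
      exact h3
    rw [← h2] at h1
    exact ⟨b, i, h1⟩
  -- `Q` centralises `E`
  have hQE : ∀ x ∈ o2 C, ∀ e ∈ EE (S : Subgroup G) P, x * e = e * x := by
    intro x hx e he
    obtain ⟨b, i, h1⟩ := hQact x hx
    obtain ⟨v, rfl⟩ := exists_phi hp he.1
    have h2 : lin (act8 b i i) v = v := by
      rcases hE v he with rfl | rfl | rfl | rfl
      · cases b <;> cases i <;> decide
      · exact (code_fix b i).1
      · exact (code_fix b i).2.1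
      · exact (code_fix b i).2.2
    have h3 := h1.conj_phi hg v
    rw [h2] at h3
    calc x * phi (zz z) v = x * phi (zz z) v * x⁻¹ * x := by group
      _ = _ := by rw [h3]
  set Y := YY C (EE (S : Subgroup G) P) with hY
  have hnY : C ≤ normalizer (Y : Set G) := YY_norm _ _
  have hEY : EE (S : Subgroup G) P ≤ Y := le_YY _ _
  have hEQ : EE (S : Subgroup G) P ≤ o2 C := by rw [hEE]; exact inf_le_right
  have hYQ : Y ≤ o2 C := by
    rw [hY, YY, closure_le]
    rintro _ ⟨c, hc, e, he, rfl⟩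
    exact norm_conj hnQ hc (hEQ he)
  have hQY : ∀ x ∈ o2 C, ∀ y ∈ Y, x * y = y * x := by
    intro x hx y hy
    have h1 : Y ≤ centralizer {x} := by
      rw [hY, YY, closure_le]
      rintro _ ⟨c, hc, e, he, rfl⟩
      refine mem_centralizer_singleton_iff.2 ?_
      have h2 := hQE _ (norm_conj hnQ (inv_mem hc) hx) e he
      calc c * e * c⁻¹ * x = c * (e * (c⁻¹ * x * c⁻¹⁻¹)) * c⁻¹ := by group
        _ = x * (c * e * c⁻¹) := by rw [← h2]; group
    exact (mem_centralizer_singleton_iff.1 (h1 hy)).symm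
  have hz00Y : z 0 0 ∈ Y := by
    rw [← hzz]
    exact hEY (z0_mem h hz)
  have h01 : zz z (0, 1) ∉ o2 C := by
    intro hm
    have h1 : phi (zz z) (vec (0, 1)) ∈ EE (S : Subgroup G) P := by
      rw [phi_vec hg, hEE]
      exact ⟨hp.mem _, hm⟩
    rcases hE _ h1 with h2 | h2 | h2 | h2
    · exact absurd h2 (by decide)
    · exact absurd h2 (by decide)
    · exact absurd h2 (by decide)
    · exact absurd h2 (by decide)
  -- (2)
  have hYs : ∃ y ∈ Y, ∃ i, Has (zz z) y (act8 true i i) := by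
    by_contra hcon
    push Not at hcon
    apply h01
    have hQQ : DZeroPts.QQ (z 0 0) = o2 C := by rw [DZeroPts.QQ, DZeroPts.CC_eq]
    rw [← hQQ]
    refine chain3 (x := z 0 0) (R := Y) (Z := zpowers (z 0 0)) ?_ ?_ ?_ ?_ ?_ ?_ ?_ ?_ ?_
    · intro g hg1 hg2
      rw [hQQ] at hg2 ⊢
      exact hchar2 g (mem_centralizer_singleton_iff.2 hg1) hg2
    · rw [hQQ]; exact hYQ
    · exact (zpowers_le).2 hz00Y
    · intro c hc y hy
      exact norm_conj hnY (mem_centralizer_singleton_iff.2 hc) hy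
    · rintro c hc _ ⟨n, rfl⟩
      have h1 : Commute c (z 0 0) := hc
      change c * z 0 0 ^ n * c⁻¹ ∈ _
      rw [(h1.zpow_right n).eq, mul_inv_cancel_right]
      exact ⟨n, rfl⟩
    · exact hCz _ (hVC (hp.mem _))
    · intro q hq
      rw [hQQ] at hq
      exact hEY (hVQ _ (hp.mem _) q hq)
    · intro y hy
      obtain ⟨b, i, h1⟩ := hQact y (hYQ hy)
      have hb : b = false := by
        by_contra hb
        rw [Bool.not_eq_false] at hb
        rw [hb] at h1
        exact hcon y hy i h1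
      rw [hb] at h1
      have h2 := h1.conj_phi hg (vec (0, 1))
      rw [phi_vec hg] at h2
      have e : zz z (0, 1) * y * (zz z (0, 1))⁻¹ * y⁻¹ = zz z (0, 1) * (y * zz z (0, 1) * y⁻¹)⁻¹ := by group
      rw [e, h2]
      rcases code_01 i with h3 | h3
      · rw [h3, phi_vec hg, mul_inv_cancel]; exact one_mem _
      · rw [h3, phi_add hg, phi_vec hg, hzz]
        have e2 : zz z (0, 1) * (z 0 0 * zz z (0, 1))⁻¹ = (z 0 0)⁻¹ := by group
        rw [e2]
        exact inv_mem (mem_zpowers _)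
    · rintro _ ⟨n, rfl⟩
      have h1 : Commute (zz z (0, 1)) (z 0 0) := hg.comm (0, 1) (0, 0)
      exact h1.zpow_right n
  have hYs2 : ∀ i, ∃ y ∈ Y, Has (zz z) y (act8 true i i) := by
    obtain ⟨y, hy, i, h1⟩ := hYs
    obtain ⟨r, hr, h2⟩ := exists_S h hz false true false
    have h3 : Has (zz z) (r * y * r⁻¹) (act8 true (!i) (!i)) := by
      intro p
      have e : r * y * r⁻¹ * zz z p * (r * y * r⁻¹)⁻¹ = r * (y * (r⁻¹ * zz z p * r) * y⁻¹) * r⁻¹ := by group
      have e2 : r⁻¹ * zz z p * r = zz z (act8 false true false p) := by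
        have h4 := h2 (act8 false true false p)
        rw [code_inv] at h4
        rw [← h4]; group
      rw [e, e2, h1, h2, code_conj]
    intro k
    by_cases hk : k = i
    · rw [hk]; exact ⟨y, hy, h1⟩
    · have hk' : k = !i := by
        cases k <;> cases i <;> simp_all
      rw [hk']
      exact ⟨_, norm_conj hnY (hSC hr) hy, h3⟩
  -- the data
  have hflip : ∀ {v ε : B4} {y : G} {b i : Bool}, Has (zz z) y (act8 b i i) → lin (act8 b i i) v = add ε v →
      phi (zz z) v * y * (phi (zz z) v)⁻¹ = phi (zz z) ε * y := by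
    intro v ε y b i h1 h2
    have h3 := h1.conj_phi hg v
    rw [h2, phi_add hg] at h3
    have h4 : y * phi (zz z) v = phi (zz z) ε * phi (zz z) v * y := by
      rw [← h3]; group
    calc phi (zz z) v * y * (phi (zz z) v)⁻¹
        = (phi (zz z) ε * phi (zz z) ε) * phi (zz z) v * y * (phi (zz z) v)⁻¹ := by
          rw [phi_sq hg, one_mul]
      _ = phi (zz z) ε * (phi (zz z) ε * phi (zz z) v * y) * (phi (zz z) v)⁻¹ := by group
      _ = phi (zz z) ε * y := by rw [← h4]; group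
  have hfix : ∀ {v : B4} {y : G} {b i : Bool}, Has (zz z) y (act8 b i i) → lin (act8 b i i) v = v →
      phi (zz z) v * y * (phi (zz z) v)⁻¹ = y := by
    intro v y b i h1 h2
    have h3 := h1.conj_phi hg v
    rw [h2] at h3
    have h4 : y * phi (zz z) v = phi (zz z) v * y := by
      nth_rw 2 [← h3]; group
    rw [← h4, mul_inv_cancel_right]
  have hze : phi (zz z) e1 = z 0 0 * phi (zz z) e0 := by
    rw [← e0_e1, phi_add hg, hzz]
  have hw : phi (zz z) (vec (1, 1)) * phi (zz z) (vec (2, 1)) = zz z (0, 1) := by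
    rw [← phi_add hg, ← phi_vec hg (0, 1)]
    congr 1
  have D : IdxD C (o2 C) Y (z 0 0) (phi (zz z) e0) (phi (zz z) (vec (1, 1))) (phi (zz z) (vec (2, 1))) :=
    { Qo2 := rfl
      char2 := hchar2
      Cz := hCz
      z2 := hz.sq 0 0
      z1 := hz.ne_one 0 0
      zY := hz00Y
      YQ := hYQ
      QY := hQY
      nY := hnY
      v1C := hVC (phi_mem hp _)
      v2C := hVC (phi_mem hp _)
      sq1 := phi_sq hg _
      sq2 := phi_sq hg _
      cv := phi_comm hg _ _
      QV1 := fun x hx => hEY (hVQ _ (phi_mem hp _) x hx)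
      QV2 := fun x hx => hEY (hVQ _ (phi_mem hp _) x hx)
      e0Y := hEY (e0_mem h hz)
      e02 := phi_sq hg _
      ev1 := phi_comm hg _ _
      ev2 := phi_comm hg _ _
      t1 := by
        intro y hy
        obtain ⟨b, i, h1⟩ := hQact y (hYQ hy)
        rcases code_11 b i with h2 | h2
        · left; exact hfix h1 h2
        · right; rw [← hze]; exact hflip h1 h2
      t2 := by
        intro y hy
        obtain ⟨b, i, h1⟩ := hQact y (hYQ hy)
        rcases code_21 b i with h2 | h2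
        · left; exact hfix h1 h2
        · right; exact hflip h1 h2
      y1 := by
        obtain ⟨y, hy, h1⟩ := hYs2 true
        refine ⟨y, hy, ?_, hfix h1 code_s'.2⟩
        rw [← hze]; exact hflip h1 code_s'.1
      y2 := by
        obtain ⟨y, hy, h1⟩ := hYs2 false
        exact ⟨y, hy, hfix h1 code_s.1, hflip h1 code_s.2⟩ }
  apply D.false
  rw [hw]
  exact h01

end main

/-- **Type (γ): `|V / E| = 2`.** -/
theorem plusIdx : End.PlusIdx.{u} := by
  intro G _ _ S P h z hz
  rcases two_cases h hz with h1 | h1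
  · exact h1
  · exact (false_of h hz h1).elim

end Cfsg.Agent.Omega.NOne.AG.Idx
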