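import Cfsg.Agent.Omega.NOne.AG.SixCore
import Cfsg.Agent.Omega.NOne.AG.GOf

/-!
# N1, type (γ): `|V / E| = 2` (bb #14731, helper537 (1)-(3)): the group theory in `C`

`Y = ⟨E^C⟩ ≤ Z(Q)`, `E = ⟨z, e₀⟩`; `v₁`, `v₂` act on `Y` as transvections with centres `z e₀`, `e₀`, and
`w = v₁ v₂ ∉ Q = O₂(C)`.  By Baer-Suzuki some `w^g` satisfies the braid relation with `v₁` or `v₂` on `Y / ⟨z⟩`,
so `w^g` is conjugate to `v_i` modulo `Q`: contradiction (`|[Y, w]| = 4`).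
-/

set_option autoImplicit false

namespace Cfsg.Agent.Omega.NOne.AG

open Subgroup Cfsg Cfsg.Agent.ZN

universe u

section words

variable {H : Type*} [Group H]

theorem braid (a b : H ≃* H) {e e' y : H} (ee : e * e = 1) (ee' : e' * e' = 1) (c : e' * e = e * e')
    (ae : a e = e) (be' : b e' = e') (ae' : a e' = e * e') (be : b e = e' * e)
    (ay : a y = y ∨ a y = e * y) (hb : b y = y ∨ b y = e' * y) : a (b (a y)) = b (a (b y)) := by
  have r1 : ∀ x, e * (e * x) = x := fun x => by rw [← mul_assoc, ee, one_mul]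
  have r2 : ∀ x, e' * (e' * x) = x := fun x => by rw [← mul_assoc, ee', one_mul]
  have r3 : ∀ x, e' * (e * x) = e * (e' * x) := fun x => by rw [← mul_assoc, c, mul_assoc]
  rcases ay with ay | ay <;> rcases hb with hb | hb <;>
    simp only [ay, hb, map_mul, ae, be', ae', be, mul_assoc, r1, r2, r3]

theorem four (a b : H ≃* H) {e e' y : H} (ee : e * e = 1) (ee' : e' * e' = 1) (c : e' * e = e * e')
    (ae : a e = e) (be' : b e' = e') (be : b e = e) (ae' : a e' = e' ∨ a e' = e * e')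
    (ay : a y = y ∨ a y = e * y) (hb : b y = y ∨ b y = e' * y) :
    a (b (a (b (a (b (a (b y))))))) = y := by
  have r1 : ∀ x, e * (e * x) = x := fun x => by rw [← mul_assoc, ee, one_mul]
  have r2 : ∀ x, e' * (e' * x) = x := fun x => by rw [← mul_assoc, ee', one_mul]
  have r3 : ∀ x, e' * (e * x) = e * (e' * x) := fun x => by rw [← mul_assoc, c, mul_assoc]
  rcases ay with ay | ay <;> rcases hb with hb | hb <;> rcases ae' with ae' | ae' <;>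
    simp only [ay, hb, map_mul, ae, be', ae', be, mul_assoc, r1, r2, r3]

end words

variable {G : Type u} [Group G]

/-- The data. -/
structure IdxD (C Q Y : Subgroup G) (z e₀ v₁ v₂ : G) : Prop where
  Qo2 : Q = o2 C
  char2 : ∀ c ∈ C, (∀ x ∈ Q, c * x = x * c) → c ∈ Q
  Cz : ∀ c ∈ C, c * z = z * c
  z2 : z * z = 1
  z1 : z ≠ 1
  zY : z ∈ Y
  YQ : Y ≤ Q
  QY : ∀ x ∈ Q, ∀ y ∈ Y, x * y = y * x
  nY : C ≤ normalizer (Y : Set G)
  v1C : v₁ ∈ C
  v2C : v₂ ∈ C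
  sq1 : v₁ * v₁ = 1
  sq2 : v₂ * v₂ = 1
  cv : v₁ * v₂ = v₂ * v₁
  QV1 : ∀ x ∈ Q, v₁ * x * v₁⁻¹ * x⁻¹ ∈ Y
  QV2 : ∀ x ∈ Q, v₂ * x * v₂⁻¹ * x⁻¹ ∈ Y
  e0Y : e₀ ∈ Y
  e02 : e₀ * e₀ = 1
  ev1 : v₁ * e₀ = e₀ * v₁
  ev2 : v₂ * e₀ = e₀ * v₂
  t1 : ∀ y ∈ Y, v₁ * y * v₁⁻¹ = y ∨ v₁ * y * v₁⁻¹ = z * e₀ * y
  t2 : ∀ y ∈ Y, v₂ * y * v₂⁻¹ = y ∨ v₂ * y * v₂⁻¹ = e₀ * y
  y1 : ∃ y ∈ Y, v₁ * y * v₁⁻¹ = z * e₀ * y ∧ v₂ * y * v₂⁻¹ = y
  y2 : ∃ y ∈ Y, v₁ * y * v₁⁻¹ = y ∧ v₂ * y * v₂⁻¹ = e₀ * y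

namespace IdxD

variable {C Q Y : Subgroup G} {z e₀ v₁ v₂ : G} (h : IdxD C Q Y z e₀ v₁ v₂)
include h

theorem nQ : C ≤ normalizer (Q : Set G) := by rw [h.Qo2]; exact le_normalizer_o2 _

theorem YC : Y ≤ C := h.YQ.trans (by rw [h.Qo2]; exact o2_le _)

theorem Yz {y : G} (hy : y ∈ Y) : y * z = z * y := h.Cz y (h.YC hy)

/-- (1) -/
theorem K2 [Finite G] {c : G} (hc : c ∈ C) (h1 : ∀ x ∈ Q, c * x * c⁻¹ * x⁻¹ ∈ Y)
    (h2 : ∀ y ∈ Y, Eqz z (c * y * c⁻¹) y) : c ∈ Q := by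
  have hzn : ∀ c ∈ C, ∀ k ∈ zpowers z, c * k * c⁻¹ = k := by
    rintro c hc _ ⟨n, rfl⟩
    have h1 : Commute c z := h.Cz c hc
    change c * z ^ n * c⁻¹ = z ^ n
    rw [(h1.zpow_right n).eq]; group
  let N : ℕ → Subgroup G := fun k => match k with
    | 0 => Q
    | 1 => Y
    | 2 => zpowers z
    | _ + 3 => ⊥
  rw [h.Qo2]
  refine chain_mem (C := C) (by rw [← h.Qo2]; exact h.char2) 3 N h.Qo2 rfl ?_ ?_ hc ?_
  · intro k
    match k with
    | 0 => exact h.nQ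
    | 1 => exact h.nY
    | 2 =>
      refine le_norm_of fun c hc x hx => ?_
      change c * x * c⁻¹ ∈ zpowers z
      rw [hzn c hc x hx]; exact hx
    | _ + 3 =>
      refine le_norm_of fun c hc x hx => ?_
      change c * x * c⁻¹ ∈ (⊥ : Subgroup G)
      rw [mem_bot.1 hx]; simp
  · intro k
    match k with
    | 0 => exact h.YQ
    | 1 => exact (zpowers_le).2 h.zY
    | 2 => exact bot_le
    | _ + 3 => exact le_rfl
  · intro k
    match k with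
    | 0 => exact h1
    | 1 =>
      intro x hx
      change c * x * c⁻¹ * x⁻¹ ∈ zpowers z
      rcases h2 x hx with h3 | h3
      · rw [h3, mul_inv_cancel]; exact one_mem _
      · rw [h3, mul_inv_cancel_right]; exact mem_zpowers z
    | 2 =>
      intro x hx
      change c * x * c⁻¹ * x⁻¹ ∈ (⊥ : Subgroup G)
      rw [hzn c hc x hx, mul_inv_cancel]; exact one_mem _
    | _ + 3 =>
      intro x hx
      change c * x * c⁻¹ * x⁻¹ ∈ (⊥ : Subgroup G)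
      rw [mem_bot.1 hx]; simp

/-- the centraliser of `Q / Y` in `C` -/
def L (_h : IdxD C Q Y z e₀ v₁ v₂) : Subgroup G where
  carrier := {c | c ∈ C ∧ ∀ x ∈ Q, c * x * c⁻¹ * x⁻¹ ∈ Y}
  one_mem' := ⟨one_mem _, fun x _ => by simp⟩
  mul_mem' := by
    rintro a b ⟨ha0, ha⟩ ⟨hb0, hb⟩
    refine ⟨mul_mem ha0 hb0, fun x hx => ?_⟩
    have e : a * b * x * (a * b)⁻¹ * x⁻¹ = (a * (b * x * b⁻¹ * x⁻¹) * a⁻¹) * (a * x * a⁻¹ * x⁻¹) := by
      group
    rw [e]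
    exact mul_mem (norm_conj _h.nY ha0 (hb x hx)) (ha x hx)
  inv_mem' := by
    rintro a ⟨ha0, ha⟩
    refine ⟨inv_mem ha0, fun x hx => ?_⟩
    have e : a⁻¹ * x * a⁻¹⁻¹ * x⁻¹ = a⁻¹ * (a * x * a⁻¹ * x⁻¹)⁻¹ * a⁻¹⁻¹ := by group
    rw [e]
    exact norm_conj _h.nY (inv_mem ha0) (inv_mem (ha x hx))

theorem L_conj {c x : G} (hc : c ∈ C) (hx : x ∈ h.L) : c * x * c⁻¹ ∈ h.L := by
  refine ⟨mul_mem (mul_mem hc hx.1) (inv_mem hc), fun y hy => ?_⟩
  have h1 := norm_conj h.nY hc (hx.2 _ (norm_conj h.nQ (inv_mem hc) hy))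
  have e : c * x * c⁻¹ * y * (c * x * c⁻¹)⁻¹ * y⁻¹ =
      c * (x * (c⁻¹ * y * c⁻¹⁻¹) * x⁻¹ * (c⁻¹ * y * c⁻¹⁻¹)⁻¹) * c⁻¹ := by group
  rw [e]; exact h1

theorem v1L : v₁ ∈ h.L := ⟨h.v1C, h.QV1⟩

theorem v2L : v₂ ∈ h.L := ⟨h.v2C, h.QV2⟩

/-- **(3)** -/
theorem false [Finite G] (hw : v₁ * v₂ ∉ Q) : False := by
  set w := v₁ * v₂ with hwd
  have hwL : w ∈ h.L := mul_mem h.v1L h.v2L
  have hwC : w ∈ C := hwL.1
  have hw2 : w * w = 1 := by
    calc w * w = v₁ * (v₂ * v₁) * v₂ := by rw [hwd]; group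
      _ = v₁ * (v₁ * v₂) * v₂ := by rw [h.cv]
      _ = (v₁ * v₁) * (v₂ * v₂) := by group
      _ = 1 := by rw [h.sq1, h.sq2, one_mul]
  -- Baer–Suzuki
  obtain ⟨g, hgC, hg1, hgo, hgv⟩ : ∃ g ∈ C, g ≠ 1 ∧ Odd (orderOf g) ∧ w * g * w⁻¹ = g⁻¹ := by
    have h1 : ¬ IsPGroup 2 (Subgroup.normalClosure {(⟨w, hwC⟩ : C)} : Subgroup C) := by
      intro hp
      apply hw
      rw [h.Qo2]
      have h2 : (Subgroup.normalClosure {(⟨w, hwC⟩ : C)}).map C.subtype ≤ o2 C := by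
        refine Cfsg.Agent.MinSimple.VModule.le_o2 ?_ (hp.map _) ?_
        · rintro _ ⟨x, -, rfl⟩; exact x.2
        · refine le_norm_of ?_
          rintro c hc _ ⟨x, hx, rfl⟩
          exact ⟨⟨c, hc⟩ * x * ⟨c, hc⟩⁻¹, Subgroup.Normal.conj_mem inferInstance x hx _, rfl⟩
      exact h2 ⟨⟨w, hwC⟩, Subgroup.subset_normalClosure rfl, rfl⟩
    obtain ⟨g, hg1, hgo, hgv⟩ := Involutions.BaerSuzuki.exists_odd_inverted (⟨w, hwC⟩ : C)
      (Subtype.ext hw2) h1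
    refine ⟨g, g.2, fun hc => hg1 (Subtype.ext hc), ?_, congrArg Subtype.val hgv⟩
    rwa [Subgroup.orderOf_coe]
  set w' := g * w * g⁻¹ with hw'
  have hw'L : w' ∈ h.L := h.L_conj hgC hwL
  have hw'C : w' ∈ C := hw'L.1
  have hww : w * w' = g⁻¹ * g⁻¹ := by
    calc w * w' = w * g * w⁻¹ * (w * w) * g⁻¹ := by rw [hw']; group
      _ = g⁻¹ * g⁻¹ := by rw [hgv, hw2, mul_one]
  set e' := g * e₀ * g⁻¹ with he'
  have he'Y : e' ∈ Y := norm_conj h.nY hgC h.e0Y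
  -- the quotient
  let zC : C := ⟨z, h.YC h.zY⟩
  have hzc : ∀ c : C, c * zC = zC * c := fun c => Subtype.ext (h.Cz c c.2)
  have hN : (zpowers zC).Normal := ⟨by
    rintro _ ⟨n, rfl⟩ c
    have h1 : Commute c zC := hzc c
    change c * zC ^ n * c⁻¹ ∈ _
    rw [(h1.zpow_right n).eq, mul_inv_cancel_right]
    exact ⟨n, rfl⟩⟩
  let π : C →* C ⧸ zpowers zC := QuotientGroup.mk' _
  have hπ : ∀ a b : C, π a = π b ↔ Eqz z (a : G) b := by
    intro a b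
    have hz2 : zC * zC = 1 := Subtype.ext h.z2
    have h2 : zC ^ (2 : ℤ) = 1 := by rw [zpow_two, hz2]
    have h0 : π a = π b ↔ a⁻¹ * b ∈ zpowers zC := QuotientGroup.eq
    have h01 : a⁻¹ * b ∈ zpowers zC ↔ a⁻¹ * b = 1 ∨ a⁻¹ * b = zC := by
      constructor
      · rintro ⟨k, hk⟩
        have hk' : zC ^ k = a⁻¹ * b := hk
        rcases Int.even_or_odd' k with ⟨m, hm | hm⟩
        · rw [hm, zpow_mul, h2, one_zpow] at hk'
          exact Or.inl hk'.symm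
        · rw [hm, zpow_add, zpow_mul, h2, one_zpow, one_mul, zpow_one] at hk'
          exact Or.inr hk'.symm
      · rintro (h3 | h3)
        · rw [h3]; exact one_mem _
        · rw [h3]; exact mem_zpowers _
    rw [h0, h01, inv_mul_eq_one, inv_mul_eq_iff_eq_mul]
    constructor
    · rintro (h3 | h3)
      · exact Or.inl (congrArg Subtype.val h3)
      · right
        have h4 : (b : G) = a * z := congrArg Subtype.val h3
        rw [h4, h.Cz _ a.2, ← mul_assoc, h.z2, one_mul]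
    · rintro (h3 | h3)
      · exact Or.inl (Subtype.ext h3)
      · right
        apply Subtype.ext
        change (b : G) = a * z
        rw [h3, mul_assoc, h.Cz _ b.2, ← mul_assoc, h.z2, one_mul]
  have hcj : ∀ c x : C, MulAut.conj (π c) (π x) = π (c * x * c⁻¹) := by
    intro c x
    rw [MulAut.conj_apply, map_mul, map_mul, map_inv]
  let ce : C := ⟨e₀, h.YC h.e0Y⟩
  let ce' : C := ⟨e', h.YC he'Y⟩
  let cw : C := ⟨w, hwC⟩
  let cw' : C := ⟨w', hw'C⟩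
  have hee : π ce * π ce = 1 := by
    rw [← map_mul, show ce * ce = 1 from Subtype.ext h.e02, map_one]
  have he'2 : e' * e' = 1 := by
    calc e' * e' = g * (e₀ * e₀) * g⁻¹ := by rw [he']; group
      _ = 1 := by rw [h.e02]; group
  have hee' : π ce' * π ce' = 1 := by
    rw [← map_mul, show ce' * ce' = 1 from Subtype.ext he'2, map_one]
  have hc0 : e' * e₀ = e₀ * e' := h.QY e' (h.YQ he'Y) e₀ h.e0Y
  have hc1 : π ce' * π ce = π ce * π ce' := by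
    rw [← map_mul, ← map_mul, show ce' * ce = ce * ce' from Subtype.ext hc0]
  have hconjY : ∀ {c y : G}, c ∈ C → y ∈ Y → c * y * c⁻¹ ∈ Y := fun hc hy => norm_conj h.nY hc hy
  -- (S1)
  have S1 : ∀ y ∈ Y, Eqz z (w * y * w⁻¹) y ∨ Eqz z (w * y * w⁻¹) (e₀ * y) := by
    intro y hy
    have e1 : w * y * w⁻¹ = v₁ * (v₂ * y * v₂⁻¹) * v₁⁻¹ := by rw [hwd]; group
    have e2 : v₁ * (e₀ * y) * v₁⁻¹ = e₀ * (v₁ * y * v₁⁻¹) := by
      calc v₁ * (e₀ * y) * v₁⁻¹ = (v₁ * e₀) * y * v₁⁻¹ := by group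
        _ = e₀ * (v₁ * y * v₁⁻¹) := by rw [h.ev1]; group
    have hze : e₀ * z = z * e₀ := h.Yz h.e0Y
    rcases h.t2 y hy with h2 | h2 <;> rcases h.t1 y hy with h1 | h1
    · left; left; rw [e1, h2, h1]
    · right; right; rw [e1, h2, h1, mul_assoc]
    · right; left; rw [e1, h2, e2, h1]
    · left; right
      rw [e1, h2, e2, h1, mul_assoc z, ← mul_assoc e₀ z, hze, mul_assoc z, ← mul_assoc e₀ e₀, h.e02,
        one_mul]
  have S2 : ∀ y ∈ Y, Eqz z (w' * y * w'⁻¹) y ∨ Eqz z (w' * y * w'⁻¹) (e' * y) := by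
    intro y hy
    have hy0 : g⁻¹ * y * g⁻¹⁻¹ ∈ Y := hconjY (inv_mem hgC) hy
    have e1 : w' * y * w'⁻¹ = g * (w * (g⁻¹ * y * g⁻¹⁻¹) * w⁻¹) * g⁻¹ := by rw [hw']; group
    rcases S1 _ hy0 with h1 | h1
    · left
      have h2 := h1.conj (h.Cz g hgC)
      rw [← e1] at h2
      exact h2.of_eq_right (by group)
    · right
      have h2 := h1.conj (h.Cz g hgC)
      rw [← e1] at h2
      exact h2.of_eq_right (by rw [he']; group)
  have hwe : w * e₀ * w⁻¹ = e₀ := by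
    have e1 : w * e₀ * w⁻¹ = v₁ * (v₂ * e₀) * v₂⁻¹ * v₁⁻¹ := by rw [hwd]; group
    rw [e1, h.ev2]
    calc v₁ * (e₀ * v₂) * v₂⁻¹ * v₁⁻¹ = (v₁ * e₀) * v₁⁻¹ := by group
      _ = e₀ := by rw [h.ev1]; group
  have hw'e' : w' * e' * w'⁻¹ = e' := by
    calc w' * e' * w'⁻¹ = g * (w * e₀ * w⁻¹) * g⁻¹ := by rw [hw', he']; group
      _ = e' := by rw [hwe]
  -- `x^4` is not in `Q`
  have hodd : ∀ {x : G}, x ∈ C → x ≠ 1 → Odd (orderOf x) → x * (x * (x * x)) ∈ Q → False := by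
    intro x hx hx1 hxo hxQ
    have e1 : x * (x * (x * x)) = x ^ (2 ^ 2) := by
      rw [show (2 : ℕ) ^ 2 = 3 + 1 from rfl, pow_succ', pow_succ', pow_two]
    rw [e1] at hxQ
    have hpQ : IsPGroup 2 Q := by rw [h.Qo2]; exact MinSimple.VModule.o2_isPGroup C
    obtain ⟨m, hm⟩ := LemmaT.exists_pow_eq_one hpQ
    have h2 := hm _ hxQ
    rw [← pow_mul, ← pow_add] at h2
    have h3 : orderOf x ∣ 2 ^ (2 + m) := orderOf_dvd_of_pow_eq_one h2
    have h5 : Nat.Coprime (orderOf x) (2 ^ (2 + m)) := hxo.coprime_two_right.pow_right _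
    exact hx1 (orderOf_eq_one_iff.1 (Nat.Coprime.eq_one_of_dvd h5 h3))
  have hgg : g * g ≠ 1 := by
    intro hc
    have h3 : orderOf g ∣ 2 := orderOf_dvd_of_pow_eq_one (by rw [pow_two, hc])
    exact hg1 (orderOf_eq_one_iff.1 (Nat.Coprime.eq_one_of_dvd hgo.coprime_two_right h3))
  have hoo : Odd (orderOf (g * g)) := by
    rw [← pow_two]
    exact hgo.of_dvd_nat (orderOf_pow_dvd 2)
  have hxL : w * w' ∈ h.L := mul_mem hwL hw'L
  have hxL' : w' * w ∈ h.L := mul_mem hw'L hwL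
  have hx1 : w * w' ≠ 1 := by
    rw [hww, ← mul_inv_rev]
    exact inv_ne_one.2 hgg
  have hxo : Odd (orderOf (w * w')) := by
    rw [hww, ← mul_inv_rev, orderOf_inv]
    exact hoo
  have hx' : w' * w = (w * w')⁻¹ := by
    have e1 : w⁻¹ = w := inv_eq_of_mul_eq_one_left hw2
    have e2 : w'⁻¹ = w' := by
      calc w'⁻¹ = g * w⁻¹ * g⁻¹ := by rw [hw', mul_inv_rev, mul_inv_rev, inv_inv, mul_assoc]
        _ = w' := by rw [e1]
    rw [mul_inv_rev, e1, e2]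
  have hx1' : w' * w ≠ 1 := by rw [hx']; exact inv_ne_one.2 hx1
  have hxo' : Odd (orderOf (w' * w)) := by rw [hx', orderOf_inv]; exact hxo
  -- translation
  have tr : ∀ {c y ε : G} (hc : c ∈ C) (hy : y ∈ Y) (hε : ε ∈ Y), Eqz z (c * y * c⁻¹) (ε * y) →
      MulAut.conj (π ⟨c, hc⟩) (π ⟨y, h.YC hy⟩) = π ⟨ε, h.YC hε⟩ * π ⟨y, h.YC hy⟩ := by
    intro c y ε hc hy hε h1
    rw [hcj, ← map_mul, hπ]
    exact h1
  have tr1 : ∀ {c y : G} (hc : c ∈ C) (hy : y ∈ Y), Eqz z (c * y * c⁻¹) y →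
      MulAut.conj (π ⟨c, hc⟩) (π ⟨y, h.YC hy⟩) = π ⟨y, h.YC hy⟩ := by
    intro c y hc hy h1
    rw [hcj, hπ]
    exact h1
  -- Case A
  by_cases hA : Eqz z (w' * e₀ * w'⁻¹) e₀
  · refine hodd hxL.1 hx1 hxo (h.K2 ?_ ?_ ?_)
    · exact mul_mem hxL.1 (mul_mem hxL.1 (mul_mem hxL.1 hxL.1))
    · exact (mul_mem hxL (mul_mem hxL (mul_mem hxL hxL))).2
    · intro y hy
      have h1 := four (MulAut.conj (π cw)) (MulAut.conj (π cw')) (e := π ce) (e' := π ce')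
        (y := π ⟨y, h.YC hy⟩) hee hee' hc1 (tr1 hwC h.e0Y (Or.inl hwe)) (tr1 hw'C he'Y (Or.inl hw'e'))
        (tr1 hw'C h.e0Y hA)
        ((S1 e' he'Y).imp (fun h2 => tr1 hwC he'Y h2) (fun h2 => tr hwC he'Y h.e0Y h2))
        ((S1 y hy).imp (fun h2 => tr1 hwC hy h2) (fun h2 => tr hwC hy h.e0Y h2))
        ((S2 y hy).imp (fun h2 => tr1 hw'C hy h2) (fun h2 => tr hw'C hy he'Y h2))
      have h2 : π ((cw * cw') * ((cw * cw') * ((cw * cw') * (cw * cw'))) * ⟨y, h.YC hy⟩ *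
          ((cw * cw') * ((cw * cw') * ((cw * cw') * (cw * cw'))))⁻¹) = π ⟨y, h.YC hy⟩ := by
        rw [← hcj]
        simp only [map_mul, MulAut.mul_apply]
        exact h1
      exact (hπ _ _).1 h2
  by_cases hB : Eqz z (w * e' * w⁻¹) e'
  · refine hodd hxL'.1 hx1' hxo' (h.K2 ?_ ?_ ?_)
    · exact mul_mem hxL'.1 (mul_mem hxL'.1 (mul_mem hxL'.1 hxL'.1))
    · exact (mul_mem hxL' (mul_mem hxL' (mul_mem hxL' hxL'))).2
    · intro y hy
      have h1 := four (MulAut.conj (π cw')) (MulAut.conj (π cw)) (e := π ce') (e' := π ce)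
        (y := π ⟨y, h.YC hy⟩) hee' hee hc1.symm (tr1 hw'C he'Y (Or.inl hw'e'))
        (tr1 hwC h.e0Y (Or.inl hwe))
        (tr1 hwC he'Y hB)
        ((S2 e₀ h.e0Y).imp (fun h2 => tr1 hw'C h.e0Y h2) (fun h2 => tr hw'C h.e0Y he'Y h2))
        ((S2 y hy).imp (fun h2 => tr1 hw'C hy h2) (fun h2 => tr hw'C hy he'Y h2))
        ((S1 y hy).imp (fun h2 => tr1 hwC hy h2) (fun h2 => tr hwC hy h.e0Y h2))
      have h2 : π ((cw' * cw) * ((cw' * cw) * ((cw' * cw) * (cw' * cw))) * ⟨y, h.YC hy⟩ *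
          ((cw' * cw) * ((cw' * cw) * ((cw' * cw) * (cw' * cw))))⁻¹) = π ⟨y, h.YC hy⟩ := by
        rw [← hcj]
        simp only [map_mul, MulAut.mul_apply]
        exact h1
      exact (hπ _ _).1 h2
  -- Case C: the braid relation
  have hA' : Eqz z (w' * e₀ * w'⁻¹) (e' * e₀) := (S2 e₀ h.e0Y).resolve_left hA
  -- `[Y, w] > 2`
  obtain ⟨y₁, hy₁, a1, a2⟩ := h.y1
  obtain ⟨y₂, hy₂, b1, b2⟩ := h.y2
  have e1 : w * y₁ * w⁻¹ = z * e₀ * y₁ := by
    calc w * y₁ * w⁻¹ = v₁ * (v₂ * y₁ * v₂⁻¹) * v₁⁻¹ := by rw [hwd]; group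
      _ = z * e₀ * y₁ := by rw [a2, a1]
  have e2 : w * y₂ * w⁻¹ = e₀ * y₂ := by
    calc w * y₂ * w⁻¹ = v₁ * (v₂ * y₂ * v₂⁻¹) * v₁⁻¹ := by rw [hwd]; group
      _ = (v₁ * e₀) * y₂ * v₁⁻¹ := by rw [b2]; group
      _ = e₀ * (v₁ * y₂ * v₁⁻¹) := by rw [h.ev1]; group
      _ = e₀ * y₂ := by rw [b1]
  have hgz := h.Cz g hgC
  have e3 : w' * (g * y₁ * g⁻¹) * w'⁻¹ = z * e' * (g * y₁ * g⁻¹) := by
    calc w' * (g * y₁ * g⁻¹) * w'⁻¹ = g * (w * y₁ * w⁻¹) * g⁻¹ := by rw [hw']; group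
      _ = (g * z) * e₀ * y₁ * g⁻¹ := by rw [e1]; group
      _ = z * e' * (g * y₁ * g⁻¹) := by rw [hgz, he']; group
  have e4 : w' * (g * y₂ * g⁻¹) * w'⁻¹ = e' * (g * y₂ * g⁻¹) := by
    calc w' * (g * y₂ * g⁻¹) * w'⁻¹ = g * (w * y₂ * w⁻¹) * g⁻¹ := by rw [hw']; group
      _ = e' * (g * y₂ * g⁻¹) := by rw [e2, he']; group
  have hze : e₀ * z = z * e₀ := h.Yz h.e0Y
  have he01 : ¬ Eqz z e₀ 1 := by
    intro hc
    apply hA
    rcases hc with hc | hc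
    · left; rw [hc]; group
    · left
      rw [hc, mul_one, h.Cz w' hw'C]; group
  have key : ∀ v ε : G, v ∈ h.L → v * e₀ = e₀ * v → (∀ y ∈ Y, v * y * v⁻¹ = y ∨ v * y * v⁻¹ = ε * y) →
      (ε = e₀ ∨ ε = z * e₀) → Eqz z (v * e' * v⁻¹) (e₀ * e') → False := by
    intro v ε hvL hve hv hε hve'
    have hvC := hvL.1
    have S3 : ∀ y ∈ Y, Eqz z (v * y * v⁻¹) y ∨ Eqz z (v * y * v⁻¹) (e₀ * y) := by
      intro y hy
      rcases hv y hy with h1 | h1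
      · exact Or.inl (Or.inl h1)
      · right
        rcases hε with h2 | h2
        · left; rw [h1, h2]
        · right; rw [h1, h2, mul_assoc]
    let cvv : C := ⟨v, hvC⟩
    -- `d`
    have hd : v * w' * v * (w' * v * w')⁻¹ ∈ Q := by
      have hdL : v * w' * v * (w' * v * w')⁻¹ ∈ h.L :=
        mul_mem (mul_mem (mul_mem hvL hw'L) hvL) (inv_mem (mul_mem (mul_mem hw'L hvL) hw'L))
      refine h.K2 hdL.1 hdL.2 ?_
      -- first for `y` replaced by its conjugate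
      have key1 : ∀ y ∈ Y, Eqz z (v * w' * v * y * (v * w' * v)⁻¹) (w' * v * w' * y * (w' * v * w')⁻¹) := by
        intro y hy
        have h1 := braid (MulAut.conj (π cvv)) (MulAut.conj (π cw')) (e := π ce) (e' := π ce')
          (y := π ⟨y, h.YC hy⟩) hee hee' hc1 (tr1 hvC h.e0Y (Or.inl (by rw [hve]; group)))
          (tr1 hw'C he'Y (Or.inl hw'e')) (tr hvC he'Y h.e0Y hve') (tr hw'C h.e0Y he'Y hA')
          ((S3 y hy).imp (fun h2 => tr1 hvC hy h2) (fun h2 => tr hvC hy h.e0Y h2))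
          ((S2 y hy).imp (fun h2 => tr1 hw'C hy h2) (fun h2 => tr hw'C hy he'Y h2))
        have h2 : π (cvv * cw' * cvv * ⟨y, h.YC hy⟩ * (cvv * cw' * cvv)⁻¹) =
            π (cw' * cvv * cw' * ⟨y, h.YC hy⟩ * (cw' * cvv * cw')⁻¹) := by
          rw [← hcj, ← hcj]
          simp only [map_mul, MulAut.mul_apply]
          exact h1
        exact (hπ _ _).1 h2
      intro y hy
      have hcc : w' * v * w' ∈ C := mul_mem (mul_mem hw'C hvC) hw'C
      have h3 := key1 _ (hconjY (inv_mem hcc) hy)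
      exact (h3.of_eq_left (by group)).of_eq_right (by group)
    -- `c v c⁻¹` and `w'` agree on `Y`
    have hag : ∀ y ∈ Y, (v * w') * v * (v * w')⁻¹ * y * ((v * w') * v * (v * w')⁻¹)⁻¹ = w' * y * w'⁻¹ := by
      intro y hy
      have h4 := h.QY _ hd _ (hconjY hw'C hy)
      have e5 : (v * w') * v * (v * w')⁻¹ * y * ((v * w') * v * (v * w')⁻¹)⁻¹ =
          v * w' * v * (w' * v * w')⁻¹ * (w' * y * w'⁻¹) * (v * w' * v * (w' * v * w')⁻¹)⁻¹ := by group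
      rw [e5, h4, mul_inv_cancel_right]
    have hcc : v * w' ∈ C := mul_mem hvC hw'C
    set δ := (v * w') * ε * (v * w')⁻¹ with hδ
    have hval : ∀ y ∈ Y, w' * y * w'⁻¹ = y ∨ w' * y * w'⁻¹ = δ * y := by
      intro y hy
      rw [← hag y hy]
      have hy0 := hconjY (inv_mem hcc) hy
      have e5 : (v * w') * v * (v * w')⁻¹ * y * ((v * w') * v * (v * w')⁻¹)⁻¹ =
          (v * w') * (v * ((v * w')⁻¹ * y * (v * w')⁻¹⁻¹) * v⁻¹) * (v * w')⁻¹ := by group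
      rw [e5]
      rcases hv _ hy0 with h6 | h6
      · left; rw [h6]; group
      · right; rw [h6, hδ]; group
    have he'1 : ¬ Eqz z e' 1 := by
      intro hc
      apply he01
      have h7 := hc.conj (a := g⁻¹) (by rw [inv_comm' hgz])
      exact (h7.of_eq_left (by rw [he']; group)).of_eq_right (by group)
    have f1 := hval _ (hconjY hgC hy₁)
    have f2 := hval _ (hconjY hgC hy₂)
    rw [e3] at f1
    rw [e4] at f2
    have g1 : z * e' = δ := by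
      rcases f1 with f1 | f1
      · exfalso
        apply he'1
        have h8 : z * e' = 1 := mul_right_cancel (f1.trans (one_mul _).symm)
        right
        rw [mul_one]
        have h9 : e' = z⁻¹ := eq_inv_of_mul_eq_one_right h8
        rw [h9]
        exact inv_eq_of_mul_eq_one_left h.z2
      · exact mul_right_cancel f1
    have g2 : e' = δ := by
      rcases f2 with f2 | f2
      · exact absurd (Or.inl (mul_right_cancel (f2.trans (one_mul _).symm))) he'1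
      · exact mul_right_cancel f2
    exact h.z1 (mul_right_cancel ((g1.trans g2.symm).trans (one_mul _).symm))
  -- which `v`
  have hz2 := h.z2
  rcases h.t1 e' he'Y with c1 | c1 <;> rcases h.t2 e' he'Y with c2 | c2
  · apply hB
    left
    calc w * e' * w⁻¹ = v₁ * (v₂ * e' * v₂⁻¹) * v₁⁻¹ := by rw [hwd]; group
      _ = e' := by rw [c2, c1]
  · exact key v₂ e₀ h.v2L h.ev2 h.t2 (Or.inl rfl) (Or.inl c2)
  · exact key v₁ (z * e₀) h.v1L h.ev1 h.t1 (Or.inr rfl) (Or.inr (by rw [c1, mul_assoc]))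
  · apply hB
    right
    calc w * e' * w⁻¹ = v₁ * (v₂ * e' * v₂⁻¹) * v₁⁻¹ := by rw [hwd]; group
      _ = (v₁ * e₀) * e' * v₁⁻¹ := by rw [c2]; group
      _ = e₀ * (v₁ * e' * v₁⁻¹) := by rw [h.ev1]; group
      _ = (e₀ * z) * e₀ * e' := by rw [c1]; group
      _ = z * (e₀ * e₀) * e' := by rw [hze]; group
      _ = z * e' := by rw [h.e02, mul_one]

end IdxD

end Cfsg.Agent.Omega.NOne.AG
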