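import Cfsg.Agent.Omega.NOne.AG.FivePlug
import Cfsg.Agent.Omega.NOne.AG.Six
import Cfsg.Agent.Omega.NOne.AG.Seven

/-!
# THEOREM D0ag (#15001): the case `Δ > V` is impossible; helper950

`LabFalse.false` : `Base` + `Lab` + minimality of `C_1` (`hgen`) is a contradiction: (5) `FivePlug.T0_le`,
(7) `Seven.seven`, (6) `Lab.six_false`.
-/

set_option autoImplicit false

namespace Cfsg.Agent.Omega.NOne.AG.LabFalse

open Subgroup Cfsg Cfsg.Agent.ZN Cfsg.Agent.Omega.NOne.AG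

universe u

variable {G : Type u} [Group G] {ι : Type*}

/-- **`Δ > V` is impossible** -/
theorem false [Finite G] {S : Sylow 2 G} {P V T : Subgroup G} {z : ι → G} {opp : ι → ι → Prop}
    {C Q QF Qs : ι → Subgroup G} {y : Fin 5 → Fin 5 → G} {pt : Fin 5 → Fin 5 → Fin 5 → Fin 5 → ι}
    {i₀ : ι} (h : Base S P V T z opp C Q QF Qs i₀) (L : Lab h.toConf y pt)
    (hgen : ∀ v ∈ V, v ∉ Q i₀ → ∀ d ∈ C i₀, d ≠ 1 → Odd (orderOf d) → v * d * v⁻¹ = d⁻¹ →
      C i₀ ≤ closure ({m | m ∈ P ∧ m * z i₀ = z i₀ * m} ∪ {d})) : False :=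
  L.six_false (FivePlug.T0_le h L) i₀
    (fun _ hx => Seven.seven h L (fun i => (h.Tt_le_T0 i).trans (FivePlug.T0_le h L)) hx) hgen

end Cfsg.Agent.Omega.NOne.AG.LabFalse
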