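import Cfsg.Agent.Omega.NOne.AG.FactsNat

/-!
# D0ag, type (α), `Δ > V`: the tables

`kk a b` : the coordinates of `y a b * y 0 1`.
-/

set_option autoImplicit false

namespace Cfsg.Agent.Omega.NOne.AG.LabOf

open Cfsg Cfsg.Agent.ZN
open Cfsg.Agent.Omega.NOne.AG.Tab

/-- `y a b = y 0 1 * W (kk a b)` -/
def kk (a b : Fin 5) : B4 :=
  dec ([0, 0, 1, 3, 2, 0, 0, 4, 8, 12, 1, 4, 0, 14, 11, 3, 8, 14, 0, 5, 2, 12, 11, 5, 0].getD
    (5 * a.1 + b.1) 0)

theorem kk_symm : ∀ a b, kk a b = kk b a := by decide +kernel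

theorem kk_inj : ∀ a b c d, a ≠ b → c ≠ d → kk a b = kk c d → (a = c ∧ b = d) ∨ (a = d ∧ b = c) := by
  decide +kernel

theorem kk_tb : ∀ a b c d, D4 a b c d → ad (kk a b) (kk c d) = tb a b c d := by decide +kernel

theorem kk_rel : ∀ a b c d m, D5 a b c d m → ad (kk a b) (kk a m) = ad (kk c d) (kk b m) := by
  decide +kernel

/-- the transpositions -/
abbrev s0 : Equiv.Perm (Fin 5) := Equiv.swap 0 1
@[inherit_doc s0] abbrev s1 : Equiv.Perm (Fin 5) := Equiv.swap 1 2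
@[inherit_doc s0] abbrev s2 : Equiv.Perm (Fin 5) := Equiv.swap 2 3
@[inherit_doc s0] abbrev s3 : Equiv.Perm (Fin 5) := Equiv.swap 3 4
/-- `(02)(13)` -/
abbrev tt : Equiv.Perm (Fin 5) := Equiv.swap 0 2 * Equiv.swap 1 3

theorem kk_s0 : ∀ a b, a ≠ b → sA s0 (kk a b) = kk (s0 a) (s0 b) := by decide +kernel

theorem kk_s1 : ∀ a b, a ≠ b → ad (dec 1) (sA s1 (kk a b)) = kk (s1 a) (s1 b) := by decide +kernel

theorem kk_s2 : ∀ a b, a ≠ b → sA s2 (kk a b) = kk (s2 a) (s2 b) := by decide +kernel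

theorem kk_s3 : ∀ a b, a ≠ b → sA s3 (kk a b) = kk (s3 a) (s3 b) := by decide +kernel

set_option synthInstance.maxHeartbeats 400000 in
set_option synthInstance.maxSize 1000 in
/-- the cocycles -/
theorem code : ∀ u v : B4, sA s0 v = v → ad u (sA s1 v) = ad v (sA s3 u) →
    ad u (sA s1 (sA s0 (sA s2 u))) = z0 → (u = dec 1 ∧ v = b0) ∨
      (ad z0 (ad u (sA s1 z0)) = dec 1 ∧ ad z0 (ad v (sA s3 z0)) = b0) := by
  decide +kernel

theorem tt_eq : s1 * (s0 * (s2 * s1)) = tt := by decide +kernel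

theorem s03 : s0 * s3 = s3 * s0 := by decide +kernel

theorem s13 : s1 * s3 = s3 * s1 := by decide +kernel

theorem sA_s0 : sA s0 z0 = z0 := by decide +kernel

theorem sA_s2 : sA s2 z0 = z0 := by decide +kernel

theorem sA_tt : sA tt z0 = z0 := by decide +kernel

theorem F_code : ∀ σ, (∀ y, f0 y = false → sA σ y = y ∨ sA σ y = ad z0 y) →
    σ = 1 ∨ σ = s0 ∨ σ = s2 ∨ σ = s0 * s2 := by
  decide +kernel

/-- `F` -/
def isF (σ : Equiv.Perm (Fin 5)) : Prop := σ = 1 ∨ σ = s0 ∨ σ = s2 ∨ σ = s0 * s2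

instance (σ : Equiv.Perm (Fin 5)) : Decidable (isF σ) := by unfold isF; infer_instance

theorem F_sep : ∀ σ τ : Equiv.Perm (Fin 5), isF σ → isF τ →
    (ad (sA σ (dec 1)) (dec 1) = ad (sA τ (dec 1)) (dec 1) ∨
      ad (sA σ (dec 1)) (dec 1) = ad z0 (ad (sA τ (dec 1)) (dec 1))) → σ = τ := by
  decide +kernel

theorem F_E : ∀ τ : Equiv.Perm (Fin 5), isF τ → f0 (ad (sA τ (dec 1)) (dec 1)) = false := by
  decide +kernel

theorem F_or : ∀ σ, sA σ z0 = z0 → isF σ ∨ isF (σ * tt⁻¹) := by decide +kernel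

/-- the points not perpendicular to `z` -/
theorem opp_code : ∀ x, f0 x = true ↔
    x = tb 0 2 1 4 ∨ x = tb 0 3 1 4 ∨ x = tb 1 2 0 4 ∨ x = tb 1 3 0 4 ∨
    x = tb 0 2 3 4 ∨ x = tb 1 2 3 4 ∨ x = tb 0 3 2 4 ∨ x = tb 1 3 2 4 := by
  decide +kernel

theorem perp1 : f0 (ad (kk 0 1) (kk 0 4)) = false := by decide +kernel

theorem perp2 : f0 (ad (kk 0 1) (kk 0 2)) = true := by decide +kernel

theorem kk_01 : kk 0 1 = b0 := by decide +kernel

theorem kk_23 : kk 2 3 = z0 := by decide +kernel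

/-- the permutation with given images -/
theorem exists_perm5 {a b c d m : Fin 5} (h : D5 a b c d m) :
    ∃ τ : Equiv.Perm (Fin 5), τ 0 = a ∧ τ 1 = b ∧ τ 2 = c ∧ τ 3 = d ∧ τ 4 = m := by
  have hinj : Function.Injective ![a, b, c, d, m] := by
    revert a b c d m
    decide +kernel
  exact ⟨Equiv.ofBijective _ (Finite.injective_iff_bijective.1 hinj), rfl, rfl, rfl, rfl, rfl⟩

theorem exists_fifth : ∀ a b c d : Fin 5, D4 a b c d → ∃ m, D5 a b c d m := by decide +kernel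

/-- `S₅` is generated by the adjacent transpositions -/
theorem ind5 {H : Submonoid (Equiv.Perm (Fin 5))} (h0 : s0 ∈ H) (h1 : s1 ∈ H) (h2 : s2 ∈ H)
    (h3 : s3 ∈ H) : H = ⊤ := by
  rw [eq_top_iff, ← Equiv.Perm.mclosure_swap_castSucc_succ 4, Submonoid.closure_le]
  rintro _ ⟨i, rfl⟩
  fin_cases i
  · exact h0
  · exact h1
  · exact h2
  · exact h3

end Cfsg.Agent.Omega.NOne.AG.LabOf
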