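import Cfsg.Agent.Omega.NOne.AG.EndNat

/-!
# THEOREM D0ag (bb #15001): the leaf `EndNat4` of N1

See `AG/EndNat.lean`: `Cfsg.Agent.Omega.NOne.AG.End.endNat4 : NO1.EndNat4`.
-/
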