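import Cfsg.Agent.Omega.NOne.AG.End
import Cfsg.Agent.Omega.NOne.AG.FrameCfg
import Cfsg.Agent.Omega.NOne.AG.FactsPlus
import Cfsg.Agent.Omega.NOne.AG.Rank

/-!
# THEOREM D0ag (bb #15001): `EndPlus2` from `|V / E| = 2` (helper537)
-/

set_option autoImplicit false

namespace Cfsg.Agent.Omega.NOne.AG.PlusEnd

open Subgroup Cfsg Cfsg.Agent.ZN Cfsg.Agent.Omega.MinPar Cfsg.Agent.Omega.Frame
open Cfsg.Agent.Omega.NO1 (Cfg Plus2 Nat4 Sympl EE)
open Cfsg.Agent.Omega.NOne.AG.End (PlusBase PlusIdx)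

universe u

/-- Type (γ): the configuration. -/
theorem plusBase : PlusBase.{u} := by
  intro G _ _ S P h z hz hE
  obtain ⟨C, QF, Qs, hp, -, hB⟩ := exists_base h hz.Z (hz.ne_one 0 0) (FactsPlus.card16 hz) hE
    (FactsPlus.facts h hz hE) (FactsPlus.stab h hz) (FactsPlus.ind h hz)
  exact ⟨Pts P (z 0 0), _, hp.opp, _, _, _, _, Pts.base P (z 0 0), rfl, hB⟩

/-- **`EndPlus2`** from `|V / E| = 2`. -/
theorem endPlus2_of_idx (h1 : PlusIdx.{u}) : NO1.EndPlus2.{u} := by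
  intro G _ _ S P h z hz
  obtain ⟨ι, ζ, opp, C, Q, QF, Qs, i₀, e, hB⟩ := plusBase G S P h z hz (h1 G S P h z hz)
  rcases hB.caseV (hB.Dl_le_of_plus2 hz) with h4 | ⟨h4, h5⟩
  · rwa [e] at h4
  · exact (hB.false_of_plus h5 rfl hz).elim

end Cfsg.Agent.Omega.NOne.AG.PlusEnd
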