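import Cfsg.Agent.Omega.NOne.AG.PlusThm

/-!
# `|V / E| = 2` in type (γ) (bb #14731)

See `AG/Idx.lean`, `AG/PlusThm.lean` (helper652).
-/
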