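import Cfsg.Agent.Omega.NOne.AG.Idx
import Cfsg.Agent.Omega.NOne.AG.EndPlus

/-!
# The leaf `EndPlus2` of N1 (D0ag (γ)): closed
-/

set_option autoImplicit false

namespace Cfsg.Agent.Omega.NOne.AG.PlusThm

universe u

/-- **`EndPlus2`.** -/
theorem endPlus2 : NO1.EndPlus2.{u} := End.endPlus2 Idx.plusIdx

end Cfsg.Agent.Omega.NOne.AG.PlusThm
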