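import Cfsg.Agent.Omega.NOne.AG.Core
import Cfsg.Agent.Omega.NOne.AG.K
import Cfsg.Agent.Omega.NOne.AG.GData

/-!
# THEOREM D0ag (#15001), section (7): the group `C_1` when `Q_1` induces `D₈`; helper950

`SevD C Q QF Qs B E z v g a` : the local situation at the point `z`.
* `SevD.fix_a` : an element of `C` fixing `a B` is in `Q ∪ v Q`;
* `SevD.all` : `C = {1, g, g⁻¹} {1, v} Q`.
-/

set_option autoImplicit false

namespace Cfsg.Agent.Omega.NOne.AG.Seven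

open Subgroup Cfsg Cfsg.Agent.ZN Cfsg.Agent.Omega.NOne.AG.GData

universe u

variable {G : Type u} [Group G]

/-- the local situation -/
structure SevD (C Q QF Qs B E : Subgroup G) (z v g a : G) : Prop where
  gd : GD E z v g
  gC : g ∈ C
  vC : v ∈ C
  Cz : ∀ c ∈ C, c * z = z * c
  hC : C ⊓ centralizer (o2 C : Set G) ≤ o2 C
  Qo2 : Q = o2 C
  QFQ : QF ≤ Q
  QsQF : Qs ≤ QF
  BQF : B ≤ QF
  nQ : ∀ c ∈ C, ∀ x ∈ Q, c * x * c⁻¹ ∈ Q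
  nQF : ∀ c ∈ C, ∀ x ∈ QF, c * x * c⁻¹ ∈ QF
  nQs : ∀ c ∈ C, ∀ x ∈ Qs, c * x * c⁻¹ ∈ Qs
  nB : ∀ c ∈ C, ∀ x ∈ B, c * x * c⁻¹ ∈ B
  EQs : E ≤ Qs
  nE : ∀ q ∈ Q, ∀ e ∈ E, q * e * q⁻¹ ∈ E
  com : ∀ x ∈ Qs, ∀ y ∈ QF, x * y = y * x ∨ x * y = z * (y * x)
  QFB : ∀ x ∈ QF, ∀ b ∈ B, x * b = b * x
  dec : ∀ x ∈ QF, ∃ e ∈ E, ∃ e' ∈ E, ∃ b ∈ B, x = e * (g * e' * g⁻¹) * b
  BE : ∀ b ∈ B, b ∈ E → b = 1 ∨ b = z
  zB : z ∈ B
  Bz : ∀ c ∈ C, ∀ b ∈ B, c * b * c⁻¹ * b⁻¹ = 1 ∨ c * b * c⁻¹ * b⁻¹ = z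
  aE : a ∈ E
  a1 : a ≠ 1
  az : a ≠ z
  QF2 : ∀ x ∈ Q, ∀ y ∈ Q, x ∉ QF → y ∉ QF → x * y ∈ QF
  fix : ∀ s ∈ Q, s ∉ QF → ∀ e ∈ E, (s * e * s⁻¹ = e ∨ s * e * s⁻¹ = e * z) →
    e = 1 ∨ e = z ∨ e = a ∨ e = a * z
  fa : ∀ q ∈ Q, q * a * q⁻¹ = a ∨ q * a * q⁻¹ = a * z
  ex : ∃ s ∈ Q, s ∉ QF

namespace SevD

variable {C Q QF Qs B E : Subgroup G} {z v g a : G} (h : SevD C Q QF Qs B E z v g a)
include h

theorem QC : Q ≤ C := by rw [h.Qo2]; exact o2_le _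

theorem QFC : QF ≤ C := h.QFQ.trans h.QC

theorem BC : B ≤ C := h.BQF.trans h.QFC

theorem QsC : Qs ≤ C := h.QsQF.trans h.QFC

theorem EC : E ≤ C := h.EQs.trans h.QsC

theorem gi {c x : G} {H : Subgroup G} (hn : ∀ c ∈ C, ∀ x ∈ H, c * x * c⁻¹ ∈ H) (hc : c ∈ C) (hx : x ∈ H) :
    c⁻¹ * x * c ∈ H := by
  have := hn c⁻¹ (inv_mem hc) x hx
  rwa [inv_inv] at this

theorem gE {e : G} (he : e ∈ E) : g * e * g⁻¹ ∈ Qs := h.nQs g h.gC e (h.EQs he)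

theorem zc {x : G} (hx : x ∈ E) : x = 1 ∨ x = z → g * x * g⁻¹ = x := by
  rintro (rfl | rfl)
  · group
  · rw [h.Cz g h.gC]; group

/-- directness -/
theorem dir {e e' b : G} (he : e ∈ E) (he' : e' ∈ E) (hb : b ∈ B) (heq : e * (g * e' * g⁻¹) = b) :
    (e = 1 ∨ e = z) ∧ (e' = 1 ∨ e' = z) := by
  have h1 : ∀ x ∈ E, x * (g * e' * g⁻¹) = (g * e' * g⁻¹) * x := by
    intro x hx
    have h2 : g * e' * g⁻¹ = e⁻¹ * b := by rw [← heq]; group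
    have h3 : x * e⁻¹ = e⁻¹ * x := h.gd.Eab _ hx _ (inv_mem he)
    have h4 : x * b = b * x := h.QFB _ (h.QsQF (h.EQs hx)) _ hb
    rw [h2, ← mul_assoc, h3, mul_assoc, h4, mul_assoc]
  have h2 := h.gd.ff e' he' h1
  refine ⟨?_, h2⟩
  have h3 := h.zc he' h2
  rw [h3] at heq
  have h4 : e' ∈ B := by
    rcases h2 with rfl | rfl
    · exact one_mem _
    · exact h.zB
  have h5 : e ∈ B := by
    have : e = b * e'⁻¹ := by rw [← heq]; group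
    rw [this]; exact mul_mem hb (inv_mem h4)
  exact h.BE e h5 he

/-- directness, second form -/
theorem dir2 {e₁ e₁' b₁ e₂ e₂' b₂ : G} (h1 : e₁ ∈ E) (h1' : e₁' ∈ E) (hb1 : b₁ ∈ B) (h2 : e₂ ∈ E)
    (h2' : e₂' ∈ E) (hb2 : b₂ ∈ B) (heq : e₁ * (g * e₁' * g⁻¹) * b₁ = e₂ * (g * e₂' * g⁻¹) * b₂) :
    (e₁ = e₂ ∨ e₁ = e₂ * z) ∧ (e₁' = e₂' ∨ e₁' = e₂' * z) := by
  have h3 : (e₂⁻¹ * e₁) * (g * (e₁' * e₂'⁻¹) * g⁻¹) = b₂ * b₁⁻¹ := by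
    have h4 : (g * e₂' * g⁻¹) * (b₂ * b₁⁻¹) = (b₂ * b₁⁻¹) * (g * e₂' * g⁻¹) :=
      h.QFB _ (h.QsQF (h.gE h2')) _ (mul_mem hb2 (inv_mem hb1))
    calc (e₂⁻¹ * e₁) * (g * (e₁' * e₂'⁻¹) * g⁻¹)
        = e₂⁻¹ * (e₁ * (g * e₁' * g⁻¹) * b₁) * b₁⁻¹ * (g * e₂'⁻¹ * g⁻¹) := by group
      _ = ((g * e₂' * g⁻¹) * (b₂ * b₁⁻¹)) * (g * e₂'⁻¹ * g⁻¹) := by rw [heq]; group
      _ = b₂ * b₁⁻¹ := by rw [h4]; group
  obtain ⟨h4, h5⟩ := h.dir (mul_mem (inv_mem h2) h1) (mul_mem h1' (inv_mem h2'))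
    (mul_mem hb2 (inv_mem hb1)) h3
  constructor
  · rcases h4 with h6 | h6
    · left; rw [inv_mul_eq_one] at h6; exact h6.symm
    · right; rw [← h6]; group
  · rcases h5 with h6 | h6
    · left; rw [mul_inv_eq_one] at h6; exact h6
    · right
      rw [mul_inv_eq_iff_eq_mul] at h6
      rw [h6]; exact (h.Cz _ (h.EC h2')).symm

/-- the subgroup `R = C_QF(Q mod B)` -/
def R (h : SevD C Q QF Qs B E z v g a) : Subgroup G := QF ⊓ K.st C Q B h.nB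

theorem mem_R {x : G} : x ∈ h.R ↔ x ∈ QF ∧ ∀ q ∈ Q, x * q * x⁻¹ * q⁻¹ ∈ B := by
  rw [R, mem_inf, K.mem_st]
  exact ⟨fun hx => ⟨hx.1, hx.2.2⟩, fun hx => ⟨hx.1, h.QFC hx.1, hx.2⟩⟩

theorem nR : ∀ c ∈ C, ∀ x ∈ h.R, c * x * c⁻¹ ∈ h.R := by
  intro c hc x hx
  obtain ⟨h1, h2⟩ := mem_inf.1 hx
  exact mem_inf.2 ⟨h.nQF c hc x h1, K.st_conj h.nQ hc h2⟩

theorem RQF : h.R ≤ QF := inf_le_left

/-- `⟨z, a⟩` -/
theorem R_dec {x : G} (hx : x ∈ h.R) : ∃ e e' : G, (e = 1 ∨ e = z ∨ e = a ∨ e = a * z) ∧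
    (e' = 1 ∨ e' = z ∨ e' = a ∨ e' = a * z) ∧ ∃ b ∈ B, x = e * (g * e' * g⁻¹) * b := by
  obtain ⟨s, hs, hsF⟩ := h.ex
  obtain ⟨hxF, hxq⟩ := h.mem_R.1 hx
  obtain ⟨e, he, e', he', b, hb, hxe⟩ := h.dec x hxF
  refine ⟨e, e', ?_, ?_, b, hb, hxe⟩
  all_goals
    have hgs : g⁻¹ * s * g ∈ Q := h.gi h.nQ h.gC hs
    have hgsF : g⁻¹ * s * g ∉ QF := fun hc => hsF (by
      have := h.nQF g h.gC _ hc
      rwa [show g * (g⁻¹ * s * g) * g⁻¹ = s by group] at this)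
    have h1 := hxq s hs
    obtain ⟨β, h3, h2⟩ : ∃ β ∈ B, s * x * s⁻¹ = x * β :=
      ⟨x⁻¹ * (x * s * x⁻¹ * s⁻¹)⁻¹ * x, h.gi h.nB (h.QFC hxF) (inv_mem h1), by group⟩
    have h4 : s * x * s⁻¹ = (s * e * s⁻¹) * (g * ((g⁻¹ * s * g) * e' * (g⁻¹ * s * g)⁻¹) * g⁻¹) * (s * b * s⁻¹) := by
      rw [hxe]; group
    rw [h4, hxe, mul_assoc (e * (g * e' * g⁻¹)) b] at h2
    obtain ⟨h5, h6⟩ := h.dir2 (h.nE s hs e he) (h.nE _ hgs e' he') (h.nB s (h.QC hs) b hb) he he'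
      (mul_mem hb h3) h2
  · exact h.fix s hs hsF e he h5
  · exact h.fix _ hgs hgsF e' he' h6

theorem aa : a * a = 1 := h.gd.Esq a h.aE

theorem aR : a ∈ h.R := by
  refine h.mem_R.2 ⟨h.QsQF (h.EQs h.aE), fun q hq => ?_⟩
  have h1 : a * q * a⁻¹ * q⁻¹ = a * (q * a * q⁻¹)⁻¹ := by group
  rw [h1]
  rcases h.fa q hq with h2 | h2
  · rw [h2, mul_inv_cancel]; exact one_mem _
  · rw [h2, h.Cz a (h.EC h.aE), mul_inv_rev, ← mul_assoc, mul_inv_cancel, one_mul]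
    exact inv_mem h.zB

theorem bR : g * a * g⁻¹ ∈ h.R := h.nR g h.gC a h.aR

theorem ab : a * (g * a * g⁻¹) = (g * a * g⁻¹) * a := (h.gd.perp h.aE h.a1 h.az h.aE).2 (Or.inr (Or.inr (Or.inl rfl)))

/-- the elements `x ∈ C` with `c x c⁻¹ ∈ x B` -/
theorem mul_B {c x x' : G} (hx : x ∈ C) (h1 : c * x * c⁻¹ * x⁻¹ ∈ B)
    (h2 : c * x' * c⁻¹ * x'⁻¹ ∈ B) : c * (x * x') * c⁻¹ * (x * x')⁻¹ ∈ B := by
  have e : c * (x * x') * c⁻¹ * (x * x')⁻¹ =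
      (c * x * c⁻¹ * x⁻¹) * (x * (c * x' * c⁻¹ * x'⁻¹) * x⁻¹) := by group
  rw [e]
  exact mul_mem h1 (h.nB x hx _ h2)

/-- `R = ⟨a, b⟩ B` is centralised mod `B` by the elements fixing `a B`, `b B` -/
theorem R_B {c : G} (hc : c ∈ C) (h1 : c * a * c⁻¹ * a⁻¹ ∈ B)
    (h2 : c * (g * a * g⁻¹) * c⁻¹ * (g * a * g⁻¹)⁻¹ ∈ B) {x : G} (hx : x ∈ h.R) : c * x * c⁻¹ * x⁻¹ ∈ B := by
  obtain ⟨e, e', he, he', b, hb, rfl⟩ := h.R_dec hx
  have hz : ∀ c ∈ C, c * z * c⁻¹ * z⁻¹ = 1 := fun c hc => by rw [h.Cz c hc]; group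
  have hzC : z ∈ C := h.BC h.zB
  have key : ∀ w : G, w ∈ C → (c * w * c⁻¹ * w⁻¹ ∈ B) → c * (w * z) * c⁻¹ * (w * z)⁻¹ ∈ B := by
    intro w hw h3
    exact h.mul_B hw h3 (by rw [hz c hc]; exact one_mem _)
  have haC := h.EC h.aE
  have hbC : g * a * g⁻¹ ∈ C := h.RQF.trans h.QFC h.bR
  have k1 : e ∈ C ∧ c * e * c⁻¹ * e⁻¹ ∈ B := by
    rcases he with rfl | rfl | rfl | rfl
    · exact ⟨one_mem _, by simp⟩
    · exact ⟨hzC, by rw [hz c hc]; exact one_mem _⟩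
    · exact ⟨haC, h1⟩
    · exact ⟨mul_mem haC hzC, key _ haC h1⟩
  have k2 : g * e' * g⁻¹ ∈ C ∧ c * (g * e' * g⁻¹) * c⁻¹ * (g * e' * g⁻¹)⁻¹ ∈ B := by
    have hgz : g * z * g⁻¹ = z := by rw [h.Cz g h.gC]; group
    rcases he' with rfl | rfl | rfl | rfl
    · rw [mul_one, mul_inv_cancel]; exact ⟨one_mem _, by simp⟩
    · rw [hgz]; exact ⟨hzC, by rw [hz c hc]; exact one_mem _⟩
    · exact ⟨hbC, h2⟩
    · have e5 : g * (a * z) * g⁻¹ = (g * a * g⁻¹) * z := by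
        calc g * (a * z) * g⁻¹ = (g * a * g⁻¹) * (g * z * g⁻¹) := by group
          _ = _ := by rw [hgz]
      rw [e5]
      exact ⟨mul_mem hbC hzC, key _ hbC h2⟩
  refine h.mul_B (mul_mem k1.1 k2.1) (h.mul_B k1.1 k1.2 k2.2) ?_
  exact mul_mem (h.nB c hc b hb) (inv_mem hb)

/-- an element of `QF` commuting with `a`, `b` is in `R` -/
theorem R_of_comm {x : G} (hx : x ∈ QF) (h1 : a * x = x * a) (h2 : (g * a * g⁻¹) * x = x * (g * a * g⁻¹)) :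
    x ∈ h.R := by
  obtain ⟨e, he, e', he', b, hb, rfl⟩ := h.dec x hx
  have haF := h.QsQF (h.EQs h.aE)
  have hbF := h.RQF h.bR
  have hab : a * b = b * a := h.QFB a haF b hb
  have hbb : (g * a * g⁻¹) * b = b * (g * a * g⁻¹) := h.QFB _ hbF b hb
  have hae : a * e = e * a := h.gd.Eab _ h.aE _ he
  have hae' : a * e' = e' * a := h.gd.Eab _ h.aE _ he'
  have hbe' : (g * a * g⁻¹) * (g * e' * g⁻¹) = (g * e' * g⁻¹) * (g * a * g⁻¹) := by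
    calc (g * a * g⁻¹) * (g * e' * g⁻¹) = g * (a * e') * g⁻¹ := by group
      _ = _ := by rw [hae']; group
  -- `a` commutes with `g e' g⁻¹`
  have h3 : a * (g * e' * g⁻¹) = (g * e' * g⁻¹) * a := by
    have h4 : e * (a * (g * e' * g⁻¹)) * b = e * ((g * e' * g⁻¹) * a) * b := by
      calc e * (a * (g * e' * g⁻¹)) * b = (e * a) * (g * e' * g⁻¹) * b := by group
        _ = a * (e * (g * e' * g⁻¹) * b) := by rw [← hae]; group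
        _ = e * (g * e' * g⁻¹) * (b * a) := by rw [h1]; group
        _ = _ := by rw [← hab]; group
    exact mul_left_cancel (mul_right_cancel h4)
  have h4 := (h.gd.perp h.aE h.a1 h.az he').1 (h.gd.symm h.aE he' h3)
  have h5 : e * (g * a * g⁻¹) = (g * a * g⁻¹) * e := by
    have h6 : ((g * a * g⁻¹) * e) * ((g * e' * g⁻¹) * b) = (e * (g * a * g⁻¹)) * ((g * e' * g⁻¹) * b) := by
      calc ((g * a * g⁻¹) * e) * ((g * e' * g⁻¹) * b) = (g * a * g⁻¹) * (e * (g * e' * g⁻¹) * b) := by group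
        _ = e * (g * e' * g⁻¹) * (b * (g * a * g⁻¹)) := by rw [h2]; group
        _ = e * ((g * e' * g⁻¹) * (g * a * g⁻¹)) * b := by rw [← hbb]; group
        _ = _ := by rw [← hbe']; group
    exact (mul_right_cancel h6).symm
  have h6 := (h.gd.perp h.aE h.a1 h.az he).1 h5
  -- membership
  have hzR : z ∈ h.R := h.mem_R.2 ⟨h.BQF h.zB, fun q hq => by
    have : z * q * z⁻¹ * q⁻¹ = 1 := by
      rw [← h.Cz q (h.QC hq)]; group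
    rw [this]; exact one_mem _⟩
  have hBR : b ∈ h.R := h.mem_R.2 ⟨h.BQF hb, fun q hq => by
    have : b * q * b⁻¹ * q⁻¹ = b * (q * b⁻¹ * q⁻¹) := by group
    rw [this]
    exact mul_mem hb (h.nB q (h.QC hq) _ (inv_mem hb))⟩
  have k : ∀ w : G, (w = 1 ∨ w = z ∨ w = a ∨ w = a * z) → w ∈ h.R := by
    rintro w (rfl | rfl | rfl | rfl)
    · exact one_mem _
    · exact hzR
    · exact h.aR
    · exact mul_mem h.aR hzR
  exact mul_mem (mul_mem (k e h6) (h.nR g h.gC _ (k e' h4))) hBR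

/-- **`J ≤ Q`** -/
theorem mem_Q_of_J [Finite G] {c : G} (hc : c ∈ C) (h1 : c * a * c⁻¹ * a⁻¹ ∈ B)
    (h2 : c * (g * a * g⁻¹) * c⁻¹ * (g * a * g⁻¹)⁻¹ ∈ B) : c ∈ Q := by
  have hzz := h.gd.zz
  have hzi := h.gd.zi
  rw [h.Qo2]
  refine K.chain5 h.hC (R := QF) (U := h.R) (W := B) (Z := zpowers z) h.nQF h.nR h.nB ?_
    (by rw [← h.Qo2]; exact h.QFQ) (by rw [← h.Qo2]; exact h.RQF.trans h.QFQ)
    (by rw [← h.Qo2]; exact h.BQF.trans h.QFQ) (by rw [← h.Qo2, zpowers_le]; exact h.QFQ (h.BQF h.zB)) hc ?_ ?_ ?_ ?_ ?_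
  · intro c hc x hx
    obtain ⟨k, rfl⟩ := mem_zpowers_iff.1 hx
    have h3 : Commute c z := h.Cz c hc
    rw [(h3.zpow_right k).eq, mul_inv_cancel_right]
    exact zpow_mem (mem_zpowers z) k
  · intro x hx
    rw [← h.Qo2] at hx
    by_cases hxF : x ∈ QF
    · exact mul_mem (h.nQF c hc x hxF) (inv_mem hxF)
    · refine h.QF2 _ (h.nQ c hc x hx) _ (inv_mem hx) (fun hcon => hxF ?_) fun hcon => hxF (inv_mem_iff.1 hcon)
      have := h.gi h.nQF hc hcon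
      rwa [show c⁻¹ * (c * x * c⁻¹) * c = x by group] at this
  · -- `QF / R`
    intro x hx
    have key : ∀ r ∈ Qs, c * r * c⁻¹ * r⁻¹ ∈ B →
        r * (c * x * c⁻¹ * x⁻¹) = (c * x * c⁻¹ * x⁻¹) * r := by
      intro r hr hrB
      obtain ⟨b, hb, hcr⟩ : ∃ b ∈ B, c⁻¹ * r * c = r * b := by
        refine ⟨r⁻¹ * (c⁻¹ * (c * r * c⁻¹ * r⁻¹)⁻¹ * c) * r, ?_, by group⟩
        exact h.gi h.nB (h.QsC hr) (h.gi h.nB hc (inv_mem hrB))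
      have hxb : x * b = b * x := h.QFB x hx b hb
      obtain ⟨ζ, hζz, hζ⟩ : ∃ ζ : G, (ζ = 1 ∨ ζ = z) ∧ x * r * x⁻¹ = ζ * r := by
        rcases h.com r hr x hx with h3 | h3
        · exact ⟨1, Or.inl rfl, by rw [← h3]; group⟩
        · refine ⟨z, Or.inr rfl, ?_⟩
          have h4 : x * r = z * (r * x) := by rw [h3, ← mul_assoc, hzz, one_mul]
          rw [h4]; group
      have hζc : ∀ w ∈ C, w * ζ = ζ * w := by
        intro w hw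
        rcases hζz with rfl | rfl
        · rw [mul_one, one_mul]
        · exact h.Cz w hw
      have hζ2 : ζ * ζ = 1 := by
        rcases hζz with rfl | rfl
        · exact one_mul 1
        · exact hzz
      have hxC := h.QFC hx
      -- `(c x c⁻¹) r (c x c⁻¹)⁻¹ = ζ r`
      have h5 : (c * x * c⁻¹) * r * (c * x * c⁻¹)⁻¹ = ζ * r := by
        calc (c * x * c⁻¹) * r * (c * x * c⁻¹)⁻¹ = c * (x * (c⁻¹ * r * c) * x⁻¹) * c⁻¹ := by group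
          _ = c * (x * r * (b * x⁻¹)) * c⁻¹ := by rw [hcr]; group
          _ = c * (x * r * (x⁻¹ * b)) * c⁻¹ := by rw [inv_comm' hxb]
          _ = c * ((x * r * x⁻¹) * b) * c⁻¹ := by group
          _ = (c * ζ) * (r * b) * c⁻¹ := by rw [hζ]; group
          _ = ζ * c * (c⁻¹ * r * c) * c⁻¹ := by rw [hζc c hc, hcr]
          _ = ζ * r := by group
      have h6 : x⁻¹ * r * x = ζ * r := by
        have h7 : x⁻¹ * (ζ * r) * x = r := by rw [← hζ]; group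
        calc x⁻¹ * r * x = (ζ * ζ) * (x⁻¹ * r * x) := by rw [hζ2, one_mul]
          _ = ζ * ((ζ * x⁻¹) * r * x) := by group
          _ = ζ * ((x⁻¹ * ζ) * r * x) := by rw [hζc _ (inv_mem hxC)]
          _ = ζ * (x⁻¹ * (ζ * r) * x) := by group
          _ = ζ * r := by rw [h7]
      have h8 : (c * x * c⁻¹ * x⁻¹) * r * (c * x * c⁻¹ * x⁻¹)⁻¹ = r := by
        have hxcC : c * x * c⁻¹ ∈ C := mul_mem (mul_mem hc hxC) (inv_mem hc)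
        calc (c * x * c⁻¹ * x⁻¹) * r * (c * x * c⁻¹ * x⁻¹)⁻¹
            = (c * x * c⁻¹) * (x⁻¹ * r * x) * (c * x * c⁻¹)⁻¹ := by group
          _ = ((c * x * c⁻¹) * ζ) * r * (c * x * c⁻¹)⁻¹ := by rw [h6]; group
          _ = ζ * ((c * x * c⁻¹) * r * (c * x * c⁻¹)⁻¹) := by rw [hζc _ hxcC]; group
          _ = r := by rw [h5, ← mul_assoc, hζ2, one_mul]
      exact (mul_inv_eq_iff_eq_mul.1 h8).symm
    refine h.R_of_comm (mul_mem (h.nQF c hc x hx) (inv_mem hx)) (key a (h.EQs h.aE) h1) (key _ (h.gE h.aE) h2)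
  · exact fun x hx => h.R_B hc h1 h2 hx
  · intro x hx
    rcases h.Bz c hc x hx with h3 | h3
    · rw [h3]; exact one_mem _
    · rw [h3]; exact mem_zpowers z
  · intro x hx
    obtain ⟨k, rfl⟩ := mem_zpowers_iff.1 hx
    have h3 : Commute c z := h.Cz c hc
    exact (h3.zpow_right k).eq

/-- the elements of `R` mod `B` -/
theorem R_cases {x : G} (hx : x ∈ h.R) : ∃ b ∈ B, x = b ∨ x = a * b ∨ x = (g * a * g⁻¹) * b ∨
    x = a * (g * a * g⁻¹) * b := by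
  obtain ⟨e, e', he, he', b, hb, hxe⟩ := h.R_dec hx
  have hgz : g * z * g⁻¹ = z := by rw [h.Cz g h.gC]; group
  have hbC : g * a * g⁻¹ ∈ C := h.RQF.trans h.QFC h.bR
  have k1 : ∃ α ζ : G, (α = 1 ∨ α = a) ∧ ζ ∈ B ∧ (ζ = 1 ∨ ζ = z) ∧ e = α * ζ := by
    rcases he with h1 | h1 | h1 | h1
    · exact ⟨1, 1, Or.inl rfl, one_mem _, Or.inl rfl, by rw [h1, mul_one]⟩
    · exact ⟨1, z, Or.inl rfl, h.zB, Or.inr rfl, by rw [h1, one_mul]⟩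
    · exact ⟨a, 1, Or.inr rfl, one_mem _, Or.inl rfl, by rw [h1, mul_one]⟩
    · exact ⟨a, z, Or.inr rfl, h.zB, Or.inr rfl, h1⟩
  have k2 : ∃ α ζ : G, (α = 1 ∨ α = g * a * g⁻¹) ∧ ζ ∈ B ∧ g * e' * g⁻¹ = α * ζ := by
    rcases he' with h1 | h1 | h1 | h1
    · exact ⟨1, 1, Or.inl rfl, one_mem _, by rw [h1]; group⟩
    · exact ⟨1, z, Or.inl rfl, h.zB, by rw [h1, one_mul, hgz]⟩
    · exact ⟨g * a * g⁻¹, 1, Or.inr rfl, one_mem _, by rw [h1, mul_one]⟩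
    · refine ⟨g * a * g⁻¹, z, Or.inr rfl, h.zB, ?_⟩
      calc g * e' * g⁻¹ = (g * a * g⁻¹) * (g * z * g⁻¹) := by rw [h1]; group
        _ = _ := by rw [hgz]
  obtain ⟨α, ζ, hα, hζB, hζ, rfl⟩ := k1
  obtain ⟨α', ζ', hα', hζB', hζ'⟩ := k2
  have hα'C : α' ∈ C := by
    rcases hα' with h1 | h1
    · rw [h1]; exact one_mem _
    · rw [h1]; exact hbC
  have hζc : ζ * α' = α' * ζ := by
    rcases hζ with h1 | h1
    · rw [h1, one_mul, mul_one]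
    · rw [h1]; exact (h.Cz _ hα'C).symm
  have hx2 : x = α * α' * (ζ * ζ' * b) := by
    rw [hxe, hζ']
    calc α * ζ * (α' * ζ') * b = α * (ζ * α') * ζ' * b := by group
      _ = _ := by rw [hζc]; group
  refine ⟨ζ * ζ' * b, mul_mem (mul_mem hζB hζB') hb, ?_⟩
  rcases hα with h1 | h1 <;> rcases hα' with h2 | h2
  · left; rw [hx2, h1, h2]; group
  · right; right; left; rw [hx2, h1, h2, one_mul]
  · right; left; rw [hx2, h1, h2, mul_one]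
  · right; right; right; rw [hx2, h1, h2]

theorem not_a {b : G} (hb : b ∈ B) : a ≠ b := by
  rintro rfl
  rcases h.BE a hb h.aE with h1 | h1
  · exact h.a1 h1
  · exact h.az h1

/-- `g⁻¹ a g ∈ a b B` -/
theorem ginv : ∃ β ∈ B, g⁻¹ * a * g = (g * a * g⁻¹) * a * β := by
  rcases h.gd.third h.aE h.a1 h.az with h1 | h1
  · exact ⟨1, one_mem _, by rw [h1, mul_one]⟩
  · exact ⟨z, h.zB, h1⟩

/-- **an element of `C` fixing `a B` is in `Q ∪ v Q`** -/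
theorem fix_a [Finite G] {c : G} (hc : c ∈ C) (h1 : c * a * c⁻¹ * a⁻¹ ∈ B) : c ∈ Q ∨ v * c ∈ Q := by
  have hbR := h.nR c hc _ h.bR
  have hbC : g * a * g⁻¹ ∈ C := h.RQF.trans h.QFC h.bR
  have haC := h.EC h.aE
  obtain ⟨b, hb, h2⟩ := h.R_cases hbR
  rcases h2 with h2 | h2 | h2 | h2
  · exfalso
    have h3 : a = (c * g)⁻¹ * b * (c * g) := by rw [← h2]; group
    exact h.not_a (h.gi h.nB (mul_mem hc h.gC) hb) h3
  · exfalso
    -- `a⁻¹ (g a g⁻¹) ∈ B`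
    have h4 : a⁻¹ * (g * a * g⁻¹) = c⁻¹ * ((c * a * c⁻¹)⁻¹ * (c * (g * a * g⁻¹) * c⁻¹)) * c := by group
    have h5 : (c * a * c⁻¹)⁻¹ * (c * (g * a * g⁻¹) * c⁻¹) ∈ B := by
      have h6 : (c * a * c⁻¹)⁻¹ * (c * (g * a * g⁻¹) * c⁻¹) =
          a⁻¹ * (c * a * c⁻¹ * a⁻¹)⁻¹ * a * b := by rw [h2]; group
      rw [h6]
      exact mul_mem (h.gi h.nB haC (inv_mem h1)) hb
    have h7 : a⁻¹ * (g * a * g⁻¹) ∈ B := by rw [h4]; exact h.gi h.nB hc h5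
    obtain ⟨h8, -⟩ := h.dir (inv_mem h.aE) h.aE h7 rfl
    rw [inv_eq_one, h.gd.Einv h.aE] at h8
    exact h8.elim h.a1 h.az
  · left
    refine h.mem_Q_of_J hc h1 ?_
    rw [h2]
    exact h.nB _ hbC _ hb
  · right
    obtain ⟨β, hβ, h3⟩ := h.ginv
    have hva : v * a * v⁻¹ = a := by rw [h.gd.vE a h.aE]; group
    have hvb : v * (g * a * g⁻¹) * v⁻¹ = (g * a * g⁻¹) * a * β := by
      rw [h.gd.conj_v h.aE, h3]
    refine h.mem_Q_of_J (mul_mem h.vC hc) ?_ ?_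
    · have h4 : v * c * a * (v * c)⁻¹ * a⁻¹ = v * (c * a * c⁻¹ * a⁻¹) * v⁻¹ * (v * a * v⁻¹ * a⁻¹) := by group
      rw [h4, hva, mul_inv_cancel, mul_one]
      exact h.nB v h.vC _ h1
    · have h4 : v * c * (g * a * g⁻¹) * (v * c)⁻¹ = (g * a * g⁻¹) * (β * (v * b * v⁻¹)) := by
        calc v * c * (g * a * g⁻¹) * (v * c)⁻¹ = v * (c * (g * a * g⁻¹) * c⁻¹) * v⁻¹ := by group
          _ = (v * a * v⁻¹) * (v * (g * a * g⁻¹) * v⁻¹) * (v * b * v⁻¹) := by rw [h2]; group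
          _ = a * ((g * a * g⁻¹) * a) * β * (v * b * v⁻¹) := by rw [hva, hvb]; group
          _ = (a * a) * (g * a * g⁻¹) * (β * (v * b * v⁻¹)) := by rw [← h.ab]; group
          _ = _ := by rw [h.aa, one_mul]
      rw [h4]
      exact h.nB _ hbC _ (mul_mem hβ (h.nB v h.vC b hb))

/-- **`C = {1, g, g⁻¹} {1, v} Q`** -/
theorem all [Finite G] {c : G} (hc : c ∈ C) :
    ∃ k : G, (k = 1 ∨ k = g ∨ k = g⁻¹) ∧ (k * c ∈ Q ∨ v * (k * c) ∈ Q) := by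
  have haC := h.EC h.aE
  obtain ⟨b, hb, h2⟩ := h.R_cases (h.nR c hc _ h.aR)
  rcases h2 with h2 | h2 | h2 | h2
  · exfalso
    have h3 : a = c⁻¹ * b * c := by rw [← h2]; group
    exact h.not_a (h.gi h.nB hc hb) h3
  · refine ⟨1, Or.inl rfl, ?_⟩
    rw [one_mul]
    refine h.fix_a hc ?_
    rw [h2]
    exact h.nB a haC b hb
  · refine ⟨g⁻¹, Or.inr (Or.inr rfl), h.fix_a (mul_mem (inv_mem h.gC) hc) ?_⟩
    have h3 : g⁻¹ * c * a * (g⁻¹ * c)⁻¹ * a⁻¹ = a * (g⁻¹ * b * g) * a⁻¹ := by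
      calc g⁻¹ * c * a * (g⁻¹ * c)⁻¹ * a⁻¹ = g⁻¹ * (c * a * c⁻¹) * g * a⁻¹ := by group
        _ = _ := by rw [h2]; group
    rw [h3]
    exact h.nB a haC _ (h.gi h.nB h.gC hb)
  · refine ⟨g, Or.inr (Or.inl rfl), h.fix_a (mul_mem h.gC hc) ?_⟩
    have hw : (g * a * g⁻¹) * (g * a * g⁻¹) = 1 := h.gd.sq_conj h.aE
    have hgz : g * z * g⁻¹ = z := by rw [h.Cz g h.gC]; group
    obtain ⟨ζ, hζ, h4⟩ : ∃ ζ ∈ B, g * h.gd.tau a * g⁻¹ = (g * a * g⁻¹) * ζ := by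
      rcases h.gd.tau_eq h.aE h.a1 h.az with h5 | h5
      · exact ⟨1, one_mem _, by rw [h5, mul_one]⟩
      · refine ⟨z, h.zB, ?_⟩
        rw [h5]
        calc g * (a * z) * g⁻¹ = (g * a * g⁻¹) * (g * z * g⁻¹) := by group
          _ = _ := by rw [hgz]
    have h3 : g * c * a * (g * c)⁻¹ * a⁻¹ = ζ * (a * (g * b * g⁻¹) * a⁻¹) := by
      calc g * c * a * (g * c)⁻¹ * a⁻¹ = g * (c * a * c⁻¹) * g⁻¹ * a⁻¹ := by group
        _ = (g * a * g⁻¹) * (g * g * a * (g * g)⁻¹) * (g * b * g⁻¹) * a⁻¹ := by rw [h2]; group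
        _ = (g * a * g⁻¹) * ((g * a * g⁻¹) * ζ * a) * (g * b * g⁻¹) * a⁻¹ := by
            rw [h.gd.conj_sq h.aE, h4]
        _ = ((g * a * g⁻¹) * (g * a * g⁻¹)) * ζ * (a * (g * b * g⁻¹) * a⁻¹) := by group
        _ = _ := by rw [hw, one_mul]
    rw [h3]
    exact mul_mem hζ (h.nB a haC _ (h.nB g h.gC b hb))

/-- `Qs = E^g E` -/
theorem Qs_W [Finite G] (gen : Qs ≤ closure {x | ∃ c ∈ C, ∃ e ∈ E, x = c * e * c⁻¹}) {x : G} (hx : x ∈ Qs) :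
    ∃ e' ∈ E, ∃ e ∈ E, x = (g * e' * g⁻¹) * e := by
  have hW : ∀ {x}, x ∈ E.map (MulAut.conj g).toMonoidHom ⊔ E ↔
      ∃ a ∈ E.map (MulAut.conj g).toMonoidHom, ∃ b ∈ E, x = a * b := fun {x} => by
    refine mem_sup_iff ?_
    rintro _ ⟨e, he, rfl⟩ b hb
    exact h.nE _ (h.QFQ (h.QsQF (h.gE he))) b hb
  have h1 : ∀ e ∈ E, g * e * g⁻¹ ∈ E.map (MulAut.conj g).toMonoidHom := fun e he => ⟨e, he, rfl⟩
  have h2 : Qs ≤ E.map (MulAut.conj g).toMonoidHom ⊔ E := by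
    refine gen.trans ((closure_le _).2 ?_)
    rintro _ ⟨c, hc, e, he, rfl⟩
    obtain ⟨k, hk, hkc⟩ := h.all hc
    obtain ⟨e₁, he₁, h3⟩ : ∃ e₁ ∈ E, c * e * c⁻¹ = k⁻¹ * e₁ * k := by
      rcases hkc with h4 | h4
      · exact ⟨_, h.nE _ h4 e he, by group⟩
      · refine ⟨_, h.nE _ h4 e he, ?_⟩
        have h5 := h.nE _ h4 e he
        have h6 : v⁻¹ * ((v * (k * c)) * e * (v * (k * c))⁻¹) * v = (v * (k * c)) * e * (v * (k * c))⁻¹ := by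
          have h7 := h.gd.vE _ h5
          rw [mul_assoc, ← h7]; group
        rw [← h6]; group
    rw [SetLike.mem_coe, h3]
    rcases hk with rfl | rfl | rfl
    · rw [inv_one, one_mul, mul_one]; exact mem_sup_right he₁
    · by_cases h4 : e₁ = 1
      · subst h4
        rw [mul_one, inv_mul_cancel]; exact one_mem _
      by_cases h5 : e₁ = z
      · subst h5
        have : k⁻¹ * e₁ * k = e₁ := by rw [mul_assoc, ← h.Cz k h.gC]; group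
        rw [this]; exact mem_sup_right he₁
      rcases h.gd.third he₁ h4 h5 with h6 | h6
      · rw [h6]; exact mul_mem (mem_sup_left (h1 _ he₁)) (mem_sup_right he₁)
      · rw [h6]
        exact mul_mem (mul_mem (mem_sup_left (h1 _ he₁)) (mem_sup_right he₁)) (mem_sup_right h.gd.zE)
    · rw [inv_inv]; exact mem_sup_left (h1 _ he₁)
  obtain ⟨_, ⟨e', he', rfl⟩, e, he, rfl⟩ := hW.1 (h2 hx)
  exact ⟨e', he', e, he, rfl⟩

/-- `C_Qs(E) = E` -/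
theorem Qs_cent [Finite G] (gen : Qs ≤ closure {x | ∃ c ∈ C, ∃ e ∈ E, x = c * e * c⁻¹}) {x : G} (hx : x ∈ Qs)
    (hxE : ∀ e ∈ E, x * e = e * x) : x ∈ E := by
  obtain ⟨e', he', e, he, rfl⟩ := h.Qs_W gen hx
  have h1 : ∀ u ∈ E, u * (g * e' * g⁻¹) = (g * e' * g⁻¹) * u := by
    intro u hu
    have h2 := hxE u hu
    have h3 : (g * e' * g⁻¹) * u * e = u * (g * e' * g⁻¹) * e := by
      calc (g * e' * g⁻¹) * u * e = (g * e' * g⁻¹) * e * u := by rw [mul_assoc, h.gd.Eab u hu e he, ← mul_assoc]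
        _ = _ := by rw [h2]; group
    exact (mul_right_cancel h3).symm
  rcases h.gd.ff e' he' h1 with rfl | rfl
  · rw [mul_one, mul_inv_cancel, one_mul]; exact he
  · rw [h.Cz g h.gC, mul_inv_cancel_right]; exact mul_mem he' he

end SevD

end Cfsg.Agent.Omega.NOne.AG.Seven
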