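import Cfsg.Agent.Omega.NOne.AG.LabY
import Cfsg.Agent.Omega.NOne.AG.SevenD

/-!
# THEOREM D0ag (#15001), section (7): `Base` + `Lab` + (5) give the local situation `SevD`; helper950
-/

set_option autoImplicit false

namespace Cfsg.Agent.Omega.NOne.AG.Seven

open Subgroup Cfsg Cfsg.Agent.ZN Cfsg.Agent.Omega.NOne.AG Cfsg.Agent.Omega.NOne.AG.GData
open Cfsg.Agent.Omega.NOne.AG.FiveDl (Ys Yt ac ph par)
open Cfsg.Agent.Omega.NOne.AG.LabY (tt)

universe u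

set_option maxRecDepth 100000 in
theorem cf1 : ∀ σ ∈ [tt, tt * Equiv.swap 0 1, tt * Equiv.swap 2 3, tt * (Equiv.swap 0 1 * Equiv.swap 2 3)],
    ∀ w ∈ [0, 5, 29, 24, 12, 9, 20, 17], (ac σ w = w ∨ ac σ w = w ^^^ 5) → w ∈ [0, 5, 29, 24] := by
  decide

set_option maxRecDepth 100000 in
theorem cf2 : ∀ σ ∈ [1, Equiv.swap 0 1, Equiv.swap 2 3, Equiv.swap 0 1 * Equiv.swap 2 3,
    tt, tt * Equiv.swap 0 1, tt * Equiv.swap 2 3, tt * (Equiv.swap 0 1 * Equiv.swap 2 3)],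
    ac σ 29 = 29 ∨ ac σ 29 = 24 := by
  decide

theorem ac_lt (σ : Equiv.Perm (Fin 5)) (w : ℕ) : ac σ w < 32 := by
  have h1 : ∀ (b : Bool) (i j : Fin 5), (bif b then Yt i j else 0) < 2 ^ 5 := by
    intro b i j
    cases b
    · norm_num
    · exact FiveDl.Yt_lt i j
  unfold ac
  exact Nat.xor_lt_two_pow (Nat.xor_lt_two_pow (Nat.xor_lt_two_pow (Nat.xor_lt_two_pow (h1 _ _ _) (h1 _ _ _))
    (h1 _ _ _)) (h1 _ _ _)) (h1 _ _ _)

theorem mem8 {σ : Equiv.Perm (Fin 5)}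
    (h : (σ = 1 ∨ σ = Equiv.swap 0 1 ∨ σ = Equiv.swap 2 3 ∨ σ = Equiv.swap 0 1 * Equiv.swap 2 3) ∨
      (σ = tt ∨ σ = tt * Equiv.swap 0 1 ∨ σ = tt * Equiv.swap 2 3 ∨
        σ = tt * (Equiv.swap 0 1 * Equiv.swap 2 3))) :
    σ ∈ [1, Equiv.swap 0 1, Equiv.swap 2 3, Equiv.swap 0 1 * Equiv.swap 2 3,
      tt, tt * Equiv.swap 0 1, tt * Equiv.swap 2 3, tt * (Equiv.swap 0 1 * Equiv.swap 2 3)] := by
  simp only [List.mem_cons, List.not_mem_nil, or_false]
  tauto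

theorem mem4 {σ : Equiv.Perm (Fin 5)} (h : σ = tt ∨ σ = tt * Equiv.swap 0 1 ∨ σ = tt * Equiv.swap 2 3 ∨
      σ = tt * (Equiv.swap 0 1 * Equiv.swap 2 3)) :
    σ ∈ [tt, tt * Equiv.swap 0 1, tt * Equiv.swap 2 3, tt * (Equiv.swap 0 1 * Equiv.swap 2 3)] := by
  simp only [List.mem_cons, List.not_mem_nil, or_false]
  exact h

variable {G : Type u} [Group G] {ι : Type*}
variable [Finite G] {S : Sylow 2 G} {P V T : Subgroup G} {z : ι → G} {opp : ι → ι → Prop}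
  {C Q QF Qs : ι → Subgroup G} {y : Fin 5 → Fin 5 → G} {pt : Fin 5 → Fin 5 → Fin 5 → Fin 5 → ι}

/-- `QF` commutes with `B` -/
theorem QFB (h : Conf P V T z opp C Q QF Qs) (L : Lab h y pt) {x b : G} (hx : x ∈ QF (pt 0 1 2 3))
    (hb : b ∈ h.B (pt 0 1 2 3)) : x * b = b * x := by
  obtain ⟨w, hw, e⟩ := L.QF_eq (show D4 0 1 2 3 by decide) hx
  have h1 : w * b = b * w := ((h.mem_B.1 hb).2 w hw).symm
  have h2 : b * y 0 1 = y 0 1 * b := L.y_T (by decide) (h.B_T _ hb)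
  rcases e with rfl | rfl
  · exact h1
  · rw [mul_assoc, ← h2, ← mul_assoc, h1, mul_assoc]

/-- `Q i ∩ T = E B` -/
theorem QT (h : Conf P V T z opp C Q QF Qs) (L : Lab h y pt) (hT : ∀ i, h.Tt i ≤ h.Dl) {x : G}
    (hx : x ∈ Q (pt 0 1 2 3)) (hxT : x ∈ T) :
    ∃ e ∈ V ⊓ Q (pt 0 1 2 3), ∃ b ∈ h.B (pt 0 1 2 3), x = e * b := by
  have h1 := hT _ (h.mem_Tt.2 ⟨hxT, hx⟩)
  have hyB := L.y_mem_B (show D4 0 1 2 3 by decide)
  rcases (L.mem_iff 0 1 (by decide) x).1 h1 with h2 | h2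
  · exact ⟨x, mem_inf.2 ⟨h2, hx⟩, 1, one_mem _, (mul_one x).symm⟩
  · refine ⟨x * y 0 1, mem_inf.2 ⟨h2, mul_mem hx (h.QFQ _ (h.mem_B.1 hyB).1)⟩, y 0 1, hyB, ?_⟩
    rw [mul_assoc, L.sq 0 1 (by decide), mul_one]

theorem sevD (h : Base S P V T z opp C Q QF Qs (pt 0 1 2 3)) (L : Lab h.toConf y pt)
    (hT : ∀ i, h.toConf.Tt i ≤ h.toConf.Dl) {s : G} (hs : s ∈ Q (pt 0 1 2 3)) (hs' : s ∉ QF (pt 0 1 2 3)) :
    ∃ g, SevD (C (pt 0 1 2 3)) (Q (pt 0 1 2 3)) (QF (pt 0 1 2 3)) (Qs (pt 0 1 2 3)) (h.toConf.B (pt 0 1 2 3))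
      (V ⊓ Q (pt 0 1 2 3)) (z (pt 0 1 2 3)) (ph y 30) g (ph y 29) := by
  have hD : D4 0 1 2 3 := by decide
  obtain ⟨g, hg, hgd⟩ := h.exists_g (pt 0 1 2 3) (L.ph_V (w := 30) (by norm_num) (by decide))
    (LabY.not_mem_Q30 L)
  have hz5 : z (pt 0 1 2 3) = ph y 5 := LabY.z_code L hD
  have hmE : ∀ x, x ∈ V ⊓ Q (pt 0 1 2 3) ↔ x ∈ V ∧ x ∈ Q (pt 0 1 2 3) := fun x => mem_inf
  have hcode : ∀ x ∈ V ⊓ Q (pt 0 1 2 3), ∃ w, w < 32 ∧ w ∈ [0, 5, 29, 24, 12, 9, 20, 17] ∧ ph y w = x := by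
    intro x hx
    obtain ⟨w, hw, hp, rfl⟩ := L.V_code ((hmE x).1 hx).1
    exact ⟨w, hw, (LabY.mem_Q_iff L hw hp).1 ((hmE _).1 hx).2, rfl⟩
  have ha : ph y 29 ∈ V ⊓ Q (pt 0 1 2 3) :=
    (hmE _).2 ⟨L.ph_V (by norm_num) (by decide), LabY.mem_Q L (by norm_num) (by decide)⟩
  have hne : ∀ {w w' : ℕ}, w < 32 → w' < 32 → w ≠ w' → ph y w ≠ ph y w' := fun hw hw' hn e => hn (L.ph_inj hw hw' e)
  have hyz : y 2 3 * y 0 1 = z (pt 0 1 2 3) := by
    rw [L.z_eq 0 1 2 3 hD, L.comm _ _ _ _ (by decide) (by decide)]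
  have hQov : ∀ q ∈ Q (pt 0 1 2 3), ∃ σ, Ov P y σ q ∧ Yt (σ 0) (σ 1) ^^^ Yt (σ 2) (σ 3) = 5 := fun q hq =>
    LabY.ov_z L (h.QP _ hq) (h.Cz _ q (h.QC _ hq))
  refine ⟨g, ?_⟩
  exact {
    gd := hgd
    gC := hg
    vC := h.VC _ (L.ph_V (w := 30) (by norm_num) (by decide))
    Cz := h.Cz _
    hC := LabY.hC h L
    Qo2 := h.Qo2 _
    QFQ := h.QFQ _
    QsQF := h.QsQF _
    BQF := fun x hx => (h.mem_B.1 hx).1
    nQ := fun c hc x hx => norm_conj (h.nQ _) hc hx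
    nQF := fun c hc x hx => norm_conj (h.nQF _) hc hx
    nQs := fun c hc x hx => norm_conj (h.nQs _) hc hx
    nB := fun c hc x hx => norm_conj (h.B_norm _) hc hx
    EQs := fun x hx => h.VQs _ x ((hmE x).1 hx).1 ((hmE x).1 hx).2
    nE := fun q hq e he => (hmE _).2 ⟨h.conj_V (h.QP _ hq) ((hmE e).1 he).1,
      mul_mem (mul_mem hq ((hmE e).1 he).2) (inv_mem hq)⟩
    com := h.com _
    QFB := fun x hx b hb => QFB h.toConf L hx hb
    dec := by
      intro x hx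
      have hxz : x * z (pt 0 1 2 3) = z (pt 0 1 2 3) * x := h.Cz _ x (h.QFC _ hx)
      have hE1 : ∀ e ∈ V ⊓ Q (pt 0 1 2 3), g * e * g⁻¹ ∈ Qs (pt 0 1 2 3) := fun e he =>
        norm_conj (h.nQs _) hg (h.VQs _ e ((hmE e).1 he).1 ((hmE e).1 he).2)
      have hQsz : ∀ w ∈ Qs (pt 0 1 2 3), w * z (pt 0 1 2 3) = z (pt 0 1 2 3) * w := fun w hw =>
        h.Cz _ w (h.QsC _ hw)
      obtain ⟨w, ⟨e', he', hw'⟩, hw⟩ := dual (X := V ⊓ Q (pt 0 1 2 3))
        (E := (V ⊓ Q (pt 0 1 2 3)).map (MulAut.conj g).toMonoidHom) (u := x) (h.ne_one _) (h.sq _)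
        (fun e he => h.Cz _ e (h.VC _ ((hmE e).1 he).1))
        (by rintro _ ⟨e, he, rfl⟩; exact hQsz _ (hE1 e he))
        (by
          rintro _ ⟨e, he, rfl⟩ x' hx'
          rcases hgd.com x' hx' e he with h1 | h1
          · exact Or.inl h1.symm
          · right
            show (g * e * g⁻¹) * x' = z (pt 0 1 2 3) * (x' * (g * e * g⁻¹))
            rw [h1, ← mul_assoc, h.sq, one_mul]) hxz
        (by
          intro x' hx'
          rcases h.com _ x' (h.VQs _ x' ((hmE x').1 hx').1 ((hmE x').1 hx').2) x hx with h1 | h1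
          · exact Or.inl h1.symm
          · right
            rw [h1, ← mul_assoc, h.sq, one_mul])
        (by
          intro x' hx' hc
          have h1 : ∀ e ∈ V ⊓ Q (pt 0 1 2 3), e * (g * x' * g⁻¹) = (g * x' * g⁻¹) * e := fun e he =>
            hgd.symm hx' he (hc _ ⟨e, he, rfl⟩).symm
          rcases hgd.ff x' hx' h1 with rfl | rfl
          · rw [mul_one, one_mul]
          · exact hxz)
      have hw'' : g * e' * g⁻¹ = w := hw'
      have hwQs : w ∈ Qs (pt 0 1 2 3) := by rw [← hw'']; exact hE1 e' he'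
      have hwQ := h.QsQ _ hwQs
      have h1 : ∀ v ∈ V, (x * w) * v = v * (x * w) :=
        h.faith _ _ (h.QP _ (mul_mem (h.QFQ _ hx) hwQ)) fun v hv hvQ => hw v ((hmE v).2 ⟨hv, hvQ⟩)
      obtain ⟨e, he, b, hb, heb⟩ := QT h.toConf L hT (mul_mem (h.QFQ _ hx) hwQ)
        (h.cT _ _ (mul_mem (h.QFQ _ hx) hwQ) h1)
      refine ⟨e, he, e'⁻¹, inv_mem he', b, hb, ?_⟩
      have h2 : w⁻¹ * b = b * w⁻¹ := inv_comm' (((h.mem_B.1 hb).2 w hwQs).symm)
      calc x = (x * w) * w⁻¹ := by group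
        _ = e * (b * w⁻¹) := by rw [heb]; group
        _ = e * w⁻¹ * b := by rw [← h2]; group
        _ = e * (g * e'⁻¹ * g⁻¹) * b := by rw [← hw'']; group
    BE := by
      intro b hb hbE
      rcases (L.B_eq hD).1 hb with h1 | h1 | h1 | h1
      · exact Or.inl h1
      · exact Or.inr h1
      · exact absurd (h1 ▸ ((hmE b).1 hbE).1) (L.notV 0 1 (by decide))
      · exact absurd (h1 ▸ ((hmE b).1 hbE).1) (L.notV 2 3 (by decide))
    zB := (L.B_eq hD).2 (Or.inr (Or.inl rfl))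
    Bz := by
      intro c hc b hb
      have key : ∀ b' ∈ h.toConf.B (pt 0 1 2 3), b' ∉ V → (b' = y 0 1 ∨ b' = y 2 3) := by
        intro b' hb' hn
        rcases (L.B_eq hD).1 hb' with h1 | h1 | h1 | h1
        · exact absurd (h1 ▸ one_mem V) hn
        · exact absurd (h1 ▸ h.zV _) hn
        · exact Or.inl h1
        · exact Or.inr h1
      by_cases hbV : b ∈ V
      · have h1 : c * b * c⁻¹ = b := by
          rcases (L.B_eq hD).1 hb with h1 | h1 | h1 | h1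
          · rw [h1]; group
          · rw [h1, h.Cz _ c hc]; group
          · exact absurd (h1 ▸ hbV) (L.notV 0 1 (by decide))
          · exact absurd (h1 ▸ hbV) (L.notV 2 3 (by decide))
        left; rw [h1, mul_inv_cancel]
      · have h1 := norm_conj (h.B_norm _) hc hb
        have h2 : c * b * c⁻¹ ∉ V := by
          intro hcV
          rcases (L.B_eq hD).1 h1 with h3 | h3 | h3 | h3
          · exact hbV (by rw [conj_eq_one_iff.1 h3]; exact one_mem V)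
          · apply hbV
            have h4 : b = c⁻¹ * z (pt 0 1 2 3) * c := by rw [← h3]; group
            rw [h4, mul_assoc, ← h.Cz _ c hc, inv_mul_cancel_left]
            exact h.zV _
          · exact absurd (h3 ▸ hcV) (L.notV 0 1 (by decide))
          · exact absurd (h3 ▸ hcV) (L.notV 2 3 (by decide))
        have i1 : (y 0 1)⁻¹ = y 0 1 := inv_eq_of_mul_eq_one_right (L.sq 0 1 (by decide))
        have i2 : (y 2 3)⁻¹ = y 2 3 := inv_eq_of_mul_eq_one_right (L.sq 2 3 (by decide))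
        rcases key _ hb hbV with h3 | h3 <;> rcases key _ h1 h2 with h4 | h4
        · left; rw [h4, h3, mul_inv_cancel]
        · right; rw [h4, h3, i1, hyz]
        · right; rw [h4, h3, i2, ← L.comm _ _ _ _ (by decide) (by decide), hyz]
        · left; rw [h4, h3, mul_inv_cancel]
    aE := ha
    a1 := by
      rw [← FiveDl.ph_zero (y := y)]
      exact hne (by norm_num) (by norm_num) (by norm_num)
    az := by
      rw [hz5]
      exact hne (by norm_num) (by norm_num) (by norm_num)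
    QF2 := h.QF2 _
    fix := by
      intro s hs hsF e he hfix
      obtain ⟨σ, hσ, h5⟩ := hQov s hs
      obtain ⟨w, hw, hwE, rfl⟩ := hcode e he
      have h6 : σ ∈ [tt, tt * Equiv.swap 0 1, tt * Equiv.swap 2 3, tt * (Equiv.swap 0 1 * Equiv.swap 2 3)] := by
        rcases LabY.d8 h5 with h6 | h6
        · exact absurd (LabY.mem_QF L hs hσ h6) hsF
        · exact mem4 h6
      have hac := ac_lt σ w
      rw [L.ys.conj (Lab.ov hσ), hz5, L.ys.mul] at hfix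
      have h7 : ac σ w = w ∨ ac σ w = w ^^^ 5 := by
        rcases hfix with h7 | h7
        · exact Or.inl (L.ph_inj hac hw h7)
        · exact Or.inr (L.ph_inj hac (Nat.xor_lt_two_pow (n := 5) hw (by norm_num)) h7)
      have h8 := cf1 σ h6 w hwE h7
      simp only [List.mem_cons, List.not_mem_nil, or_false] at h8
      rcases h8 with rfl | rfl | rfl | rfl
      · exact Or.inl FiveDl.ph_zero
      · exact Or.inr (Or.inl hz5.symm)
      · exact Or.inr (Or.inr (Or.inl rfl))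
      · refine Or.inr (Or.inr (Or.inr ?_))
        rw [hz5, L.ys.mul]
        rfl
    fa := by
      intro q hq
      obtain ⟨σ, hσ, h5⟩ := hQov q hq
      rw [L.ys.conj (Lab.ov hσ), hz5, L.ys.mul]
      rcases cf2 σ (mem8 (LabY.d8 h5)) with h6 | h6 <;> rw [h6]
      · exact Or.inl rfl
      · exact Or.inr rfl
    ex := ⟨s, hs, hs'⟩ }

end Cfsg.Agent.Omega.NOne.AG.Seven
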