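import Cfsg.Agent.Omega.NOne.AG.Tools

/-!
# THEOREM D0ag (bb #15001), (6): the group theory in `C`

`SixD`: `Q = O₂(C)`, `[Q, Q] ≤ ⟨z⟩`, `E ≤ Q` elementary, `B ≤ Z(Q)`, `v` centralises `E` and `B`,
`C_Q(v mod z) ≤ E B`, `[Q, v] ≤ E`, `v` inverts `g`, `C_E(g e g⁻¹) = ⟨z, e⟩`, `g⁻¹ e g ≡ (g e g⁻¹) e` and
`C = ⟨M, g⟩`, where the elements of `M` normalise `E`, `V` and `⟨z, a⟩`, `a ∈ E - ⟨z⟩`.

Then `U = ⟨B, a, g a g⁻¹⟩` is normal in `C`, and for `s ∈ M` one of `s`, `v s` is in `Q`.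
-/

set_option autoImplicit false

namespace Cfsg.Agent.Omega.NOne.AG

open Subgroup Cfsg Cfsg.Agent.ZN

universe u

variable {G : Type u} [Group G]

/-- `x ≡ y` modulo `⟨z⟩` -/
def Eqz (z x y : G) : Prop := x = y ∨ x = z * y

namespace Eqz

variable {z x y t : G}

theorem rfl' : Eqz z x x := Or.inl rfl

theorem symm (hz : z * z = 1) (h : Eqz z x y) : Eqz z y x := by
  rcases h with h | h
  · exact Or.inl h.symm
  · right
    rw [h, ← mul_assoc, hz, one_mul]

theorem trans (hz : z * z = 1) (h : Eqz z x y) (h' : Eqz z y t) : Eqz z x t := by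
  rcases h with h | h <;> rcases h' with h' | h'
  · exact Or.inl (h.trans h')
  · exact Or.inr (h.trans h')
  · right; rw [h, h']
  · left; rw [h, h', ← mul_assoc, hz, one_mul]

theorem mul_right (a : G) (h : Eqz z x y) : Eqz z (x * a) (y * a) := by
  rcases h with h | h
  · left; rw [h]
  · right; rw [h, mul_assoc]

theorem mul_left {a : G} (ha : a * z = z * a) (h : Eqz z x y) : Eqz z (a * x) (a * y) := by
  rcases h with h | h
  · left; rw [h]
  · right; rw [h, ← mul_assoc, ha, mul_assoc]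

theorem conj {a : G} (ha : a * z = z * a) (h : Eqz z x y) : Eqz z (a * x * a⁻¹) (a * y * a⁻¹) :=
  (h.mul_left ha).mul_right _

theorem of_eq_left (h : Eqz z x y) (e : x = t) : Eqz z t y := e ▸ h

theorem of_eq_right (h : Eqz z x y) (e : y = t) : Eqz z x t := e ▸ h

end Eqz

/-- The data of (6). -/
structure SixD (C Q E B : Subgroup G) (M : Set G) (z v a g : G) : Prop where
  Qo2 : Q = o2 C
  char2 : ∀ c ∈ C, (∀ x ∈ Q, c * x = x * c) → c ∈ Q
  Cz : ∀ c ∈ C, c * z = z * c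
  z2 : z * z = 1
  zB : z ∈ B
  BQ : B ≤ Q
  BZ : ∀ b ∈ B, ∀ x ∈ Q, b * x = x * b
  Bv : ∀ b ∈ B, b * v = v * b
  B2 : ∀ b ∈ B, b * b = 1
  CB : ∀ c ∈ C, ∀ b ∈ B, Eqz z (c * b * c⁻¹) b
  QQ : ∀ x ∈ Q, ∀ y ∈ Q, Eqz z (x * y) (y * x)
  EQ : E ≤ Q
  E2 : ∀ e ∈ E, e * e = 1
  EE : ∀ e ∈ E, ∀ f ∈ E, e * f = f * e
  Ev : ∀ e ∈ E, e * v = v * e
  vC : v ∈ C
  gC : g ∈ C
  vg : v * g * v⁻¹ = g⁻¹
  /-- `C_E(g e g⁻¹) = ⟨z, e⟩` -/
  gd1 : ∀ e ∈ E, ∀ f ∈ E, f * (g * e * g⁻¹) = g * e * g⁻¹ * f → Eqz z e 1 ∨ Eqz z f 1 ∨ Eqz z f e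
  gd2 : ∀ e ∈ E, Eqz z (g⁻¹ * e * g) (g * e * g⁻¹ * e)
  QvE : ∀ x ∈ Q, x * v * x⁻¹ * v⁻¹ ∈ E
  TQ : ∀ x ∈ Q, Eqz z (x * v) (v * x) → ∃ e ∈ E, ∃ b ∈ B, x = e * b
  MC : ∀ m ∈ M, m ∈ C
  Mv : ∀ m ∈ M, m * v * m⁻¹ * v⁻¹ ∈ E
  ME : ∀ m ∈ M, ∀ e ∈ E, m * e * m⁻¹ ∈ E
  Ma : ∀ m ∈ M, Eqz z (m * a * m⁻¹) a
  aE : a ∈ E
  a1 : ¬ Eqz z a 1
  gen : C ≤ closure (M ∪ {g})

namespace SixD

variable {C Q E B : Subgroup G} {M : Set G} {z v a g : G} (h : SixD C Q E B M z v a g)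
include h

theorem QC : Q ≤ C := by rw [h.Qo2]; exact o2_le _

theorem nQ : C ≤ normalizer (Q : Set G) := by rw [h.Qo2]; exact le_normalizer_o2 _

theorem Qz {x : G} (hx : x ∈ Q) : x * z = z * x := h.Cz x (h.QC hx)

theorem vz : v * z = z * v := h.Cz v h.vC

theorem aQ : a ∈ Q := h.EQ h.aE

theorem wQ : g * a * g⁻¹ ∈ Q := norm_conj h.nQ h.gC h.aQ

theorem w2 : (g * a * g⁻¹) * (g * a * g⁻¹) = 1 := by
  have e : (g * a * g⁻¹) * (g * a * g⁻¹) = g * (a * a) * g⁻¹ := by group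
  rw [e, h.E2 a h.aE]; group

/-- `v (g e g⁻¹) v⁻¹ = g⁻¹ e g` -/
theorem vw {e : G} (he : e ∈ E) : v * (g * e * g⁻¹) * v⁻¹ = g⁻¹ * e * g := by
  have h1 : v * e * v⁻¹ = e := by rw [← h.Ev e he]; group
  have h2 : v * g⁻¹ * v⁻¹ = g := by
    calc v * g⁻¹ * v⁻¹ = (v * g * v⁻¹)⁻¹ := by group
      _ = g := by rw [h.vg, inv_inv]
  calc v * (g * e * g⁻¹) * v⁻¹ = (v * g * v⁻¹) * (v * e * v⁻¹) * (v * g⁻¹ * v⁻¹) := by group
    _ = g⁻¹ * e * g := by rw [h.vg, h1, h2]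

/-- `v w v⁻¹ ≡ w e`, `w = g e g⁻¹` -/
theorem vwe {e : G} (he : e ∈ E) : Eqz z (v * (g * e * g⁻¹) * v⁻¹) (g * e * g⁻¹ * e) := by
  rw [h.vw he]; exact h.gd2 e he

/-- `e` commutes with `g e g⁻¹` -/
theorem ew {e : G} (he : e ∈ E) : e * (g * e * g⁻¹) = g * e * g⁻¹ * e := by
  have h0 : g⁻¹ * e * g * (g⁻¹ * e * g) = 1 := by
    calc g⁻¹ * e * g * (g⁻¹ * e * g) = g⁻¹ * (e * e) * g := by group
      _ = 1 := by rw [h.E2 e he]; group
  set w := g * e * g⁻¹ with hw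
  have hwQ : w ∈ Q := norm_conj h.nQ h.gC (h.EQ he)
  have hw2 : w * w = 1 := by
    calc w * w = g * (e * e) * g⁻¹ := by rw [hw]; group
      _ = 1 := by rw [h.E2 e he]; group
  have h1 : w * e * (w * e) = 1 := by
    rcases h.gd2 e he with h2 | h2
    · rw [← h2]; exact h0
    · rw [h2] at h0
      have h3 : z * (w * e) * (z * (w * e)) = w * e * (w * e) := by
        have h4 : w * e * z = z * (w * e) := h.Qz (mul_mem hwQ (h.EQ he))
        calc z * (w * e) * (z * (w * e)) = z * (w * e * z) * (w * e) := by group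
          _ = z * z * (w * e) * (w * e) := by rw [h4]; group
          _ = w * e * (w * e) := by rw [h.z2, one_mul]
      rwa [h3] at h0
  have hwi : w⁻¹ = w := inv_eq_of_mul_eq_one_left hw2
  have hei : e⁻¹ = e := inv_eq_of_mul_eq_one_left (h.E2 e he)
  have h5 : (w * e)⁻¹ = w * e := inv_eq_of_mul_eq_one_left h1
  rw [mul_inv_rev, hwi, hei] at h5
  exact h5

/-- `U = ⟨B, a, w⟩` -/
def U (_h : SixD C Q E B M z v a g) : Subgroup G := closure ((B : Set G) ∪ {a, g * a * g⁻¹})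

theorem BU : B ≤ h.U := fun _ hb => subset_closure (Or.inl hb)

theorem aU : a ∈ h.U := subset_closure (Or.inr (Or.inl rfl))

theorem wU : g * a * g⁻¹ ∈ h.U := subset_closure (Or.inr (Or.inr rfl))

theorem zU : z ∈ h.U := h.BU h.zB

theorem UQ : h.U ≤ Q := by
  refine (closure_le _).2 ?_
  rintro x (hx | hx | hx)
  · exact h.BQ hx
  · rw [hx]; exact h.aQ
  · rw [Set.mem_singleton_iff.1 hx]; exact h.wQ

/-- `e₂ ∈ {1, z, a, za}` is in `U` -/
theorem mem_U_of {x y : G} (hy : y ∈ h.U) (hxy : Eqz z x y) : x ∈ h.U := by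
  rcases hxy with h1 | h1
  · rw [h1]; exact hy
  · rw [h1]; exact mul_mem h.zU hy

/-- an element of `E` commuting with `w` is in `⟨z, a⟩` -/
theorem E_w {f : G} (hf : f ∈ E) (hc : f * (g * a * g⁻¹) = g * a * g⁻¹ * f) :
    Eqz z f 1 ∨ Eqz z f a := by
  rcases h.gd1 a h.aE f hf hc with h1 | h1 | h1
  · exact absurd h1 h.a1
  · exact Or.inl h1
  · exact Or.inr h1

theorem E_w_U {f : G} (hf : f ∈ E) (hc : f * (g * a * g⁻¹) = g * a * g⁻¹ * f) : f ∈ h.U := by
  rcases h.E_w hf hc with h1 | h1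
  · exact h.mem_U_of (one_mem _) h1
  · exact h.mem_U_of h.aU h1

/-- conjugates of `w` by `M`: `m w m⁻¹ = e b w`, `e ∈ ⟨z, a⟩` -/
theorem M_w {m : G} (hm : m ∈ M) : ∃ e ∈ E, ∃ b ∈ B, (Eqz z e 1 ∨ Eqz z e a) ∧
    m * (g * a * g⁻¹) * m⁻¹ = e * b * (g * a * g⁻¹) := by
  have hz := h.z2
  have hmC := h.MC m hm
  have hmz := h.Cz m hmC
  set w := g * a * g⁻¹ with hw
  have hwQ : w ∈ Q := h.wQ
  have hw2 : w * w = 1 := h.w2
  set w' := m * w * m⁻¹ with hw'
  have hw'Q : w' ∈ Q := norm_conj h.nQ hmC hwQ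
  have hw'2 : w' * w' = 1 := by
    calc w' * w' = m * (w * w) * m⁻¹ := by rw [hw']; group
      _ = 1 := by rw [hw2]; group
  set e₀ := m * v * m⁻¹ * v⁻¹ with he₀
  have he₀E : e₀ ∈ E := h.Mv m hm
  have h1 : Eqz z (v * w * v⁻¹) (w * a) := h.vwe h.aE
  -- `v' w' v'⁻¹ ≡ w' a`
  have h2 : Eqz z ((e₀ * v) * w' * (e₀ * v)⁻¹) (w' * a) := by
    have h3 := h1.conj hmz
    have e1 : m * (v * w * v⁻¹) * m⁻¹ = (e₀ * v) * w' * (e₀ * v)⁻¹ := by
      rw [he₀, hw']; group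
    have e2 : m * (w * a) * m⁻¹ = w' * (m * a * m⁻¹) := by rw [hw']; group
    rw [e1, e2] at h3
    exact h3.trans hz ((h.Ma m hm).mul_left (h.Qz hw'Q))
  -- `v w' v⁻¹ ≡ w' a`
  have he₀z : e₀ * z = z * e₀ := h.Qz (h.EQ he₀E)
  have he₀z' : e₀⁻¹ * z = z * e₀⁻¹ := h.Qz (inv_mem (h.EQ he₀E))
  have h4 : Eqz z (v * w' * v⁻¹) (w' * a) := by
    have h5 := h2.conj he₀z'
    have e1 : e₀⁻¹ * (e₀ * v * w' * (e₀ * v)⁻¹) * e₀⁻¹⁻¹ = v * w' * v⁻¹ := by group
    rw [e1] at h5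
    refine h5.trans hz ?_
    have h6 : Eqz z (e₀⁻¹ * w') (w' * e₀⁻¹) := h.QQ _ (inv_mem (h.EQ he₀E)) _ hw'Q
    have e2 : w' * e₀⁻¹ * (a * e₀⁻¹⁻¹) = w' * a := by
      have h7 := h.EE a h.aE e₀ he₀E
      calc w' * e₀⁻¹ * (a * e₀⁻¹⁻¹) = w' * e₀⁻¹ * (a * e₀) := by group
        _ = w' * e₀⁻¹ * (e₀ * a) := by rw [h7]
        _ = w' * a := by group
    have h8 := h6.mul_right (a * e₀⁻¹⁻¹)
    rw [e2] at h8
    exact h8.of_eq_left (by group)
  -- `x = w' w⁻¹` commutes with `v` mod `z`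
  set x := w' * w⁻¹ with hx
  have hxQ : x ∈ Q := mul_mem hw'Q (inv_mem hwQ)
  have h9 : Eqz z (x * v) (v * x) := by
    -- `v w⁻¹ v⁻¹ ≡ a⁻¹ w⁻¹`
    have h10 : Eqz z (v * w' * v⁻¹ * (v * w * v⁻¹)⁻¹) (w' * a * (v * w * v⁻¹)⁻¹) :=
      h4.mul_right _
    have h11 : Eqz z (w' * a * (v * w * v⁻¹)⁻¹) (w' * w⁻¹) := by
      rcases h1 with h12 | h12
      · left; rw [h12]; group
      · right
        rw [h12]
        have h13 : w' * w⁻¹ * z = z * (w' * w⁻¹) := h.Qz hxQ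
        have hzi : z⁻¹ = z := inv_eq_of_mul_eq_one_left hz
        calc w' * a * (z * (w * a))⁻¹ = w' * w⁻¹ * z⁻¹ := by group
          _ = w' * w⁻¹ * z := by rw [hzi]
          _ = z * (w' * w⁻¹) := h13
    have h14 := h10.trans hz h11
    have e1 : v * w' * v⁻¹ * (v * w * v⁻¹)⁻¹ = v * x * v⁻¹ := by rw [hx]; group
    rw [e1] at h14
    have h15 := h14.mul_right v
    have e2 : v * x * v⁻¹ * v = v * x := by group
    rw [e2] at h15
    exact h15.symm hz
  obtain ⟨e, he, b, hb, hxe⟩ := h.TQ x hxQ h9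
  have h16 : w' = e * b * w := by
    rw [← hxe, hx]; group
  refine ⟨e, he, b, hb, ?_, h16⟩
  -- `w'` is an involution
  refine h.E_w he ?_
  change e * w = w * e
  have hbw := h.BZ b hb w hwQ
  have hbe := h.BZ b hb e (h.EQ he)
  have h17 : e * w * (e * w) = 1 := by
    have hbp := h.BZ b hb (e * w) (mul_mem (h.EQ he) hwQ)
    have h16' : w' = b * (e * w) := by rw [h16, ← hbe, mul_assoc]
    rw [h16'] at hw'2
    calc e * w * (e * w) = (b * b) * (e * w * (e * w)) := by rw [h.B2 b hb, one_mul]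
      _ = b * (b * (e * w)) * (e * w) := by group
      _ = b * ((e * w) * b) * (e * w) := by rw [hbp]
      _ = b * (e * w) * (b * (e * w)) := by group
      _ = 1 := hw'2
  have h18 : (e * w)⁻¹ = e * w := inv_eq_of_mul_eq_one_left h17
  have hwi : w⁻¹ = w := inv_eq_of_mul_eq_one_left hw2
  have hei : e⁻¹ = e := inv_eq_of_mul_eq_one_left (h.E2 e he)
  rw [mul_inv_rev, hwi, hei] at h18
  exact h18.symm

theorem conj_U {m : G} (hmC : m ∈ C) (ha : m * a * m⁻¹ ∈ h.U) (hw : m * (g * a * g⁻¹) * m⁻¹ ∈ h.U)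
    {x : G} (hx : x ∈ h.U) : m * x * m⁻¹ ∈ h.U := by
  have h1 : h.U ≤ h.U.comap (MulAut.conj m).toMonoidHom := by
    conv_lhs => rw [U]
    refine (closure_le _).2 ?_
    rintro y (hy | hy | hy)
    · exact h.mem_U_of (h.BU hy) (h.CB m hmC y hy)
    · rw [hy]; exact ha
    · rw [Set.mem_singleton_iff.1 hy]; exact hw
  exact h1 hx

/-- `U` is normal in `C` -/
theorem nU [Finite G] : C ≤ normalizer (h.U : Set G) := by
  refine h.gen.trans ((closure_le _).2 ?_)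
  rintro m (hm | hm)
  · refine mem_normalizer_fintype fun x hx => h.conj_U (h.MC m hm)
      (h.mem_U_of h.aU (h.Ma m hm)) ?_ hx
    obtain ⟨e, he, b, hb, h1, h2⟩ := h.M_w hm
    rw [h2]
    refine mul_mem (mul_mem ?_ (h.BU hb)) h.wU
    rcases h1 with h1 | h1
    · exact h.mem_U_of (one_mem _) h1
    · exact h.mem_U_of h.aU h1
  · rw [Set.mem_singleton_iff] at hm
    rw [hm]
    refine mem_normalizer_fintype fun x hx => h.conj_U h.gC h.wU ?_ hx
    -- `g w g⁻¹ ≡ a w⁻¹`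
    have h1 : Eqz z (g * (g⁻¹ * a * g) * g⁻¹) (g * (g * a * g⁻¹ * a) * g⁻¹) :=
      (h.gd2 a h.aE).conj (h.Cz g h.gC)
    have e1 : g * (g⁻¹ * a * g) * g⁻¹ = a := by group
    have e2 : g * (g * a * g⁻¹ * a) * g⁻¹ = g * (g * a * g⁻¹) * g⁻¹ * (g * a * g⁻¹) := by group
    rw [e1, e2] at h1
    have h2 := h1.mul_right (g * a * g⁻¹)⁻¹
    rw [mul_inv_cancel_right] at h2
    exact h.mem_U_of (mul_mem h.aU (inv_mem h.wU)) (h2.symm h.z2)

/-- an element of `Q` commuting with `a` and `w` is in `U` -/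
theorem cent_U {t : G} (ht : t ∈ Q) (hta : t * a = a * t)
    (htw : t * (g * a * g⁻¹) = g * a * g⁻¹ * t) : t ∈ h.U := by
  have hz := h.z2
  set e := t * v * t⁻¹ * v⁻¹ with he
  have heE : e ∈ E := h.QvE t ht
  set w' := g * e * g⁻¹ with hw'
  have hw'Q : w' ∈ Q := norm_conj h.nQ h.gC (h.EQ heE)
  have h1 : Eqz z (v * w' * v⁻¹) (w' * e) := h.vwe heE
  have hew : e * w' = w' * e := h.ew heE
  have hee : e * e = 1 := h.E2 e heE
  -- `w'⁻¹ v ≡ e v w'⁻¹`
  have h2 : Eqz z (v * w') (w' * e * v) := by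
    have h3 := h1.mul_right v
    rwa [inv_mul_cancel_right] at h3
  -- `t v = e v t`
  have h4 : t * v = e * (v * t) := by rw [he]; group
  have h5 : Eqz z (t * w'⁻¹ * v) (v * (t * w'⁻¹)) := by
    -- `w'⁻¹ v ≡ e v w'⁻¹`
    have hwz : w'⁻¹ * z = z * w'⁻¹ := h.Qz (inv_mem hw'Q)
    have h6 : Eqz z (w'⁻¹ * v) (e * v * w'⁻¹) := by
      have h7 := (h2.mul_left hwz).mul_right w'⁻¹
      have e1 : w'⁻¹ * (v * w') * w'⁻¹ = w'⁻¹ * v := by group
      have e2 : w'⁻¹ * (w' * e * v) * w'⁻¹ = e * v * w'⁻¹ := by group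
      rwa [e1, e2] at h7
    have h7 : Eqz z (t * w'⁻¹ * v) (t * e * v * w'⁻¹) := by
      have h8 := h6.mul_left (h.Qz ht)
      have e1 : t * (w'⁻¹ * v) = t * w'⁻¹ * v := by group
      have e2 : t * (e * v * w'⁻¹) = t * e * v * w'⁻¹ := by group
      rwa [e1, e2] at h8
    have h9 : Eqz z (t * e * v * w'⁻¹) (v * (t * w'⁻¹)) := by
      have h10 : Eqz z (t * e) (e * t) := h.QQ t ht e (h.EQ heE)
      have h11 := h10.mul_right (v * w'⁻¹)
      have e1 : t * e * (v * w'⁻¹) = t * e * v * w'⁻¹ := by group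
      have e2 : e * t * (v * w'⁻¹) = v * (t * w'⁻¹) := by
        calc e * t * (v * w'⁻¹) = e * (t * v) * w'⁻¹ := by group
          _ = (e * e) * (v * t) * w'⁻¹ := by rw [h4]; group
          _ = v * (t * w'⁻¹) := by rw [hee]; group
      rwa [e1, e2] at h11
    exact h7.trans hz h9
  obtain ⟨f, hf, b, hb, hfb⟩ := h.TQ _ (mul_mem ht (inv_mem hw'Q)) h5
  have h6 : t = f * b * w' := by rw [← hfb]; group
  -- `w'` commutes with `a`
  have hbw' := h.BZ b hb
  have hfa := h.EE f hf a h.aE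
  have h7 : a * w' = w' * a := by
    rw [h6] at hta
    have e1 : f * b * w' * a = f * b * (w' * a) := by group
    have e2 : a * (f * b * w') = f * b * (a * w') := by
      calc a * (f * b * w') = (a * f) * (b * w') := by group
        _ = f * (a * b) * w' := by rw [← hfa]; group
        _ = f * b * (a * w') := by rw [← h.BZ b hb a h.aQ]; group
    rw [e1, e2] at hta
    exact (mul_left_cancel hta).symm
  have h8 : Eqz z e 1 ∨ Eqz z e a := by
    rcases h.gd1 e heE a h.aE h7 with h9 | h9 | h9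
    · exact Or.inl h9
    · exact absurd h9 h.a1
    · exact Or.inr (h9.symm hz)
  have hgz := h.Cz g h.gC
  -- `w' ∈ ⟨z, w⟩`
  have h9 : Eqz z w' 1 ∨ Eqz z w' (g * a * g⁻¹) := by
    rcases h8 with h10 | h10
    · left
      have h11 := h10.conj hgz
      rwa [mul_one, mul_inv_cancel] at h11
    · exact Or.inr (h10.conj hgz)
  have hw'U : w' ∈ h.U := by
    rcases h9 with h10 | h10
    · exact h.mem_U_of (one_mem _) h10
    · exact h.mem_U_of h.wU h10
  have hww : w' * (g * a * g⁻¹) = g * a * g⁻¹ * w' := by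
    have hwz := h.Qz h.wQ
    rcases h9 with (h10 | h10) | (h10 | h10)
    · rw [h10, one_mul, mul_one]
    · rw [h10, mul_one]; exact hwz.symm
    · rw [h10]
    · rw [h10, ← mul_assoc (g * a * g⁻¹) z, hwz]
  have h12 : f * (g * a * g⁻¹) = g * a * g⁻¹ * f := by
    rw [h6] at htw
    set w := g * a * g⁻¹ with hw
    have hbw := h.BZ b hb w h.wQ
    have e1 : f * b * w' * w = f * w * (b * w') := by
      calc f * b * w' * w = f * b * (w' * w) := by group
        _ = f * (b * w) * w' := by rw [hww]; group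
        _ = f * w * (b * w') := by rw [hbw]; group
    have e2 : w * (f * b * w') = w * f * (b * w') := by group
    rw [e1, e2] at htw
    exact mul_right_cancel htw
  rw [h6]
  exact mul_mem (mul_mem (h.E_w_U hf h12) (h.BU hb)) hw'U

/-- **(6)**: an element of `C` centralising `a` mod `z` and `w` mod `B` is in `Q` -/
theorem mem_Q [Finite G] {s : G} (hs : s ∈ C) (hsa : Eqz z (s * a * s⁻¹) a)
    (hsw : s * (g * a * g⁻¹) * s⁻¹ * (g * a * g⁻¹)⁻¹ ∈ B) : s ∈ Q := by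
  have hz := h.z2
  have hzi : z⁻¹ = z := inv_eq_of_mul_eq_one_left hz
  have h0 := h.Qo2
  -- `s` centralises `U / B`
  have hUB : ∀ x ∈ h.U, s * x * s⁻¹ * x⁻¹ ∈ B := by
    let W : Subgroup G :=
      { carrier := {x | x ∈ Q ∧ s * x * s⁻¹ * x⁻¹ ∈ B}
        one_mem' := ⟨one_mem _, by simp⟩
        mul_mem' := by
          rintro x y ⟨hx0, hx⟩ ⟨hy0, hy⟩
          refine ⟨mul_mem hx0 hy0, ?_⟩
          have h1 := h.BZ _ hy x hx0
          have e : s * (x * y) * s⁻¹ * (x * y)⁻¹ =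
              s * x * s⁻¹ * ((s * y * s⁻¹ * y⁻¹) * x⁻¹) := by group
          rw [e, h.BZ _ hy _ (inv_mem hx0)]
          have e2 : s * x * s⁻¹ * (x⁻¹ * (s * y * s⁻¹ * y⁻¹)) =
              (s * x * s⁻¹ * x⁻¹) * (s * y * s⁻¹ * y⁻¹) := by group
          rw [e2]
          exact mul_mem hx hy
        inv_mem' := by
          rintro x ⟨hx0, hx⟩
          refine ⟨inv_mem hx0, ?_⟩
          have e : s * x⁻¹ * s⁻¹ * x⁻¹⁻¹ = x⁻¹ * ((s * x * s⁻¹ * x⁻¹)⁻¹ * x) := by group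
          rw [e, h.BZ _ (inv_mem hx) _ hx0]
          have e2 : x⁻¹ * (x * (s * x * s⁻¹ * x⁻¹)⁻¹) = (s * x * s⁻¹ * x⁻¹)⁻¹ := by group
          rw [e2]
          exact inv_mem hx }
    have hW : h.U ≤ W := by
      conv_lhs => rw [U]
      refine (closure_le _).2 ?_
      rintro x (hx | hx | hx)
      · refine ⟨h.BQ hx, mul_mem ?_ (inv_mem hx)⟩
        rcases h.CB s hs x hx with h1 | h1
        · rw [h1]; exact hx
        · rw [h1]; exact mul_mem h.zB hx
      · rw [hx]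
        refine ⟨h.aQ, ?_⟩
        rcases hsa with h1 | h1
        · rw [h1, mul_inv_cancel]; exact one_mem _
        · rw [h1, mul_inv_cancel_right]; exact h.zB
      · rw [Set.mem_singleton_iff.1 hx]
        exact ⟨h.wQ, hsw⟩
    exact fun x hx => (hW hx).2
  -- `s` centralises `Q / U`
  have hQU : ∀ x ∈ Q, s * x * s⁻¹ * x⁻¹ ∈ h.U := by
    intro x hx
    set t := s * x * s⁻¹ * x⁻¹ with ht
    have hsx : s * x * s⁻¹ ∈ Q := norm_conj h.nQ hs hx
    have htQ : t ∈ Q := mul_mem hsx (inv_mem hx)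
    have hsz := h.Cz s hs
    have key : ∀ u ∈ h.U, t * u = u * t := by
      intro u hu
      have huQ := h.UQ hu
      have hb := hUB u hu
      set b := s * u * s⁻¹ * u⁻¹ with hb'
      have e1 : s * u * s⁻¹ = b * u := by rw [hb']; group
      have e2 : s * x * s⁻¹ = t * x := by rw [ht]; group
      have hbt := h.BZ b hb t htQ
      have hbx := h.BZ b hb x hx
      have htz := h.Qz htQ
      -- conjugate the commutation of `x`, `u`
      have e3 : s * (x * u) * s⁻¹ = b * (t * (x * u)) := by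
        calc s * (x * u) * s⁻¹ = (s * x * s⁻¹) * (s * u * s⁻¹) := by group
          _ = t * (x * b) * u := by rw [e1, e2]; group
          _ = (t * b) * x * u := by rw [← hbx]; group
          _ = b * (t * (x * u)) := by rw [← hbt]; group
      have e4 : s * (u * x) * s⁻¹ = b * (u * t * x) := by
        calc s * (u * x) * s⁻¹ = (s * u * s⁻¹) * (s * x * s⁻¹) := by group
          _ = b * (u * t * x) := by rw [e1, e2]; group
      rcases h.QQ x hx u huQ with h1 | h1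
      · rw [h1, e4] at e3
        have h2 := mul_left_cancel e3
        have h3 : u * t * x = t * u * x := by rw [h2]; group
        exact (mul_right_cancel h3).symm
      · have e5 : s * (x * u) * s⁻¹ = z * (s * (u * x) * s⁻¹) := by
          rw [h1]
          calc s * (z * (u * x)) * s⁻¹ = (s * z) * (u * x) * s⁻¹ := by group
            _ = z * (s * (u * x) * s⁻¹) := by rw [hsz]; group
        rw [e5, e4, h1] at e3
        have e6 : z * (b * (u * t * x)) = b * (z * (u * t * x)) := by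
          rw [← mul_assoc, ← h.Qz (h.BQ hb), mul_assoc]
        rw [e6] at e3
        have h2 := mul_left_cancel e3
        have e7 : t * (z * (u * x)) = z * (t * u * x) := by
          rw [← mul_assoc, htz]; group
        rw [e7] at h2
        have h3 := mul_left_cancel h2
        exact (mul_right_cancel h3).symm
    exact h.cent_U htQ (key a h.aU) (key _ h.wU)
  -- (K)
  have hzn : ∀ c ∈ C, ∀ k ∈ zpowers z, c * k * c⁻¹ = k := by
    rintro c hc _ ⟨n, rfl⟩
    have h1 : Commute c z := h.Cz c hc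
    change c * z ^ n * c⁻¹ = z ^ n
    rw [(h1.zpow_right n).eq]; group
  let N : ℕ → Subgroup G := fun k => match k with
    | 0 => Q
    | 1 => h.U
    | 2 => B
    | 3 => zpowers z
    | _ + 4 => ⊥
  rw [h.Qo2]
  refine chain_mem (C := C) (by rw [← h.Qo2]; exact h.char2) 4 N h.Qo2 rfl ?_ ?_ hs ?_
  · intro k
    match k with
    | 0 => exact h.nQ
    | 1 => exact h.nU
    | 2 =>
      refine le_norm_of fun c hc x hx => ?_
      change c * x * c⁻¹ ∈ B
      rcases h.CB c hc x hx with h1 | h1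
      · rw [h1]; exact hx
      · rw [h1]; exact mul_mem h.zB hx
    | 3 =>
      refine le_norm_of fun c hc x hx => ?_
      change c * x * c⁻¹ ∈ zpowers z
      rw [hzn c hc x hx]; exact hx
    | _ + 4 =>
      refine le_norm_of fun c hc x hx => ?_
      change c * x * c⁻¹ ∈ (⊥ : Subgroup G)
      rw [mem_bot.1 hx]; simp
  · intro k
    match k with
    | 0 => exact h.UQ
    | 1 => exact h.BU
    | 2 => exact (zpowers_le).2 h.zB
    | 3 => exact bot_le
    | _ + 4 => exact le_rfl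
  · intro k
    match k with
    | 0 => exact hQU
    | 1 => exact hUB
    | 2 =>
      intro x hx
      change s * x * s⁻¹ * x⁻¹ ∈ zpowers z
      rcases h.CB s hs x hx with h1 | h1
      · rw [h1, mul_inv_cancel]; exact one_mem _
      · rw [h1, mul_inv_cancel_right]; exact mem_zpowers z
    | 3 =>
      intro x hx
      change s * x * s⁻¹ * x⁻¹ ∈ (⊥ : Subgroup G)
      rw [hzn s hs x hx, mul_inv_cancel]; exact one_mem _
    | _ + 4 =>
      intro x hx
      change s * x * s⁻¹ * x⁻¹ ∈ (⊥ : Subgroup G)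
      rw [mem_bot.1 hx]; simp

/-- **(6)**: the elements of `M` centralise `E / ⟨z⟩`. -/
theorem main [Finite G] {s e : G} (hs : s ∈ M) (he : e ∈ E) : Eqz z (s * e * s⁻¹) e := by
  have hz := h.z2
  have hsC := h.MC s hs
  obtain ⟨f, hf, b, hb, h1, h2⟩ := h.M_w hs
  set w := g * a * g⁻¹ with hw
  have hwQ : w ∈ Q := h.wQ
  have hQE : ∀ {x : G}, x ∈ Q → Eqz z (x * e * x⁻¹) e := by
    intro x hx
    have h3 := (h.QQ x hx e (h.EQ he)).mul_right x⁻¹
    rwa [mul_inv_cancel_right] at h3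
  rcases h1 with h1 | h1
  · refine hQE (h.mem_Q hsC (h.Ma s hs) ?_)
    change s * w * s⁻¹ * w⁻¹ ∈ B
    rw [h2, mul_inv_cancel_right]
    refine mul_mem ?_ hb
    rcases h1 with h1 | h1
    · rw [h1]; exact one_mem _
    · rw [h1, mul_one]; exact h.zB
  · have h3 : v * s ∈ Q := by
      refine h.mem_Q (mul_mem h.vC hsC) ?_ ?_
      · have h4 := (h.Ma s hs).conj h.vz
        have e1 : v * (s * a * s⁻¹) * v⁻¹ = v * s * a * (v * s)⁻¹ := by group
        have e2 : v * a * v⁻¹ = a := by rw [← h.Ev a h.aE]; group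
        rwa [e1, e2] at h4
      · change v * s * w * (v * s)⁻¹ * w⁻¹ ∈ B
        have e1 : v * s * w * (v * s)⁻¹ * w⁻¹ = v * (s * w * s⁻¹) * v⁻¹ * w⁻¹ := by group
        rw [e1, h2]
        have e2 : v * (f * b * w) * v⁻¹ * w⁻¹ = f * b * (v * w * v⁻¹) * w⁻¹ := by
          calc v * (f * b * w) * v⁻¹ * w⁻¹ = (v * f) * b * w * v⁻¹ * w⁻¹ := by group
            _ = f * (v * b) * w * v⁻¹ * w⁻¹ := by rw [← h.Ev f hf]; group
            _ = f * b * (v * w * v⁻¹) * w⁻¹ := by rw [← h.Bv b hb]; group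
        rw [e2]
        have hfz : f * b * z = z * (f * b) := h.Qz (mul_mem (h.EQ hf) (h.BQ hb))
        have haw : a * w = w * a := h.ew h.aE
        have hba := h.BZ b hb a h.aQ
        have h4 : Eqz z (f * b * (v * w * v⁻¹) * w⁻¹) (f * b * (w * a) * w⁻¹) :=
          ((h.vwe h.aE).mul_left hfz).mul_right _
        have e3 : f * b * (w * a) * w⁻¹ = f * a * b := by
          calc f * b * (w * a) * w⁻¹ = f * (b * a) := by rw [← haw]; group
            _ = f * a * b := by rw [hba]; group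
        rw [e3] at h4
        have h5 : Eqz z (f * a * b) b := by
          have h6 := h1.mul_right (a * b)
          have e4 : a * (a * b) = b := by rw [← mul_assoc, h.E2 a h.aE, one_mul]
          rw [e4] at h6
          rwa [← mul_assoc] at h6
        rcases h4.trans hz h5 with h6 | h6
        · rw [h6]; exact hb
        · rw [h6]; exact mul_mem h.zB hb
    have h4 : Eqz z (v * s * e * (v * s)⁻¹) e := hQE h3
    have h5 := h4.conj (a := v⁻¹) (by rw [inv_comm' h.vz])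
    have e1 : v⁻¹ * (v * s * e * (v * s)⁻¹) * v⁻¹⁻¹ = s * e * s⁻¹ := by group
    have e2 : v⁻¹ * e * v⁻¹⁻¹ = e := by
      have := h.Ev e he
      calc v⁻¹ * e * v⁻¹⁻¹ = v⁻¹ * (e * v) := by group
        _ = e := by rw [this]; group
    rwa [e1, e2] at h5

end SixD

end Cfsg.Agent.Omega.NOne.AG
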