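import Cfsg.Agent.Omega.NOne.AG.Core

/-!
# THEOREM D0ag (bb #15001): (2)

`h.Two` : for every `i` the intersections `B i ∩ Q j` (for suitable `j` opposite `i`) lie in `⟨a⟩`, and for
other `j` in `⟨b⟩`, where `a`, `b` are central in `T` and `⟨a⟩ ∩ ⟨b⟩ = 1` (`a = b = 1` if `Δ = V`).

Output: `[B i, T₀] = 1`, `B i` is elementary, `b ∈ Q j` or `b z_i ∈ Q j` for `b ∈ B i`, `QF i = Qs i B i`.
If `Δ = V`: `B i = ⟨z i⟩` and `QF i = Qs i`.
-/

set_option autoImplicit false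

namespace Cfsg.Agent.Omega.NOne.AG

open Subgroup Cfsg Cfsg.Agent.ZN

universe u

variable {G : Type u} [Group G] {ι : Type*}

namespace Conf

variable {P V T : Subgroup G} {z : ι → G} {opp : ι → ι → Prop} {C Q QF Qs : ι → Subgroup G}

/-- see the head of the file -/
def Good (h : Conf P V T z opp C Q QF Qs) (i : ι) (a : G) : Prop :=
  (∀ t ∈ T, t * a = a * t) ∧ a * a = 1 ∧ ∃ j k, opp i j ∧ opp i k ∧ opp j k ∧
    (∀ x ∈ h.B i, x ∈ Q j → x = 1 ∨ x = a) ∧ (∀ x ∈ h.B i, x ∈ Q k → x = 1 ∨ x = a)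

/-- see the head of the file -/
def Two (h : Conf P V T z opp C Q QF Qs) : Prop :=
  ∀ i, ∃ a b, h.Good i a ∧ h.Good i b ∧ ∀ x, (x = 1 ∨ x = a) → (x = 1 ∨ x = b) → x = 1

variable (h : Conf P V T z opp C Q QF Qs)
include h

theorem Qs_comm {i : ι} {x y : G} (hx : x ∈ Qs i) (hy : y ∈ Qs i) :
    x * y = y * x ∨ x * y = z i * (y * x) := h.com i x hx y (h.QsQF i hy)

/-- squares of `Qs i` are in `⟨z i⟩` -/
theorem sq_Qs {i : ι} {x : G} (hx : x ∈ Qs i) : x * x = 1 ∨ x * x = z i := by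
  let H : Subgroup G :=
    { carrier := {x | x ∈ Qs i ∧ (x * x = 1 ∨ x * x = z i)}
      one_mem' := ⟨one_mem _, Or.inl (by simp)⟩
      mul_mem' := by
        rintro a b ⟨ha0, ha⟩ ⟨hb0, hb⟩
        refine ⟨mul_mem ha0 hb0, ?_⟩
        have hza := h.Qcomm_z (h.QsQ i ha0)
        have hzb := h.Qcomm_z (h.QsQ i hb0)
        rcases h.Qs_comm hb0 ha0 with hc | hc
        · have e : a * b * (a * b) = (a * a) * (b * b) := by
            calc a * b * (a * b) = a * (b * a) * b := by group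
              _ = a * (a * b) * b := by rw [hc]
              _ = (a * a) * (b * b) := by group
          rw [e]
          rcases ha with ha | ha <;> rcases hb with hb | hb <;> rw [ha, hb] <;> simp [h.sq]
        · have e : a * b * (a * b) = z i * ((a * a) * (b * b)) := by
            calc a * b * (a * b) = a * (b * a) * b := by group
              _ = (a * z i) * (a * b) * b := by rw [hc]; group
              _ = z i * ((a * a) * (b * b)) := by rw [hza]; group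
          rw [e]
          rcases ha with ha | ha <;> rcases hb with hb | hb <;> rw [ha, hb] <;> simp [h.sq]
      inv_mem' := by
        rintro a ⟨ha0, ha⟩
        refine ⟨inv_mem ha0, ?_⟩
        have e : a⁻¹ * a⁻¹ = (a * a)⁻¹ := by group
        rw [e]
        rcases ha with ha | ha
        · left; rw [ha, inv_one]
        · right; rw [ha, h.zinv] }
  have h1 : Qs i ≤ H := by
    refine (h.QsGen i).trans ((closure_le _).2 ?_)
    rintro _ ⟨c, hc, e, he, heQ, rfl⟩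
    refine ⟨norm_conj (h.nQs i) hc (h.VQs i e he heQ), Or.inl ?_⟩
    calc c * e * c⁻¹ * (c * e * c⁻¹) = c * (e * e) * c⁻¹ := by group
      _ = 1 := by rw [h.Vsq e he]; group
  exact (h1 hx).2

/-- `[B i, Tt j] ≤ B i ∩ Q j` -/
theorem comm_B_Tt {i j : ι} {x t : G} (hx : x ∈ h.B i) (ht : t ∈ h.Tt j) :
    x * t * x⁻¹ * t⁻¹ ∈ h.B i ∧ x * t * x⁻¹ * t⁻¹ ∈ Q j := by
  obtain ⟨ht1, ht2⟩ := h.mem_Tt.1 ht
  constructor
  · have e : x * t * x⁻¹ * t⁻¹ = x * (t * x⁻¹ * t⁻¹) := by group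
    rw [e]
    exact mul_mem hx (norm_conj (h.B_norm i) (h.TC i ht1) (inv_mem hx))
  · exact mul_mem (norm_conj (h.nQ j) (h.TC j (h.B_T i hx)) ht2) (inv_mem ht2)

theorem Good.comm {i : ι} {a : G} (ha : h.Good i a) {x t : G} (hx : x ∈ h.B i) (ht : t ∈ h.T0) :
    x * t * x⁻¹ * t⁻¹ = 1 ∨ x * t * x⁻¹ * t⁻¹ = a := by
  obtain ⟨ha1, ha2, j, k, hij, hik, hjk, hj, hk⟩ := ha
  have hai : a⁻¹ = a := inv_eq_of_mul_eq_one_left ha2
  let H : Subgroup G :=
    { carrier := {t | t ∈ T ∧ (x * t * x⁻¹ * t⁻¹ = 1 ∨ x * t * x⁻¹ * t⁻¹ = a)}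
      one_mem' := ⟨one_mem _, Or.inl (by simp)⟩
      mul_mem' := by
        rintro s t ⟨hs0, hs⟩ ⟨ht0, ht⟩
        refine ⟨mul_mem hs0 ht0, ?_⟩
        have e : x * (s * t) * x⁻¹ * (s * t)⁻¹ =
            (x * s * x⁻¹ * s⁻¹) * (s * (x * t * x⁻¹ * t⁻¹) * s⁻¹) := by group
        rw [e]
        have e2 : s * a * s⁻¹ = a := comm_conj' (ha1 s hs0)
        rcases hs with hs | hs <;> rcases ht with ht | ht <;> rw [hs, ht] <;> simp [e2, ha2]
      inv_mem' := by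
        rintro s ⟨hs0, hs⟩
        refine ⟨inv_mem hs0, ?_⟩
        have e : x * s⁻¹ * x⁻¹ * s⁻¹⁻¹ = s⁻¹ * (x * s * x⁻¹ * s⁻¹)⁻¹ * s := by group
        rw [e]
        have e2 : s⁻¹ * a * s = a := by
          rw [mul_assoc, ← ha1 s hs0]; group
        rcases hs with hs | hs
        · left; rw [hs]; group
        · right; rw [hs, hai]; exact e2 }
  have h1 : h.T0 ≤ H := by
    rw [← h.T0_eq hjk]
    refine sup_le (fun t ht => ⟨h.Tt_T j ht, ?_⟩) (fun t ht => ⟨h.Tt_T k ht, ?_⟩)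
    · obtain ⟨h1, h2⟩ := h.comm_B_Tt hx ht
      exact hj _ h1 h2
    · obtain ⟨h1, h2⟩ := h.comm_B_Tt hx ht
      exact hk _ h1 h2
  exact (h1 ht).2

/-- **(2)** `[B i, T₀] = 1` -/
theorem B_T0 (h2 : h.Two) {i : ι} {x t : G} (hx : x ∈ h.B i) (ht : t ∈ h.T0) : x * t = t * x := by
  obtain ⟨a, b, ha, hb, hab⟩ := h2 i
  have h1 := hab _ (Good.comm h ha hx ht) (Good.comm h hb hx ht)
  rw [mul_inv_eq_one, mul_inv_eq_iff_eq_mul] at h1
  exact h1

/-- centraliser of `Qs i` in `Qs i` -/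
def Zs (_h : Conf P V T z opp C Q QF Qs) (i : ι) : Subgroup G := Qs i ⊓ centralizer (Qs i : Set G)

theorem mem_Zs {i : ι} {x : G} : x ∈ h.Zs i ↔ x ∈ Qs i ∧ ∀ y ∈ Qs i, x * y = y * x := by
  rw [Zs, mem_inf, mem_centralizer_iff]
  exact and_congr_right fun _ => ⟨fun H y hy => (H y hy).symm, fun H y hy => (H y hy).symm⟩

theorem Zs_B (i : ι) : h.Zs i ≤ h.B i := fun _ hx =>
  h.mem_B.2 ⟨h.QsQF i (h.mem_Zs.1 hx).1, (h.mem_Zs.1 hx).2⟩

theorem Zs_norm (i : ι) : C i ≤ normalizer (h.Zs i : Set G) := by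
  refine le_norm_of fun c hc x hx => ?_
  obtain ⟨h1, h2⟩ := h.mem_Zs.1 hx
  refine h.mem_Zs.2 ⟨norm_conj (h.nQs i) hc h1, fun y hy => ?_⟩
  have h3 := h2 _ (norm_conj (h.nQs i) (inv_mem hc) hy)
  calc c * x * c⁻¹ * y = c * (x * (c⁻¹ * y * c⁻¹⁻¹)) * c⁻¹ := by group
    _ = c * ((c⁻¹ * y * c⁻¹⁻¹) * x) * c⁻¹ := by rw [h3]
    _ = y * (c * x * c⁻¹) := by group

theorem z_mem_Zs (i : ι) : z i ∈ h.Zs i :=
  h.mem_Zs.2 ⟨h.z_mem_Qs i, fun y hy => (h.Qcomm_z (h.QsQ i hy)).symm⟩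

/-- an element of `T` centralising `Tt j` and the factors of `Qs j ≥ R ≥ 1` is in `Q j` -/
theorem mem_Q_of_chain [Finite G] {j : ι} {R : Subgroup G} (hR : R ≤ Qs j)
    (nR : C j ≤ normalizer (R : Set G)) {b : G} (hb : b ∈ T)
    (hbT : ∀ t ∈ h.Tt j, b * t = t * b) (h1 : ∀ x ∈ Qs j, b * x * b⁻¹ * x⁻¹ ∈ R)
    (h2 : ∀ x ∈ R, b * x = x * b) : b ∈ Q j := by
  have hc2 : ∀ c ∈ C j, (∀ x ∈ o2 (C j), c * x = x * c) → c ∈ o2 (C j) := by
    rw [← h.Qo2 j]; exact h.char2 j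
  have hbot : C j ≤ normalizer ((⊥ : Subgroup G) : Set G) := by
    refine le_norm_of fun x _ y hy => ?_
    rw [mem_bot] at hy ⊢
    rw [hy]; group
  rw [h.Qo2 j]
  let N : ℕ → Subgroup G := fun k =>
    match k with
    | 0 => Q j
    | 1 => QF j
    | 2 => Qs j
    | 3 => R
    | _ => ⊥
  refine chain_mem hc2 4 N (h.Qo2 j) rfl ?_ ?_ (h.TC j hb) ?_
  · intro k
    match k with
    | 0 => exact h.nQ j
    | 1 => exact h.nQF j
    | 2 => exact h.nQs j
    | 3 => exact nR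
    | (n + 4) => exact hbot
  · intro k
    match k with
    | 0 => exact h.QFQ j
    | 1 => exact h.QsQF j
    | 2 => exact hR
    | 3 => exact bot_le
    | (n + 4) => exact le_rfl
  · intro k x hx
    rcases k with _ | _ | _ | _ | n
    · change x ∈ Q j at hx
      change b * x * b⁻¹ * x⁻¹ ∈ QF j
      by_cases hxF : x ∈ QF j
      · exact mul_mem (norm_conj (h.nQF j) (h.TC j hb) hxF) (inv_mem hxF)
      · refine h.QF2 j _ (norm_conj (h.nQ j) (h.TC j hb) hx) _ (inv_mem hx) (fun hc => hxF ?_)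
          (fun hc => hxF ?_)
        · have h3 := norm_conj (h.nQF j) (inv_mem (h.TC j hb)) hc
          have e : b⁻¹ * (b * x * b⁻¹) * b⁻¹⁻¹ = x := by group
          rwa [e] at h3
        · have h3 := inv_mem hc
          rwa [inv_inv] at h3
    · change x ∈ QF j at hx
      change b * x * b⁻¹ * x⁻¹ ∈ Qs j
      obtain ⟨t, ht, y, hy, rfl⟩ := h.QFT j x hx
      have htQ : t ∈ h.Tt j := h.mem_Tt.2 ⟨ht, by
        have h3 : t * y * y⁻¹ ∈ Q j := mul_mem (h.QFQ j hx) (inv_mem (h.QsQ j hy))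
        rwa [mul_inv_cancel_right] at h3⟩
      have e : b * (t * y) * b⁻¹ * (t * y)⁻¹ = t * (b * y * b⁻¹ * y⁻¹) * t⁻¹ := by
        calc b * (t * y) * b⁻¹ * (t * y)⁻¹ = (b * t) * y * b⁻¹ * y⁻¹ * t⁻¹ := by group
          _ = t * (b * y * b⁻¹ * y⁻¹) * t⁻¹ := by rw [hbT t htQ]; group
      rw [e]
      exact norm_conj (h.nQs j) (h.TC j ht)
        (mul_mem (norm_conj (h.nQs j) (h.TC j hb) hy) (inv_mem hy))
    · exact h1 x hx
    · change x ∈ R at hx
      change b * x * b⁻¹ * x⁻¹ ∈ (⊥ : Subgroup G)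
      rw [mem_bot, mul_inv_eq_one, mul_inv_eq_iff_eq_mul]
      exact h2 x hx
    · change x ∈ (⊥ : Subgroup G) at hx
      change b * x * b⁻¹ * x⁻¹ ∈ (⊥ : Subgroup G)
      rw [mem_bot] at hx ⊢
      rw [hx]; group

/-- the square of `b ∈ B i` is in `Q j` -/
theorem B_sq_mem [Finite G] (h2 : h.Two) {i j : ι} {b : G} (hb : b ∈ h.B i) : b * b ∈ Q j := by
  have hbT := h.B_T i hb
  have hbt : ∀ t ∈ h.Tt j, b * t = t * b := fun t ht => h.B_T0 h2 hb (h.Tt_le_T0 j ht)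
  have hR : zpowers (z j) ≤ Qs j := by rw [zpowers_le]; exact h.z_mem_Qs j
  have hmem : ∀ x, x = 1 ∨ x = z j → x ∈ zpowers (z j) := by
    rintro x (rfl | rfl)
    · exact one_mem _
    · exact mem_zpowers _
  refine h.mem_Q_of_chain hR ?_ (mul_mem hbT hbT) ?_ ?_ ?_
  · refine le_norm_of fun c hc x hx => ?_
    obtain ⟨n, rfl⟩ := mem_zpowers_iff.1 hx
    have : Commute c (z j ^ n) := (show Commute c (z j) from h.Cz j c hc).zpow_right n
    rw [comm_conj' this]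
    exact hx
  · intro t ht
    rw [mul_assoc, hbt t ht, ← mul_assoc, hbt t ht, mul_assoc]
  · intro x hx
    obtain ⟨h3, h4⟩ := h.comm_T_Qs hbT hx
    have h5 := hbt _ (h.mem_Tt_of_Qs h3 h4)
    have e : b * b * x * (b * b)⁻¹ * x⁻¹ =
        (b * x * b⁻¹ * x⁻¹) * (b * x * b⁻¹ * x⁻¹) := by
      calc b * b * x * (b * b)⁻¹ * x⁻¹ =
          b * (b * x * b⁻¹ * x⁻¹) * b⁻¹ * (b * x * b⁻¹ * x⁻¹) := by group
        _ = _ := by rw [comm_conj' h5]
    rw [e]
    exact hmem _ (h.sq_Qs h3)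
  · intro x hx
    obtain ⟨n, rfl⟩ := mem_zpowers_iff.1 hx
    have : Commute (b * b) (z j ^ n) :=
      (show Commute (b * b) (z j) from h.Cz j _ (h.TC j (mul_mem hbT hbT))).zpow_right n
    exact this

/-- **(2)** `B i` is elementary abelian -/
theorem B_sq [Finite G] (h2 : h.Two) {i : ι} {b : G} (hb : b ∈ h.B i) : b * b = 1 := by
  obtain ⟨a, c, ⟨-, -, j, k, -, -, -, hj, -⟩, ⟨-, -, j', k', -, -, -, hj', -⟩, hac⟩ := h2 i
  exact hac _ (hj _ (mul_mem hb hb) (h.B_sq_mem h2 hb)) (hj' _ (mul_mem hb hb) (h.B_sq_mem h2 hb))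

theorem B_comm [Finite G] (h2 : h.Two) {i : ι} {b c : G} (hb : b ∈ h.B i) (hc : c ∈ h.B i) :
    b * c = c * b := h.B_T0 h2 hb (h.Tt_le_T0 i (h.B_Tt i hc))

/-! ### the action of `β ∈ B i` on `Qs j / Zs j` -/

/-- `|E_i| = 8` -/
theorem card_E [Finite G] {i j : ι} (hij : opp i j) : Nat.card ↥(V ⊓ Q i) = 8 := by
  have h1 := card_two (inf_le_left : V ⊓ Q i ≤ V)
    ⟨z j, h.zV j, fun hc => (h.opp_iff i j).1 hij (mem_inf.1 hc).2⟩
    (fun a ha b hb ha' hb' => mem_inf.2 ⟨mul_mem ha hb, h.VQ2 i a ha b hb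
      (fun hc => ha' (mem_inf.2 ⟨ha, hc⟩)) (fun hc => hb' (mem_inf.2 ⟨hb, hc⟩))⟩)
  rw [h.cardV] at h1
  omega

/-- the elements of `E_i` commuting with `x ∈ Qs i`, `x ∉ T` -/
theorem E_comm [Finite G] {i j : ι} (hij : opp i j) {x e f : G} (hx : x ∈ Qs i) (hxT : x ∉ T)
    (he : e ∈ V) (heQ : e ∈ Q i) (hf : f ∈ V) (hfQ : f ∈ Q i) (hex : e * x = x * e)
    (hfx : f * x = x * f) (he1 : e ≠ 1) (hez : e ≠ z i) :
    f = 1 ∨ f = z i ∨ f = e ∨ f = e * z i := by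
  let K : Subgroup G := (V ⊓ Q i) ⊓ centralizer ({x} : Set G)
  have hK : ∀ {y}, y ∈ K ↔ (y ∈ V ∧ y ∈ Q i) ∧ y * x = x * y := by
    intro y
    rw [mem_inf, mem_inf, mem_centralizer_singleton_iff]
  have h1 : Nat.card ↥(V ⊓ Q i) = 2 * Nat.card K := by
    refine card_two inf_le_left ?_ ?_
    · by_contra hcon
      push Not at hcon
      exact hxT (h.T_of_comm hx fun v hv hvQ => ((hK.1 (hcon v (mem_inf.2 ⟨hv, hvQ⟩))).2).symm)
    · intro a ha b hb ha' hb'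
      obtain ⟨ha1, ha2⟩ := mem_inf.1 ha
      obtain ⟨hb1, hb2⟩ := mem_inf.1 hb
      refine hK.2 ⟨⟨mul_mem ha1 hb1, mul_mem ha2 hb2⟩, ?_⟩
      have ca : a * x = z i * (x * a) :=
        (h.Qs_comm (h.VQs i a ha1 ha2) hx).resolve_left fun hc => ha' (hK.2 ⟨⟨ha1, ha2⟩, hc⟩)
      have cb : b * x = z i * (x * b) :=
        (h.Qs_comm (h.VQs i b hb1 hb2) hx).resolve_left fun hc => hb' (hK.2 ⟨⟨hb1, hb2⟩, hc⟩)
      have hza := h.Qcomm_z ha2
      calc a * b * x = a * (b * x) := by group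
        _ = (a * z i) * (x * b) := by rw [cb]; group
        _ = z i * ((a * x) * b) := by rw [hza]; group
        _ = (z i * z i) * (x * (a * b)) := by rw [ca]; group
        _ = x * (a * b) := by rw [h.sq, one_mul]
  rw [h.card_E hij] at h1
  exact mem_of_card_four (K := K) (by omega) (hK.2 ⟨⟨h.zV i, h.z_mem_Q i⟩, (h.Qcomm_z (h.QsQ i hx)).symm⟩)
    (hK.2 ⟨⟨he, heQ⟩, hex⟩) (hK.2 ⟨⟨hf, hfQ⟩, hfx⟩) (h.ne_one i) (h.sq i) he1 hez

/-- `[b, x] = c e`, `c ∈ Zs j`, `e ∈ E_j`, `[e, x] = 1` -/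
theorem split_comm [Finite G] (h2 : h.Two) {i j : ι} {b x : G} (hb : b ∈ h.B i) (hx : x ∈ Qs j) :
    ∃ c ∈ h.Zs j, ∃ e ∈ V, e ∈ Q j ∧ b * x * b⁻¹ * x⁻¹ = c * e ∧ e * x = x * e := by
  have hbT := h.B_T i hb
  have hbt : ∀ t ∈ h.Tt j, b * t = t * b := fun t ht => h.B_T0 h2 hb (h.Tt_le_T0 j ht)
  obtain ⟨hd1, hd2⟩ := h.comm_T_Qs hbT hx
  set d := b * x * b⁻¹ * x⁻¹ with hd
  have hbx : b * x = d * x * b := by rw [hd]; group
  have hbz : b * z j = z j * b := h.Cz j b (h.TC j hbT)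
  have hbd : b * d = d * b := hbt d (h.mem_Tt_of_Qs hd1 hd2)
  -- `d` centralises `T ∩ Qs j`
  have hdc : ∀ y ∈ Qs j, y ∈ T → d * y = y * d := by
    intro y hy hyT
    have hby := hbt y (h.mem_Tt_of_Qs hy hyT)
    rcases h.Qs_comm hx hy with hc | hc
    · have e1 : b * (x * y) = b * (y * x) := by rw [hc]
      have e2 : b * (x * y) = d * x * y * b := by
        calc b * (x * y) = (b * x) * y := by group
          _ = d * x * (b * y) := by rw [hbx]; group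
          _ = d * x * y * b := by rw [hby]; group
      have e3 : b * (y * x) = y * d * x * b := by
        calc b * (y * x) = (b * y) * x := by group
          _ = y * (b * x) := by rw [hby]; group
          _ = y * d * x * b := by rw [hbx]; group
      rw [e2, e3] at e1
      have e4 := mul_right_cancel e1
      have e5 : d * y * x = y * d * x := by
        rw [← e4, mul_assoc, ← hc, ← mul_assoc]
      exact mul_right_cancel e5
    · have e1 : b * (x * y) = b * (z j * (y * x)) := by rw [hc]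
      have e2 : b * (x * y) = d * x * y * b := by
        calc b * (x * y) = (b * x) * y := by group
          _ = d * x * (b * y) := by rw [hbx]; group
          _ = d * x * y * b := by rw [hby]; group
      have e3 : b * (z j * (y * x)) = z j * (y * d * x) * b := by
        calc b * (z j * (y * x)) = (b * z j) * (y * x) := by group
          _ = z j * ((b * y) * x) := by rw [hbz]; group
          _ = z j * (y * (b * x)) := by rw [hby]; group
          _ = z j * (y * d * x) * b := by rw [hbx]; group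
      rw [e2, e3] at e1
      have e4 := mul_right_cancel e1
      have hdz := h.Qcomm_z (h.QsQ j hd1)
      have e5 : z j * (d * y * x) = z j * (y * d * x) := by
        calc z j * (d * y * x) = (z j * d) * (y * x) := by group
          _ = d * (z j * (y * x)) := by rw [← hdz]; group
          _ = d * (x * y) := by rw [hc]
          _ = z j * (y * d * x) := by rw [← e4]; group
      exact mul_right_cancel (mul_left_cancel e5)
  obtain ⟨e, he, heQ, hde⟩ := h.dualE (h.QsQF j hd1) (fun w hw hwT => hdc w hw hwT)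
  have heQs := h.VQs j e he heQ
  have he2 := h.Vsq e he
  have hcZ : d * e ∈ h.Zs j := h.mem_Zs.2 ⟨mul_mem hd1 heQs, (h.mem_B.1 hde).2⟩
  have hce : d * e * e = e * (d * e) := (h.mem_B.1 hde).2 e heQs
  have hdee : d = d * e * e := by rw [mul_assoc, he2, mul_one]
  -- `d² = 1`
  have hdd : d * d = 1 := by
    calc d * d = (d * e * e) * (d * e * e) := by rw [← hdee]
      _ = (e * (d * e)) * (d * e * e) := by rw [hce]
      _ = e * ((d * e) * (d * e)) * e := by group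
      _ = 1 := by rw [h.B_sq h2 hde, mul_one, he2]
  -- `(d x)² = x²`
  have hxx : b * (x * x) = x * x * b := by
    rcases h.sq_Qs hx with h3 | h3
    · rw [h3]; simp
    · rw [h3, hbz]
  have h4 : d * x * (d * x) = x * x := by
    have : b * (x * x) = d * x * (d * x) * b := by
      calc b * (x * x) = (b * x) * x := by group
        _ = d * x * b * x := by rw [hbx]
        _ = d * x * (b * x) := by group
        _ = d * x * (d * x * b) := by rw [hbx]
        _ = d * x * (d * x) * b := by group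
    rw [this] at hxx
    exact mul_right_cancel hxx
  have h5 : d * x = x * d := by
    have h6 : d * x * d = x := by
      have : (d * x * d) * x = x * x := by rw [← h4]; group
      exact mul_right_cancel this
    calc d * x = d * x * (d * d) := by rw [hdd, mul_one]
      _ = (d * x * d) * d := by group
      _ = x * d := by rw [h6]
  refine ⟨d * e, hcZ, e, he, heQ, hdee, ?_⟩
  have h7 : (d * e) * x = x * (d * e) := (h.mem_B.1 hde).2 x hx
  have h8 : d * (e * x) = d * (x * e) := by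
    calc d * (e * x) = (d * e) * x := by group
      _ = (x * d) * e := by rw [h7]; group
      _ = d * (x * e) := by rw [← h5]; group
  exact mul_left_cancel h8

/-- **(2)** `b ∈ Q j` or `b z_i ∈ Q j` -/
theorem B_or [Finite G] (h2 : h.Two) {i j : ι} (hij : opp i j) {b : G} (hb : b ∈ h.B i) :
    b ∈ Q j ∨ b * z i ∈ Q j := by
  have hji := h.symm hij
  have hziB : z i ∈ h.B i := h.Zs_B i (h.z_mem_Zs i)
  have hbT := h.B_T i hb
  have hbt : ∀ t ∈ h.Tt j, b * t = t * b := fun t ht => h.B_T0 h2 hb (h.Tt_le_T0 j ht)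
  have hZn : ∀ x ∈ Qs j, ∀ c ∈ h.Zs j, x * c * x⁻¹ ∈ h.Zs j := fun x hx c hc =>
    norm_conj (h.Zs_norm j) (h.QsC j hx) hc
  -- pointwise
  have key : ∀ x ∈ Qs j, b * x * b⁻¹ * x⁻¹ ∈ h.Zs j ∨ (b * z i) * x * (b * z i)⁻¹ * x⁻¹ ∈ h.Zs j := by
    intro x hx
    by_cases hxT : x ∈ T
    · left
      rw [comm_conj' (hbt x (h.mem_Tt_of_Qs hx hxT)), mul_inv_cancel]
      exact one_mem _
    obtain ⟨c, hc, e, he, heQ, hd, hex⟩ := h.split_comm h2 hb hx
    obtain ⟨c1, hc1, e1, he1, he1Q, hd1, he1x⟩ := h.split_comm h2 hziB hx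
    by_cases hez : e = 1 ∨ e = z j
    · left
      rw [hd]
      refine mul_mem hc ?_
      rcases hez with rfl | rfl
      · exact one_mem _
      · exact h.z_mem_Zs j
    push Not at hez
    -- `e1 ∉ ⟨z j⟩`
    have hne : ¬ (e1 = 1 ∨ e1 = z j) := by
      intro hcon
      have hmem : e1 ∈ h.Zs j := by
        rcases hcon with rfl | rfl
        · exact one_mem _
        · exact h.z_mem_Zs j
      have h3 : z i * x * (z i)⁻¹ * x⁻¹ ∈ h.Zs j := by rw [hd1]; exact mul_mem hc1 hmem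
      have h4 : z i * x * (z i)⁻¹ * x⁻¹ ∈ V := by
        have e : z i * x * (z i)⁻¹ * x⁻¹ = z i * (x * (z i)⁻¹ * x⁻¹) := by group
        rw [e]
        exact mul_mem (h.zV i) (h.conj_V (h.QsP j hx) (inv_mem (h.zV i)))
      rcases h.fixE j _ h4 (fun y hy => ((h.mem_Zs.1 h3).2 y hy).symm) with h5 | h5
      · apply hxT
        refine h.kv j x hx (z i) (h.zV i) ((h.opp_iff j i).1 hji) (Or.inl ?_)
        rw [mul_inv_eq_one, mul_inv_eq_iff_eq_mul] at h5
        exact h5.symm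
      · apply hxT
        refine h.kv j x hx (z i) (h.zV i) ((h.opp_iff j i).1 hji) (Or.inr ?_)
        have h6 : z i * x = z j * (x * z i) := by
          calc z i * x = (z i * x * (z i)⁻¹ * x⁻¹) * (x * z i) := by group
            _ = z j * (x * z i) := by rw [h5]
        rw [h6, ← mul_assoc, h.sq, one_mul]
    push Not at hne
    right
    have h9 : e1 * e = 1 ∨ e1 * e = z j := by
      rcases h.E_comm hji hx hxT he heQ he1 he1Q hex he1x hez.1 hez.2 with h3 | h3 | h3 | h3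
      · exact absurd h3 hne.1
      · exact absurd h3 hne.2
      · left; rw [h3]; exact h.Vsq e he
      · right
        rw [h3, h.Vab e he (z j) (h.zV j), mul_assoc, h.Vsq e he, mul_one]
    have hcB := (h.mem_Zs.1 hc).2
    have h10 : (b * z i) * x * (b * z i)⁻¹ * x⁻¹ = c1 * c * (e1 * e) := by
      have hd1m : z i * x * (z i)⁻¹ * x⁻¹ ∈ h.Tt j := by
        obtain ⟨h3, h4⟩ := h.comm_T_Qs (h.B_T i hziB) hx
        exact h.mem_Tt_of_Qs h3 h4
      have h11 := hbt _ hd1m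
      calc (b * z i) * x * (b * z i)⁻¹ * x⁻¹
          = b * (z i * x * (z i)⁻¹ * x⁻¹) * b⁻¹ * (b * x * b⁻¹ * x⁻¹) := by group
        _ = (c1 * e1) * (c * e) := by rw [comm_conj' h11, hd1, hd]
        _ = c1 * (e1 * c) * e := by group
        _ = c1 * (c * e1) * e := by rw [hcB e1 (h.VQs j e1 he1 he1Q)]
        _ = c1 * c * (e1 * e) := by group
    rw [h10]
    refine mul_mem (mul_mem hc1 hc) ?_
    rcases h9 with h9 | h9 <;> rw [h9]
    · exact one_mem _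
    · exact h.z_mem_Zs j
  -- subgroups
  have sub : ∀ β : G, ∀ x ∈ Qs j, ∀ y ∈ Qs j, β * x * β⁻¹ * x⁻¹ ∈ h.Zs j →
      β * (x * y) * β⁻¹ * (x * y)⁻¹ ∈ h.Zs j → β * y * β⁻¹ * y⁻¹ ∈ h.Zs j := by
    intro β x hx y hy h3 h4
    have e : β * y * β⁻¹ * y⁻¹ = x⁻¹ * ((β * x * β⁻¹ * x⁻¹)⁻¹ *
        (β * (x * y) * β⁻¹ * (x * y)⁻¹)) * x⁻¹⁻¹ := by group
    rw [e]
    exact hZn _ (inv_mem hx) _ (mul_mem (inv_mem h3) h4)
  have sub' : ∀ β : G, ∀ x ∈ Qs j, ∀ y ∈ Qs j, β * y * β⁻¹ * y⁻¹ ∈ h.Zs j →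
      β * (x * y) * β⁻¹ * (x * y)⁻¹ ∈ h.Zs j → β * x * β⁻¹ * x⁻¹ ∈ h.Zs j := by
    intro β x hx y hy h3 h4
    have e : β * x * β⁻¹ * x⁻¹ = (β * (x * y) * β⁻¹ * (x * y)⁻¹) *
        (x * (β * y * β⁻¹ * y⁻¹)⁻¹ * x⁻¹) := by group
    rw [e]
    exact mul_mem h4 (hZn _ hx _ (inv_mem h3))
  have fin : ∀ β ∈ h.B i, (∀ x ∈ Qs j, β * x * β⁻¹ * x⁻¹ ∈ h.Zs j) → β ∈ Q j := by
    intro β hβ h3
    have hβt : ∀ t ∈ h.Tt j, β * t = t * β := fun t ht => h.B_T0 h2 hβ (h.Tt_le_T0 j ht)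
    exact h.mem_Q_of_chain (R := h.Zs j) (fun x hx => (h.mem_Zs.1 hx).1) (h.Zs_norm j)
      (h.B_T i hβ) hβt h3 (fun x hx => hβt x (h.B_Tt j (h.Zs_B j hx)))
  by_cases hall : ∀ x ∈ Qs j, b * x * b⁻¹ * x⁻¹ ∈ h.Zs j
  · exact Or.inl (fin b hb hall)
  right
  refine fin _ (mul_mem hb hziB) fun x hx => ?_
  push Not at hall
  obtain ⟨y, hy, hyn⟩ := hall
  by_contra hxn
  have hx1 := (key x hx).resolve_right hxn
  have hy1 := (key y hy).resolve_left hyn
  rcases key (x * y) (mul_mem hx hy) with h3 | h3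
  · exact hyn (sub b x hx y hy hx1 h3)
  · exact hxn (sub' _ x hx y hy hy1 h3)

/-- **(2)** `QF i = Qs i B i` -/
theorem QF_eq [Finite G] (h2 : h.Two) {i : ι} {x : G} (hx : x ∈ QF i) :
    ∃ y ∈ Qs i, ∃ b ∈ h.B i, x = y * b := by
  obtain ⟨t, ht, y, hy, rfl⟩ := h.QFT i x hx
  have htQ : t ∈ h.Tt i := h.mem_Tt.2 ⟨ht, by
    have h3 : t * y * y⁻¹ ∈ Q i := mul_mem (h.QFQ i hx) (inv_mem (h.QsQ i hy))
    rwa [mul_inv_cancel_right] at h3⟩
  have htF := h.Tt_QF htQ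
  obtain ⟨e, he, h3⟩ := dual (X := Qs i) (E := Qs i) (u := t) (h.ne_one i) (h.sq i)
    (fun x hx => h.Qcomm_z (h.QsQ i hx)) (fun e he => h.Qcomm_z (h.QsQ i he))
    (fun e he x hx => h.Qs_comm he hx) (h.Qcomm_z (h.QFQ i htF))
    (fun x hx => by
      rcases h.com i x hx t htF with h3 | h3
      · exact Or.inl h3.symm
      · refine Or.inr ?_
        rw [h3, ← mul_assoc, h.sq, one_mul])
    (fun x hx hxe => by
      have h4 : x ∈ h.B i := h.Zs_B i (h.mem_Zs.2 ⟨hx, fun y hy => (hxe y hy).symm⟩)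
      exact (h.B_T0 h2 h4 (h.Tt_le_T0 i htQ)).symm)
  have hb : t * e ∈ h.B i := h.mem_B.2 ⟨mul_mem htF (h.QsQF i he), h3⟩
  refine ⟨e⁻¹ * y, mul_mem (inv_mem he) hy, t * e, hb, ?_⟩
  rw [← (h.mem_B.1 hb).2 _ (mul_mem (inv_mem he) hy)]
  group

/-! ### the case `Δ = V` -/

/-- `Δ = V` gives the hypothesis `Two`. -/
theorem two_of_V [Finite G] (hD : h.Dl ≤ V) : h.Two := by
  have key : ∀ i j, opp i j → ∀ x ∈ h.B i, x ∈ Q j → x = 1 ∨ x = 1 := by
    intro i j hij x hx hxj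
    have h1 := hD (h.inter_Dl hij (h.B_Tt i hx) (h.mem_Tt.2 ⟨h.B_T i hx, hxj⟩))
    rcases h.fixE i x h1 (fun y hy => ((h.mem_B.1 hx).2 y hy).symm) with h2 | h2
    · exact Or.inl h2
    · exfalso
      rw [h2] at hxj
      exact (h.opp_iff j i).1 (h.symm hij) hxj
  intro i
  obtain ⟨j, k, hij, hik, hjk⟩ := h.tri i
  have hg : h.Good i 1 := ⟨fun t _ => by simp, by simp, j, k, hij, hik, hjk, key i j hij,
    key i k hik⟩
  exact ⟨1, 1, hg, hg, fun x hx _ => by rcases hx with rfl | rfl <;> rfl⟩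

/-- **(2)**, `Δ = V`: `B i = ⟨z i⟩` -/
theorem B_eq_of_V [Finite G] (hD : h.Dl ≤ V) {i : ι} {b : G} (hb : b ∈ h.B i) : b = 1 ∨ b = z i := by
  obtain ⟨j, k, hij, hik, hjk⟩ := h.tri i
  have key : ∀ x ∈ h.B i, x ∈ Q j → x = 1 := by
    intro x hx hxj
    have h1 := hD (h.inter_Dl hij (h.B_Tt i hx) (h.mem_Tt.2 ⟨h.B_T i hx, hxj⟩))
    rcases h.fixE i x h1 (fun y hy => ((h.mem_B.1 hx).2 y hy).symm) with h2 | h2
    · exact h2
    · exfalso
      rw [h2] at hxj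
      exact (h.opp_iff j i).1 (h.symm hij) hxj
  rcases h.B_or (h.two_of_V hD) hij hb with h1 | h1
  · exact Or.inl (key b hb h1)
  · right
    have h2 := key _ (mul_mem hb (h.Zs_B i (h.z_mem_Zs i))) h1
    calc b = (b * z i) * z i := by rw [mul_assoc, h.sq, mul_one]
      _ = z i := by rw [h2, one_mul]

/-- **(2)**, `Δ = V`: `QF i = Qs i` -/
theorem QF_eq_of_V [Finite G] (hD : h.Dl ≤ V) (i : ι) : QF i = Qs i := by
  refine le_antisymm (fun x hx => ?_) (h.QsQF i)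
  obtain ⟨y, hy, b, hb, rfl⟩ := h.QF_eq (h.two_of_V hD) hx
  refine mul_mem hy ?_
  rcases h.B_eq_of_V hD hb with rfl | rfl
  · exact one_mem _
  · exact h.z_mem_Qs i

/-- `Δ = V`: `Zs i = ⟨z i⟩`, so `Qs i` is extraspecial -/
theorem Zs_eq_of_V [Finite G] (hD : h.Dl ≤ V) {i : ι} {x : G} (hx : x ∈ Qs i)
    (hc : ∀ y ∈ Qs i, x * y = y * x) : x = 1 ∨ x = z i :=
  h.B_eq_of_V hD (h.Zs_B i (h.mem_Zs.2 ⟨hx, hc⟩))

end Conf

end Cfsg.Agent.Omega.NOne.AG
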