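import Cfsg.Agent.Omega.NOne.AG.Base
import Cfsg.Agent.Omega.NOne.AG.Two
import Cfsg.Agent.Omega.NO1.EndMinus

/-!
# THEOREM D0ag (bb #15001): the end `Q` extraspecial

`Δ = V` and `Q i₀` induces only `F` on `V` (`Q i₀ ≤ QF i₀`): `O₂(C_G(z i₀)) = Qs i₀` is large extraspecial.
-/

set_option autoImplicit false

namespace Cfsg.Agent.Omega.NOne.AG

open Subgroup Cfsg Cfsg.Agent.ZN Cfsg.Agent.Omega.MinPar Cfsg.Agent.Omega.Frame
open Cfsg.Agent.Co2Type.Quad (Large)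

universe u

variable {G : Type u} [Group G] {ι : Type*}

namespace Conf

variable {P V T : Subgroup G} {z : ι → G} {opp : ι → ι → Prop} {C Q QF Qs : ι → Subgroup G}

section

variable (h : Conf P V T z opp C Q QF Qs)
include h

/-- `|V ∩ Q i| ≥ 8`. -/
theorem card_VQ [Finite G] (i : ι) : 8 ≤ Nat.card ↥(V ⊓ Q i) := by
  classical
  by_cases hVQ : V ≤ Q i
  · have : V ⊓ Q i = V := inf_eq_left.2 hVQ
    rw [this, h.cardV]
    norm_num
  · obtain ⟨v, hv, hvQ⟩ := SetLike.not_le_iff_exists.1 hVQ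
    have h1 : (V : Set G) ⊆ ((V ⊓ Q i : Subgroup G) : Set G) ∪
        (fun x => v * x) '' ((V ⊓ Q i : Subgroup G) : Set G) := by
      intro w hw
      by_cases hwQ : w ∈ Q i
      · exact Or.inl ⟨hw, hwQ⟩
      · refine Or.inr ⟨v * w, ⟨mul_mem hv hw, h.VQ2 i v hv w hw hvQ hwQ⟩, ?_⟩
        change v * (v * w) = w
        rw [← mul_assoc, h.Vsq v hv, one_mul]
    have h2 : (V : Set G).ncard ≤ ((V ⊓ Q i : Subgroup G) : Set G).ncard +
        ((V ⊓ Q i : Subgroup G) : Set G).ncard := by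
      refine (Set.ncard_le_ncard h1 (Set.toFinite _)).trans ((Set.ncard_union_le _ _).trans ?_)
      have h3 := Set.ncard_image_le (f := fun x => v * x)
        (Set.toFinite ((V ⊓ Q i : Subgroup G) : Set G))
      omega
    have h4 : Nat.card V = (V : Set G).ncard := rfl
    have h5 : Nat.card ↥(V ⊓ Q i) = ((V ⊓ Q i : Subgroup G) : Set G).ncard := rfl
    rw [h5]
    rw [← h4, h.cardV] at h2
    omega

theorem card_Qs [Finite G] (i : ι) : 8 < Nat.card ↥(Qs i) := by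
  have hle : V ⊓ Q i ≤ Qs i := fun v hv => h.VQs i v hv.1 hv.2
  have h8 := h.card_VQ i
  have h1 : Nat.card ↥(V ⊓ Q i) ≤ Nat.card ↥(Qs i) := Subgroup.card_le_of_le hle
  rcases h1.lt_or_eq with h2 | h2
  · omega
  exfalso
  have h3 : V ⊓ Q i = Qs i := Subgroup.eq_of_le_of_card_ge hle h2.ge
  have h4 : ∀ e ∈ V ⊓ Q i, e = 1 ∨ e = z i := by
    intro e he
    refine h.fixE i e he.1 fun x hx => ?_
    rw [← h3] at hx
    exact h.Vab x hx.1 e he.1
  have h5 : ((V ⊓ Q i : Subgroup G) : Set G) ⊆ {1, z i} := by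
    intro e he
    rcases h4 e he with h6 | h6
    · left; exact h6
    · right; exact h6
  have h6 := Set.ncard_le_ncard h5 (Set.toFinite _)
  have h7 : Nat.card ↥(V ⊓ Q i) = ((V ⊓ Q i : Subgroup G) : Set G).ncard := rfl
  have h8' : ({1, z i} : Set G).ncard = 2 := Set.ncard_pair (h.ne_one i).symm
  omega

end

end Conf

namespace Base

variable [Finite G] {S : Sylow 2 G} {P V T : Subgroup G} {z : ι → G} {opp : ι → ι → Prop}
  {C Q QF Qs : ι → Subgroup G} {i₀ : ι}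

/-- **The end `Δ = V`, image `F`**: `O₂(C_G(z i₀)) = Qs i₀` is large extraspecial. -/
theorem large (h : Base S P V T z opp C Q QF Qs i₀)
    (hB : ∀ x ∈ h.toConf.B i₀, x = 1 ∨ x = z i₀) (hQF : QF i₀ = Qs i₀) (hQ : Q i₀ ≤ QF i₀) :
    o2 (centralizer ({z i₀} : Set G)) = Qs i₀ ∧
      Large (o2 (centralizer ({z i₀} : Set G))) (z i₀) := by
  have heq : o2 (centralizer ({z i₀} : Set G)) = Qs i₀ :=
    le_antisymm (h.Q0_le.trans (hQ.trans hQF.le)) h.Qs_le
  refine ⟨heq, ?_⟩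
  have hz2 : z i₀ ^ 2 = 1 := by rw [pow_two]; exact h.sq i₀
  have hself : ∀ g, g * z i₀ = z i₀ * g → (∀ x ∈ o2 (centralizer ({z i₀} : Set G)), g * x = x * g) →
      g ∈ o2 (centralizer ({z i₀} : Set G)) := by
    intro g hg hgx
    have h1 : o2 (centralizer ({z i₀} : Set G)) ≠ ⊥ := by
      rw [heq]
      intro h0
      have h2 := h.z_mem_Qs i₀
      rw [h0, mem_bot] at h2
      exact h.ne_one i₀ h2
    have h2 := Cfsg.Agent.MinSimple.Basic.char2_of_o2_ne_bot h.ctx.char2 S h.S_le_cz h1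
    exact h2 ⟨mem_centralizer_singleton_iff.2 hg, mem_centralizer_iff.2 fun x hx => (hgx x hx).symm⟩
  refine ⟨?_, h.ne_one i₀, h.sq i₀, ?_, ?_, ?_, ?_, ?_, hself⟩
  · rw [heq]; exact h.z_mem_Qs i₀
  · intro x hx
    exact mem_centralizer_singleton_iff.1 (o2_le _ hx)
  · intro g hg x hx
    exact (mem_normalizer_iff.1 (le_normalizer_o2 _ (mem_centralizer_singleton_iff.2 hg)) x).1 hx
  · intro x hx
    rw [heq] at hx
    exact h.sq_Qs hx
  · intro x hx y hy
    rw [heq] at hx hy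
    have hcz : ∀ y ∈ Qs i₀, y * z i₀ = z i₀ * y := fun y hy => h.Cz i₀ y (h.QsC i₀ hy)
    rcases h.com i₀ x hx y (h.QsQF i₀ hy) with h1 | h1
    · exact Or.inl h1
    · right
      rw [h1, hcz _ (mul_mem hy hx)]
  · intro x hx hxy
    rw [heq] at hx
    refine hB x ⟨h.QsQF i₀ hx, mem_centralizer_iff.2 fun y hy => ?_⟩
    rw [← heq] at hy
    exact (hxy y hy).symm

/-- **The end `Δ = V`, image `F`**: `F*(C_G(z i₀))` is of symplectic type. -/
theorem sympl (h : Base S P V T z opp C Q QF Qs i₀)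
    (hB : ∀ x ∈ h.toConf.B i₀, x = 1 ∨ x = z i₀) (hQF : QF i₀ = Qs i₀) (hQ : Q i₀ ≤ QF i₀) :
    NO1.Sympl (z i₀) := by
  obtain ⟨h1, h2⟩ := h.large hB hQF hQ
  refine NO1.sympl_of_large h.ctx.char2 h2 ?_
  rw [h1]
  exact h.card_Qs i₀

end Base

end Cfsg.Agent.Omega.NOne.AG
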